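import Cfsg.Agent.Mrg.Omega.ML.MinFrame
import Cfsg.Agent.Lib.GenFitting
import Cfsg.Agent.SignalizersComponents.CompBasic
import Cfsg.Agent.S0542
import Mathlib
import Cfsg.Agent.Mrg.Omega.VP

section


/-!
# (ML): the module of a minimal counterexample is irreducible (#15719 (2), #16000 (1), (5)); K-free

For `h : Fr K p H M T Q A z`:

* `Fr.fix_eq_one` : `C_M(H) = 1`;  `Fr.irred` : `M` is irreducible;
* `Fr.point` : every `T`-fixed `z' ≠ 1` gives a frame (with `Q' = O₂(C_H(z'))`), same `A`;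
* `Fr.le_o2_cent` : `A ≤ O₂(C_H(B))` for every hyperplane `B` of `A`;
* `Fr.odd_comm` : `A` centralises every subgroup of odd order which it normalises.
-/

set_option autoImplicit false

namespace Cfsg.Agent.Omega.ML.MinFrame

open Subgroup Cfsg Cfsg.Agent.ClassTwoFusion.Quad Cfsg.Agent.Omega.NOThree.NoOver Cfsg.Agent.Omega.ML.CD
open Cfsg.Agent.ZN Cfsg.Agent.MinSimple.VModule

universe u v

section Mod

variable {H : Type*} [Group H] {M : Type*} [Group M] [MulDistribMulAction H M]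

/-- a 2-group has fixed points on invariant subgroups of `M` -/
theorem exists_fixed [Finite M] (sq : ∀ m : M, m * m = 1) {B : Subgroup H} (hB : IsPGroup 2 B) {W : Subgroup M}
    (hW : W ≠ ⊥) (hWB : ∀ b ∈ B, ∀ x ∈ W, b • x ∈ W) : ∃ w ∈ W, w ≠ 1 ∧ ∀ b ∈ B, b • w = w := by
  let _ : MulAction B W :=
    { smul := fun b x => ⟨(b : H) • (x : M), hWB b b.2 x x.2⟩
      one_smul := fun x => Subtype.ext (one_smul H (x : M))
      mul_smul := fun b c x => Subtype.ext (mul_smul (b : H) (c : H) (x : M)) }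
  have hcard : 2 ∣ Nat.card W := by
    have h1 : IsPGroup 2 W := fun x => ⟨1, by
      rw [pow_one, pow_two]
      exact Subtype.ext (sq x)⟩
    have : Nontrivial W := (Subgroup.nontrivial_iff_ne_bot _).2 hW
    obtain ⟨k, hk⟩ := IsPGroup.iff_card.1 h1
    rw [hk]
    refine dvd_pow_self 2 ?_
    rintro rfl
    have h2 : 1 < Nat.card W := Finite.one_lt_card
    rw [hk, pow_zero] at h2
    omega
  have : Fact (Nat.Prime 2) := ⟨Nat.prime_two⟩
  obtain ⟨b, hb1, hb2⟩ := hB.exists_fixed_point_of_prime_dvd_card_of_fixed_point (α := W) hcard (a := 1)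
    (fun b => Subtype.ext (smul_one (b : H)))
  exact ⟨b, b.2, fun h => hb2 (Subtype.ext h.symm), fun c hc => congrArg Subtype.val (hb1 ⟨c, hc⟩)⟩

theorem le_fxr_of_strict [Finite H] [Finite M] {B : Subgroup H} (hB : Strict (fab M 1 1) B) {W : Subgroup M}
    (h : (fxr H W).relIndex B ≤ (cv M (B : Set H)).relIndex W) : B ≤ fxr H W := by
  by_contra hc
  have hlt : B ⊓ fxr H W < B := lt_of_le_of_ne inf_le_left fun h3 => hc (inf_eq_left.1 h3)
  have h3 := relIndex_lt_of_moves hB (W := W) hlt (cv_inf_eq_iff.2 inf_le_right)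
  rw [pow_one, pow_one, inf_relIndex_left] at h3
  omega

/-- the action on the quotient by an invariant normal subgroup -/
@[reducible] def modAct (N : Subgroup M) [N.Normal] (hN : ∀ g : H, ∀ m ∈ N, g • m ∈ N) :
    MulDistribMulAction H (M ⧸ N) where
  smul g := QuotientGroup.map N N (MulDistribMulAction.toMonoidHom M g) (fun m hm => hN g m hm)
  one_smul x := by
    obtain ⟨m, rfl⟩ := QuotientGroup.mk_surjective x
    exact congrArg _ (one_smul H m)
  mul_smul g k x := by
    obtain ⟨m, rfl⟩ := QuotientGroup.mk_surjective x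
    exact congrArg _ (mul_smul g k m)
  smul_mul g x y := map_mul _ x y
  smul_one g := map_one _

end Mod

/-- `B ⟨x⟩` -/
def adj {H : Type*} [Group H] (B : Subgroup H) (x : H) (hx : x * x = 1) (hc : ∀ b ∈ B, x * b = b * x) :
    Subgroup H where
  carrier := {y | y ∈ B ∨ y * x ∈ B}
  one_mem' := Or.inl B.one_mem
  mul_mem' := by
    rintro y w (hy | hy) (hw | hw)
    · exact Or.inl (B.mul_mem hy hw)
    · right
      rw [mul_assoc]
      exact B.mul_mem hy hw
    · right
      rw [mul_assoc, ← hc w hw, ← mul_assoc]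
      exact B.mul_mem hy hw
    · left
      have h1 : y * w = y * x * (w * x) := by
        rw [mul_assoc y x, hc _ hw, mul_assoc w x x, hx, mul_one]
      rw [h1]
      exact B.mul_mem hy hw
  inv_mem' := by
    rintro y (hy | hy)
    · exact Or.inl (B.inv_mem hy)
    · right
      have h1 : (y * x)⁻¹ ∈ B := B.inv_mem hy
      have h2 : x⁻¹ = x := inv_eq_of_mul_eq_one_right hx
      rw [mul_inv_rev, h2] at h1
      have h3 := hc _ h1
      rw [← mul_assoc, hx, one_mul] at h3
      have h4 : y⁻¹ * x = x * y⁻¹ := by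
        calc y⁻¹ * x = x * y⁻¹ * x * x := by rw [← h3]
          _ = x * y⁻¹ := by rw [mul_assoc, hx, mul_one]
      rw [h4]
      exact h1

theorem mem_adj {H : Type*} [Group H] {B : Subgroup H} {x : H} {hx : x * x = 1} {hc : ∀ b ∈ B, x * b = b * x}
    {y : H} : y ∈ adj B x hx hc ↔ y ∈ B ∨ y * x ∈ B := Iff.rfl

namespace Fr

variable {K : Frame.Cls.{u}} {p : Prop} {H : Type u} [Group H] [Finite H] {M : Type v} [Group M] [Finite M]
  [MulDistribMulAction H M] {T Q A : Subgroup H} {z : M}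

/-- a `T`-fixed vector which does not generate `M` is fixed by `H` -/
theorem fixed_of_orb_ne (h : Fr K p H M T Q A z) {z' : M} (hz : ∀ t ∈ T, t • z' = z')
    (hne : orb (⊤ : Subgroup H) z' ≠ ⊤) : ∀ g : H, g • z' = z' := by
  by_contra hc
  have hR : MulAction.stabilizer H z' ≠ ⊤ := fun h1 => hc fun g => by
    have : g ∈ MulAction.stabilizer H z' := by rw [h1]; exact mem_top g
    exact this
  have hT : T ≤ MulAction.stabilizer H z' := fun t ht => hz t ht
  have hA := h.le_o2 hT hR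
  have hinv : ∀ g : H, ∀ u ∈ orb (⊤ : Subgroup H) z', g • u ∈ orb (⊤ : Subgroup H) z' :=
    fun g u hu => smul_mem_orb (mem_top g) hu
  have hlt : Nat.card (orb (⊤ : Subgroup H) z') < Nat.card M := by
    have h1 : orb (⊤ : Subgroup H) z' < ⊤ := lt_top_iff_ne_top.2 hne
    have h2 := Set.ncard_lt_ncard (SetLike.coe_ssubset_coe.2 h1) (Set.toFinite _)
    rwa [coe_top, Set.ncard_univ, ← Nat.card_coe_set_eq] at h2
  let _ := subAct (orb (⊤ : Subgroup H) z') hinv
  have h2 := rel_sub (p := p) (orb (⊤ : Subgroup H) z') hinv (h.ind H (orb (⊤ : Subgroup H) z') h.KH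
    (fun x => Subtype.ext (h.sq x)) (Or.inr ⟨rfl, hlt⟩))
  have h3 := h2 T (o2 (MulAction.stabilizer H z')) A z' (mem_orb_self _ z') h.two le_top
    (by rw [relIndex_top_right]; exact h.odd) hz (o2_isPGroup _) le_top (fun q hq => o2_le _ hq)
    (fun g _ hg q hq => conj_mem_of_le (le_normalizer_o2 _) hg hq) hA h.Asq h.nrmA
  have h4 := le_fxr_of_strict h.strict h3
  have h5 := h.eq_top_of_normal (fxr_normal hinv) h4
  apply hc
  intro g
  have h6 : g ∈ fxr H (orb (⊤ : Subgroup H) z') := by rw [h5]; exact mem_top g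
  exact h6 z' (mem_orb_self _ z')

omit [Finite M] in
theorem nontriv (h : Fr K p H M T Q A z) : ¬ IsPGroup 2 (⊤ : Subgroup H) := fun h1 => by
  have h2 := h.o2_eq_bot (N := ⊤) inferInstance h1
  exact h.ne (le_bot_iff.1 (h2 ▸ (le_top : A ≤ ⊤)))

/-- `C_M(H) = 1` -/
theorem fix_eq_one (h : Fr K p H M T Q A z) {m : M} (hm : ∀ g : H, g • m = m) : m = 1 := by
  have hM := comm_of_sq h.sq
  let M0 : Subgroup M := cv M (Set.univ : Set H)
  have hM0 : ∀ {x : M}, x ∈ M0 ↔ ∀ g : H, g • x = x := ⟨fun h1 g => h1 g (Set.mem_univ g), fun h1 g _ => h1 g⟩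
  by_contra hne
  have hb : M0 ≠ ⊥ := fun h1 => hne (mem_bot.1 (h1 ▸ hM0.2 hm))
  have hnor : M0.Normal := ⟨fun x hx g => by rw [hM g x, mul_inv_cancel_right]; exact hx⟩
  have hinv : ∀ g : H, ∀ x ∈ M0, g • x ∈ M0 := fun g x hx => by rwa [hM0.1 hx g]
  let _ := modAct (H := H) M0 hinv
  have hsm : ∀ (g : H) (x : M), g • (QuotientGroup.mk x : M ⧸ M0) = QuotientGroup.mk (g • x) := fun _ _ => rfl
  have hinvM : ∀ x : M, x⁻¹ = x := fun x => inv_eq_of_mul_eq_one_right (h.sq x)
  have hmk : ∀ x y : M, (QuotientGroup.mk x : M ⧸ M0) = QuotientGroup.mk y ↔ x * y ∈ M0 := by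
    intro x y
    rw [QuotientGroup.eq, hinvM]
  -- elements acting trivially on `M / M₀`
  have hsq2 : ∀ g : H, (∀ x : M, g • x * x ∈ M0) → g * g = 1 := by
    intro g hg
    apply h.faithful
    intro x
    have h1 := hM0.1 (hg x) g
    rw [smul_mul', ← mul_smul] at h1
    exact mul_right_cancel (h1.trans (hM _ _))
  have hlt : Nat.card (M ⧸ M0) < Nat.card M := by
    have h1 := Subgroup.card_mul_index M0
    have h2 : 1 < Nat.card M0 := (Subgroup.one_lt_card_iff_ne_bot _).2 hb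
    have h3 : 0 < M0.index := Nat.pos_of_ne_zero index_ne_zero_of_finite
    have h4 : M0.index = Nat.card (M ⧸ M0) := rfl
    rw [← h4, ← h1]
    nlinarith
  have key := h.ind H (M ⧸ M0) h.KH (fun x => by
    obtain ⟨y, rfl⟩ := QuotientGroup.mk_surjective x
    rw [← QuotientGroup.mk_mul, h.sq]
    rfl) (Or.inr ⟨rfl, hlt⟩)
  set zb : M ⧸ M0 := QuotientGroup.mk z with hzb
  have hTR : T ≤ MulAction.stabilizer H zb := fun t ht => by
    change t • zb = zb
    rw [hzb, hsm, h.fixT t ht]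
  -- the orbit of `zb` generates
  have hgen : ∀ x : M, (QuotientGroup.mk x : M ⧸ M0) ∈ orb (⊤ : Subgroup H) zb := by
    intro x
    have h1 : orb (⊤ : Subgroup H) z ≤ (orb (⊤ : Subgroup H) zb).comap (QuotientGroup.mk' M0) :=
      orb_le fun g _ => smul_mem_orb_self (mem_top g)
    rw [h.gen] at h1
    exact h1 (mem_top x)
  have hR : MulAction.stabilizer H zb ≠ ⊤ := by
    intro h1
    have h2 : ∀ g : H, g • z * z ∈ M0 := by
      intro g
      have h3 : g ∈ MulAction.stabilizer H zb := by rw [h1]; exact mem_top g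
      have h4 : g • zb = zb := h3
      rw [hzb, hsm, hmk] at h4
      exact h4
    have h3 : ∀ g : H, ∀ x : M, g • x * x ∈ M0 := by
      intro g
      let W : Subgroup M :=
        { carrier := {x | g • x * x ∈ M0}
          one_mem' := by
            change g • (1 : M) * 1 ∈ M0
            rw [smul_one, mul_one]; exact one_mem _
          mul_mem' := fun {x y} hx hy => by
            change g • (x * y) * (x * y) ∈ M0
            have e : g • (x * y) * (x * y) = (g • x * x) * (g • y * y) := by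
              rw [smul_mul', mul_assoc, mul_assoc, ← mul_assoc (g • y) x y, hM (g • y) x, mul_assoc x (g • y) y]
            rw [e]
            exact mul_mem hx hy
          inv_mem' := fun {x} hx => by
            rw [hinvM]
            exact hx }
      have hW : orb (⊤ : Subgroup H) z ≤ W := by
        refine orb_le fun k _ => ?_
        change g • k • z * (k • z) ∈ M0
        have e : g • k • z * (k • z) = ((g * k) • z * z) * (k • z * z) := by
          rw [mul_smul, mul_assoc, hM (k • z) z, ← mul_assoc z z, h.sq, one_mul]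
        rw [e]
        exact mul_mem (h2 _) (h2 _)
      rw [h.gen] at hW
      exact fun x => hW (mem_top x)
    exact h.nontriv fun g => ⟨1, by
      rw [pow_one, pow_two]
      exact Subtype.ext (hsq2 g (h3 g))⟩
  have hA := h.le_o2 hTR hR
  have h1 := key T (o2 (MulAction.stabilizer H zb)) A zb (mem_top _) h.two le_top
    (by rw [relIndex_top_right]; exact h.odd) (fun t ht => hTR ht) (o2_isPGroup _) le_top (fun q hq => o2_le _ hq)
    (fun g _ hg q hq => conj_mem_of_le (le_normalizer_o2 _) hg hq) hA h.Asq h.nrmA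
  have htop : orb (⊤ : Subgroup H) zb = ⊤ := by
    rw [eq_top_iff]
    intro x _
    obtain ⟨y, rfl⟩ := QuotientGroup.mk_surjective x
    exact hgen y
  have hf : fxr H (⊤ : Subgroup (M ⧸ M0)) = ⊥ := by
    apply h.o2_eq_bot (fxr_normal fun _ _ _ => mem_top _)
    intro g
    refine ⟨1, ?_⟩
    rw [pow_one, pow_two]
    refine Subtype.ext (hsq2 g fun x => ?_)
    have h2 := g.2 (QuotientGroup.mk x) (mem_top _)
    rw [hsm, hmk] at h2
    exact h2
  rw [htop, hf, relIndex_bot_left, relIndex_top_right] at h1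
  have h2 : (cv (M ⧸ M0) (A : Set H)).index ≤ (cv M (A : Set H)).index := by
    have h3 : (cv M (A : Set H)) ≤ (cv (M ⧸ M0) (A : Set H)).comap (QuotientGroup.mk' M0) := by
      intro x hx a ha
      change a • (QuotientGroup.mk x : M ⧸ M0) = QuotientGroup.mk x
      rw [hsm, hx a ha]
    have h4 := index_antitone h3
    rwa [index_comap_of_surjective _ (QuotientGroup.mk'_surjective M0)] at h4
  have h3 := h.strict ⊥ (bot_lt_iff_ne_bot.2 h.ne)
  rw [fab_lt_iff bot_le, pow_one, pow_one, relIndex_bot_left, cv_bot, relIndex_top_right] at h3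
  omega

/-- **`M` is irreducible** -/
theorem irred (h : Fr K p H M T Q A z) {W : Subgroup M} (hW : ∀ g : H, ∀ m ∈ W, g • m ∈ W) : W = ⊥ ∨ W = ⊤ := by
  by_contra hc
  push Not at hc
  obtain ⟨w, hw, hw1, hwT⟩ := exists_fixed h.sq h.two hc.1 (fun b _ x hx => hW b x hx)
  have h1 : orb (⊤ : Subgroup H) w ≠ ⊤ := fun h2 => hc.2 (top_le_iff.1 (h2 ▸ orb_le fun g _ => hW g w hw))
  exact hw1 (h.fix_eq_one (h.fixed_of_orb_ne hwT h1))

theorem stab_ne_top (h : Fr K p H M T Q A z) {z' : M} (hz : z' ≠ 1) : MulAction.stabilizer H z' ≠ ⊤ := fun h1 =>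
  hz (h.fix_eq_one fun g => by
    have : g ∈ MulAction.stabilizer H z' := by rw [h1]; exact mem_top g
    exact this)

/-- every `T`-fixed vector `≠ 1` gives a frame, with the same `A` -/
theorem point (h : Fr K p H M T Q A z) {z' : M} (hz : z' ≠ 1) (hT : ∀ t ∈ T, t • z' = z') :
    Fr K p H M T (o2 (MulAction.stabilizer H z')) A z' where
  ind := h.ind
  sec := h.sec
  KH := h.KH
  sq := h.sq
  two := h.two
  odd := h.odd
  fixT := hT
  Q2 := o2_isPGroup _
  fixQ := fun q hq => o2_le _ hq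
  nrmQ := fun g hg q hq => conj_mem_of_le (le_normalizer_o2 _) hg hq
  AQ := h.le_o2 (fun t ht => hT t ht) (h.stab_ne_top hz)
  Asq := h.Asq
  nrmA := h.nrmA
  strict := h.strict
  ne := h.ne
  faithful := h.faithful
  gen := by
    refine (h.irred fun g m hm => smul_mem_orb (mem_top g) hm).resolve_left fun h1 => hz ?_
    exact mem_bot.1 (h1 ▸ mem_orb_self (⊤ : Subgroup H) z')

omit [Finite H] [Finite M] in
theorem A_comm (h : Fr K p H M T Q A z) {a b : H} (ha : a ∈ A) (hb : b ∈ A) : a * b = b * a := by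
  have h1 := h.Asq _ (A.mul_mem ha hb)
  have h2 : a⁻¹ = a := inv_eq_of_mul_eq_one_right (h.Asq a ha)
  have h3 : b⁻¹ = b := inv_eq_of_mul_eq_one_right (h.Asq b hb)
  calc a * b = (a * b)⁻¹ := (inv_eq_of_mul_eq_one_right h1).symm
    _ = b⁻¹ * a⁻¹ := mul_inv_rev a b
    _ = b * a := by rw [h2, h3]

omit [Finite H] in
/-- an odd order element commuting with the hyperplane `B` and centralising `C_M(B)` is trivial -/
theorem eq_one_of_hyp (h : Fr K p H M T Q A z) {B : Subgroup H} (hB : B ≤ A) {e : H} {n : ℕ} (hn : Odd n)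
    (he : e ^ n = 1) (hcom : ∀ b ∈ B, b * e = e * b) (hc : ∀ m ∈ cv M (B : Set H), e • m = m) : e = 1 :=
  h.faithful e fun m => axb h.sq (h.Q2.to_le (hB.trans h.AQ)) hn he hcom hc m

/-- **`A ≤ O₂(C_H(B))`** for the hyperplanes `B` of `A`. -/
theorem le_o2_cent (h : Fr K p H M T Q A z) {B : Subgroup H} (hB : B ≤ A) (h2 : B.relIndex A = 2) :
    A ≤ o2 (centralizer (B : Set H)) := by
  have hcv := cv_le_of_hyp h.strict hB h2
  have hinv : ∀ g ∈ centralizer (B : Set H), ∀ m ∈ cv M (B : Set H), g • m ∈ cv M (B : Set H) := by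
    intro g hg m hm b hb
    rw [← mul_smul, mem_centralizer_iff.1 hg b hb, mul_smul, hm b hb]
  have h3 : centralizer (B : Set H) ⊓ fxr H (cv M (B : Set H)) ≤ o2 (centralizer (B : Set H)) := by
    refine Cfsg.Agent.MinSimple.VModule.le_o2 inf_le_left ?_ (le_normalizer_of fun g hg x hx => ⟨?_, ?_⟩)
    · intro x
      obtain ⟨k, n, hn, hkn⟩ := Nat.exists_eq_two_pow_mul_odd (orderOf_pos (x : H)).ne'
      refine ⟨k, Subtype.ext ?_⟩
      have h5 : ((x : H) ^ 2 ^ k) ^ n = 1 := by rw [← pow_mul, ← hkn, pow_orderOf_eq_one]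
      have h6 : (x : H) ^ 2 ^ k ∈ centralizer (B : Set H) ⊓ fxr H (cv M (B : Set H)) := Subgroup.pow_mem _ x.2 _
      exact h.eq_one_of_hyp hB hn h5 (fun b hb => mem_centralizer_iff.1 h6.1 b hb) h6.2
    · exact Subgroup.mul_mem _ (Subgroup.mul_mem _ hg hx.1) (Subgroup.inv_mem _ hg)
    · exact conj_mem_fxr hinv hg hx.2
  refine le_trans (le_inf ?_ ?_) h3
  · exact fun a ha => mem_centralizer_iff.2 fun b hb => h.A_comm (hB hb) ha
  · exact fun a ha m hm => hcv hm a ha

/-- **`A` centralises the subgroups of odd order which it normalises.** -/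
theorem odd_comm (h : Fr K p H M T Q A z) {O : Subgroup H} (hO : Odd (Nat.card O))
    (hn : ∀ a ∈ A, ∀ x ∈ O, a * x * a⁻¹ ∈ O) {a x : H} (ha : a ∈ A) (hx : x ∈ O) : a * x = x * a := by
  -- hyperplanes
  have hyp : ∀ B ≤ A, B.relIndex A = 2 → O ⊓ centralizer (B : Set H) ≤ centralizer (A : Set H) := by
    rintro B hB h2 x ⟨hx, hxB⟩
    rw [mem_centralizer_iff]
    intro a ha
    have hcv := cv_le_of_hyp h.strict hB h2
    have haB : ∀ b ∈ B, a * b = b * a := fun b hb => h.A_comm ha (hB hb)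
    have h3 : x⁻¹ * (a * x * a⁻¹) ∈ O := O.mul_mem (O.inv_mem hx) (hn a ha x hx)
    have h4 : (x⁻¹ * (a * x * a⁻¹)) ^ Nat.card O = 1 := by
      have h5 : (⟨_, h3⟩ : O) ^ Nat.card O = 1 := pow_card_eq_one'
      exact congrArg Subtype.val h5
    have hxB' : ∀ b ∈ B, b * x = x * b := fun b hb => mem_centralizer_iff.1 hxB b hb
    have h5 : x⁻¹ * (a * x * a⁻¹) = 1 := by
      refine h.eq_one_of_hyp hB hO h4 (fun b hb => ?_) (fun m hm => ?_)
      · have c1 : Commute b x := hxB' b hb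
        have c2 : Commute b a := (haB b hb).symm
        exact (c1.inv_right.mul_right ((c2.mul_right c1).mul_right c2.inv_right)).eq
      · have hxm : x • m ∈ cv M (B : Set H) := by
          intro b hb
          rw [← mul_smul, hxB' b hb, mul_smul, hm b hb]
        rw [mul_smul, mul_smul, mul_smul, hcv hm a⁻¹ (A.inv_mem ha), hcv hxm a ha, inv_smul_smul]
    have h6 : a * x * a⁻¹ = x := by
      rw [inv_mul_eq_one] at h5
      exact h5.symm
    rw [mul_inv_eq_iff_eq_mul] at h6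
    exact h6
  -- all proper subgroups
  have main : ∀ B : Subgroup H, B < A → O ⊓ centralizer (B : Set H) ≤ centralizer (A : Set H) := by
    intro B
    induction B using WellFoundedGT.induction with
    | ind B ih =>
      intro hB
      by_cases h2 : B.relIndex A = 2
      · exact hyp B hB.le h2
      have hBc : ∀ x ∈ A, ∀ b ∈ B, x * b = b * x := fun x hx b hb => h.A_comm hx (hB.le hb)
      have hstep : ∀ x, ∀ hx : x ∈ A, x ∉ B →
          B < adj B x (h.Asq x hx) (hBc x hx) ∧ adj B x (h.Asq x hx) (hBc x hx) < A := by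
        intro x hx hxB
        have h3 : x ∈ adj B x (h.Asq x hx) (hBc x hx) := Or.inr (by rw [h.Asq x hx]; exact B.one_mem)
        refine ⟨lt_of_le_of_ne (fun b hb => Or.inl hb) fun h4 => hxB (h4 ▸ h3), lt_of_le_of_ne ?_ fun h4 => h2 ?_⟩
        · rintro y (hy | hy)
          · exact hB.le hy
          · have h5 := A.mul_mem (hB.le hy) (A.inv_mem hx)
            rwa [mul_inv_cancel_right] at h5
        · rw [relIndex_eq_two_iff]
          refine ⟨x, hx, fun b hb => ?_⟩
          have h5 : b ∈ adj B x (h.Asq x hx) (hBc x hx) := by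
            rw [h4]
            exact hb
          by_cases h6 : b ∈ B
          · refine Or.inr ⟨h6, fun h7 => hxB ?_⟩
            have := B.mul_mem (B.inv_mem h6) h7
            rwa [inv_mul_cancel_left] at this
          · exact Or.inl ⟨(mem_adj.1 h5).resolve_left h6, h6⟩
      obtain ⟨a, haA, haB⟩ := SetLike.exists_of_lt hB
      obtain ⟨ha1, ha2⟩ := hstep a haA haB
      obtain ⟨b, hbA, hbB⟩ := SetLike.exists_of_lt ha2
      have hbB' : b ∉ B := fun h3 => hbB (Or.inl h3)
      have hab : a * b ∉ B := fun h3 => hbB (Or.inr (by rw [h.A_comm hbA haA]; exact h3))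
      obtain ⟨hb1, hb2⟩ := hstep b hbA hbB'
      obtain ⟨hc1, hc2⟩ := hstep (a * b) (A.mul_mem haA hbA) hab
      have hodd : Odd (Nat.card (O ⊓ centralizer (B : Set H) : Subgroup H)) :=
        hO.of_dvd_nat (card_dvd_of_le inf_le_left)
      have hcB : ∀ x ∈ A, ∀ y ∈ O ⊓ centralizer (B : Set H), x * y * x⁻¹ ∈ O ⊓ centralizer (B : Set H) := by
        rintro x hx y ⟨hy1, hy2⟩
        refine ⟨hn x hx y hy1, mem_centralizer_iff.2 fun c hc => ?_⟩
        have c1 : Commute c y := mem_centralizer_iff.1 hy2 c hc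
        have c2 : Commute c x := (hBc x hx c hc).symm
        exact ((c2.mul_right c1).mul_right c2.inv_right).eq
      have hcl : ∀ x, ∀ hx : x ∈ A, adj B x (h.Asq x hx) (hBc x hx) < A → B < adj B x (h.Asq x hx) (hBc x hx) →
          ∀ y ∈ O ⊓ centralizer (B : Set H), x * y = y * x → y ∈ centralizer (A : Set H) := by
        intro x hx h3 h4 y hy hxy
        refine ih _ h4 h3 ⟨hy.1, mem_centralizer_iff.2 ?_⟩
        rintro c (hc | hc)
        · exact mem_centralizer_iff.1 hy.2 c hc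
        · have h5 := mem_centralizer_iff.1 hy.2 _ hc
          have h6 : c * x * y = c * y * x := by rw [mul_assoc, hxy, ← mul_assoc]
          rw [h6] at h5
          have h7 : c * y * x = y * c * x := by rw [h5, mul_assoc]
          exact mul_right_cancel h7
      refine Lib.KleinGen.le_of_klein (O ⊓ centralizer (B : Set H)) (centralizer (A : Set H)) hodd a b
        (h.Asq a haA) (h.Asq b hbA) (h.A_comm haA hbA) (hcB a haA) (hcB b hbA) ?_ ?_ ?_
      · exact fun y hy => hcl a haA ha2 ha1 y hy.1 (mem_centralizer_iff.1 hy.2 a rfl)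
      · exact fun y hy => hcl b hbA hb2 hb1 y hy.1 (mem_centralizer_iff.1 hy.2 b rfl)
      · exact fun y hy => hcl (a * b) (A.mul_mem haA hbA) hc2 hc1 y hy.1 (mem_centralizer_iff.1 hy.2 _ rfl)
  have h0 : x ∈ centralizer ((⊥ : Subgroup H) : Set H) := by
    rw [mem_centralizer_iff]
    intro b hb
    rw [SetLike.mem_coe, mem_bot] at hb
    rw [hb, one_mul, mul_one]
  have h1 := main ⊥ (bot_lt_iff_ne_bot.2 h.ne) ⟨hx, h0⟩
  exact mem_centralizer_iff.1 h1 a ha

end Fr

end Cfsg.Agent.Omega.ML.MinFrame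

end

section


/-!
# (ML): one component (#16000 (2)-(4)); K-free

For `h : Fr K p H M T Q A z` with `p` (that is, `T` normalises `A`):

* `Fr.odd_central` : the normal subgroups of odd order are central (any `p`); `Fr.center_odd`;
* `Fr.exists_component` : some component is not centralised by `A` (any `p`);
* `Fr.sup_eq_top` : `H = ⟨L^T⟩ T` for such a component `L`;
* `Fr.A_le_normalizer` : `A` normalises `L`;
* `Fr.comp_normal`, `Fr.comp_sup_A` : `L ⊴ H`, `H = LA` (any `p`, once `A` normalises `L`);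
* `Fr.exists_comp'`, `Fr.exists_comp` : the summary, `C_H(L) = Z(H) ≤ L` odd;
* `Fr.le_o2_normalizer` : `A ≤ O₂(N_H(T₀))` for `1 ≠ T₀ ⊴ T` (any `p`).
-/

set_option autoImplicit false

namespace Cfsg.Agent.Omega.ML.MinFrame

open Subgroup Cfsg Cfsg.Agent.ClassTwoFusion.Quad Cfsg.Agent.Omega.NOThree.NoOver Cfsg.Agent.Omega.ML.CD
open Cfsg.Agent.ZN Cfsg.Agent.MinSimple.VModule
open Cfsg.Agent.SignalizersComponents.Components Cfsg.Agent.SignalizersComponents.CompBasic

universe u v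

section Grp

variable {H : Type*} [Group H]

theorem mem_of_pow_mem {S : Subgroup H} {x : H} {m n : ℕ} (hc : m.Coprime n) (h1 : x ^ m ∈ S) (h2 : x ^ n ∈ S) :
    x ∈ S := by
  have h3 := Nat.gcd_eq_gcd_ab m n
  rw [hc.gcd_eq_one] at h3
  have h4 : x = (x ^ m) ^ (Nat.gcdA m n) * (x ^ n) ^ (Nat.gcdB m n) := by
    rw [← zpow_natCast, ← zpow_natCast, ← zpow_mul, ← zpow_mul, ← zpow_add, ← h3]
    simp
  rw [h4]
  exact S.mul_mem (S.zpow_mem h1 _) (S.zpow_mem h2 _)

/-- the Sylow 2-subgroup meets the subnormal subgroups in Sylow 2-subgroups -/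
theorem not_dvd_relIndex_of_subnormal [Finite H] {T L : Subgroup H} (hT : IsPGroup 2 T) (hTi : ¬ 2 ∣ T.index)
    (hL : L.IsSubnormal) : ¬ 2 ∣ T.relIndex L := by
  have : Fact (Nat.Prime 2) := ⟨Nat.prime_two⟩
  obtain ⟨P, hP⟩ := S0542.result 2 L hL (hT.toSylow hTi)
  have h1 := P.not_dvd_index
  rwa [hP] at h1

theorem odd_of_relIndex [Finite H] {T L : Subgroup H} (h : ¬ 2 ∣ T.relIndex L) (hb : T ⊓ L = ⊥) :
    Odd (Nat.card L) := by
  rw [← inf_relIndex_right, hb, relIndex_bot_left] at h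
  exact Nat.not_even_iff_odd.1 fun h1 => h h1.two_dvd

/-- `⟨L^T⟩` -/
def tcl (T L : Subgroup H) : Subgroup H := ⨆ t : T, L.map (MulAut.conj (t : H)).toMonoidHom

theorem map_conj_le_tcl {T L : Subgroup H} {t : H} (ht : t ∈ T) : L.map (MulAut.conj t).toMonoidHom ≤ tcl T L :=
  le_iSup (fun t : T => L.map (MulAut.conj (t : H)).toMonoidHom) ⟨t, ht⟩

theorem le_tcl (T L : Subgroup H) : L ≤ tcl T L := fun x hx =>
  map_conj_le_tcl T.one_mem ⟨x, hx, by simp⟩

theorem tcl_le {T L S : Subgroup H} (h : ∀ t ∈ T, L.map (MulAut.conj t).toMonoidHom ≤ S) : tcl T L ≤ S :=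
  iSup_le fun t => h t t.2

theorem map_conj_map_conj (g k : H) (L : Subgroup H) :
    (L.map (MulAut.conj g).toMonoidHom).map (MulAut.conj k).toMonoidHom = L.map (MulAut.conj (k * g)).toMonoidHom := by
  rw [Subgroup.map_map]
  congr 1
  ext x
  simp

theorem map_conj_eq_of_mem {g : H} {L : Subgroup H} (hg : g ∈ normalizer (L : Set H)) :
    L.map (MulAut.conj g).toMonoidHom = L := by
  ext x
  constructor
  · rintro ⟨y, hy, rfl⟩
    exact (mem_normalizer_iff.1 hg y).1 hy
  · intro hx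
    refine ⟨g⁻¹ * x * g, ?_, by simp [mul_assoc]⟩
    have h1 := (mem_normalizer_iff.1 (inv_mem hg) x).1 hx
    rwa [inv_inv] at h1

theorem mem_normalizer_of_map {g : H} {L : Subgroup H} (h : L.map (MulAut.conj g).toMonoidHom = L) :
    g ∈ normalizer (L : Set H) := by
  rw [mem_normalizer_iff]
  intro x
  constructor
  · intro hx
    rw [← SetLike.mem_coe, ← h]
    exact ⟨x, hx, rfl⟩
  · intro hx
    rw [← SetLike.mem_coe, ← h] at hx
    obtain ⟨y, hy, hyx⟩ := hx
    have h2 : g * y * g⁻¹ = g * x * g⁻¹ := hyx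
    have h3 : y = x := by
      rw [mul_left_inj, mul_right_inj] at h2
      exact h2
    exact h3 ▸ hy

theorem map_sup_le {L T : Subgroup H} (k : H) (h : ∀ t ∈ T, L.map (MulAut.conj (k * t)).toMonoidHom ≤ tcl T L) :
    (tcl T L).map (MulAut.conj k).toMonoidHom ≤ tcl T L := by
  rw [tcl, Subgroup.map_iSup]
  refine iSup_le fun t => ?_
  rw [map_conj_map_conj]
  exact h t t.2

theorem le_normalizer_of_map_le {R N : Subgroup H} (h : ∀ g ∈ R, N.map (MulAut.conj g).toMonoidHom ≤ N) :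
    R ≤ normalizer (N : Set H) :=
  le_normalizer_of fun g hg x hx => h g hg ⟨x, hx, rfl⟩

theorem le_normalizer_tcl (T L : Subgroup H) : T ≤ normalizer (tcl T L : Set H) :=
  le_normalizer_of_map_le fun _ hk => map_sup_le _ fun _ ht => map_conj_le_tcl (T.mul_mem hk ht)

variable [Finite H]

omit [Finite H] in
/-- `[E, O₂(R)] = 1` for `E ⊴ R` subnormal in `H`, `O₂(H) = 1` -/
theorem comm_of_o2 (h0 : ∀ N : Subgroup H, N.IsSubnormal → IsPGroup 2 N → N = ⊥) {E R : Subgroup H}
    (hE : E.IsSubnormal) (hER : E ≤ R) (hn : R ≤ normalizer (E : Set H)) {x y : H} (hx : x ∈ E) (hy : y ∈ o2 R) :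
    x * y = y * x := by
  have h1 : E ≤ normalizer ((E ⊓ o2 R : Subgroup H) : Set H) := le_normalizer_of fun g hg x hx =>
    ⟨E.mul_mem (E.mul_mem hg hx.1) (E.inv_mem hg), conj_mem_of_le (le_normalizer_o2 R) (hER hg) hx.2⟩
  have h2 : ((E ⊓ o2 R).subgroupOf E).Normal :=
    (normal_subgroupOf_iff_le_normalizer inf_le_left).2 h1
  have h3 : (E ⊓ o2 R).IsSubnormal := IsSubnormal.trans inf_le_left h2.isSubnormal hE
  have h4 := h0 _ h3 ((o2_isPGroup R).to_le inf_le_right)
  have h5 : x * y * x⁻¹ * y⁻¹ ∈ E ⊓ o2 R := by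
    refine ⟨?_, ?_⟩
    · have h6 := conj_mem_of_le hn (o2_le R hy) (E.inv_mem hx)
      have h7 := E.mul_mem hx h6
      have e : x * (y * x⁻¹ * y⁻¹) = x * y * x⁻¹ * y⁻¹ := by group
      rwa [e] at h7
    · exact Subgroup.mul_mem _ (conj_mem_of_le (le_normalizer_o2 R) (hER hx) hy) (Subgroup.inv_mem _ hy)
  rw [h4, mem_bot] at h5
  have h6 : x * y * x⁻¹ = y := mul_inv_eq_one.1 h5
  exact mul_inv_eq_iff_eq_mul.1 h6

/-- a nilpotent subnormal subgroup has odd order, if `O₂(H) = 1` -/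
theorem odd_of_nilpotent (h0 : ∀ N : Subgroup H, N.IsSubnormal → IsPGroup 2 N → N = ⊥) {N : Subgroup H}
    (hN : N.IsSubnormal) (hn : Group.IsNilpotent N) : Odd (Nat.card N) := by
  have : Fact (Nat.Prime 2) := ⟨Nat.prime_two⟩
  obtain ⟨P⟩ : Nonempty (Sylow 2 N) := inferInstance
  have h1 : (P : Subgroup N).Normal := (Group.isNilpotent_of_finite_tfae.out 0 3 rfl rfl).1 hn 2 this P
  have h2 := h0 _ (h1.isSubnormal.trans' hN) (P.isPGroup'.map _)
  rw [Subgroup.map_eq_bot_iff_of_injective _ N.subtype_injective] at h2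
  have h3 := P.not_dvd_index
  rw [h2, index_bot] at h3
  exact Nat.not_even_iff_odd.1 fun h1 => h3 h1.two_dvd

/-- Burnside: a perfect group with `N(P) = C(P)` for the Sylow 2-subgroup `P` has odd order -/
theorem odd_of_burnside {X : Type*} [Group X] [Finite X] (hX : Group.IsPerfect X) (P : Sylow 2 X)
    (hP : normalizer (P : Set X) ≤ centralizer (P : Set X)) : Odd (Nat.card X) := by
  have : Fact (Nat.Prime 2) := ⟨Nat.prime_two⟩
  have hc : ∀ a b : P, a * b = b * a := fun a b => Subtype.ext (hP (le_normalizer b.2) a a.2)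
  let _ : CommGroup P := { (inferInstance : Group P) with mul_comm := hc }
  have h1 : (P : Subgroup X) = ⊥ := by
    rw [eq_bot_iff]
    intro x hx
    have h2 := hom_eq_one_of_perfect hX (MonoidHom.transferSylow P hP) x
    rw [MonoidHom.transferSylow_eq_pow P hP x hx] at h2
    have h3 : x ^ (P : Subgroup X).index = 1 := congrArg Subtype.val h2
    obtain ⟨k, hk⟩ := P.isPGroup' ⟨x, hx⟩
    have h4 : x ^ 2 ^ k = 1 := congrArg Subtype.val hk
    have hcop : ((P : Subgroup X).index).Coprime (2 ^ k) :=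
      Nat.Coprime.pow_right _ ((Nat.prime_two.coprime_iff_not_dvd.2 P.not_dvd_index).symm)
    exact mem_of_pow_mem hcop (h3 ▸ one_mem _) (h4 ▸ one_mem _)
  have h3 := P.not_dvd_index
  rw [h1, index_bot] at h3
  exact Nat.not_even_iff_odd.1 fun h1 => h3 h1.two_dvd

omit [Finite H] in
theorem sup_eq_mul {A B : Subgroup H} (hT : B ≤ normalizer (A : Set H)) {x : H} (hx : x ∈ A ⊔ B) :
    ∃ y ∈ A, ∃ t ∈ B, x = y * t := by
  rw [← SetLike.mem_coe, coe_mul_of_right_le_normalizer_left A _ hT] at hx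
  obtain ⟨y, hy, t, ht, rfl⟩ := hx
  exact ⟨y, hy, t, ht, rfl⟩

omit [Finite H] in
theorem relIndex_sup_of_le {A B : Subgroup H} (h : B ≤ normalizer (A : Set H)) :
    A.relIndex (A ⊔ B) = A.relIndex B := by
  let f : B ⧸ A.subgroupOf B → (A ⊔ B : Subgroup H) ⧸ A.subgroupOf (A ⊔ B) :=
    Quotient.map' (fun y : B => (⟨y, (le_sup_right : B ≤ A ⊔ B) y.2⟩ : (A ⊔ B : Subgroup H))) (by
      intro y z hyz
      rw [QuotientGroup.leftRel_apply] at hyz ⊢
      exact hyz)
  have hf : Function.Bijective f := by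
    constructor
    · intro y z
      obtain ⟨y, rfl⟩ := QuotientGroup.mk_surjective y
      obtain ⟨z, rfl⟩ := QuotientGroup.mk_surjective z
      intro hyz
      have h1 : (QuotientGroup.mk (⟨y, (le_sup_right : B ≤ A ⊔ B) y.2⟩ : (A ⊔ B : Subgroup H)) :
        (A ⊔ B : Subgroup H) ⧸ A.subgroupOf (A ⊔ B)) =
          QuotientGroup.mk ⟨z, (le_sup_right : B ≤ A ⊔ B) z.2⟩ := hyz
      have h2 := QuotientGroup.eq.1 h1
      exact QuotientGroup.eq.2 (show (y : B)⁻¹ * z ∈ A.subgroupOf B from h2)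
    · intro b
      obtain ⟨b, rfl⟩ := QuotientGroup.mk_surjective b
      obtain ⟨u, hu, y, hy, h1⟩ := sup_eq_mul h b.2
      refine ⟨QuotientGroup.mk ⟨y, hy⟩, ?_⟩
      change (QuotientGroup.mk (⟨y, (le_sup_right : B ≤ A ⊔ B) hy⟩ : (A ⊔ B : Subgroup H)) :
        (A ⊔ B : Subgroup H) ⧸ A.subgroupOf (A ⊔ B)) = _
      apply QuotientGroup.eq.2
      rw [mem_subgroupOf]
      change y⁻¹ * (b : H) ∈ A
      rw [h1, ← mul_assoc]
      have h3 := conj_mem_of_le h (B.inv_mem hy) hu
      rwa [inv_inv] at h3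
  exact (Nat.card_eq_of_bijective f hf).symm

/-- `[LT' : T'] = [L : L ∩ T']` -/
theorem relIndex_sup_comm {L T' : Subgroup H} (hT : T' ≤ normalizer (L : Set H)) :
    T'.relIndex (L ⊔ T') = T'.relIndex L := by
  have h1 : L.relIndex (L ⊔ T') = L.relIndex T' := relIndex_sup_of_le hT
  have h2 := Lib.SylowNormalInf.card_mul_relIndex L (L ⊔ T') le_sup_left
  have h3 := Lib.SylowNormalInf.card_mul_relIndex T' (L ⊔ T') le_sup_right
  have h4 := Lib.SylowNormalInf.card_inf_mul_relIndex L T'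
  have h5 := Lib.SylowNormalInf.card_inf_mul_relIndex T' L
  rw [inf_comm] at h5
  have hpos : 0 < Nat.card T' := Nat.card_pos
  apply Nat.eq_of_mul_eq_mul_left hpos
  rw [h3, ← h2, h1, ← h5, ← h4]
  ring

end Grp

namespace Fr

variable {K : Frame.Cls.{u}} {p : Prop} {H : Type u} [Group H] [Finite H] {M : Type v} [Group M] [Finite M]
  [MulDistribMulAction H M] {T Q A : Subgroup H} {z : M}

omit [Finite M] in
theorem sub_bot (h : Fr K p H M T Q A z) (N : Subgroup H) (hN : N.IsSubnormal) (h2 : IsPGroup 2 N) : N = ⊥ := by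
  have h1 := h.o2_eq_bot (Lib.Cores.pCore_normal (G := H) 2) (Lib.Cores.pCore_isPGroup 2)
  exact le_bot_iff.1 (h1 ▸ subnormal_pGroup_le_pCore hN h2)

/-- the normal subgroups of odd order are central -/
theorem odd_central (h : Fr K p H M T Q A z) {N : Subgroup H} (hN : N.Normal) (hO : Odd (Nat.card N)) :
    N ≤ center H := by
  have h1 : centralizer (N : Set H) = ⊤ := h.eq_top_of_normal inferInstance fun a ha => by
    rw [mem_centralizer_iff]
    exact fun x hx => (h.odd_comm hO (fun b _ y hy => hN.conj_mem y hy b) ha hx).symm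
  intro x hx
  rw [mem_center_iff]
  intro g
  have h2 : g ∈ centralizer (N : Set H) := h1 ▸ mem_top g
  exact (mem_centralizer_iff.1 h2 x hx).symm

/-- the subnormal subgroups of odd order are central -/
theorem odd_central_sub (h : Fr K p H M T Q A z) {N : Subgroup H} (hN : N.IsSubnormal) (hO : Odd (Nat.card N)) :
    N ≤ center H := by
  have h1 : (Nat.card N).Coprime 2 := Nat.coprime_two_right.2 hO
  have h2 := subnormal_coprime_le_pPrimeCore hN h1
  exact h2.trans (h.odd_central (Lib.Cores.pPrimeCore_normal 2)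
    (Nat.coprime_two_right.1 (Lib.Cores.pPrimeCore_coprime 2)))

/-- the normal nilpotent subgroups are central of odd order -/
theorem nilp_central (h : Fr K p H M T Q A z) {N : Subgroup H} (hN : N.IsSubnormal) (hn : Group.IsNilpotent N) :
    N ≤ center H :=
  h.odd_central_sub hN (odd_of_nilpotent h.sub_bot hN hn)

omit [Finite M] in
theorem center_odd (h : Fr K p H M T Q A z) : Odd (Nat.card (center H)) :=
  odd_of_nilpotent h.sub_bot (Normal.isSubnormal inferInstance) (by
    let _ : CommGroup (center H) := { (inferInstance : Group (center H)) with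
      mul_comm := fun x y => Subtype.ext (mem_center_iff.1 y.2 x) }
    exact CommGroup.isNilpotent)

omit [Finite M] in
theorem not_le_center (h : Fr K p H M T Q A z) : ¬ A ≤ center H := fun hc => by
  have h1 : A.Normal := ⟨fun a ha g => by
    have h2 := mem_center_iff.1 (hc ha) g
    rw [h2, mul_inv_cancel_right]
    exact ha⟩
  exact h.ne (h.o2_eq_bot h1 (h.Q2.to_le h.AQ))

/-- some component is not centralised by `A` -/
theorem exists_component (h : Fr K p H M T Q A z) :
    ∃ L : Subgroup H, IsComponent L ∧ ¬ A ≤ centralizer (L : Set H) := by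
  by_contra hc
  push Not at hc
  have h1 : A ≤ centralizer (generalizedFittingSubgroup H : Set H) := by
    have h2 : generalizedFittingSubgroup H ≤ centralizer (A : Set H) := by
      rw [Lib.GenFitting.genFitting_def]
      refine sup_le ?_ ?_
      · rw [layer_le_iff]
        exact fun L hL => le_centralizer_iff.1 (hc L hL)
      · refine (h.nilp_central (Normal.isSubnormal Lib.Cores.fittingSubgroup_normal)
          Lib.Cores.fittingSubgroup_isNilpotent).trans ?_
        intro x hx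
        rw [mem_centralizer_iff]
        exact fun a _ => mem_center_iff.1 hx a
    exact le_centralizer_iff.1 h2
  have hF := Lib.GenFitting.genFitting_normal (G := H)
  have h2 : centralizer (generalizedFittingSubgroup H : Set H) = ⊤ := h.eq_top_of_normal inferInstance h1
  have h3 := Lib.GenFitting.centralizer_genFitting_le (G := H)
  rw [h2, top_le_iff] at h3
  rw [h3, coe_top, centralizer_univ] at h2
  exact h.not_le_center (h2 ▸ le_top)

/-- `A ≤ O₂(R)` for `A ≤ R < H` with a Sylow 2-subgroup inside `T` -/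
theorem le_o2' (h : Fr K p H M T Q A z) {R T' : Subgroup H} (hR : R ≠ ⊤) (hAR : A ≤ R) (hT : T' ≤ T) (hTR : T' ≤ R)
    (hTi : ¬ 2 ∣ T'.relIndex R) : A ≤ o2 R :=
  h.red_o2 hR (T' := T') (Q' := Q ⊓ R) (B := A) (z' := z) (h.two.to_le hT) hTR hTi
    (fun t ht => h.fixT t (hT ht)) (h.Q2.to_le inf_le_left) inf_le_right (fun q hq => h.fixQ q hq.1)
    (fun g hg hgz q hq => ⟨h.nrmQ g hgz q hq.1, R.mul_mem (R.mul_mem hg hq.2) (R.inv_mem hg)⟩)
    (le_inf h.AQ hAR) h.Asq (fun hp t ht a ha => h.nrmA hp t (hT ht) a ha) h.strict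

/-- `A ≤ O₂(N_H(T₀))` for `1 ≠ T₀ ⊴ T` -/
theorem le_o2_normalizer (h : Fr K p H M T Q A z) {T₀ : Subgroup H} (hT : T₀ ≤ T) (hn : T ≤ normalizer (T₀ : Set H))
    (hne : T₀ ≠ ⊥) : A ≤ o2 (normalizer (T₀ : Set H)) := by
  refine h.le_o2 hn fun h1 => hne (h.o2_eq_bot (normalizer_eq_top_iff.1 h1) (h.two.to_le hT))

section comp

variable {L : Subgroup H}

omit [Finite M] [Finite H] in
theorem tcl_normal_layer (hL : IsComponent L) : layer H ≤ normalizer (tcl T L : Set H) := by
  intro g hg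
  have h1 : ∀ t : T, g ∈ normalizer ((L.map (MulAut.conj (t : H)).toMonoidHom : Subgroup H) : Set H) := fun t =>
    layer_le_normalizer_component (isComponent_conj (t : H) hL) hg
  apply mem_normalizer_of_map
  rw [tcl, Subgroup.map_iSup]
  exact iSup_congr fun t => map_conj_eq_of_mem (h1 t)

omit [Finite M] [Finite H] in
theorem tcl_le_layer (hL : IsComponent L) : tcl T L ≤ layer H :=
  tcl_le fun t _ => component_le_layer (isComponent_conj t hL)

omit [Finite M] [Finite H] in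
theorem tcl_subnormal (hL : IsComponent L) : (tcl T L).IsSubnormal :=
  IsSubnormal.trans (tcl_le_layer hL)
    ((normal_subgroupOf_iff_le_normalizer (tcl_le_layer hL)).2 (tcl_normal_layer hL)).isSubnormal
    (Normal.isSubnormal (layer_normal H))

/-- `H = ⟨L^T⟩ T` -/
theorem sup_eq_top (h : Fr K p H M T Q A z) (hL : IsComponent L) (hLA : ¬ A ≤ centralizer (L : Set H)) :
    tcl T L ⊔ T = ⊤ := by
  by_contra hne
  have h1 := h.le_o2 le_sup_right hne
  apply hLA
  intro a ha
  rw [mem_centralizer_iff]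
  exact fun x hx => comm_of_o2 h.sub_bot (tcl_subnormal hL) le_sup_left (sup_le le_normalizer (le_normalizer_tcl T L))
    (le_tcl T L hx) (h1 ha)

/-- the component `L` has even order -/
theorem not_odd (h : Fr K p H M T Q A z) (hLs : L.IsSubnormal) (hLA : ¬ A ≤ centralizer (L : Set H)) :
    ¬ Odd (Nat.card L) := fun ho => hLA fun a _ => by
  rw [mem_centralizer_iff]
  exact fun x hx => (mem_center_iff.1 (h.odd_central_sub hLs ho hx) a).symm

/-- **`A` normalises `L`** -/
theorem A_le_normalizer (h : Fr K p H M T Q A z) (hp : p) (hL : IsComponent L)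
    (hLA : ¬ A ≤ centralizer (L : Set H)) : A ≤ normalizer (L : Set H) := by
  have : Fact (Nat.Prime 2) := ⟨Nat.prime_two⟩
  intro a ha
  by_contra hcon
  let L₂ : Subgroup H := L.map (MulAut.conj a).toMonoidHom
  have hL₂ : IsComponent L₂ := isComponent_conj a hL
  have hne : L ≠ L₂ := fun h1 => hcon (mem_normalizer_of_map h1.symm)
  have hcc := component_le_centralizer_of_ne hL hL₂ hne
  have hcomm : ∀ x ∈ L, ∀ y ∈ L₂, x * y = y * x := fun x hx y hy => (mem_centralizer_iff.1 (hcc hx) y hy).symm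
  have hconj : ∀ x ∈ L, a * x * a⁻¹ ∈ L₂ := fun x hx => ⟨x, hx, rfl⟩
  -- `D = L ∩ L₂` is central in `L`, of odd order
  let D : Subgroup H := L ⊓ L₂
  have hDc : ∀ x ∈ L, ∀ d ∈ D, x * d = d * x := fun x hx d hd => hcomm x hx d hd.2
  have hDn : (D.subgroupOf L).Normal := (normal_subgroupOf_iff_le_normalizer inf_le_left).2
    (le_normalizer_of fun g hg x hx => by
      rw [hDc g hg x hx, mul_inv_cancel_right]
      exact hx)
  have hDs : D.IsSubnormal := IsSubnormal.trans inf_le_left hDn.isSubnormal hL.1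
  have hDo : Odd (Nat.card D) := by
    refine odd_of_nilpotent h.sub_bot hDs ?_
    let _ : CommGroup D := { (inferInstance : Group D) with
      mul_comm := fun x y => Subtype.ext (hDc x x.2.1 y y.2) }
    exact CommGroup.isNilpotent
  have hD2 : ∀ x ∈ D, ∀ k : ℕ, x ^ 2 ^ k = 1 → x = 1 := by
    intro x hx k hk
    have h1 : x ^ Nat.card D = 1 := by
      have h5 : (⟨x, hx⟩ : D) ^ Nat.card D = 1 := pow_card_eq_one'
      exact congrArg Subtype.val h5
    have h2 : x ∈ (⊥ : Subgroup H) := mem_of_pow_mem (Nat.Coprime.pow_left k (Nat.coprime_two_left.2 hDo))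
      (hk ▸ one_mem _) (h1 ▸ one_mem _)
    exact mem_bot.1 h2
  -- `T₁` is elementary abelian
  let T₁ : Subgroup H := T ⊓ L
  have haT := h.A_le_T ha
  have hT₁sq : ∀ c ∈ T₁, c * c = 1 := by
    intro c hc
    have h1 : c⁻¹ * a * c⁻¹⁻¹ ∈ A := h.nrmA hp _ (T.inv_mem hc.1) a ha
    rw [inv_inv] at h1
    have h2 : c⁻¹ * a * c * a⁻¹ ∈ A := A.mul_mem h1 (A.inv_mem ha)
    have h3 := h.Asq _ h2
    have h4 : a * c * a⁻¹ ∈ L₂ := hconj c hc.2
    have h5 : c * (a * c * a⁻¹) = a * c * a⁻¹ * c := hcomm c hc.2 _ h4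
    -- `c² = (a c a⁻¹)²`
    have h6 : c * c = (a * c * a⁻¹) * (a * c * a⁻¹) := by
      have e : c⁻¹ * a * c * a⁻¹ = c⁻¹ * (a * c * a⁻¹) := by group
      rw [e] at h3
      have c1 : Commute c⁻¹ (a * c * a⁻¹) := Commute.inv_left h5
      have h7 : c⁻¹ * (a * c * a⁻¹) * (c⁻¹ * (a * c * a⁻¹)) =
          (c * c)⁻¹ * ((a * c * a⁻¹) * (a * c * a⁻¹)) := by
        have h8 : c⁻¹ * (a * c * a⁻¹) = (a * c * a⁻¹) * c⁻¹ := c1.eq
        calc c⁻¹ * (a * c * a⁻¹) * (c⁻¹ * (a * c * a⁻¹))
            = c⁻¹ * ((a * c * a⁻¹) * c⁻¹) * (a * c * a⁻¹) := by group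
          _ = c⁻¹ * (c⁻¹ * (a * c * a⁻¹)) * (a * c * a⁻¹) := by rw [h8]
          _ = _ := by group
      rw [h7] at h3
      exact inv_mul_eq_one.1 h3
    have h7 : c * c ∈ D := ⟨L.mul_mem hc.2 hc.2, h6 ▸ L₂.mul_mem h4 h4⟩
    obtain ⟨k, hk⟩ := h.two ⟨c, hc.1⟩
    have h8 : c ^ 2 ^ k = 1 := congrArg Subtype.val hk
    refine hD2 _ h7 k ?_
    rw [← pow_two, ← pow_mul, mul_comm, pow_mul, h8, one_pow]
  -- the Sylow 2-subgroup of `L`
  have hrel := not_dvd_relIndex_of_subnormal h.two h.odd hL.1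
  have hP0 : IsPGroup 2 (T.subgroupOf L) := h.two.comap_of_injective L.subtype L.subtype_injective
  let P : Sylow 2 L := hP0.toSylow hrel
  have hPm : ∀ x : L, x ∈ P ↔ (x : H) ∈ T := fun x => Iff.rfl
  -- `T₀`
  let T₀ : Subgroup H := tcl T T₁
  have hT₀T : T₀ ≤ T := tcl_le fun t ht => by
    rintro _ ⟨x, hx, rfl⟩
    exact T.mul_mem (T.mul_mem ht hx.1) (T.inv_mem ht)
  have hT₀ne : T₀ ≠ ⊥ := by
    intro h1
    have h2 : T ⊓ L = ⊥ := le_bot_iff.1 (h1 ▸ le_tcl T T₁)
    exact h.not_odd hL.1 hLA (odd_of_relIndex hrel h2)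
  have hAo := h.le_o2_normalizer hT₀T (le_normalizer_tcl T T₁) hT₀ne
  apply h.not_odd hL.1 hLA
  refine odd_of_burnside hL.2.1 P ?_
  intro n hn
  -- `n` normalises `T₁`
  have hn1 : (n : H) ∈ normalizer (T₁ : Set H) := by
    rw [mem_normalizer_iff]
    intro x
    constructor
    · intro hx
      have h1 := (mem_normalizer_iff.1 hn ⟨x, hx.2⟩).1 hx.1
      exact ⟨h1, L.mul_mem (L.mul_mem n.2 hx.2) (L.inv_mem n.2)⟩
    · intro hx
      have h2 : x ∈ L := by
        have := L.mul_mem (L.mul_mem (L.inv_mem n.2) hx.2) n.2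
        have e : (n : H)⁻¹ * (n * x * (n : H)⁻¹) * n = x := by group
        rwa [e] at this
      have h1 := (mem_normalizer_iff.1 hn ⟨x, h2⟩).2 hx.1
      exact ⟨h1, h2⟩
  have hnN : (n : H) ∈ normalizer (T₀ : Set H) := by
    apply mem_normalizer_of_map
    change (tcl T T₁).map _ = tcl T T₁
    rw [tcl, Subgroup.map_iSup]
    refine iSup_congr fun t => ?_
    apply map_conj_eq_of_mem
    by_cases htL : L.map (MulAut.conj (t : H)).toMonoidHom = L
    · have h1 : T₁.map (MulAut.conj (t : H)).toMonoidHom = T₁ := by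
        have h2 : T.map (MulAut.conj (t : H)).toMonoidHom = T := map_conj_eq_of_mem (le_normalizer t.2)
        change (T ⊓ L).map _ = T ⊓ L
        rw [Subgroup.map_inf_eq _ _ _ (MulEquiv.injective _), h2, htL]
      rw [h1]
      exact hn1
    · have h1 := component_le_centralizer_of_ne hL (isComponent_conj (t : H) hL) (Ne.symm htL)
      have h2 : (n : H) ∈ centralizer (T₁.map (MulAut.conj (t : H)).toMonoidHom : Set H) :=
        centralizer_le (SetLike.coe_subset_coe.2 (Subgroup.map_mono inf_le_right)) (h1 n.2)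
      exact centralizer_le_normalizer _ h2
  -- a 2-power of `n` lies in `D`
  have hcom1 : (n : H)⁻¹ * (a * n * a⁻¹) ∈ o2 (normalizer (T₀ : Set H)) := by
    have h1 := conj_mem_of_le (le_normalizer_o2 (normalizer (T₀ : Set H))) (Subgroup.inv_mem _ hnN) (hAo ha)
    rw [inv_inv] at h1
    have h2 := Subgroup.mul_mem _ h1 (Subgroup.inv_mem _ (hAo ha))
    have e : (n : H)⁻¹ * a * n * a⁻¹ = (n : H)⁻¹ * (a * n * a⁻¹) := by group
    rwa [e] at h2
  obtain ⟨k, hk⟩ := o2_isPGroup _ ⟨_, hcom1⟩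
  have hk1 : ((n : H)⁻¹ * (a * n * a⁻¹)) ^ 2 ^ k = 1 := congrArg Subtype.val hk
  have hcn : Commute (n : H)⁻¹ (a * n * a⁻¹) := Commute.inv_left (hcomm n n.2 _ (hconj n n.2))
  rw [hcn.mul_pow, inv_pow, inv_mul_eq_one] at hk1
  have hnD : (n : H) ^ 2 ^ k ∈ D := ⟨L.pow_mem n.2 _, hk1 ▸ L₂.pow_mem (hconj n n.2) _⟩
  -- the odd power of `n` lies in `P`
  have hnm : (n ^ Nat.card D : L) ∈ P := by
    have h1 : (n ^ Nat.card D) ^ 2 ^ k = 1 := by
      apply Subtype.ext
      have h5 : (⟨_, hnD⟩ : D) ^ Nat.card D = 1 := pow_card_eq_one'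
      have h6 : ((n : H) ^ 2 ^ k) ^ Nat.card D = 1 := congrArg Subtype.val h5
      change ((n : H) ^ Nat.card D) ^ 2 ^ k = 1
      rw [← pow_mul, mul_comm, pow_mul, h6]
    have h2 : IsPGroup 2 (zpowers (n ^ Nat.card D)) := by
      have h3 : orderOf (n ^ Nat.card D) ∣ 2 ^ k := orderOf_dvd_of_pow_eq_one h1
      obtain ⟨j, _, hj⟩ := (Nat.dvd_prime_pow Nat.prime_two).1 h3
      exact IsPGroup.iff_card.2 ⟨j, by rw [Nat.card_zpowers, hj]⟩
    have h3 := h2.inf_normalizer_sylow P
    have h4 : n ^ Nat.card D ∈ zpowers (n ^ Nat.card D) ⊓ normalizer (P : Set L) :=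
      ⟨mem_zpowers _, Subgroup.pow_mem _ hn _⟩
    rw [h3] at h4
    exact h4.2
  have hcop : (Nat.card D).Coprime (2 ^ k) := Nat.Coprime.pow_right k (Nat.coprime_two_right.2 hDo)
  refine mem_of_pow_mem hcop ?_ ?_
  · rw [mem_centralizer_iff]
    intro c hc
    have h1 := hT₁sq _ ⟨hnm, (n ^ Nat.card D : L).2⟩
    have h2 := hT₁sq _ ⟨hc, c.2⟩
    have h3 := hT₁sq (c * (n ^ Nat.card D : L) : L) ⟨T.mul_mem hc hnm, (c * n ^ Nat.card D : L).2⟩
    have e1 : ((n ^ Nat.card D : L) : L)⁻¹ = n ^ Nat.card D := inv_eq_of_mul_eq_one_right (Subtype.ext h1)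
    have e2 : c⁻¹ = c := inv_eq_of_mul_eq_one_right (Subtype.ext h2)
    calc c * n ^ Nat.card D = (c * n ^ Nat.card D)⁻¹ := (inv_eq_of_mul_eq_one_right (Subtype.ext h3)).symm
      _ = (n ^ Nat.card D)⁻¹ * c⁻¹ := mul_inv_rev _ _
      _ = n ^ Nat.card D * c := by rw [e1, e2]
  · rw [mem_centralizer_iff]
    intro c _
    exact Subtype.ext (hDc c c.2 _ hnD)

/-- **`L` is normal** (once `A` normalises `L`) -/
theorem comp_normal (h : Fr K p H M T Q A z) (hL : IsComponent L)
    (hLA : ¬ A ≤ centralizer (L : Set H)) (hAn : A ≤ normalizer (L : Set H)) :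
    L ⊔ (T ⊓ normalizer (L : Set H)) = ⊤ := by
  by_contra hne
  have hTi : ¬ 2 ∣ (T ⊓ normalizer (L : Set H)).relIndex (L ⊔ (T ⊓ normalizer (L : Set H))) := by
    rw [relIndex_sup_comm inf_le_right]
    have h1 := not_dvd_relIndex_of_subnormal h.two h.odd hL.1
    have h2 : (T ⊓ normalizer (L : Set H)).relIndex L = T.relIndex L := by
      rw [← inf_relIndex_right, inf_assoc, inf_eq_right.2 (le_normalizer (H := L)), inf_relIndex_right]
    rwa [h2]
  have h1 := h.le_o2' hne (le_sup_of_le_right (le_inf h.A_le_T hAn)) inf_le_left le_sup_right hTi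
  apply hLA
  intro a ha
  rw [mem_centralizer_iff]
  exact fun x hx => comm_of_o2 h.sub_bot hL.1 le_sup_left (sup_le le_normalizer inf_le_right) hx (h1 ha)

/-- **`H = LA`** (#16589), `L ⊴ H` -/
theorem comp_sup_A (h : Fr K p H M T Q A z) (hL : IsComponent L) (hLn : L.Normal)
    (hLA : ¬ A ≤ centralizer (L : Set H)) : L ⊔ A = ⊤ := by
  by_contra hne
  have h0 : L ⊔ T ⊓ (L ⊔ A) = L ⊔ A :=
    le_antisymm (sup_le le_sup_left inf_le_right) (sup_le_sup_left (le_inf h.A_le_T le_sup_right) L)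
  have hTi : ¬ 2 ∣ (T ⊓ (L ⊔ A)).relIndex (L ⊔ A) := by
    have h1 := not_dvd_relIndex_of_subnormal h.two h.odd hL.1
    have h2 := relIndex_sup_comm (L := L) (T' := T ⊓ (L ⊔ A))
      (fun x _ => (normalizer_eq_top_iff.2 hLn) ▸ mem_top x)
    rw [h0] at h2
    rw [h2, ← inf_relIndex_right, inf_assoc, inf_eq_right.2 (le_sup_left : L ≤ L ⊔ A), inf_relIndex_right]
    exact h1
  have h1 := h.le_o2' hne le_sup_right inf_le_left inf_le_right hTi
  apply hLA
  intro a ha
  rw [mem_centralizer_iff]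
  exact fun x hx => comm_of_o2 h.sub_bot hL.1 le_sup_left
    (fun y _ => (normalizer_eq_top_iff.2 hLn) ▸ mem_top y) hx (h1 ha)

/-- **Summary** (#16000 (2)-(4), #16589): `H = LA` with `L ⊴ H` quasisimple, `C_H(L) = Z(H) ≤ L` of odd order, if `A`
normalises the components which it does not centralise. -/
theorem exists_comp' (h : Fr K p H M T Q A z)
    (hAn : ∀ L : Subgroup H, IsComponent L → ¬ A ≤ centralizer (L : Set H) → A ≤ normalizer (L : Set H)) :
    ∃ L : Subgroup H, L.Normal ∧ IsQuasisimple L ∧ L ⊔ A = ⊤ ∧ centralizer (L : Set H) = center H ∧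
      center H ≤ L ∧ Odd (Nat.card (center H)) ∧ layer H = L := by
  obtain ⟨L, hL, hLA⟩ := h.exists_component
  have h1 := h.comp_normal hL hLA (hAn L hL hLA)
  have hLn : L.Normal := by
    rw [← normalizer_eq_top_iff, ← top_le_iff, ← h1]
    exact sup_le le_normalizer inf_le_right
  have hLT : L ⊔ T = ⊤ := top_le_iff.1 (h1 ▸ sup_le_sup_left inf_le_left L)
  -- 2-powers
  have hpow : ∀ x : H, ∃ k, x ^ 2 ^ k ∈ L := by
    intro x
    have hx : x ∈ L ⊔ T := hLT ▸ mem_top x
    obtain ⟨y, hy, t, ht, rfl⟩ := mem_sup_of_normal_left.1 hx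
    obtain ⟨k, hk⟩ := h.two ⟨t, ht⟩
    refine ⟨k, ?_⟩
    have h2 : t ^ 2 ^ k = 1 := congrArg Subtype.val hk
    rw [← QuotientGroup.eq_one_iff, QuotientGroup.mk_pow, QuotientGroup.mk_mul,
      (QuotientGroup.eq_one_iff y).2 hy, one_mul, ← QuotientGroup.mk_pow, h2, QuotientGroup.mk_one]
  -- `C = C_H(L)` is nilpotent
  have hCnil : Group.IsNilpotent (centralizer (L : Set H)) := by
    let f : centralizer (L : Set H) →* H ⧸ L := (QuotientGroup.mk' L).comp (centralizer (L : Set H)).subtype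
    have h2 : IsPGroup 2 f.range := by
      rintro ⟨_, ⟨c, rfl⟩⟩
      obtain ⟨k, hk⟩ := hpow c
      refine ⟨k, Subtype.ext ?_⟩
      change (QuotientGroup.mk (c : H) : H ⧸ L) ^ 2 ^ k = 1
      rw [← QuotientGroup.mk_pow]
      exact (QuotientGroup.eq_one_iff _).2 hk
    have : Fact (Nat.Prime 2) := ⟨Nat.prime_two⟩
    have h3 : Group.IsNilpotent f.range := h2.isNilpotent
    refine Subgroup.isNilpotent_of_ker_le_center f.rangeRestrict ?_
    rw [MonoidHom.ker_rangeRestrict]
    intro c hc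
    have h4 : (c : H) ∈ L := (QuotientGroup.eq_one_iff _).1 hc
    rw [mem_center_iff]
    exact fun d => Subtype.ext (mem_centralizer_iff.1 d.2 c h4).symm
  have hCs : (centralizer (L : Set H)).IsSubnormal := Normal.isSubnormal inferInstance
  have hC : centralizer (L : Set H) = center H :=
    le_antisymm (h.nilp_central hCs hCnil) (center_le_centralizer _)
  have hodd := h.center_odd
  refine ⟨L, hLn, hL.2, h.comp_sup_A hL hLn hLA, hC, ?_, hodd, ?_⟩
  · intro x hx
    obtain ⟨k, hk⟩ := hpow x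
    have h5 : (⟨x, hx⟩ : center H) ^ Nat.card (center H) = 1 := pow_card_eq_one'
    have h6 : x ^ Nat.card (center H) = 1 := congrArg Subtype.val h5
    exact mem_of_pow_mem (Nat.Coprime.pow_right k (Nat.coprime_two_right.2 hodd)) (h6 ▸ one_mem _) hk
  · apply le_antisymm _ (component_le_layer hL)
    rw [layer_le_iff]
    intro L' hL'
    by_contra hc
    have hne : L' ≠ L := fun h2 => hc h2.le
    have h2 := component_le_centralizer_of_ne hL' hL hne
    rw [hC] at h2
    apply quasisimple_not_isMulCommutative hL'.2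
    exact ⟨⟨fun x y => Subtype.ext (mem_center_iff.1 (h2 y.2) x)⟩⟩

/-- the case that `T` normalises `A` -/
theorem exists_comp (h : Fr K p H M T Q A z) (hp : p) :
    ∃ L : Subgroup H, L.Normal ∧ IsQuasisimple L ∧ L ⊔ A = ⊤ ∧ centralizer (L : Set H) = center H ∧
      center H ≤ L ∧ Odd (Nat.card (center H)) ∧ layer H = L :=
  h.exists_comp' fun _ hL hLA => h.A_le_normalizer hp hL hLA

end comp

end Fr

end Cfsg.Agent.Omega.ML.MinFrame

end

section


/-!
# (ML): the final statement and its forms for the consumers (ruling R-PS, #17472)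

* `KG` : the class of K-groups, `sec_KG` : closed under sections;
* **`MLK`** : (ML) for all K-groups: no over-offender in `O₂(C_H(z))`, `z` fixed by a Sylow 2-subgroup;
* `mlk_of` : `MLK` from the reduction `InOf` and the rows `DeadZ IsKnownSimple'`;
* `MLK.act` : for actions which are not faithful, everything modulo the kernel;
* `MLK.grp` : for subgroups of a group.
-/

set_option autoImplicit false

namespace Cfsg.Agent.Omega.ML.Final

open Subgroup Cfsg Cfsg.Agent.ClassTwoFusion.Quad Cfsg.Agent.Omega.ML.MinFrame Cfsg.Agent.Omega.ML.LocRow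

universe u v

/-! ### K-groups -/

theorem simple_congr {X Y : Type*} [Group X] [Group Y] (e : X ≃* Y) (h : IsSimpleGroup X) : IsSimpleGroup Y := by
  have : Nontrivial Y := e.symm.toEquiv.nontrivial
  exact IsSimpleGroup.isSimpleGroup_of_surjective e.toMonoidHom e.surjective

theorem not_comm_congr {X Y : Type*} [Group X] [Group Y] (e : X ≃* Y) (h : ¬ IsMulCommutative X) :
    ¬ IsMulCommutative Y := by
  intro h'
  apply h
  refine ⟨⟨fun a b => ?_⟩⟩
  apply e.injective
  rw [map_mul, map_mul]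
  exact h'.is_comm.comm _ _

/-- sections of K-groups are K-groups -/
theorem kgroup_of_surj {X Q : Type u} [Group X] [Group Q] (hX : IsKGroup X) (B : Subgroup X) (f : B →* Q)
    (hf : Function.Surjective f) : IsKGroup Q := by
  intro A M _ hs hna
  let C : Subgroup X := (A.comap f).map B.subtype
  let e : ↥(A.comap f) ≃* ↥C := (A.comap f).equivMapOfInjective _ B.subtype_injective
  let g : ↥C →* ↥A ⧸ M := ((QuotientGroup.mk' M).comp (f.subgroupComap A)).comp e.symm.toMonoidHom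
  have hg : Function.Surjective g := by
    refine ((QuotientGroup.mk'_surjective M).comp ?_).comp e.symm.surjective
    rintro ⟨y, hy⟩
    obtain ⟨x, rfl⟩ := hf y
    exact ⟨⟨x, hy⟩, rfl⟩
  let i : ↥C ⧸ g.ker ≃* ↥A ⧸ M := QuotientGroup.quotientKerEquivOfSurjective g hg
  have h1 := not_comm_congr i.symm hna
  exact OddHalf.Known.isKnownSimple'_congr i h1 (hX C g.ker (simple_congr i.symm hs) h1)

/-- the class of K-groups -/
abbrev KG : Frame.Cls.{u} := fun G _ => IsKGroup G

theorem sec_KG : Sec KG.{u} where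
  sub := fun _ _ _ hG R => kgroup_of_surj hG R (MonoidHom.id R) fun x => ⟨x, rfl⟩
  quo := fun G _ _ hG N _ => kgroup_of_surj hG ⊤ ((QuotientGroup.mk' N).comp (⊤ : Subgroup G).subtype) fun x => by
    obtain ⟨y, rfl⟩ := QuotientGroup.mk'_surjective N x
    exact ⟨⟨y, mem_top y⟩, rfl⟩

/-! ### The final statement -/

/-- **(ML) for K-groups** -/
def MLK : Prop :=
  ∀ (H : Type u) [Group H] [Finite H] (M : Type v) [Group M] [Finite M] [MulDistribMulAction H M],
    IsKGroup H → (∀ m : M, m * m = 1) → MLS False H M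

/-- THE REDUCTION: a minimal counterexample gives the situation of the rows -/
def InOf : Prop :=
  ∀ (H : Type u) [Group H] [Finite H] (M : Type v) [Group M] [Finite M] [MulDistribMulAction H M]
    (T Q A : Subgroup H) (z : M), Fr KG.{u} False H M T Q A z →
      ∃ (K T' Q' A' : Subgroup H) (z' : M), InZ H M K T' Q' A' z'

/-- the same for a class `K` closed under sections -/
theorem mls_of {K : Frame.Cls.{u}} {p : Prop} (sec : Sec K)
    (hno : ∀ (H : Type u) [Group H] [Finite H] (M : Type v) [Group M] [Finite M] [MulDistribMulAction H M]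
      (T Q A : Subgroup H) (z : M), ¬ Fr K p H M T Q A z)
    (H : Type u) [Group H] [Finite H] (M : Type v) [Group M] [Finite M] [MulDistribMulAction H M] (hK : K H)
    (sq : ∀ m : M, m * m = 1) : MLS p H M := by
  have key : ∀ n m : ℕ, ∀ (H : Type u) [Group H] [Finite H] (M : Type v) [Group M] [Finite M]
      [MulDistribMulAction H M], K H → (∀ m : M, m * m = 1) → Nat.card H = n → Nat.card M = m → MLS p H M := by
    intro n
    induction n using Nat.strong_induction_on with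
    | _ n ihn =>
      intro m
      induction m using Nat.strong_induction_on with
      | _ m ihm =>
        intro H _ _ M _ _ _ hK hsq hH hM
        by_contra hc
        obtain ⟨T, Q, A, z, hfr⟩ := exists_fr sec hK hsq (by
          intro H' _ _ M' _ _ _ hK' hsq' hlt
          rcases hlt with hlt | ⟨he, hlt⟩
          · rw [hH] at hlt
            exact ihn _ hlt _ H' M' hK' hsq' rfl rfl
          · rw [hM] at hlt
            exact ihm _ hlt H' M' hK' hsq' (he.trans hH) rfl) hc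
        exact hno H M T Q A z hfr
  exact key _ _ H M hK sq rfl rfl

/-- **(ML) from the reduction and the rows** -/
theorem mlk_of (hI : InOf.{u, v}) (hR : DeadZ.{u, v} fun S _ => IsKnownSimple' S) : MLK.{u, v} := by
  intro H _ _ M _ _ _ hK hsq
  refine mls_of sec_KG ?_ H M hK hsq
  intro H _ _ M _ _ _ T Q A z hfr
  obtain ⟨K, T', Q', A', z', hz⟩ := hI H M T Q A z hfr
  refine hR H M K T' Q' A' z' hz ?_
  have h1 : IsSimpleGroup (K ⧸ center K) := hz.row.qs.2
  have h2 : IsKGroup (K ⧸ center K) :=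
    kgroup_of_surj hfr.KH K (QuotientGroup.mk' (center K)) (QuotientGroup.mk'_surjective _)
  have h3 : ¬ IsMulCommutative (K ⧸ center K) := by
    intro h3
    have h4 : commutator K ≤ (QuotientGroup.mk' (center K)).ker := by
      let _ : CommGroup (K ⧸ center K) := { (inferInstance : Group (K ⧸ center K)) with mul_comm := h3.is_comm.comm }
      exact Abelianization.commutator_subset_ker (QuotientGroup.mk' (center K))
    have := hz.row.qs.1
    rw [Group.IsPerfect.commutator_eq_top, QuotientGroup.ker_mk'] at h4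
    obtain ⟨x, hx⟩ := exists_ne (1 : K ⧸ center K)
    obtain ⟨k, rfl⟩ := QuotientGroup.mk_surjective x
    exact hx ((QuotientGroup.eq_one_iff k).2 (h4 (mem_top k)))
  -- the group itself is one of its sections
  let e0 : ↥(⊤ : Subgroup (K ⧸ center K)) ⧸ (⊥ : Subgroup ↥(⊤ : Subgroup (K ⧸ center K))) ≃* (K ⧸ center K) :=
    (QuotientGroup.quotientBot).trans Subgroup.topEquiv
  have h4 := h2 ⊤ ⊥ (simple_congr e0.symm h1) (not_comm_congr e0.symm h3)
  exact OddHalf.Known.isKnownSimple'_congr e0 (not_comm_congr e0.symm h3) h4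

/-! ### Not faithful actions -/

section act

variable {C : Type u} [Group C] [Finite C] {V : Type v} [Group V] [Finite V] [MulDistribMulAction C V]

/-- the data of (ML) modulo the kernel of the action -/
structure Dat (T Q A : Subgroup C) (z : V) : Prop where
  sq : ∀ v : V, v * v = 1
  two : IsPGroup 2 T
  odd : ¬ 2 ∣ T.index
  fixT : ∀ t ∈ T, t • z = z
  Q2 : ∀ q ∈ Q, ∃ n : ℕ, ∀ v : V, (q ^ 2 ^ n) • v = v
  fixQ : ∀ q ∈ Q, q • z = z
  nrmQ : ∀ g : C, g • z = z → ∀ q ∈ Q, ∃ q' ∈ Q, ∀ v : V, (g * q * g⁻¹) • v = q' • v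
  AQ : ∀ a ∈ A, ∃ q ∈ Q, ∀ v : V, a • v = q • v
  Asq : ∀ a ∈ A, ∀ v : V, a • a • v = v

/-- **(ML), modulo the kernel** -/
theorem MLK.act (h : MLK.{u, v}) (hK : IsKGroup C) {T Q A : Subgroup C} {z : V} (D : Dat T Q A z) :
    (fxr C (orb (⊤ : Subgroup C) z)).relIndex A ≤ (cv V (A : Set C)).relIndex (orb (⊤ : Subgroup C) z) := by
  have hN : (fxr C (⊤ : Subgroup V)).Normal := fxr_normal fun _ _ _ => mem_top _
  have htriv : ∀ x ∈ fxr C (⊤ : Subgroup V), ∀ m : V, x • m = m := fun x hx m => hx m (mem_top m)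
  set N := fxr C (⊤ : Subgroup V) with hNdef
  let _ := quoAct N htriv
  let π : C →* C ⧸ N := QuotientGroup.mk' N
  have hπ : Function.Surjective π := QuotientGroup.mk'_surjective N
  have he : ∀ (g : C) (v : V), π g • v = g • v := fun _ _ => rfl
  have hker : ∀ x : C, (∀ v : V, x • v = v) → π x = 1 := fun x hx =>
    (QuotientGroup.eq_one_iff x).2 fun v _ => hx v
  have hker2 : ∀ x y : C, (∀ v : V, x • v = y • v) → π x = π y := by
    intro x y hxy
    rw [← mul_inv_eq_one, ← map_inv, ← map_mul]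
    refine hker _ fun v => ?_
    rw [mul_smul, hxy, smul_inv_smul]
  have key := h (C ⧸ N) V (sec_KG.quo C hK N) D.sq (T.map π) (Q.map π) (A.map π) z (mem_top _) (D.two.map π) le_top
    (by
      rw [relIndex_top_right]
      intro h2
      exact D.odd (h2.trans (index_map_dvd T hπ)))
    (by
      rintro _ ⟨t, ht, rfl⟩
      rw [he, D.fixT t ht])
    (by
      rintro ⟨_, q, hq, rfl⟩
      obtain ⟨n, hn⟩ := D.Q2 q hq
      refine ⟨n, Subtype.ext ?_⟩
      change π q ^ 2 ^ n = 1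
      rw [← map_pow]
      exact hker _ hn) le_top
    (by
      rintro _ ⟨q, hq, rfl⟩
      rw [he, D.fixQ q hq])
    (by
      rintro g' _ hg' _ ⟨q, hq, rfl⟩
      obtain ⟨g, rfl⟩ := hπ g'
      obtain ⟨q', hq', hqq⟩ := D.nrmQ g (by rw [← he, hg']) q hq
      refine ⟨q', hq', ?_⟩
      rw [← map_mul, ← map_inv, ← map_mul]
      exact (hker2 _ _ hqq).symm)
    (by
      rintro _ ⟨a, ha, rfl⟩
      obtain ⟨q, hq, hqa⟩ := D.AQ a ha
      exact ⟨q, hq, (hker2 _ _ hqa).symm⟩)
    (by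
      rintro _ ⟨a, ha, rfl⟩
      rw [← map_mul]
      refine hker _ fun v => ?_
      rw [mul_smul, D.Asq a ha])
    False.elim
  have horb : orb (⊤ : Subgroup (C ⧸ N)) z = orb (⊤ : Subgroup C) z := by
    apply le_antisymm
    · refine orb_le fun g' _ => ?_
      obtain ⟨g, rfl⟩ := hπ g'
      exact smul_mem_orb_self (mem_top g)
    · exact orb_le fun g _ => smul_mem_orb_self (g := π g) (mem_top _)
  have hcv : cv V (A.map π : Set (C ⧸ N)) = cv V (A : Set C) := by
    ext v
    constructor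
    · exact fun hv a ha => hv _ ⟨a, ha, rfl⟩
    · rintro hv _ ⟨a, ha, rfl⟩
      exact hv a ha
  have hfx : (fxr (C ⧸ N) (orb (⊤ : Subgroup C) z)).comap π = fxr C (orb (⊤ : Subgroup C) z) := by
    ext x
    exact Iff.rfl
  rw [horb, hcv, ← relIndex_comap, hfx] at key
  exact key

end act

/-! ### Subgroups of a group -/

section grp

variable {G : Type u} [Group G]

/-- `C` acts on `W / Y` by conjugation -/
abbrev conjAct {C W Y : Subgroup G} (hW : C ≤ normalizer (W : Set G)) (hY : C ≤ normalizer (Y : Set G))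
    [(Y.subgroupOf W).Normal] : MulDistribMulAction C (W ⧸ Y.subgroupOf W) :=
  let f : C → (W →* W) := fun g =>
    { toFun := fun x => ⟨(g : G) * x * (g : G)⁻¹, (mem_normalizer_iff.1 (hW g.2) x).1 x.2⟩
      map_one' := Subtype.ext (by simp)
      map_mul' := fun x y => Subtype.ext (by
        change (g : G) * ((x : G) * y) * (g : G)⁻¹ = (g : G) * x * (g : G)⁻¹ * ((g : G) * y * (g : G)⁻¹)
        group) }
  { smul := fun g => QuotientGroup.map (Y.subgroupOf W) (Y.subgroupOf W) (f g) fun x hx =>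
      (mem_normalizer_iff.1 (hY g.2) x).1 hx
    one_smul := by
      rintro ⟨x⟩
      refine congrArg (QuotientGroup.mk (s := Y.subgroupOf W)) (Subtype.ext ?_)
      change (1 : G) * (x : G) * (1 : G)⁻¹ = x
      group
    mul_smul := by
      rintro g k ⟨x⟩
      refine congrArg (QuotientGroup.mk (s := Y.subgroupOf W)) (Subtype.ext ?_)
      change ((g : G) * k) * (x : G) * ((g : G) * k)⁻¹ = (g : G) * ((k : G) * x * (k : G)⁻¹) * (g : G)⁻¹
      group
    smul_mul := fun g x y => map_mul (QuotientGroup.map _ _ (f g) _) x y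
    smul_one := fun g => map_one (QuotientGroup.map _ _ (f g) _) }

/-- the data of (ML) for the subgroup `C` of `G` acting on the section `W / Y` -/
structure GDat (C W Y T Q A : Subgroup G) (w : G) : Prop where
  nW : C ≤ normalizer (W : Set G)
  nY : C ≤ normalizer (Y : Set G)
  YW : Y ≤ W
  WY : W ≤ normalizer (Y : Set G)
  sq : ∀ x ∈ W, x * x ∈ Y
  mem : w ∈ W
  /-- `W = ⟨w^C⟩ Y` -/
  gen : ∀ U : Subgroup G, w ∈ U → Y ≤ U → C ≤ normalizer (U : Set G) → W ≤ U
  TC : T ≤ C
  two : IsPGroup 2 T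
  odd : ¬ 2 ∣ T.relIndex C
  fixT : ∀ t ∈ T, t * w * t⁻¹ * w⁻¹ ∈ Y
  QC : Q ≤ C
  Q2 : IsPGroup 2 Q
  fixQ : ∀ q ∈ Q, q * w * q⁻¹ * w⁻¹ ∈ Y
  nrmQ : ∀ g ∈ C, g * w * g⁻¹ * w⁻¹ ∈ Y → ∀ q ∈ Q, g * q * g⁻¹ ∈ Q
  AQ : A ≤ Q
  Asq : ∀ a ∈ A, ∀ x ∈ W, a * (a * x * a⁻¹) * a⁻¹ * x⁻¹ ∈ Y

/-- **(ML) for subgroups**: `KA = C_A(W/Y)`, `CW / Y = C_{W/Y}(A)` -/
theorem MLK.grp [Finite G] (h : MLK.{u, u}) {C W Y T Q A : Subgroup G} {w : G} (hK : IsKGroup C)
    (D : GDat C W Y T Q A w) {KA CW : Subgroup G}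
    (hKA : ∀ a, a ∈ KA ↔ a ∈ A ∧ ∀ x ∈ W, a * x * a⁻¹ * x⁻¹ ∈ Y)
    (hCW : ∀ x, x ∈ CW ↔ x ∈ W ∧ ∀ a ∈ A, a * x * a⁻¹ * x⁻¹ ∈ Y) :
    KA.relIndex A ≤ CW.relIndex W := by
  have hN : (Y.subgroupOf W).Normal := normal_subgroupOf_of_le_normalizer D.WY
  let _ := conjAct D.nW D.nY
  set V := W ⧸ Y.subgroupOf W with hV
  let mk : W →* V := QuotientGroup.mk' (Y.subgroupOf W)
  have hmk : Function.Surjective mk := QuotientGroup.mk'_surjective _
  have hsm : ∀ (g : C) (x : W) (hx : (g : G) * x * (g : G)⁻¹ ∈ W), g • mk x = mk ⟨(g : G) * x * (g : G)⁻¹, hx⟩ :=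
    fun _ _ _ => rfl
  have hmem : ∀ (g : C) (x : W), (g : G) * x * (g : G)⁻¹ ∈ W := fun g x =>
    (mem_normalizer_iff.1 (D.nW g.2) x).1 x.2
  have hone : ∀ x y : W, mk x = mk y ↔ (x : G) * (y : G)⁻¹ ∈ Y := by
    intro x y
    rw [← mul_inv_eq_one, ← map_inv, ← map_mul, ← MonoidHom.mem_ker, QuotientGroup.ker_mk']
    exact Iff.rfl
  have hfix : ∀ (g : C) (x : W), g • mk x = mk x ↔ (g : G) * x * (g : G)⁻¹ * (x : G)⁻¹ ∈ Y := by
    intro g x
    rw [hsm g x (hmem g x), hone]
  have hAC : A ≤ C := D.AQ.trans D.QC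
  set z : V := mk ⟨w, D.mem⟩ with hz
  have hD : Dat (C := C) (V := V) (T.subgroupOf C) (Q.subgroupOf C) (A.subgroupOf C) z := by
    refine ⟨?_, D.two.of_equiv (subgroupOfEquivOfLe D.TC).symm, D.odd, ?_, ?_, ?_, ?_, ?_, ?_⟩
    · intro v
      obtain ⟨x, rfl⟩ := hmk v
      rw [← map_mul, ← map_one mk, hone]
      simpa using D.sq x x.2
    · intro t ht
      exact (hfix t _).2 (D.fixT _ ht)
    · intro q hq
      obtain ⟨n, hn⟩ := D.Q2 ⟨q, hq⟩
      refine ⟨n, fun v => ?_⟩
      have h2 : (q : G) ^ 2 ^ n = 1 := congrArg Subtype.val hn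
      have h1 : q ^ 2 ^ n = 1 := Subtype.ext h2
      rw [h1, one_smul]
    · intro q hq
      exact (hfix q _).2 (D.fixQ _ hq)
    · intro g hg q hq
      exact ⟨g * q * g⁻¹, D.nrmQ g g.2 ((hfix g _).1 hg) q hq, fun _ => rfl⟩
    · intro a ha
      exact ⟨a, D.AQ ha, fun _ => rfl⟩
    · intro a ha v
      obtain ⟨x, rfl⟩ := hmk v
      rw [hsm a x (hmem a x), hsm a _ (hmem a ⟨_, hmem a x⟩), hone]
      exact D.Asq a ha x x.2
  have key := h.act hK hD
  -- the orbit of `z` generates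
  have hgen : orb (⊤ : Subgroup C) z = ⊤ := by
    set U : Subgroup G := ((orb (⊤ : Subgroup C) z).comap mk).map W.subtype with hU
    have hUmem : ∀ x : W, (x : G) ∈ U ↔ mk x ∈ orb (⊤ : Subgroup C) z := by
      intro x
      constructor
      · rintro ⟨y, hy, hyx⟩
        rw [← (Subtype.ext hyx : y = x)]
        exact hy
      · exact fun hx => ⟨x, hx, rfl⟩
    have h1 : W ≤ U := by
      refine D.gen U ((hUmem ⟨w, D.mem⟩).2 (mem_orb_self _ z)) ?_ ?_
      · intro y hy
        refine (hUmem ⟨y, D.YW hy⟩).2 ?_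
        have h2 : mk ⟨y, D.YW hy⟩ = 1 := by
          rw [← map_one mk, hone]
          simpa using hy
        rw [h2]
        exact one_mem _
      · refine le_normalizer_of fun g hg x hx => ?_
        obtain ⟨y, hy, rfl⟩ := hx
        have h2 := smul_mem_orb (g := (⟨g, hg⟩ : C)) (mem_top _) hy
        rw [hsm ⟨g, hg⟩ y (hmem ⟨g, hg⟩ y)] at h2
        exact (hUmem ⟨_, hmem ⟨g, hg⟩ y⟩).2 h2
    rw [eq_top_iff]
    intro v _
    obtain ⟨x, rfl⟩ := hmk v
    exact (hUmem x).1 (h1 x.2)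
  rw [hgen, relIndex_top_right] at key
  have e1 : KA.relIndex A = (fxr C (⊤ : Subgroup V)).relIndex (A.subgroupOf C) := by
    rw [← relIndex_subgroupOf hAC, ← inf_relIndex_right (fxr C (⊤ : Subgroup V))]
    congr 1
    ext x
    rw [mem_inf, mem_subgroupOf, mem_subgroupOf, hKA]
    constructor
    · rintro ⟨h1, h2⟩
      refine ⟨fun v _ => ?_, h1⟩
      obtain ⟨y, rfl⟩ := hmk v
      exact (hfix x y).2 (h2 y y.2)
    · rintro ⟨h1, h2⟩
      exact ⟨h2, fun y hy => (hfix x ⟨y, hy⟩).1 (h1 _ (mem_top _))⟩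
  have e2 : CW.relIndex W = (cv V (A.subgroupOf C : Set C)).index := by
    rw [← index_comap_of_surjective _ hmk, relIndex]
    congr 1
    ext x
    rw [mem_subgroupOf, hCW, mem_comap]
    constructor
    · rintro ⟨-, h2⟩ a ha
      exact (hfix a x).2 (h2 a ha)
    · intro h1
      exact ⟨x.2, fun a ha => (hfix ⟨a, hAC ha⟩ x).1 (h1 ⟨a, hAC ha⟩ ha)⟩
  rw [e1, e2]
  exact key

end grp

end Cfsg.Agent.Omega.ML.Final

end

section


/-!
# 2-subgroups of symmetric groups: an overgroup with small `O₂`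

Used for the alternating rows of (ML) (`Omega/ML/AltRow.lean`).

* `AP Δ` : even permutations which fix every point outside `Δ`;
* `fix_of` : a 2-group preserving `Δ`, `|Δ| ≥ 5`, normalised by `AP Δ`, acts trivially on `Δ`;
* `card_le_four` : a 2-group supported on `Γ`, `|Γ| ≤ 4`, normalised by `AP Γ`, has order at most 4;
* `main` : `n ≥ 7`, `n ≠ 8`, `T ≤ S_n` a 2-group: there is `R ≥ T`, `A_n ≰ R`, such that every 2-subgroup of `R`
  normalised by `R ∩ A_n` has order at most 4.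
-/

set_option autoImplicit false

namespace Cfsg.Agent.Omega.ML.AltPerm

open Equiv Equiv.Perm Subgroup

set_option linter.unusedSectionVars false

variable {α : Type*} [DecidableEq α] [Fintype α]

/-- Even permutations which fix every point outside `Δ`. -/
def AP (Δ : Set α) (c : Perm α) : Prop := sign c = 1 ∧ ∀ x, x ∉ Δ → c x = x

/-- The 3-cycle `a → b → c → a` as a product of two transpositions. -/
def C3 (a b c : α) : Perm α := swap a b * swap b c

theorem C3_a {a b c : α} (h1 : a ≠ b) (h2 : a ≠ c) : C3 a b c a = b := by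
  simp [C3, swap_apply_of_ne_of_ne h1 h2]

theorem C3_b {a b c : α} (h2 : a ≠ c) (h3 : b ≠ c) : C3 a b c b = c := by
  simp [C3, swap_apply_of_ne_of_ne h2.symm h3.symm]

theorem C3_of_ne {a b c x : α} (h1 : x ≠ a) (h2 : x ≠ b) (h3 : x ≠ c) : C3 a b c x = x := by
  simp [C3, swap_apply_of_ne_of_ne h2 h3, swap_apply_of_ne_of_ne h1 h2]

theorem sign_C3 {a b c : α} (h1 : a ≠ b) (h3 : b ≠ c) : sign (C3 a b c) = 1 := by
  simp [C3, sign_swap h1, sign_swap h3]

theorem three_C3 {a b c : α} (h1 : a ≠ b) (h2 : a ≠ c) (h3 : b ≠ c) : (C3 a b c).IsThreeCycle := by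
  have h := isThreeCycle_swap_mul_swap_same (a := b) (b := a) (c := c) h1.symm h3 h2
  rwa [swap_comm b a] at h

theorem not_two {N : Subgroup (Perm α)} (hN : IsPGroup 2 N) {c : Perm α} (hc : c.IsThreeCycle) : c ∉ N := by
  intro h
  obtain ⟨k, hk⟩ := hN ⟨c, h⟩
  have h1 : c ^ 2 ^ k = 1 := congrArg Subtype.val hk
  have h2 := orderOf_dvd_of_pow_eq_one h1
  rw [hc.orderOf] at h2
  have h3 := Nat.Prime.dvd_of_dvd_pow Nat.prime_three h2
  omega

theorem fix_of {Δ : Set α} (h5 : 5 ≤ Nat.card Δ) (N : Subgroup (Perm α)) (hN : IsPGroup 2 N)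
    (hp : ∀ g ∈ N, ∀ x ∈ Δ, g x ∈ Δ) (hn : ∀ c, AP Δ c → ∀ g ∈ N, c * g * c⁻¹ ∈ N) :
    ∀ g ∈ N, ∀ x ∈ Δ, g x = x := by
  classical
  have : Fintype Δ := Fintype.ofFinite Δ
  have hS : IsSimpleGroup (alternatingGroup Δ) := alternatingGroup.isSimpleGroup (by simpa using h5)
  let ι : Perm Δ →* Perm α := ofSubtype (p := (· ∈ Δ))
  have hAP : ∀ s : Perm Δ, sign s = 1 → AP Δ (ι s) := fun s hs =>
    ⟨by rw [← hs]; exact sign_ofSubtype s, fun x hx => ofSubtype_apply_of_not_mem s hx⟩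
  let N' : Subgroup (alternatingGroup Δ) := N.comap (ι.comp (alternatingGroup Δ).subtype)
  have hN'n : N'.Normal := by
    refine ⟨fun n hn' s => ?_⟩
    have h1 := hn (ι s.1) (hAP s.1 (mem_alternatingGroup.1 s.2)) _ (Subgroup.mem_comap.1 hn')
    refine Subgroup.mem_comap.2 ?_
    simpa using h1
  have hbot : N' = ⊥ := by
    rcases hS.eq_bot_or_eq_top_of_normal N' hN'n with h | h
    · exact h
    · exfalso
      have hc3 : 2 < Fintype.card Δ := by rw [← Nat.card_eq_fintype_card]; omega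
      obtain ⟨a, b, c, hab, hac, hbc⟩ := Fintype.two_lt_card_iff.1 hc3
      have h1 : (⟨C3 a b c, mem_alternatingGroup.2 (sign_C3 hab hbc)⟩ : alternatingGroup Δ) ∈ N' := by
        rw [h]; trivial
      have h2 : ι (C3 a b c) ∈ N := Subgroup.mem_comap.1 h1
      obtain ⟨k, hk⟩ := hN ⟨_, h2⟩
      have h3 : ι (C3 a b c) ^ 2 ^ k = 1 := congrArg Subtype.val hk
      rw [← map_pow] at h3
      have h4 : C3 a b c ^ 2 ^ k = 1 := ofSubtype_injective (by rw [map_one]; exact h3)
      have h5' := orderOf_dvd_of_pow_eq_one h4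
      rw [(three_C3 hab hac hbc).orderOf] at h5'
      have h6 := Nat.Prime.dvd_of_dvd_pow Nat.prime_three h5'
      omega
  intro g hg x hx
  by_contra hne
  have hgp : ∀ z, g z ∈ Δ ↔ z ∈ Δ := fun z => by
    constructor
    · intro hz
      have := hp g⁻¹ (N.inv_mem hg) _ hz
      simpa using this
    · exact hp g hg z
  have hgi : ∀ z, g⁻¹ z ∈ Δ ↔ z ∈ Δ := fun z => by
    have := hgp (g⁻¹ z)
    rw [show g (g⁻¹ z) = z from by simp] at this
    exact this.symm
  set y := g x with hy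
  have hyΔ : y ∈ Δ := hp g hg x hx
  obtain ⟨u, hu, v, hv, huv⟩ : ∃ u ∈ ((Finset.univ : Finset Δ) \ {⟨x, hx⟩, ⟨y, hyΔ⟩}),
      ∃ v ∈ ((Finset.univ : Finset Δ) \ {⟨x, hx⟩, ⟨y, hyΔ⟩}), u ≠ v := by
    refine Finset.one_lt_card.1 ?_
    have h1 := Finset.le_card_sdiff ({⟨x, hx⟩, ⟨y, hyΔ⟩} : Finset Δ) (Finset.univ : Finset Δ)
    have h2 : ({⟨x, hx⟩, ⟨y, hyΔ⟩} : Finset Δ).card ≤ 2 := Finset.card_le_two
    rw [Finset.card_univ, ← Nat.card_eq_fintype_card] at h1
    omega
  simp only [Finset.mem_sdiff, Finset.mem_univ, Finset.mem_insert, Finset.mem_singleton, true_and, not_or] at hu hv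
  have hyu : (⟨y, hyΔ⟩ : Δ) ≠ u := fun h => hu.2 h.symm
  have hyv : (⟨y, hyΔ⟩ : Δ) ≠ v := fun h => hv.2 h.symm
  set c : Perm Δ := C3 ⟨y, hyΔ⟩ u v with hc
  have hcs : sign c = 1 := sign_C3 hyu huv
  have hcA := hAP c hcs
  set w := g * ι c * g⁻¹ * (ι c)⁻¹ with hw
  have hwN : w ∈ N := by
    have h1 := hn (ι c) hcA g⁻¹ (N.inv_mem hg)
    have h2 := N.mul_mem hg h1
    have h3 : w = g * (ι c * g⁻¹ * (ι c)⁻¹) := by rw [hw]; group
    rw [h3]; exact h2
  have hws : sign w = 1 := by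
    rw [hw]
    simp only [Perm.sign_mul, Perm.sign_inv, hcA.1]
    simp
  have hcfix : ∀ z, z ∉ Δ → (ι c)⁻¹ z = z := fun z hz => by
    rw [inv_eq_iff_eq]; exact (hcA.2 z hz).symm
  have hwfix : ∀ z, z ∉ Δ → w z = z := by
    intro z hz
    have h1 : g⁻¹ z ∉ Δ := fun h => hz ((hgi z).1 h)
    rw [hw]
    simp only [Perm.mul_apply]
    rw [hcfix z hz, hcA.2 _ h1]
    simp
  have hwp : ∀ z, w z ∈ Δ ↔ z ∈ Δ := by
    intro z
    constructor
    · intro h
      by_contra hz
      rw [hwfix z hz] at h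
      exact hz h
    · intro h
      by_contra hz
      have := hwfix _ hz
      have h2 := w.injective this
      rw [h2] at hz
      exact hz h
  have hwo : ι (w.subtypePerm hwp) = w := ofSubtype_subtypePerm hwp fun z hz => by
    by_contra h
    exact hz (hwfix z h)
  have hss : sign (w.subtypePerm hwp) = 1 := by
    have h1 : sign (ι (w.subtypePerm hwp)) = sign (w.subtypePerm hwp) := sign_ofSubtype _
    rw [← h1, hwo, hws]
  have hmem : (⟨w.subtypePerm hwp, mem_alternatingGroup.2 hss⟩ : alternatingGroup Δ) ∈ N' := by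
    refine Subgroup.mem_comap.2 ?_
    change ι (w.subtypePerm hwp) ∈ N
    rw [hwo]; exact hwN
  rw [hbot, Subgroup.mem_bot] at hmem
  have h1 : w.subtypePerm hwp = 1 := congrArg Subtype.val hmem
  have h2 : w = 1 := by rw [← hwo, h1, map_one]
  have h3 : g * ι c = ι c * g := by
    have : w * ι c * g = g * ι c := by rw [hw]; group
    rw [h2, one_mul] at this
    exact this.symm
  have h4 := congrArg (fun f : Perm α => f x) h3
  simp only [Perm.mul_apply] at h4
  have h5 : ι c x = x := by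
    have : ι c x = (c ⟨x, hx⟩ : Δ) := ofSubtype_apply_of_mem c hx
    rw [this, hc, C3_of_ne (fun h => hne (congrArg Subtype.val h).symm) (fun h => hu.1 h.symm)
      (fun h => hv.1 h.symm)]
  have h6 : ι c y = u := by
    have : ι c y = (c ⟨y, hyΔ⟩ : Δ) := ofSubtype_apply_of_mem c hyΔ
    rw [this, hc, C3_a hyu hyv]
  rw [h5, ← hy, h6] at h4
  exact hyu (Subtype.ext h4)

/-! ### the small part -/

theorem dec4 : Fintype.card {x : Perm (Fin 4) // x ^ 8 = 1 ∧ ∀ a b c : Fin 4, a ≠ b → a ≠ c → b ≠ c →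
    (x * (swap a b * swap b c * x * (swap a b * swap b c)⁻¹)) ^ 8 = 1} ≤ 4 := by
  decide +kernel

theorem card_le_four {Γ : Set α} (h4 : Nat.card Γ ≤ 4) (N : Subgroup (Perm α)) (hN : IsPGroup 2 N)
    (hp : ∀ g ∈ N, ∀ x, x ∉ Γ → g x = x) (hn : ∀ c, AP Γ c → ∀ g ∈ N, c * g * c⁻¹ ∈ N) :
    Nat.card N ≤ 4 := by
  classical
  have : Fintype Γ := Fintype.ofFinite Γ
  obtain ⟨k, hk⟩ : ∃ k, Nat.card Γ = k := ⟨_, rfl⟩
  have hfin : Nonempty (Γ ≃ Fin k) := ⟨(Finite.equivFinOfCardEq hk)⟩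
  obtain ⟨e⟩ := hfin
  -- the embedding
  let F : Perm (Fin k) →* Perm α := (ofSubtype (p := (· ∈ Γ))).comp (e.symm.permCongrHom.toMonoidHom)
  have hF : ∀ s : Perm (Fin k), sign s = 1 → AP Γ (F s) := by
    intro s hs
    refine ⟨?_, fun x hx => ofSubtype_apply_of_not_mem _ hx⟩
    have h1 : sign (F s) = sign (e.symm.permCongr s) := sign_ofSubtype _
    rw [h1, sign_permCongr, hs]
  have hFi : Function.Injective F :=
    (ofSubtype_injective (p := (· ∈ Γ))).comp (e.symm.permCongrHom.injective)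
  have hsur : ∀ g ∈ N, ∃ s, F s = g := by
    intro g hg
    have hgp : ∀ z, g z ∈ Γ ↔ z ∈ Γ := by
      intro z
      constructor
      · intro h
        by_contra hz
        rw [hp g hg z hz] at h
        exact hz h
      · intro h
        by_contra hz
        have := hp g hg _ hz
        have h2 := g.injective this
        rw [h2] at hz
        exact hz h
    refine ⟨e.permCongr (g.subtypePerm hgp), ?_⟩
    have h1 : e.symm.permCongr (e.permCongr (g.subtypePerm hgp)) = g.subtypePerm hgp := by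
      ext x; simp [permCongr_apply]
    change ofSubtype (e.symm.permCongr (e.permCongr (g.subtypePerm hgp))) = g
    rw [h1]
    exact ofSubtype_subtypePerm hgp fun z hz => by
      by_contra h
      exact hz (hp g hg z h)
  let N' : Subgroup (Perm (Fin k)) := N.comap F
  have hcard : Nat.card N = Nat.card N' := by
    have h1 : N'.map F = N := by
      refine le_antisymm (Subgroup.map_comap_le _ _) fun g hg => ?_
      obtain ⟨s, hs⟩ := hsur g hg
      exact ⟨s, Subgroup.mem_comap.2 (by rw [hs]; exact hg), hs⟩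
    rw [← h1]
    exact Nat.card_congr (N'.equivMapOfInjective F hFi).symm.toEquiv
  rw [hcard]
  have hN' : IsPGroup 2 N' := hN.comap_of_injective F hFi
  rcases Nat.lt_or_ge k 4 with h | h
  · -- at most 6 permutations
    obtain ⟨m, hm⟩ := (IsPGroup.iff_card (p := 2) (G := N')).1 hN'
    have h6 : Nat.card N' ≤ 6 := by
      refine (Nat.card_le_card_of_injective _ N'.subtype_injective).trans ?_
      rw [Nat.card_eq_fintype_card, Fintype.card_perm, Fintype.card_fin]
      interval_cases k <;> decide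
    rw [hm] at h6 ⊢
    have : m < 3 := by
      by_contra hc
      have := Nat.pow_le_pow_right (show 0 < 2 by norm_num) (not_lt.1 hc)
      omega
    calc 2 ^ m ≤ 2 ^ 2 := Nat.pow_le_pow_right (by norm_num) (by omega)
      _ = 4 := by norm_num
  · have hk4 : k = 4 := by omega
    subst hk4
    have hmem : ∀ x ∈ N', x ^ 8 = 1 := by
      intro x hx
      have h1 : orderOf x ∣ Nat.card N' := by
        have := orderOf_dvd_natCard (⟨x, hx⟩ : N')
        rwa [Subgroup.orderOf_mk] at this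
      obtain ⟨m, hm⟩ := (IsPGroup.iff_card (p := 2) (G := N')).1 hN'
      have h2 : orderOf x ∣ Nat.card (Perm (Fin 4)) := orderOf_dvd_natCard x
      rw [hm] at h1
      obtain ⟨j, hj, hj2⟩ := (Nat.dvd_prime_pow Nat.prime_two).1 h1
      rw [Nat.card_eq_fintype_card, Fintype.card_perm, Fintype.card_fin, hj2] at h2
      have hj3 : j ≤ 3 := by
        by_contra hc
        have h3 : 2 ^ 4 ∣ Nat.factorial 4 := (Nat.pow_dvd_pow 2 (by omega : 4 ≤ j)).trans h2
        revert h3
        decide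
      refine orderOf_dvd_iff_pow_eq_one.1 ?_
      rw [hj2]
      exact (Nat.pow_dvd_pow 2 hj3)
    have hconj : ∀ c : Perm (Fin 4), sign c = 1 → ∀ x ∈ N', c * x * c⁻¹ ∈ N' := by
      intro c hc x hx
      refine Subgroup.mem_comap.2 ?_
      have := hn (F c) (hF c hc) (F x) (Subgroup.mem_comap.1 hx)
      simpa using this
    refine le_trans ?_ dec4
    rw [← Nat.card_eq_fintype_card]
    refine Nat.card_le_card_of_injective (fun x : N' => ⟨x.1, hmem x.1 x.2, fun a b c h1 h2 h3 => ?_⟩) ?_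
    · refine hmem _ (N'.mul_mem x.2 (hconj (swap a b * swap b c) ?_ x.1 x.2))
      exact sign_C3 h1 h3
    · intro x y hxy
      have h1 : (x : Perm (Fin 4)) = y := congrArg (fun z => z.1) hxy
      exact Subtype.ext h1

/-! ### set stabilisers -/

/-- The stabiliser of the set `Δ`. -/
def St (Δ : Set α) : Subgroup (Perm α) where
  carrier := {g | ∀ x, g x ∈ Δ ↔ x ∈ Δ}
  mul_mem' {g h} hg hh := fun x => by rw [Perm.mul_apply, hg, hh]
  one_mem' := fun _ => Iff.rfl
  inv_mem' {g} hg := fun x => by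
    have := hg (g⁻¹ x)
    rw [show g (g⁻¹ x) = x from by simp] at this
    exact this.symm

theorem mem_St {Δ : Set α} {g : Perm α} : g ∈ St Δ ↔ ∀ x, g x ∈ Δ ↔ x ∈ Δ := Iff.rfl

theorem AP_St {Δ : Set α} {c : Perm α} (h : AP Δ c) : c ∈ St Δ := by
  intro x
  constructor
  · intro hx
    by_contra hz
    rw [h.2 x hz] at hx
    exact hz hx
  · intro hx
    by_contra hz
    have h1 := h.2 _ hz
    have h2 := c.injective h1
    rw [h2] at hz
    exact hz hx

theorem St_compl {Δ : Set α} : St Δᶜ = St Δ := by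
  ext g
  rw [mem_St, mem_St]
  simp only [Set.mem_compl_iff, not_iff_not]

theorem good_St {Δ : Set α} (h5 : 5 ≤ Nat.card Δ) (N : Subgroup (Perm α)) (hN : IsPGroup 2 N) (hS : N ≤ St Δ)
    (hn : ∀ c ∈ St Δ, sign c = 1 → ∀ g ∈ N, c * g * c⁻¹ ∈ N) :
    (∀ g ∈ N, ∀ x ∈ Δ, g x = x) ∧ Nat.card N ≤ 4 := by
  have h1 : ∀ g ∈ N, ∀ x ∈ Δ, g x = x :=
    fix_of h5 N hN (fun g hg x hx => (hS hg x).2 hx) (fun c hc => hn c (AP_St hc) hc.1)
  refine ⟨h1, ?_⟩
  by_cases h : 5 ≤ Nat.card (Δᶜ : Set α)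
  · have h2 : ∀ g ∈ N, ∀ x ∈ Δᶜ, g x = x :=
      fix_of h N hN (fun g hg x hx hx' => hx ((hS hg x).1 hx')) (fun c hc => hn c (St_compl (Δ := Δ) ▸ AP_St hc) hc.1)
    have h3 : N = ⊥ := by
      rw [Subgroup.eq_bot_iff_forall]
      intro g hg
      ext x
      by_cases hx : x ∈ Δ
      · exact h1 g hg x hx
      · exact h2 g hg x hx
    rw [h3, Subgroup.card_bot]
    norm_num
  · exact card_le_four (Γ := Δᶜ) (by omega) N hN (fun g hg x hx => h1 g hg x (not_not.1 hx))
      (fun c hc => hn c (St_compl (Δ := Δ) ▸ AP_St hc) hc.1)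

theorem ex_St {Δ : Set α} (h2 : 2 ≤ Nat.card Δ) (h1 : ∃ d, d ∉ Δ) : ∃ c : Perm α, sign c = 1 ∧ c ∉ St Δ := by
  classical
  obtain ⟨d, hd⟩ := h1
  have : Finite Δ := inferInstance
  obtain ⟨a, b, hab⟩ := Finite.one_lt_card_iff_nontrivial.1 h2
  have h1 : (a : α) ≠ b := fun h => hab (Subtype.ext h)
  have h3 : (a : α) ≠ d := fun h => hd (h ▸ a.2)
  have h4 : (b : α) ≠ d := fun h => hd (h ▸ b.2)
  refine ⟨C3 a d b, sign_C3 h3 h4.symm, fun h => ?_⟩
  have := (h a).2 a.2
  rw [C3_a h3 h1] at this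
  exact hd this

/-! ### blocks -/

/-- The stabiliser of the partition `{Δ, Δᶜ}`. -/
def Bl (Δ : Set α) : Subgroup (Perm α) where
  carrier := {g | (∀ x, g x ∈ Δ ↔ x ∈ Δ) ∨ (∀ x, g x ∈ Δ ↔ x ∉ Δ)}
  mul_mem' {g h} hg hh := by
    rcases hg with hg | hg <;> rcases hh with hh | hh
    · exact Or.inl fun x => by rw [Perm.mul_apply, hg, hh]
    · exact Or.inr fun x => by rw [Perm.mul_apply, hg, hh]
    · exact Or.inr fun x => by rw [Perm.mul_apply, hg, hh]
    · exact Or.inl fun x => by rw [Perm.mul_apply, hg, hh, not_not]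
  one_mem' := Or.inl fun _ => Iff.rfl
  inv_mem' {g} hg := by
    rcases hg with hg | hg
    · refine Or.inl fun x => ?_
      have := hg (g⁻¹ x)
      rw [show g (g⁻¹ x) = x from by simp] at this
      exact this.symm
    · refine Or.inr fun x => ?_
      have := hg (g⁻¹ x)
      rw [show g (g⁻¹ x) = x from by simp] at this
      rw [this, not_not]

theorem mem_Bl {Δ : Set α} {g : Perm α} :
    g ∈ Bl Δ ↔ (∀ x, g x ∈ Δ ↔ x ∈ Δ) ∨ (∀ x, g x ∈ Δ ↔ x ∉ Δ) := Iff.rfl

theorem St_le_Bl {Δ : Set α} : St Δ ≤ Bl Δ := fun _ h => Or.inl h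

theorem good_Bl {Δ : Set α} (h5 : 5 ≤ Nat.card Δ) (h5' : 5 ≤ Nat.card (Δᶜ : Set α)) (N : Subgroup (Perm α))
    (hN : IsPGroup 2 N) (hS : N ≤ Bl Δ) (hn : ∀ c ∈ Bl Δ, sign c = 1 → ∀ g ∈ N, c * g * c⁻¹ ∈ N) :
    Nat.card N ≤ 2 := by
  have hN0 : IsPGroup 2 (N ⊓ St Δ : Subgroup (Perm α)) := hN.to_le inf_le_left
  have hn0 : ∀ c ∈ St Δ, sign c = 1 → ∀ g ∈ N ⊓ St Δ, c * g * c⁻¹ ∈ N ⊓ St Δ := fun c hc hc1 g hg =>
    ⟨hn c (St_le_Bl hc) hc1 g hg.1, (St Δ).mul_mem ((St Δ).mul_mem hc hg.2) ((St Δ).inv_mem hc)⟩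
  have h1 := (good_St h5 (N ⊓ St Δ) hN0 inf_le_right hn0).1
  have h2 := (good_St (Δ := Δᶜ) h5' (N ⊓ St Δ) hN0 (by rw [St_compl]; exact inf_le_right)
    (by rw [St_compl]; exact hn0)).1
  have h3 : ∀ g ∈ N, g ∈ St Δ → g = 1 := by
    intro g hg hg'
    ext x
    by_cases hx : x ∈ Δ
    · exact h1 g ⟨hg, hg'⟩ x hx
    · exact h2 g ⟨hg, hg'⟩ x hx
  have h4 : ∀ g ∈ N, ∀ h ∈ N, g ∉ St Δ → h ∉ St Δ → g = h := by
    intro g hg h hh hg' hh'
    have hg2 := (hS hg).resolve_left hg'
    have hh2 := (hS hh).resolve_left hh'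
    have h5 : g * h⁻¹ ∈ St Δ := by
      intro x
      have e1 : h (h⁻¹ x) = x := by simp
      have e2 := hh2 (h⁻¹ x)
      rw [e1] at e2
      rw [Perm.mul_apply, hg2, e2]
    have h6 := h3 _ (N.mul_mem hg (N.inv_mem hh)) h5
    exact mul_inv_eq_one.1 h6
  have h5 : Nat.card N ≤ Nat.card Prop := by
    refine Nat.card_le_card_of_injective (fun g : N => (g : Perm α) ∈ St Δ) ?_
    intro g h hgh
    have hgh' : ((g : Perm α) ∈ St Δ) = ((h : Perm α) ∈ St Δ) := hgh
    by_cases hg : (g : Perm α) ∈ St Δ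
    · have hh : (h : Perm α) ∈ St Δ := hgh' ▸ hg
      exact Subtype.ext ((h3 _ g.2 hg).trans (h3 _ h.2 hh).symm)
    · have hh : (h : Perm α) ∉ St Δ := hgh' ▸ hg
      exact Subtype.ext (h4 _ g.2 _ h.2 hg hh)
  refine h5.trans ?_
  rw [Nat.card_eq_fintype_card, Fintype.card_prop]

theorem ex_Bl {Δ : Set α} (h2 : 2 ≤ Nat.card Δ) (h1 : ∃ d, d ∉ Δ) : ∃ c : Perm α, sign c = 1 ∧ c ∉ Bl Δ := by
  classical
  obtain ⟨d, hd⟩ := h1
  have : Finite Δ := inferInstance
  obtain ⟨a, b, hab⟩ := Finite.one_lt_card_iff_nontrivial.1 h2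
  have h1 : (a : α) ≠ b := fun h => hab (Subtype.ext h)
  have h3 : (a : α) ≠ d := fun h => hd (h ▸ a.2)
  have h4 : (b : α) ≠ d := fun h => hd (h ▸ b.2)
  refine ⟨C3 b a d, sign_C3 h1.symm h3, fun h => ?_⟩
  rcases h with h | h
  · have := (h a).2 a.2
    rw [C3_b h4 h3] at this
    exact hd this
  · have := (h b).1 (by rw [C3_a h1.symm h4]; exact a.2)
    exact this b.2

/-! ### the overgroup -/

theorem main {n : ℕ} (h7 : 7 ≤ n) (h8 : n ≠ 8) (T : Subgroup (Perm (Fin n))) (hT : IsPGroup 2 T) :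
    ∃ R : Subgroup (Perm (Fin n)), T ≤ R ∧ (∃ c, sign c = 1 ∧ c ∉ R) ∧
      ∀ N : Subgroup (Perm (Fin n)), N ≤ R → IsPGroup 2 N →
        (∀ c ∈ R, sign c = 1 → ∀ g ∈ N, c * g * c⁻¹ ∈ N) → Nat.card N ≤ 4 := by
  classical
  -- a proper invariant set with at least five points is enough
  have key : ∀ Δ : Set (Fin n), 5 ≤ Nat.card Δ → (∃ d, d ∉ Δ) → T ≤ St Δ →
      ∃ R : Subgroup (Perm (Fin n)), T ≤ R ∧ (∃ c, sign c = 1 ∧ c ∉ R) ∧
      ∀ N : Subgroup (Perm (Fin n)), N ≤ R → IsPGroup 2 N →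
        (∀ c ∈ R, sign c = 1 → ∀ g ∈ N, c * g * c⁻¹ ∈ N) → Nat.card N ≤ 4 := by
    intro Δ h5 hd hTS
    exact ⟨St Δ, hTS, ex_St (by omega) hd, fun N hN h2 hn => (good_St h5 N h2 hN hn).2⟩
  have hadd : ∀ Δ : Set (Fin n), Nat.card Δ + Nat.card (Δᶜ : Set (Fin n)) = n := by
    intro Δ
    have h1 := Set.ncard_add_ncard_compl Δ
    rw [Nat.card_eq_fintype_card, Fintype.card_fin] at h1
    exact h1
  rcases Nat.even_or_odd n with he | ho
  · -- even degree, at least 10
    have h10 : 10 ≤ n := by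
      rcases he with ⟨k, hk⟩
      omega
    have hpos : 0 < n := by omega
    set x₀ : Fin n := ⟨0, hpos⟩ with hx₀
    by_cases htr : ∀ x, ∃ h ∈ T, h x₀ = x
    · -- transitive
      let S : Subgroup T := (MulAction.stabilizer (Perm (Fin n)) x₀).subgroupOf T
      have hSm : ∀ h : T, h ∈ S ↔ (h : Perm (Fin n)) x₀ = x₀ := fun h => by
        rw [Subgroup.mem_subgroupOf, MulAction.mem_stabilizer_iff]
        rfl
      obtain ⟨t, ht⟩ := (IsPGroup.iff_card (p := 2) (G := T)).1 hT
      obtain ⟨s, hs⟩ := (IsPGroup.iff_card (p := 2) (G := S)).1 (hT.to_subgroup S)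
      have hst : s < t := by
        have h1 : Nat.card S ∣ Nat.card T := Subgroup.card_subgroup_dvd_card S
        have h2 : Nat.card S ≤ Nat.card T := Nat.le_of_dvd Nat.card_pos h1
        rw [hs, ht] at h2
        have h3 : s ≤ t := (Nat.pow_le_pow_iff_right (by norm_num)).1 h2
        refine lt_of_le_of_ne h3 fun h => ?_
        have h4 : Nat.card S = Nat.card T := by rw [hs, ht, h]
        have h5 : S = ⊤ := Subgroup.eq_top_of_card_eq S h4
        obtain ⟨h, hh, hhx⟩ := htr ⟨1, by omega⟩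
        have h6 : (⟨h, hh⟩ : T) ∈ S := by rw [h5]; trivial
        rw [hSm] at h6
        have h7 : (⟨1, by omega⟩ : Fin n) = x₀ := hhx.symm.trans h6
        rw [hx₀, Fin.mk.injEq] at h7
        omega
      have hpt : 2 ^ (t - 1) ∣ Nat.card T := by
        rw [ht]; exact Nat.pow_dvd_pow 2 (by omega)
      obtain ⟨M, hM, hSM⟩ := Sylow.exists_subgroup_card_pow_prime_le 2 hpt S hs (by omega)
      have hMi : M.index = 2 := by
        have h1 := M.card_mul_index
        rw [hM, ht] at h1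
        have h2 : 2 ^ t = 2 ^ (t - 1) * 2 := by
          rw [← pow_succ]; congr 1; omega
        rw [h2] at h1
        exact Nat.eq_of_mul_eq_mul_left (by positivity) h1
      let Δ : Set (Fin n) := {x | ∃ m : T, m ∈ M ∧ (m : Perm (Fin n)) x₀ = x}
      have hΔ : ∀ h : T, (h : Perm (Fin n)) x₀ ∈ Δ ↔ h ∈ M := by
        intro h
        constructor
        · rintro ⟨m, hm, hmx⟩
          have h1 : m⁻¹ * h ∈ S := by
            rw [hSm]
            change ((m : Perm (Fin n))⁻¹ * (h : Perm (Fin n))) x₀ = x₀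
            rw [Perm.mul_apply, ← hmx]
            simp
          have h2 := M.mul_mem hm (hSM h1)
          rwa [mul_inv_cancel_left] at h2
        · exact fun hh => ⟨h, hh, rfl⟩
      have hgx : ∀ g : T, ∀ x, (g : Perm (Fin n)) x ∈ Δ ↔ (g ∈ M ↔ x ∈ Δ) := by
        intro g x
        obtain ⟨h, hh, hhx⟩ := htr x
        have h1 : (g : Perm (Fin n)) x = ((g * ⟨h, hh⟩ : T) : Perm (Fin n)) x₀ := by
          rw [← hhx]; rfl
        have h2 : x = ((⟨h, hh⟩ : T) : Perm (Fin n)) x₀ := hhx.symm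
        rw [h1, hΔ, Subgroup.mul_mem_iff_of_index_two hMi]
        conv_rhs => rw [h2, hΔ]
      have hTB : T ≤ Bl Δ := by
        intro g hg
        by_cases hgM : (⟨g, hg⟩ : T) ∈ M
        · refine Or.inl fun x => ?_
          have := hgx ⟨g, hg⟩ x
          simpa [hgM] using this
        · refine Or.inr fun x => ?_
          have := hgx ⟨g, hg⟩ x
          simpa [hgM] using this
      obtain ⟨g, hgM⟩ : ∃ g : T, g ∉ M := by
        by_contra hc
        push Not at hc
        have h1 : M = ⊤ := Subgroup.eq_top_iff' M |>.2 hc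
        rw [h1, Subgroup.index_top] at hMi
        omega
      have hsw : ∀ x, (g : Perm (Fin n)) x ∈ Δ ↔ x ∉ Δ := fun x => by
        have := hgx g x
        simpa [hgM] using this
      have hc1 : Nat.card Δ ≤ Nat.card (Δᶜ : Set (Fin n)) := by
        refine Nat.card_le_card_of_injective (fun x : Δ => (⟨(g : Perm (Fin n)) x, fun h => (hsw _).1 h x.2⟩ :
          (Δᶜ : Set (Fin n)))) ?_
        intro x y hxy
        exact Subtype.ext ((g : Perm (Fin n)).injective (congrArg Subtype.val hxy))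
      have hc2 : Nat.card (Δᶜ : Set (Fin n)) ≤ Nat.card Δ := by
        refine Nat.card_le_card_of_injective (fun x : (Δᶜ : Set (Fin n)) => (⟨(g : Perm (Fin n)) x, (hsw _).2 x.2⟩ :
          Δ)) ?_
        intro x y hxy
        exact Subtype.ext ((g : Perm (Fin n)).injective (congrArg Subtype.val hxy))
      have hsum := hadd Δ
      have h5 : 5 ≤ Nat.card Δ := by omega
      have h5' : 5 ≤ Nat.card (Δᶜ : Set (Fin n)) := by omega
      have hd : ∃ d, d ∉ Δ := by
        have : Nonempty (Δᶜ : Set (Fin n)) := (Nat.card_pos_iff.1 (by omega)).1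
        exact ⟨this.some.1, this.some.2⟩
      refine ⟨Bl Δ, hTB, ex_Bl (by omega) hd, fun N hN h2 hn => ?_⟩
      have := good_Bl h5 h5' N h2 hN hn
      omega
    · -- intransitive
      push Not at htr
      obtain ⟨y, hy⟩ := htr
      let Δ : Set (Fin n) := {x | ∃ h ∈ T, h x₀ = x}
      have hyΔ : y ∉ Δ := by
        rintro ⟨h, hh, hhy⟩
        exact hy h hh hhy
      have hTΔ : T ≤ St Δ := by
        intro g hg x
        constructor
        · rintro ⟨h, hh, hhx⟩
          refine ⟨g⁻¹ * h, T.mul_mem (T.inv_mem hg) hh, ?_⟩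
          rw [Perm.mul_apply, hhx]
          simp
        · rintro ⟨h, hh, hhx⟩
          exact ⟨g * h, T.mul_mem hg hh, by rw [Perm.mul_apply, hhx]⟩
      have hsum := hadd Δ
      rcases Nat.lt_or_ge (Nat.card Δ) 5 with h | h
      · refine key Δᶜ (by omega) ⟨x₀, ?_⟩ (by rw [St_compl]; exact hTΔ)
        rw [Set.mem_compl_iff, not_not]
        exact ⟨1, T.one_mem, rfl⟩
      · exact key Δ h ⟨y, hyΔ⟩ hTΔ
  · -- odd degree: a fixed point
    have h1 := hT.card_modEq_card_fixedPoints (Fin n)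
    have h2 : (MulAction.fixedPoints T (Fin n)).Nonempty := by
      rw [← Set.nonempty_coe_sort]
      by_contra hc
      rw [not_nonempty_iff] at hc
      have h3 : Nat.card (MulAction.fixedPoints T (Fin n)) = 0 := Nat.card_of_isEmpty
      have h4 : Nat.card (Fin n) = n := by rw [Nat.card_eq_fintype_card, Fintype.card_fin]
      rw [h3, h4] at h1
      have : n % 2 = 0 := h1
      obtain ⟨k, hk⟩ := ho
      omega
    obtain ⟨x, hx⟩ := h2
    have hx' : ∀ g ∈ T, g x = x := fun g hg => hx ⟨g, hg⟩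
    have hsum := hadd {x}
    have hone : Nat.card ({x} : Set (Fin n)) = 1 := by simp
    refine key ({x}ᶜ) (by omega) ⟨x, by simp⟩ ?_
    rw [St_compl]
    intro g hg y
    rw [Set.mem_singleton_iff, Set.mem_singleton_iff]
    constructor
    · intro h
      exact g.injective (h.trans (hx' g hg).symm)
    · rintro rfl
      exact hx' g hg

end Cfsg.Agent.Omega.ML.AltPerm

end

section


/-!
# (ML): the reduction to one component, for arbitrary `A` (#16589 of helper571, #16602 of helper270); K-free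

Input: the abstract FF theorem `FFBr.AStmt` (proved in `FFBr.Final`).

* `Fr.nmax` : `T` lies in at least two maximal subgroups of `H`;
* `Fr.A_le_normalizer'` : `A` normalises the components which it does not centralise;
* `Fr.exists_comp''` : `H = LA`, `L ⊴ H` quasisimple, `C_H(L) = Z(H) ≤ L` of odd order.
-/

set_option autoImplicit false

namespace Cfsg.Agent.Omega.ML.MinFrame

open Subgroup Cfsg Cfsg.Agent.ClassTwoFusion.Quad Cfsg.Agent.Omega.NOThree.NoOver Cfsg.Agent.Omega.ML.CD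
open Cfsg.Agent.ZN Cfsg.Agent.MinSimple.VModule
open Cfsg.Agent.SignalizersComponents.Components Cfsg.Agent.SignalizersComponents.CompBasic

universe u v

/-- the action on the lifts -/
@[reducible] def liftAct (H : Type u) [Group H] (M : Type v) [Group M] [MulDistribMulAction H M] :
    MulDistribMulAction (ULift.{v} H) (ULift.{u} M) where
  smul g m := ⟨g.down • m.down⟩
  one_smul m := ULift.ext _ _ (one_smul H m.down)
  mul_smul g k m := ULift.ext _ _ (mul_smul g.down k.down m.down)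
  smul_mul g a b := ULift.ext _ _ (smul_mul' g.down a.down b.down)
  smul_one g := ULift.ext _ _ (smul_one g.down)

/-- central by 2-group: the normal Sylow 2-subgroup -/
theorem mem_of_two {X : Type*} [Group X] [Finite X] {D P : Subgroup X} (hD : D ≤ center X)
    (h2 : ∀ x : X, ∃ k : ℕ, x ^ 2 ^ k ∈ D) (hP : IsPGroup 2 P) (hPi : ¬ 2 ∣ P.index) {x : X} {k : ℕ}
    (hx : x ^ 2 ^ k = 1) : x ∈ P := by
  have : Fact (Nat.Prime 2) := ⟨Nat.prime_two⟩
  have hDn : D.Normal := ⟨fun d hd g => by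
    rw [mem_center_iff.1 (hD hd) g, mul_inv_cancel_right]
    exact hd⟩
  have h3 : IsPGroup 2 (X ⧸ D) := by
    intro q
    obtain ⟨y, rfl⟩ := QuotientGroup.mk_surjective q
    obtain ⟨j, hj⟩ := h2 y
    exact ⟨j, by rw [← QuotientGroup.mk_pow]; exact (QuotientGroup.eq_one_iff _).2 hj⟩
  have h4 : Group.IsNilpotent (X ⧸ D) := h3.isNilpotent
  have h5 : Group.IsNilpotent X := Subgroup.isNilpotent_of_ker_le_center (QuotientGroup.mk' D) (by
    rw [QuotientGroup.ker_mk']
    exact hD)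
  have h6 : ((hP.toSylow hPi : Sylow 2 X) : Subgroup X).Normal :=
    (Group.isNilpotent_of_finite_tfae.out 0 3 rfl rfl).1 h5 2 this _
  have h7 : P.Normal := h6
  refine mem_of_pow_mem (m := P.index) (n := 2 ^ k) ?_ (P.pow_index_mem x) (hx ▸ one_mem _)
  exact Nat.Coprime.pow_right _ ((Nat.prime_two.coprime_iff_not_dvd.2 hPi).symm)

namespace Fr

variable {K : Frame.Cls.{u}} {p : Prop} {H : Type u} [Group H] [Finite H] {M : Type v} [Group M] [Finite M]
  [MulDistribMulAction H M] {T Q A : Subgroup H} {z : M}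

omit [Finite H] [Finite M] in
theorem exists_moves (h : Fr K p H M T Q A z) : ∃ g : H, g • z ≠ z := by
  by_contra hc
  push Not at hc
  refine h.ne ((Subgroup.eq_bot_iff_forall A).2 fun a _ => h.faithful a fun m => ?_)
  have h1 : orb (⊤ : Subgroup H) z ≤ closure {z} := orb_le fun g _ => by
    rw [hc g]
    exact subset_closure rfl
  rw [h.gen] at h1
  obtain ⟨n, rfl⟩ := mem_closure_singleton.1 (h1 (mem_top m))
  rw [smul_zpow', hc a]

omit [Finite H] [Finite M] in
/-- over-offender -/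
theorem index_lt (h : Fr K p H M T Q A z) : (cv M (A : Set H)).index < Nat.card A := by
  have h1 := h.strict ⊥ (bot_lt_iff_ne_bot.2 h.ne)
  rw [fab_bot, fab, pow_one, pow_one, pow_one, ← Subgroup.index_mul_card (cv M (A : Set H))] at h1
  exact Nat.lt_of_mul_lt_mul_right h1

/-- **`T` lies in at least two maximal subgroups** (FF0) -/
theorem nmax (hFF : FFBr.AStmt.{max u v}) (h : Fr K p H M T Q A z) :
    ¬ ∃ N : Subgroup H, N ≠ ⊤ ∧ ∀ R : Subgroup H, T ≤ R → R ≠ ⊤ → R ≤ N := by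
  rintro ⟨N, hN, hmax⟩
  have hTne : T ≠ ⊤ := fun h1 => h.nontriv (h1 ▸ h.two)
  have hTN : T ≤ N := hmax T le_rfl hTne
  let _ := liftAct H M
  let e : ULift.{v} H →* H := (MulEquiv.ulift : ULift.{v} H ≃* H).toMonoidHom
  have hes : Function.Surjective e := (MulEquiv.ulift : ULift.{v} H ≃* H).surjective
  have hei : Function.Injective e := (MulEquiv.ulift : ULift.{v} H ≃* H).injective
  let f : ULift.{u} M →* M := (MulEquiv.ulift : ULift.{u} M ≃* M).toMonoidHom
  have hfs : Function.Surjective f := (MulEquiv.ulift : ULift.{u} M ≃* M).surjective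
  have hfi : Function.Injective f := (MulEquiv.ulift : ULift.{u} M ≃* M).injective
  have hsm : ∀ (g : ULift.{v} H) (m : ULift.{u} M), f (g • m) = e g • f m := fun _ _ => rfl
  have hT2 : IsPGroup 2 (T.comap e) := h.two.comap_of_injective e hei
  have hTi : ¬ 2 ∣ (T.comap e).index := by
    rw [index_comap_of_surjective T hes]
    exact h.odd
  obtain ⟨g0, hg0⟩ := h.exists_moves
  have abs : FFBr.Abs (ULift.{v} H) (ULift.{u} M) (hT2.toSylow hTi) (N.comap e) :=
    { comm := fun v w => hfi (comm_of_sq h.sq _ _)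
      sq := fun v => hfi (h.sq _)
      faith := fun x hx => hei (h.faithful _ fun m => by
        obtain ⟨m, rfl⟩ := hfs m
        rw [← hsm, hx])
      core := by
        intro B hB hB2
        have h1 := h.o2_eq_bot (hB.map e hes) (hB2.map e)
        rwa [Subgroup.map_eq_bot_iff_of_injective _ hei] at h1
      TM := comap_mono hTN
      Mne := fun h1 => hN (by
        rw [eq_top_iff]
        intro x _
        obtain ⟨y, rfl⟩ := hes x
        have h2 : y ∈ N.comap e := h1 ▸ mem_top y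
        exact h2)
      max := by
        intro B hB
        by_cases hBt : B.map e = ⊤
        · right
          rw [eq_top_iff]
          intro x _
          have h2 : e x ∈ B.map e := hBt ▸ mem_top _
          obtain ⟨y, hy, hyx⟩ := h2
          exact hei hyx ▸ hy
        · left
          have h1 : T ≤ B.map e := by
            intro t ht
            obtain ⟨y, rfl⟩ := hes t
            exact ⟨y, hB ht, rfl⟩
          intro x hx
          exact hmax _ h1 hBt ⟨x, hx, rfl⟩
      gen := by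
        intro W hW
        have h1 : orb (⊤ : Subgroup H) z ≤ W.map f := orb_le fun g _ => by
          obtain ⟨g, rfl⟩ := hes g
          obtain ⟨y, hy⟩ := hfs z
          refine ⟨g • y, hW y (fun t ht => hfi ?_) g, ?_⟩
          · rw [hsm, hy]
            exact h.fixT _ ht
          · rw [hsm, hy]
        rw [h.gen] at h1
        rw [eq_top_iff]
        intro w _
        obtain ⟨y, hy, hyw⟩ := h1 (mem_top (f w))
        exact hfi hyw ▸ hy
      nfix := by
        obtain ⟨g, rfl⟩ := hes g0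
        obtain ⟨y, hy⟩ := hfs z
        refine ⟨y, fun t ht => hfi ?_, g, fun h1 => hg0 ?_⟩
        · rw [hsm, hy]
          exact h.fixT _ ht
        · rw [← hy, ← hsm, h1] }
  have hA1 : ∀ a ∈ A.comap e, ∀ b ∈ A.comap e, a * b = b * a := fun a ha b hb => hei (h.A_comm ha hb)
  have hA2 : ∀ a ∈ A.comap e, a * a = 1 := fun a ha => hei (h.Asq _ ha)
  have hcard : Nat.card (A.comap e) = Nat.card A := by
    have h1 : (A.comap e).map e = A := map_comap_eq_self_of_surjective hes A
    rw [← card_map_of_injective hei, h1]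
  have hidx : (cv (ULift.{u} M) ((A.comap e : Subgroup (ULift.{v} H)) : Set (ULift.{v} H))).index =
      (cv M (A : Set H)).index := by
    rw [← index_comap_of_surjective (cv M (A : Set H)) hfs]
    congr 1
    ext m
    constructor
    · intro hm a ha
      obtain ⟨b, rfl⟩ := hes a
      rw [← hsm, hm b ha]
    · intro hm a ha
      exact hfi (by rw [hsm]; exact hm _ ha)
  have hlt := h.index_lt
  have hne : A.comap e ≠ ⊥ := fun h1 => h.ne (by
    have h2 : (A.comap e).map e = A := map_comap_eq_self_of_surjective hes A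
    rw [← h2, h1, Subgroup.map_bot])
  have hno := (hFF _ _ _ _ abs ⟨A.comap e, hA1, hA2, hne, by rw [hidx, hcard]; exact hlt.le⟩).1 (A.comap e) hA1 hA2
  rw [hidx, hcard] at hno
  omega

section comp

variable {L : Subgroup H}

/-- **`A` normalises `L`** -/
theorem A_le_normalizer' (h : Fr K p H M T Q A z)
    (hm : ¬ ∃ N : Subgroup H, N ≠ ⊤ ∧ ∀ R : Subgroup H, T ≤ R → R ≠ ⊤ → R ≤ N) (hL : IsComponent L)
    (hLA : ¬ A ≤ centralizer (L : Set H)) : A ≤ normalizer (L : Set H) := by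
  intro a ha
  by_contra hcon
  let L₂ : Subgroup H := L.map (MulAut.conj a).toMonoidHom
  have hL₂ : IsComponent L₂ := isComponent_conj a hL
  have hne : L ≠ L₂ := fun h1 => hcon (mem_normalizer_of_map h1.symm)
  have hcc := component_le_centralizer_of_ne hL hL₂ hne
  have hcomm : ∀ x ∈ L, ∀ y ∈ L₂, x * y = y * x := fun x hx y hy => (mem_centralizer_iff.1 (hcc hx) y hy).symm
  have hconj : ∀ x ∈ L, a * x * a⁻¹ ∈ L₂ := fun x hx => ⟨x, hx, rfl⟩
  have hDc : ∀ x ∈ L, ∀ d ∈ L ⊓ L₂, x * d = d * x := fun x hx d hd => hcomm x hx d hd.2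
  have hrel := not_dvd_relIndex_of_subnormal h.two h.odd hL.1
  let T₀ : Subgroup H := tcl T (T ⊓ L)
  have hT₀T : T₀ ≤ T := tcl_le fun t ht => by
    rintro _ ⟨x, hx, rfl⟩
    exact T.mul_mem (T.mul_mem ht hx.1) (T.inv_mem ht)
  have hT₀ne : T₀ ≠ ⊥ := by
    intro h1
    have h2 : T ⊓ L = ⊥ := le_bot_iff.1 (h1 ▸ le_tcl T (T ⊓ L))
    exact h.not_odd hL.1 hLA (odd_of_relIndex hrel h2)
  apply hm
  refine ⟨normalizer (T₀ : Set H), fun h1 => hT₀ne (h.o2_eq_bot (normalizer_eq_top_iff.1 h1) (h.two.to_le hT₀T)),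
    fun R hTR hR => ?_⟩
  have hAR := h.le_o2 hTR hR
  -- the 2-elements of `R ∩ L` are in `T`
  have key2 : ∀ x ∈ R ⊓ L, ∀ k : ℕ, x ^ 2 ^ k = 1 → x ∈ T := by
    intro x hx k hk
    have h1 : (⟨x, hx⟩ : (R ⊓ L : Subgroup H)) ∈ (T.subgroupOf (R ⊓ L)) := by
      refine mem_of_two (D := (L ⊓ L₂).subgroupOf (R ⊓ L)) (k := k) ?_ ?_
        (h.two.comap_of_injective _ (R ⊓ L).subtype_injective) ?_ (Subtype.ext hk)
      · intro d hd
        rw [mem_center_iff]
        exact fun y => Subtype.ext (hDc y y.2.2 d hd)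
      · intro y
        have hy := y.2
        have h2 : (y : H)⁻¹ * (a * y * a⁻¹) ∈ o2 R := by
          have h1 := conj_mem_of_le (le_normalizer_o2 R) (R.inv_mem hy.1) (hAR ha)
          rw [inv_inv] at h1
          have h2 := Subgroup.mul_mem _ h1 (Subgroup.inv_mem _ (hAR ha))
          have e : (y : H)⁻¹ * a * y * a⁻¹ = (y : H)⁻¹ * (a * y * a⁻¹) := by group
          rwa [e] at h2
        obtain ⟨j, hj⟩ := o2_isPGroup R ⟨_, h2⟩
        have hj1 : ((y : H)⁻¹ * (a * y * a⁻¹)) ^ 2 ^ j = 1 := congrArg Subtype.val hj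
        have hcn : Commute (y : H)⁻¹ (a * y * a⁻¹) := Commute.inv_left (hcomm y hy.2 _ (hconj y hy.2))
        rw [hcn.mul_pow, inv_pow, inv_mul_eq_one] at hj1
        have hj2 : (y : H) ^ 2 ^ j ∈ L₂ := by
          rw [hj1]
          exact L₂.pow_mem (hconj y hy.2) _
        exact ⟨j, L.pow_mem hy.2 _, hj2⟩
      · intro h3
        apply hrel
        rw [← inf_relIndex_right, ← relIndex_mul_relIndex (T ⊓ L) (R ⊓ L) L (inf_le_inf_right L hTR) inf_le_right]
        have h4 : T.relIndex (R ⊓ L) = (T ⊓ L).relIndex (R ⊓ L) := by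
          rw [← inf_relIndex_right T, ← inf_assoc, inf_eq_left.2 hTR]
        exact (h4 ▸ h3 : 2 ∣ (T ⊓ L).relIndex (R ⊓ L)).trans (Dvd.intro _ rfl)
    exact h1
  -- `R ∩ E` normalises `T₀`
  have key4 : ∀ e ∈ R, e ∈ tcl T L → e ∈ normalizer (T₀ : Set H) := by
    intro e heR heE
    change e ∈ normalizer (tcl T (T ⊓ L) : Set H)
    apply mem_normalizer_of_map
    rw [tcl, Subgroup.map_iSup]
    refine iSup_congr fun t => ?_
    apply map_conj_eq_of_mem
    have hen : ∀ e ∈ tcl T L, e ∈ normalizer ((L.map (MulAut.conj (t : H)).toMonoidHom : Subgroup H) : Set H) :=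
      fun e he => layer_le_normalizer_component (isComponent_conj (t : H) hL) (tcl_le_layer hL he)
    have hstep : ∀ e ∈ R ⊓ tcl T L, ∀ x ∈ (T ⊓ L).map (MulAut.conj (t : H)).toMonoidHom,
        e * x * e⁻¹ ∈ (T ⊓ L).map (MulAut.conj (t : H)).toMonoidHom := by
      rintro e ⟨he1, he2⟩ x ⟨y, hy, rfl⟩
      have hx1 : (t : H) * y * (t : H)⁻¹ ∈ L.map (MulAut.conj (t : H)).toMonoidHom := ⟨y, hy.2, rfl⟩
      have hx2 : (t : H) * y * (t : H)⁻¹ ∈ R := R.mul_mem (R.mul_mem (hTR t.2) (hTR hy.1)) (R.inv_mem (hTR t.2))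
      obtain ⟨w, hw, hwe⟩ := (mem_normalizer_iff.1 (hen e he2) _).1 hx1
      have hwe' : (t : H) * w * (t : H)⁻¹ = e * (t * y * (t : H)⁻¹) * e⁻¹ := hwe
      have hwR : w ∈ R := by
        have h1 : w = (t : H)⁻¹ * (e * (t * y * (t : H)⁻¹) * e⁻¹) * t := by
          rw [← hwe']
          group
        rw [h1]
        exact R.mul_mem (R.mul_mem (R.inv_mem (hTR t.2)) (R.mul_mem (R.mul_mem he1 hx2) (R.inv_mem he1))) (hTR t.2)
      obtain ⟨k, hk⟩ := h.two ⟨y, hy.1⟩
      have hk1 : y ^ 2 ^ k = 1 := congrArg Subtype.val hk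
      have hwk : w ^ 2 ^ k = 1 := by
        have h1 : w = ((t : H)⁻¹ * e * t) * y * ((t : H)⁻¹ * e * t)⁻¹ := by
          have h2 : w = (t : H)⁻¹ * (e * (t * y * (t : H)⁻¹) * e⁻¹) * t := by
            rw [← hwe']
            group
          rw [h2]
          group
        rw [h1, conj_pow, hk1, mul_one, mul_inv_cancel]
      have hwT := key2 w ⟨hwR, hw⟩ k hwk
      exact ⟨w, ⟨hwT, hw⟩, hwe⟩
    rw [mem_normalizer_iff]
    intro x
    refine ⟨hstep e ⟨heR, heE⟩ x, fun hx => ?_⟩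
    have h1 := hstep e⁻¹ (Subgroup.inv_mem _ ⟨heR, heE⟩) _ hx
    have e1 : e⁻¹ * (e * x * e⁻¹) * e⁻¹⁻¹ = x := by group
    rwa [e1] at h1
  intro r hr
  have h1 : r ∈ tcl T L ⊔ T := (h.sup_eq_top hL hLA) ▸ mem_top r
  obtain ⟨e, he, t, ht, rfl⟩ := sup_eq_mul (le_normalizer_tcl T L) h1
  have heR : e ∈ R := by
    have := R.mul_mem hr (R.inv_mem (hTR ht))
    rwa [mul_inv_cancel_right] at this
  exact Subgroup.mul_mem _ (key4 e heR he) (le_normalizer_tcl T (T ⊓ L) ht)

/-- **Summary, arbitrary `A`** -/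
theorem exists_comp'' (hFF : FFBr.AStmt.{max u v}) (h : Fr K p H M T Q A z) :
    ∃ L : Subgroup H, L.Normal ∧ IsQuasisimple L ∧ L ⊔ A = ⊤ ∧ centralizer (L : Set H) = center H ∧
      center H ≤ L ∧ Odd (Nat.card (center H)) ∧ layer H = L :=
  h.exists_comp' fun _ hL hLA => h.A_le_normalizer' (h.nmax hFF) hL hLA

end comp

end Fr

end Cfsg.Agent.Omega.ML.MinFrame

end
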