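import Cfsg.Agent.Mrg.Omega.NOThree.NoOver
import Cfsg.Agent.MinSimple.VModule
import Cfsg.Agent.MinSimple.CosetFam
import Cfsg.Agent.Mrg.Omega.VP
import Cfsg.Agent.Lib.SylowNormalInf
import Cfsg.Agent.Lib.KleinGen
import Cfsg.Agent.Lib.PGroupFixedVector

section


/-!
# (ML): the frame of a minimal counterexample (OMEGA; #15719 of helper196, #16000 of helper595); K-free

`H` acts on the finite group `M` of exponent 2.

* `orb R z = ⟨z^R⟩`, `fxr U = C_H(U)`;
* `Rel p R U` : for `T` a Sylow 2-subgroup of `R`, `z ∈ C_U(T)`, `Q` a normal 2-subgroup of `C_R(z)`, `A ≤ Q` elementary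
  abelian (and normalised by `T` if `p` holds) `|A : C_A(W)| ≤ |W : C_W(A)|` for `W = ⟨z^R⟩`;
* `MLS p H M = Rel p ⊤ ⊤`, the statement (ML), "no over-offender in `O₂(C_H(z))`"; `p = False`: `A` arbitrary,
  `p = True`: `A` normalised by `T`;  `rel_of` : transfer to subgroups, submodules and quotients;
* `Ind K p n m` : (ML) holds for all smaller groups and modules, `K` a class of groups closed under sections;
* `Fr K p H M T Q A z` : the frame of a minimal counterexample, `A` strict;  `exists_fr` : it exists.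
-/

set_option autoImplicit false

namespace Cfsg.Agent.Omega.ML.MinFrame

open Subgroup Cfsg Cfsg.Agent.ClassTwoFusion.Quad Cfsg.Agent.Omega.NOThree.NoOver Cfsg.Agent.Omega.ML.CD
open Cfsg.Agent.ZN

universe u v

section Basic

variable {H : Type u} [Group H] {M : Type v} [Group M] [MulDistribMulAction H M]

/-- `⟨z^R⟩` -/
def orb (R : Subgroup H) (z : M) : Subgroup M := closure {m | ∃ g ∈ R, m = g • z}

/-- `C_H(U)` -/
def fxr (H : Type u) [Group H] {M : Type v} [Group M] [MulDistribMulAction H M] (U : Subgroup M) : Subgroup H where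
  carrier := {x | ∀ m ∈ U, x • m = m}
  one_mem' := fun m _ => one_smul _ m
  mul_mem' := fun {x y} hx hy m hm => by rw [mul_smul, hy m hm, hx m hm]
  inv_mem' := fun {x} hx m hm => by rw [inv_smul_eq_iff, hx m hm]

theorem mem_fxr {U : Subgroup M} {x : H} : x ∈ fxr H U ↔ ∀ m ∈ U, x • m = m := Iff.rfl

theorem smul_mem_orb_self {R : Subgroup H} {z : M} {g : H} (hg : g ∈ R) : g • z ∈ orb R z :=
  subset_closure ⟨g, hg, rfl⟩

theorem mem_orb_self (R : Subgroup H) (z : M) : z ∈ orb R z := by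
  have := smul_mem_orb_self (z := z) R.one_mem
  rwa [one_smul] at this

theorem smul_mem_orb {R : Subgroup H} {z : M} {g : H} (hg : g ∈ R) {m : M} (hm : m ∈ orb R z) : g • m ∈ orb R z := by
  have h1 : orb R z ≤ (orb R z).comap (MulDistribMulAction.toMonoidHom M g) := by
    rw [orb, closure_le]
    rintro _ ⟨k, hk, rfl⟩
    refine subset_closure ⟨g * k, mul_mem hg hk, ?_⟩
    exact (mul_smul _ _ _).symm
  exact h1 hm

theorem orb_le {R : Subgroup H} {z : M} {U : Subgroup M} (h : ∀ g ∈ R, g • z ∈ U) : orb R z ≤ U := by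
  rw [orb, closure_le]
  rintro _ ⟨g, hg, rfl⟩
  exact h g hg

theorem mem_fxr_orb {R : Subgroup H} {z : M} {x : H} : x ∈ fxr H (orb R z) ↔ ∀ g ∈ R, x • g • z = g • z := by
  constructor
  · intro h g hg
    exact h _ (smul_mem_orb_self hg)
  · intro h
    have h1 : orb R z ≤ cv M ({x} : Set H) := orb_le fun g hg => mem_cv_singleton.2 (h g hg)
    exact fun m hm => mem_cv_singleton.1 (h1 hm)

/-- `R` normalises `C_H(U)` for `R`-invariant `U` -/
theorem conj_mem_fxr {R : Subgroup H} {U : Subgroup M} (hU : ∀ g ∈ R, ∀ m ∈ U, g • m ∈ U) {g x : H} (hg : g ∈ R)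
    (hx : x ∈ fxr H U) : g * x * g⁻¹ ∈ fxr H U := by
  intro m hm
  rw [mul_smul, mul_smul, hx _ (hU _ (inv_mem hg) m hm), smul_inv_smul]

theorem cv_inf_eq_iff {A : Subgroup H} {U : Subgroup M} : U ≤ cv M (A : Set H) ↔ A ≤ fxr H U :=
  ⟨fun h a ha _ hm => h hm a ha, fun h m hm _ ha => h ha m hm⟩

/-- the relative form of (ML) -/
def Rel (p : Prop) (R : Subgroup H) (U : Subgroup M) : Prop :=
  ∀ (T Q A : Subgroup H) (z : M), z ∈ U → IsPGroup 2 T → T ≤ R → ¬ 2 ∣ T.relIndex R → (∀ t ∈ T, t • z = z) →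
    IsPGroup 2 Q → Q ≤ R → (∀ q ∈ Q, q • z = z) → (∀ g ∈ R, g • z = z → ∀ q ∈ Q, g * q * g⁻¹ ∈ Q) → A ≤ Q →
    (∀ a ∈ A, a * a = 1) → (p → ∀ t ∈ T, ∀ a ∈ A, t * a * t⁻¹ ∈ A) →
    (fxr H (orb R z)).relIndex A ≤ (cv M (A : Set H)).relIndex (orb R z)

/-- (ML) for `(H, M)` -/
def MLS (p : Prop) (H : Type u) [Group H] (M : Type v) [Group M] [MulDistribMulAction H M] : Prop :=
  Rel p (⊤ : Subgroup H) (⊤ : Subgroup M)

/-- **Transfer** -/
theorem rel_of {p : Prop} {R : Subgroup H} {U : Subgroup M} {H' : Type*} [Group H'] {M' : Type*} [Group M']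
    [MulDistribMulAction H' M'] (π : R →* H') (hπ : Function.Surjective π) (e : M' →* M)
    (he : Function.Injective e) (hU : ∀ m ∈ U, ∃ m', e m' = m)
    (heq : ∀ (r : R) (m' : M'), e (π r • m') = (r : H) • e m') (h : MLS p H' M') : Rel p R U := by
  intro T Q A z hzU hT hTR hTi hTz hQ hQR hQz hQn hAQ hA2 hAn
  obtain ⟨z', rfl⟩ := hU z hzU
  have hAR : A ≤ R := hAQ.trans hQR
  have hsm : ∀ (r : H) (hr : r ∈ R) (m' : M'), e (π ⟨r, hr⟩ • m') = r • e m' := fun r hr m' => heq ⟨r, hr⟩ m'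
  have himg : ∀ (B : Subgroup H) (hB : B ≤ R) (b' : H'), b' ∈ (B.subgroupOf R).map π →
      ∃ b, ∃ hb : b ∈ B, π ⟨b, hB hb⟩ = b' := by
    rintro B hB _ ⟨b, hb, rfl⟩
    exact ⟨b, hb, rfl⟩
  have hmem : ∀ (B : Subgroup H) (b : H) (hb : b ∈ B) (hbR : b ∈ R), π ⟨b, hbR⟩ ∈ (B.subgroupOf R).map π :=
    fun B b hb hbR => ⟨⟨b, hbR⟩, hb, rfl⟩
  have key := h ((T.subgroupOf R).map π) ((Q.subgroupOf R).map π) ((A.subgroupOf R).map π) z' (mem_top _)
    (hT.comap_subtype.map π) le_top (by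
      rw [relIndex_top_right]
      intro h2
      apply hTi
      have h3 : ((T.subgroupOf R).map π).index ∣ (T.subgroupOf R).index := index_map_dvd _ hπ
      exact h2.trans h3) (by
      intro t' ht'
      obtain ⟨t, ht, rfl⟩ := himg T hTR t' ht'
      exact he (by rw [hsm, hTz t ht])) (hQ.comap_subtype.map π) le_top (by
      intro q' hq'
      obtain ⟨q, hq, rfl⟩ := himg Q hQR q' hq'
      exact he (by rw [hsm, hQz q hq])) (by
      intro g' _ hg' q' hq'
      obtain ⟨⟨g, hg⟩, rfl⟩ := hπ g'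
      obtain ⟨q, hq, rfl⟩ := himg Q hQR q' hq'
      have h1 : g • e z' = e z' := by rw [← hsm g hg, hg']
      have h2 := hmem Q _ (hQn g hg h1 q hq) (hQR (hQn g hg h1 q hq))
      have h3 : (⟨g * q * g⁻¹, hQR (hQn g hg h1 q hq)⟩ : R) = ⟨g, hg⟩ * ⟨q, hQR hq⟩ * ⟨g, hg⟩⁻¹ := rfl
      rwa [h3, map_mul, map_mul, map_inv] at h2)
    (by
      rintro a' ⟨a, ha, rfl⟩
      exact ⟨a, hAQ ha, rfl⟩) (by
      intro a' ha'
      obtain ⟨a, ha, rfl⟩ := himg A hAR a' ha'
      rw [← map_mul]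
      have h1 : (⟨a, hAR ha⟩ : R) * ⟨a, hAR ha⟩ = 1 := Subtype.ext (hA2 a ha)
      rw [h1, map_one]) (by
      intro hp t' ht' a' ha'
      obtain ⟨t, ht, rfl⟩ := himg T hTR t' ht'
      obtain ⟨a, ha, rfl⟩ := himg A hAR a' ha'
      have h2 := hmem A _ (hAn hp t ht a ha) (hAR (hAn hp t ht a ha))
      have h3 : (⟨t * a * t⁻¹, hAR (hAn hp t ht a ha)⟩ : R) = ⟨t, hTR ht⟩ * ⟨a, hAR ha⟩ * ⟨t, hTR ht⟩⁻¹ := rfl
      rwa [h3, map_mul, map_mul, map_inv] at h2)
  have horb : (orb (⊤ : Subgroup H') z').map e = orb R (e z') := by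
    apply le_antisymm
    · rw [map_le_iff_le_comap]
      refine orb_le fun g' _ => ?_
      obtain ⟨⟨g, hg⟩, rfl⟩ := hπ g'
      rw [mem_comap, hsm]
      exact smul_mem_orb_self hg
    · refine orb_le fun g hg => ⟨π ⟨g, hg⟩ • z', smul_mem_orb_self (mem_top _), hsm g hg z'⟩
  have hcv : (cv M (A : Set H)).comap e = cv M' (((A.subgroupOf R).map π : Subgroup H') : Set H') := by
    ext m'
    rw [mem_comap]
    constructor
    · intro h1 a' ha'
      obtain ⟨a, ha, rfl⟩ := himg A hAR a' ha'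
      exact he (by rw [hsm, h1 a ha])
    · intro h1 a ha
      rw [← hsm a (hAR ha), h1 _ (hmem A a ha (hAR ha))]
  have hfx : (fxr H' (orb (⊤ : Subgroup H') z')).comap π = (fxr H (orb R (e z'))).subgroupOf R := by
    ext ⟨x, hx⟩
    rw [mem_comap, mem_subgroupOf, mem_fxr_orb, mem_fxr_orb]
    constructor
    · intro h1 g hg
      change x • g • e z' = g • e z'
      rw [← hsm g hg, ← hsm x hx, h1 _ (mem_top _)]
    · intro h1 g' _
      obtain ⟨⟨g, hg⟩, rfl⟩ := hπ g'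
      refine he ?_
      rw [hsm, hsm]
      exact h1 g hg
  have e1 : (fxr H (orb R (e z'))).relIndex A =
      (fxr H' (orb (⊤ : Subgroup H') z')).relIndex ((A.subgroupOf R).map π) := by
    rw [← relIndex_comap, hfx, relIndex_subgroupOf hAR]
  have e2 : (cv M (A : Set H)).relIndex (orb R (e z')) =
      (cv M' (((A.subgroupOf R).map π : Subgroup H') : Set H')).relIndex (orb (⊤ : Subgroup H') z') := by
    rw [← hcv, relIndex_comap, horb]
  rw [e1, e2]
  exact key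

/-- to subgroups -/
theorem rel_subgroup {p : Prop} (R : Subgroup H) (h : MLS p R M) : Rel (M := M) p R ⊤ :=
  rel_of (MonoidHom.id R) (fun x => ⟨x, rfl⟩) (MonoidHom.id M) (fun _ _ h => h) (fun m _ => ⟨m, rfl⟩)
    (fun _ _ => rfl) h

/-- the action on an invariant subgroup -/
@[reducible] def subAct (U : Subgroup M) (hU : ∀ g : H, ∀ u ∈ U, g • u ∈ U) : MulDistribMulAction H U where
  smul g u := ⟨g • (u : M), hU g u u.2⟩
  one_smul u := Subtype.ext (one_smul H (u : M))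
  mul_smul g k u := Subtype.ext (mul_smul g k (u : M))
  smul_mul g u w := Subtype.ext (smul_mul' g (u : M) (w : M))
  smul_one g := Subtype.ext (smul_one g)

/-- to submodules -/
theorem rel_sub {p : Prop} (U : Subgroup M) (hU : ∀ g : H, ∀ u ∈ U, g • u ∈ U)
    (h : letI := subAct U hU; MLS p H U) : Rel (M := M) p (⊤ : Subgroup H) U := by
  let _ := subAct U hU
  exact rel_of (H' := H) (M' := U) (⊤ : Subgroup H).subtype (fun x => ⟨⟨x, mem_top x⟩, rfl⟩) U.subtype
    U.subtype_injective (fun m hm => ⟨⟨m, hm⟩, rfl⟩) (fun _ _ => rfl) h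

/-- the action of the quotient by a normal subgroup acting trivially -/
@[reducible] def quoAct (N : Subgroup H) [N.Normal] (hN : ∀ x ∈ N, ∀ m : M, x • m = m) : MulDistribMulAction (H ⧸ N) M :=
  MulDistribMulAction.compHom M (QuotientGroup.lift N (MulDistribMulAction.toMulAut H M)
    (fun x hx => MulEquiv.ext fun m => hN x hx m))

/-- to quotients -/
theorem rel_quo {p : Prop} (N : Subgroup H) [N.Normal] (hN : ∀ x ∈ N, ∀ m : M, x • m = m)
    (h : letI := quoAct N hN; MLS p (H ⧸ N) M) : MLS p H M := by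
  let _ := quoAct N hN
  exact rel_of (H' := H ⧸ N) (M' := M) ((QuotientGroup.mk' N).comp (⊤ : Subgroup H).subtype)
    (fun x => by
      obtain ⟨y, rfl⟩ := QuotientGroup.mk'_surjective N x
      exact ⟨⟨y, mem_top y⟩, rfl⟩) (MonoidHom.id M) (fun _ _ h => h) (fun m _ => ⟨m, rfl⟩) (fun _ _ => rfl) h

end Basic

/-! ### The minimal counterexample -/

/-- (ML) for all smaller groups and modules -/
def Ind (K : Frame.Cls.{u}) (p : Prop) (n m : ℕ) : Prop :=
  ∀ (H : Type u) [Group H] [Finite H] (M : Type v) [Group M] [Finite M] [MulDistribMulAction H M], K H →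
    (∀ x : M, x * x = 1) → (Nat.card H < n ∨ Nat.card H = n ∧ Nat.card M < m) → MLS p H M

/-- a class of groups closed under sections -/
structure Sec (K : Frame.Cls.{u}) : Prop where
  sub : ∀ (G : Type u) [Group G] [Finite G], K G → ∀ R : Subgroup G, K R
  quo : ∀ (G : Type u) [Group G] [Finite G], K G → ∀ (N : Subgroup G) [N.Normal], K (G ⧸ N)

/-- **The frame of a minimal counterexample**: `T` a Sylow 2-subgroup, `z` fixed by `T`, `Q` a normal 2-subgroup of
`C_H(z)`, `1 ≠ A ≤ Q` elementary abelian and strict. -/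
structure Fr (K : Frame.Cls.{u}) (p : Prop) (H : Type u) [Group H] (M : Type v) [Group M] [MulDistribMulAction H M]
    (T Q A : Subgroup H) (z : M) : Prop where
  ind : Ind.{u, v} K p (Nat.card H) (Nat.card M)
  sec : Sec K
  KH : K H
  sq : ∀ m : M, m * m = 1
  two : IsPGroup 2 T
  odd : ¬ 2 ∣ T.index
  fixT : ∀ t ∈ T, t • z = z
  Q2 : IsPGroup 2 Q
  fixQ : ∀ q ∈ Q, q • z = z
  nrmQ : ∀ g : H, g • z = z → ∀ q ∈ Q, g * q * g⁻¹ ∈ Q
  AQ : A ≤ Q
  Asq : ∀ a ∈ A, a * a = 1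
  nrmA : p → ∀ t ∈ T, ∀ a ∈ A, t * a * t⁻¹ ∈ A
  strict : Strict (fab M 1 1) A
  ne : A ≠ ⊥
  faithful : ∀ x : H, (∀ m : M, x • m = m) → x = 1
  gen : orb (⊤ : Subgroup H) z = ⊤

section exists_fr

variable {K : Frame.Cls.{u}} {p : Prop} {H : Type u} [Group H] [Finite H] {M : Type v} [Group M] [Finite M]
  [MulDistribMulAction H M]

omit [Finite H] [Finite M] in
theorem fxr_normal {U : Subgroup M} (hU : ∀ g : H, ∀ u ∈ U, g • u ∈ U) : (fxr H U).Normal :=
  ⟨fun _ hx g => conj_mem_fxr (R := ⊤) (fun g _ => hU g) (mem_top g) hx⟩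

theorem exists_fr (sec : Sec K) (hK : K H) (sq : ∀ m : M, m * m = 1)
    (ind : Ind.{u, v} K p (Nat.card H) (Nat.card M)) (h : ¬ MLS p H M) :
    ∃ (T Q A : Subgroup H) (z : M), Fr K p H M T Q A z := by
  -- the action is faithful
  have hfaith : fxr H (⊤ : Subgroup M) = ⊥ := by
    by_contra hne
    apply h
    have hnor : (fxr H (⊤ : Subgroup M)).Normal := fxr_normal fun _ _ _ => mem_top _
    have htriv : ∀ x ∈ fxr H (⊤ : Subgroup M), ∀ m : M, x • m = m := fun x hx m => hx m (mem_top m)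
    let _ := quoAct (fxr H (⊤ : Subgroup M)) htriv
    refine rel_quo (fxr H (⊤ : Subgroup M)) htriv (ind (H ⧸ fxr H (⊤ : Subgroup M)) M
      (sec.quo H hK _) sq (Or.inl ?_))
    have h1 := Subgroup.card_mul_index (fxr H (⊤ : Subgroup M))
    have h2 : 1 < Nat.card (fxr H (⊤ : Subgroup M)) := (Subgroup.one_lt_card_iff_ne_bot _).2 hne
    have h3 : 0 < (fxr H (⊤ : Subgroup M)).index := Nat.pos_of_ne_zero (index_ne_zero_of_finite)
    have h4 : (fxr H (⊤ : Subgroup M)).index = Nat.card (H ⧸ fxr H (⊤ : Subgroup M)) := rfl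
    rw [← h4, ← h1]
    nlinarith
  unfold MLS Rel at h
  push Not at h
  obtain ⟨T, Q, A, z, -, hT, -, hTi, hTz, hQ, -, hQz, hQn, hAQ, hA2, hAn, hlt⟩ := h
  rw [relIndex_top_right] at hTi
  -- `M` is generated by the orbit
  have hgen : orb (⊤ : Subgroup H) z = ⊤ := by
    by_contra hne
    have hinv : ∀ g : H, ∀ u ∈ orb (⊤ : Subgroup H) z, g • u ∈ orb (⊤ : Subgroup H) z :=
      fun g u hu => smul_mem_orb (mem_top g) hu
    let _ := subAct (orb (⊤ : Subgroup H) z) hinv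
    have hlt' : Nat.card (orb (⊤ : Subgroup H) z) < Nat.card M := by
      have h1 : orb (⊤ : Subgroup H) z < ⊤ := lt_top_iff_ne_top.2 hne
      have h2 := Set.ncard_lt_ncard (SetLike.coe_ssubset_coe.2 h1) (Set.toFinite _)
      rwa [coe_top, Set.ncard_univ, ← Nat.card_coe_set_eq] at h2
    have h2 := rel_sub (orb (⊤ : Subgroup H) z) hinv (ind H (orb (⊤ : Subgroup H) z) hK
      (fun x => Subtype.ext (sq x)) (Or.inr ⟨rfl, hlt'⟩))
    have h3 := h2 T Q A z (mem_orb_self _ z) hT le_top (by rwa [relIndex_top_right]) hTz hQ le_top hQz hQn hAQ hA2 hAn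
    exact absurd hlt (not_lt.2 h3)
  rw [hgen, hfaith, relIndex_bot_left, relIndex_top_right] at hlt
  have hov : fab M 1 1 (⊥ : Subgroup H) < fab M 1 1 A := by
    rw [fab_lt_iff bot_le, pow_one, pow_one, relIndex_bot_left, cv_bot, relIndex_top_right]
    exact hlt
  have hLS := ls_fab (H := H) M 1 1
  refine ⟨T, Q, lo (fab M 1 1) A, z, ind, sec, hK, sq, hT, hTi, hTz, hQ, hQz, fun g hg => hQn g (mem_top g) hg,
    (hLS.lo_le_self A).trans hAQ, fun a ha => hA2 a (hLS.lo_le_self A ha), ?_, hLS.strict_lo A, ?_, ?_, hgen⟩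
  · intro hp t ht a ha
    have h1 : t ∈ normalizer (A : Set H) := by
      rw [Subgroup.mem_normalizer_iff_map_conj_eq]
      refine eq_of_le_of_card_ge ?_
        (Nat.card_congr (A.equivMapOfInjective _ (MulAut.conj t).injective).toEquiv).le
      rintro _ ⟨b, hb, rfl⟩
      exact hAn hp t ht b hb
    exact (mem_normalizer_iff.1 (hLS.normalizer_le_lo A h1) a).1 ha
  · intro h1
    have h2 := hLS.le_lo A A le_rfl
    rw [h1] at h2
    exact absurd hov (not_lt.2 h2)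
  · intro x hx
    have h1 : x ∈ fxr H (⊤ : Subgroup M) := fun m _ => hx m
    rw [hfaith] at h1
    exact mem_bot.1 h1

end exists_fr

end Cfsg.Agent.Omega.ML.MinFrame

end

section


/-!
# (ML): first properties of a minimal counterexample (#15719 (1), (2), #16000 (1)); K-free

For `h : Fr K p H M T Q A z` (`MinFrame.lean`):

* `Fr.red` : strict `B ≤ O₂(C_R(z'))`, `R < H`, `z'` fixed by a Sylow 2-subgroup of `R`: `B` centralises `⟨z'^R⟩`;
  `Fr.red_o2` : `B ≤ O₂(R)`;  `Fr.le_o2` : `A ≤ O₂(R)` for all `T ≤ R < H`;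
* `Fr.o2_eq_bot`, `Fr.eq_top_of_normal` : `O₂(H) = 1`, `H = ⟨A^H⟩`;
* `Fr.irred` : `M` is irreducible;  `Fr.fix_eq` : `C_M(H) = 1`;  `Fr.point` : every `T`-fixed `z' ≠ 1` gives a frame;
* `quad` : strict abelian subgroups are quadratic;  `Fr.cv_le_of_hyp` : `C_M(B) = C_M(A)` for the hyperplanes `B`;
* `axb` : the `A x B`-lemma;  `Fr.odd_comm` : `A` centralises every subgroup of odd order which it normalises.
-/

set_option autoImplicit false

namespace Cfsg.Agent.Omega.ML.MinFrame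

open Subgroup Cfsg Cfsg.Agent.ClassTwoFusion.Quad Cfsg.Agent.Omega.NOThree.NoOver Cfsg.Agent.Omega.ML.CD
open Cfsg.Agent.ZN Cfsg.Agent.MinSimple.VModule

universe u v

/-! ### General facts -/

theorem le_normalizer_of {G : Type*} [Group G] {R N : Subgroup G} (h : ∀ g ∈ R, ∀ x ∈ N, g * x * g⁻¹ ∈ N) :
    R ≤ normalizer (N : Set G) := by
  intro g hg
  rw [mem_normalizer_iff]
  intro x
  refine ⟨h g hg x, fun hx => ?_⟩
  have h1 := h g⁻¹ (inv_mem hg) _ hx
  have e : g⁻¹ * (g * x * g⁻¹) * g⁻¹⁻¹ = x := by group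
  rwa [e] at h1

theorem conj_mem_of_le {G : Type*} [Group G] {R N : Subgroup G} (h : R ≤ normalizer (N : Set G)) {g x : G}
    (hg : g ∈ R) (hx : x ∈ N) : g * x * g⁻¹ ∈ N := (mem_normalizer_iff.1 (h hg) x).1 hx

/-- `O₂` of a normal subgroup -/
theorem o2_le_o2 {G : Type*} [Group G] {R N : Subgroup G} (hN : N ≤ R) (hn : ∀ g ∈ R, ∀ x ∈ N, g * x * g⁻¹ ∈ N) :
    o2 N ≤ o2 R := by
  refine le_o2 ((o2_le N).trans hN) (o2_isPGroup N) (le_normalizer_of fun h hh x hx => ?_)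
  have hc : (o2 N).map (MulAut.conj h).toMonoidHom ≤ o2 N := by
    apply le_o2
    · rintro _ ⟨y, hy, rfl⟩
      exact hn h hh y (o2_le N hy)
    · exact (o2_isPGroup N).map _
    · refine le_normalizer_of fun y hy z hz => ?_
      obtain ⟨w, hw, rfl⟩ := hz
      have h1 : h⁻¹ * y * h ∈ N := by
        have := hn h⁻¹ (inv_mem hh) y hy
        rwa [inv_inv] at this
      refine ⟨(h⁻¹ * y * h) * w * (h⁻¹ * y * h)⁻¹, conj_mem_of_le (le_normalizer_o2 N) h1 hw, ?_⟩
      change h * ((h⁻¹ * y * h) * w * (h⁻¹ * y * h)⁻¹) * h⁻¹ = y * (h * w * h⁻¹) * y⁻¹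
      group
  exact hc ⟨x, hx, rfl⟩

section Mod

variable {H : Type*} [Group H] {M : Type*} [Group M] [MulDistribMulAction H M]

theorem comm_of_sq (sq : ∀ m : M, m * m = 1) (x y : M) : x * y = y * x := by
  have h1 : ∀ m : M, m⁻¹ = m := fun m => inv_eq_of_mul_eq_one_right (sq m)
  calc x * y = (x * y)⁻¹ := (h1 _).symm
    _ = y⁻¹ * x⁻¹ := mul_inv_rev x y
    _ = y * x := by rw [h1, h1]

/-- **Strict abelian subgroups are quadratic** (Timmesfeld). -/
theorem quad [Finite H] [Finite M] (sq : ∀ m : M, m * m = 1) {A : Subgroup H} (hA : Strict (fab M 1 1) A)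
    (hab : ∀ a ∈ A, ∀ b ∈ A, a * b = b * a) {a b : H} (ha : a ∈ A) (hb : b ∈ A) (m : M) :
    b • (a • m * m) = a • m * m := by
  have hM := comm_of_sq sq
  -- `B = C_A([m, A])`
  let B : Subgroup H := A ⊓ fxr H (closure {x : M | ∃ a ∈ A, x = a • m * m})
  have hmB : ∀ {b : H}, b ∈ B ↔ b ∈ A ∧ ∀ a ∈ A, b • (a • m * m) = a • m * m := by
    intro b
    constructor
    · rintro ⟨h1, h2⟩
      exact ⟨h1, fun a ha => h2 _ (subset_closure ⟨a, ha, rfl⟩)⟩
    · rintro ⟨h1, h2⟩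
      refine ⟨h1, fun x hx => ?_⟩
      have h3 : closure {x : M | ∃ a ∈ A, x = a • m * m} ≤ cv M ({b} : Set H) := by
        rw [closure_le]
        rintro _ ⟨a, ha, rfl⟩
        exact mem_cv_singleton.2 (h2 a ha)
      exact mem_cv_singleton.1 (h3 hx)
  -- symmetry
  have hsym : ∀ a ∈ A, ∀ b ∈ A, (b • (a • m * m) = a • m * m ↔ a • (b • m * m) = b • m * m) := by
    intro a ha b hb
    rw [smul_mul', smul_mul', ← mul_smul, ← mul_smul, hab b hb a ha]
    constructor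
    · intro h1
      have h2 : (a * b) • m = a • m * m * (b • m)⁻¹ := by rw [← h1]; group
      have h3 : (b • m)⁻¹ = b • m := inv_eq_of_mul_eq_one_right (sq _)
      rw [h2, h3, mul_assoc (a • m * m), hM (b • m) (a • m), ← mul_assoc, mul_assoc (a • m) m (a • m),
        hM m (a • m), ← mul_assoc, sq, one_mul, hM]
    · intro h1
      have h2 : (a * b) • m = b • m * m * (a • m)⁻¹ := by rw [← h1]; group
      have h3 : (a • m)⁻¹ = a • m := inv_eq_of_mul_eq_one_right (sq _)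
      rw [h2, h3, mul_assoc (b • m * m), hM (a • m) (b • m), ← mul_assoc, mul_assoc (b • m) m (b • m),
        hM m (b • m), ← mul_assoc, sq, one_mul, hM]
  suffices hB : B = A by
    have h1 : b ∈ B := hB.ge hb
    exact (hmB.1 h1).2 a ha
  by_contra hne
  have hlt : B < A := lt_of_le_of_ne inf_le_left hne
  have h1 := hA B hlt
  rw [fab_lt_iff hlt.le, pow_one, pow_one] at h1
  -- the injection `A / B → C_M(B) / C_M(A)`
  have hinv : ∀ x : M, x⁻¹ = x := fun x => inv_eq_of_mul_eq_one_right (sq x)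
  have hcB : ∀ a ∈ A, a • m * m ∈ cv M (B : Set H) := fun a ha b hb => (hmB.1 hb).2 a ha
  let φ : A → cv M (B : Set H) := fun a => ⟨(a : H) • m * m, hcB a a.2⟩
  have key : ∀ a b : A, ((φ a)⁻¹ * φ b ∈ (cv M (A : Set H)).subgroupOf (cv M (B : Set H))) ↔
      (a⁻¹ * b ∈ B.subgroupOf A) := by
    intro a b
    rw [mem_subgroupOf, mem_subgroupOf]
    change ((a : H) • m * m)⁻¹ * ((b : H) • m * m) ∈ cv M (A : Set H) ↔ (a : H)⁻¹ * (b : H) ∈ B
    have e1 : ((a : H) • m * m)⁻¹ * ((b : H) • m * m) = (a : H) • ((((a : H)⁻¹ * (b : H)) • m) * m) := by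
      rw [hinv, smul_mul', ← mul_smul, mul_inv_cancel_left, mul_assoc, hM ((b : H) • m) m, ← mul_assoc m m, sq,
        one_mul, hM]
    rw [e1, hmB]
    have hc : (a : H)⁻¹ * (b : H) ∈ A := mul_mem (inv_mem a.2) b.2
    constructor
    · intro h2
      refine ⟨hc, fun c hcA => ?_⟩
      rw [hsym c hcA _ hc]
      have h3 := h2 c hcA
      rw [← mul_smul, hab c hcA a a.2, mul_smul] at h3
      exact smul_left_cancel _ h3
    · rintro ⟨-, h2⟩ c hcA
      rw [← mul_smul, hab c hcA a a.2, mul_smul]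
      congr 1
      exact (hsym c hcA _ hc).1 (h2 c hcA)
  have hle : B.relIndex A ≤ (cv M (A : Set H)).relIndex (cv M (B : Set H)) := by
    let ψ : A ⧸ B.subgroupOf A → cv M (B : Set H) ⧸ (cv M (A : Set H)).subgroupOf (cv M (B : Set H)) :=
      Quotient.map' φ (by
        intro a b hab
        rw [QuotientGroup.leftRel_apply] at hab ⊢
        exact (key a b).2 hab)
    refine Nat.card_le_card_of_injective ψ ?_
    intro x y
    induction x using Quotient.inductionOn' with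
    | h a =>
      induction y using Quotient.inductionOn' with
      | h b =>
        intro h2
        have h3 : (Quotient.mk'' (φ a) : cv M (B : Set H) ⧸ (cv M (A : Set H)).subgroupOf (cv M (B : Set H))) =
          Quotient.mk'' (φ b) := h2
        apply Quotient.sound'
        rw [QuotientGroup.leftRel_apply, ← key]
        exact QuotientGroup.leftRel_apply.1 (Quotient.exact' h3)
  omega

/-- hyperplanes of strict subgroups have the same centraliser -/
theorem cv_le_of_hyp [Finite H] [Finite M] {A B : Subgroup H} (hA : Strict (fab M 1 1) A) (hB : B ≤ A)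
    (h2 : B.relIndex A = 2) : cv M (B : Set H) ≤ cv M (A : Set H) := by
  have hlt : B < A := lt_of_le_of_ne hB fun h => by rw [h, relIndex_self] at h2; omega
  have h1 := hA B hlt
  rw [fab_lt_iff hB, pow_one, pow_one, h2] at h1
  have h3 : (cv M (A : Set H)).relIndex (cv M (B : Set H)) ≠ 0 := relIndex_ne _ _
  exact relIndex_eq_one.1 (by omega)

/-- **The `A x B`-lemma**: `B` a 2-group, `e` of odd order commuting with `B` and centralising `C_M(B)`. -/
theorem axb [Finite M] (sq : ∀ m : M, m * m = 1) {B : Subgroup H} (hB : IsPGroup 2 B) {e : H} {n : ℕ}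
    (hn : Odd n) (he : e ^ n = 1) (hcom : ∀ b ∈ B, b * e = e * b) (hc : ∀ m ∈ cv M (B : Set H), e • m = m) (m : M) :
    e • m = m := by
  classical
  have hM := comm_of_sq sq
  let _ : CommGroup M := { (inferInstance : Group M) with mul_comm := hM }
  -- the norm
  let N : M → M := fun m => ∏ i ∈ Finset.range n, e ^ i • m
  have hN1 : ∀ x y, N (x * y) = N x * N y := by
    intro x y
    change ∏ i ∈ Finset.range n, e ^ i • (x * y) = _
    rw [← Finset.prod_mul_distrib]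
    exact Finset.prod_congr rfl fun i _ => smul_mul' _ _ _
  have hN2 : ∀ x, N (e • x) = N x := by
    intro x
    obtain ⟨k, rfl⟩ := hn
    change ∏ i ∈ Finset.range (2 * k + 1), e ^ i • e • x = ∏ i ∈ Finset.range (2 * k + 1), e ^ i • x
    have h1 : ∀ i, e ^ i • e • x = e ^ (i + 1) • x := fun i => by rw [← mul_smul, ← pow_succ]
    rw [Finset.prod_congr rfl fun i _ => h1 i, Finset.prod_range_succ, Finset.prod_range_succ', he, pow_zero]
  have hN3 : ∀ b ∈ B, ∀ x, N (b • x) = b • N x := by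
    intro b hb x
    have h1 : ∀ i, e ^ i • b • x = b • e ^ i • x := by
      intro i
      rw [← mul_smul, ← mul_smul]
      have h2 : Commute b e := hcom b hb
      rw [(h2.pow_right i).eq]
    change ∏ i ∈ Finset.range n, e ^ i • b • x = b • ∏ i ∈ Finset.range n, e ^ i • x
    rw [Finset.prod_congr rfl fun i _ => h1 i]
    have h3 := map_prod (MulDistribMulAction.toMonoidHom M b) (fun i => e ^ i • x) (Finset.range n)
    exact h3.symm
  have hN4 : ∀ x, e • x = x → N x = x := by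
    intro x hx
    have h1 : ∀ i, e ^ i • x = x := by
      intro i
      induction i with
      | zero => rw [pow_zero, one_smul]
      | succ i ih => rw [pow_succ, mul_smul, hx, ih]
    change ∏ i ∈ Finset.range n, e ^ i • x = x
    rw [Finset.prod_congr rfl fun i _ => h1 i, Finset.prod_const, Finset.card_range]
    obtain ⟨k, rfl⟩ := hn
    rw [pow_succ, pow_mul, pow_two, sq, one_pow, one_mul]
  -- the kernel of the norm
  let W : Subgroup M :=
    { carrier := {x | N x = 1}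
      one_mem' := by
        have h1 := hN1 1 1
        rw [mul_one] at h1
        exact mul_eq_left.1 h1.symm
      mul_mem' := fun {x y} hx hy => by
        change N (x * y) = 1
        rw [hN1, show N x = 1 from hx, show N y = 1 from hy, mul_one]
      inv_mem' := fun {x} hx => by
        have h1 : x⁻¹ = x := inv_eq_of_mul_eq_one_right (sq x)
        rw [h1]
        exact hx }
  have hW : ∀ x, x ∈ W ↔ N x = 1 := fun _ => Iff.rfl
  -- it is trivial
  have hWb : W = ⊥ := by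
    by_contra hne
    have hWB : ∀ b : B, ∀ x ∈ W, (b : H) • x ∈ W := fun b x hx => by
      rw [hW, hN3 b b.2, (hW x).1 hx, smul_one]
    let _ : MulAction B W :=
      { smul := fun b x => ⟨(b : H) • (x : M), hWB b x x.2⟩
        one_smul := fun x => Subtype.ext (one_smul H (x : M))
        mul_smul := fun b c x => Subtype.ext (mul_smul (b : H) (c : H) (x : M)) }
    have hcard : 2 ∣ Nat.card W := by
      have h1 : IsPGroup 2 W := fun x => ⟨1, by
        rw [pow_one, pow_two]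
        exact Subtype.ext (sq x)⟩
      have : Nontrivial W := (Subgroup.nontrivial_iff_ne_bot _).2 hne
      obtain ⟨k, hk⟩ := IsPGroup.iff_card.1 h1
      rw [hk]
      refine dvd_pow_self 2 ?_
      rintro rfl
      have h2 : 1 < Nat.card W := Finite.one_lt_card
      rw [hk, pow_zero] at h2
      omega
    have : Fact (Nat.Prime 2) := ⟨Nat.prime_two⟩
    obtain ⟨b, hb1, hb2⟩ := hB.exists_fixed_point_of_prime_dvd_card_of_fixed_point (α := W) hcard (a := 1)
      (fun b => Subtype.ext (smul_one (b : H)))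
    have h3 : (b : M) ∈ cv M (B : Set H) := fun c hcB => congrArg Subtype.val (hb1 ⟨c, hcB⟩)
    have h4 := hN4 b (hc b h3)
    rw [(hW b).1 b.2] at h4
    exact hb2 (Subtype.ext h4)
  have h5 : (e • m) * m⁻¹ ∈ W := by
    rw [hW, hN1, hN2]
    have h6 : m⁻¹ = m := inv_eq_of_mul_eq_one_right (sq m)
    rw [h6, sq]
  rw [hWb, mem_bot] at h5
  exact mul_inv_eq_one.1 h5

end Mod

/-! ### The frame -/

namespace Fr

variable {K : Frame.Cls.{u}} {p : Prop} {H : Type u} [Group H] [Finite H] {M : Type v} [Group M] [Finite M]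
  [MulDistribMulAction H M] {T Q A : Subgroup H} {z : M}

omit [Finite H] [Finite M] in
theorem A_le_T_stab (h : Fr K p H M T Q A z) {a : H} (ha : a ∈ A) : a • z = z := h.fixQ a (h.AQ ha)

theorem card_lt {R : Subgroup H} (hR : R ≠ ⊤) : Nat.card R < Nat.card H := by
  have h1 : R < ⊤ := lt_top_iff_ne_top.2 hR
  have h2 := Set.ncard_lt_ncard (SetLike.coe_ssubset_coe.2 h1) (Set.toFinite _)
  rwa [coe_top, Set.ncard_univ, ← Nat.card_coe_set_eq] at h2

/-- **(RED)** -/
theorem red (h : Fr K p H M T Q A z) {R : Subgroup H} (hR : R ≠ ⊤) {T' Q' B : Subgroup H} {z' : M}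
    (hT : IsPGroup 2 T') (hTR : T' ≤ R) (hTi : ¬ 2 ∣ T'.relIndex R) (hTz : ∀ t ∈ T', t • z' = z')
    (hQ : IsPGroup 2 Q') (hQR : Q' ≤ R) (hQz : ∀ q ∈ Q', q • z' = z')
    (hQn : ∀ g ∈ R, g • z' = z' → ∀ q ∈ Q', g * q * g⁻¹ ∈ Q') (hBQ : B ≤ Q') (hB2 : ∀ a ∈ B, a * a = 1)
    (hBn : p → ∀ t ∈ T', ∀ a ∈ B, t * a * t⁻¹ ∈ B) (hB : Strict (fab M 1 1) B) :
    B ≤ fxr H (orb R z') := by
  have h1 := rel_subgroup (M := M) R (h.ind R M (h.sec.sub H h.KH R) h.sq (Or.inl (card_lt hR)))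
  have h2 := h1 T' Q' B z' (mem_top _) hT hTR hTi hTz hQ hQR hQz hQn hBQ hB2 hBn
  by_contra hc
  have hlt : B ⊓ fxr H (orb R z') < B := lt_of_le_of_ne inf_le_left fun h3 => hc (inf_eq_left.1 h3)
  have h3 := relIndex_lt_of_moves hB (W := orb R z') hlt (cv_inf_eq_iff.2 inf_le_right)
  rw [pow_one, pow_one, inf_relIndex_left] at h3
  omega

theorem red_o2 (h : Fr K p H M T Q A z) {R : Subgroup H} (hR : R ≠ ⊤) {T' Q' B : Subgroup H} {z' : M}
    (hT : IsPGroup 2 T') (hTR : T' ≤ R) (hTi : ¬ 2 ∣ T'.relIndex R) (hTz : ∀ t ∈ T', t • z' = z')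
    (hQ : IsPGroup 2 Q') (hQR : Q' ≤ R) (hQz : ∀ q ∈ Q', q • z' = z')
    (hQn : ∀ g ∈ R, g • z' = z' → ∀ q ∈ Q', g * q * g⁻¹ ∈ Q') (hBQ : B ≤ Q') (hB2 : ∀ a ∈ B, a * a = 1)
    (hBn : p → ∀ t ∈ T', ∀ a ∈ B, t * a * t⁻¹ ∈ B) (hB : Strict (fab M 1 1) B) : B ≤ o2 R := by
  have h1 := h.red hR hT hTR hTi hTz hQ hQR hQz hQn hBQ hB2 hBn hB
  have hinv : ∀ g ∈ R, ∀ m ∈ orb R z', g • m ∈ orb R z' := fun g hg m hm => smul_mem_orb hg hm
  have h2 : o2 (R ⊓ fxr H (orb R z')) ≤ o2 R := o2_le_o2 inf_le_left fun g hg x hx =>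
    ⟨R.mul_mem (R.mul_mem hg hx.1) (R.inv_mem hg), conj_mem_fxr hinv hg hx.2⟩
  refine le_trans ?_ h2
  have h3 : Q' ⊓ (R ⊓ fxr H (orb R z')) ≤ o2 (R ⊓ fxr H (orb R z')) := by
    refine le_o2 inf_le_right (hQ.to_le inf_le_left) (le_normalizer_of fun g hg x hx => ⟨?_, ?_⟩)
    · exact hQn g hg.1 (hg.2 _ (mem_orb_self R z')) x hx.1
    · exact Subgroup.mul_mem _ (Subgroup.mul_mem _ hg hx.2) (Subgroup.inv_mem _ hg)
  exact le_trans (le_inf hBQ (le_inf (hBQ.trans hQR) h1)) h3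

omit [Finite H] [Finite M] in
theorem not_dvd_relIndex (h : Fr K p H M T Q A z) {R : Subgroup H} (hR : T ≤ R) : ¬ 2 ∣ T.relIndex R :=
  fun h2 => h.odd (h2.trans (Dvd.intro _ (relIndex_mul_index hR)))

omit [Finite M] in
/-- `O₂(C_H(z)) ≤ T`, so `A ≤ T` -/
theorem Q_le_T (h : Fr K p H M T Q A z) : Q ≤ T := by
  have h1 : T ≤ MulAction.stabilizer H z := fun t ht => h.fixT t ht
  have h2 : Q ≤ o2 (MulAction.stabilizer H z) :=
    le_o2 (fun q hq => h.fixQ q hq) h.Q2 (le_normalizer_of fun g hg x hx => h.nrmQ g hg x hx)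
  refine h2.trans (o2_le_of_sylow h.two fun h3 => h.odd (h3.trans (Dvd.intro _ (relIndex_mul_index h1))))

omit [Finite M] in
theorem A_le_T (h : Fr K p H M T Q A z) : A ≤ T := h.AQ.trans h.Q_le_T

/-- `A` centralises `⟨z^R⟩` for `T ≤ R < H` -/
theorem le_fxr (h : Fr K p H M T Q A z) {R : Subgroup H} (hT : T ≤ R) (hR : R ≠ ⊤) : A ≤ fxr H (orb R z) :=
  h.red hR h.two hT (h.not_dvd_relIndex hT) h.fixT h.Q2 (h.Q_le_T.trans hT) h.fixQ
    (fun g _ hg q hq => h.nrmQ g hg q hq) h.AQ h.Asq h.nrmA h.strict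

/-- **`A ≤ O₂(R)` for `T ≤ R < H`** -/
theorem le_o2 (h : Fr K p H M T Q A z) {R : Subgroup H} (hT : T ≤ R) (hR : R ≠ ⊤) : A ≤ o2 R :=
  h.red_o2 hR h.two hT (h.not_dvd_relIndex hT) h.fixT h.Q2 (h.Q_le_T.trans hT) h.fixQ
    (fun g _ hg q hq => h.nrmQ g hg q hq) h.AQ h.Asq h.nrmA h.strict

omit [Finite M] in
/-- `O₂(H) = 1` -/
theorem o2_eq_bot (h : Fr K p H M T Q A z) {N : Subgroup H} (hN : N.Normal) (h2 : IsPGroup 2 N) : N = ⊥ := by
  rw [eq_bot_iff]
  intro x hx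
  rw [mem_bot]
  apply h.faithful
  have h1 : N ≤ T := by
    have h3 : N ≤ o2 (⊤ : Subgroup H) := Cfsg.Agent.MinSimple.VModule.le_o2 le_top h2 (le_normalizer_of fun g _ x hx => hN.conj_mem x hx g)
    exact h3.trans (o2_le_of_sylow h.two (by rw [relIndex_top_right]; exact h.odd))
  have h3 : x ∈ fxr H (orb (⊤ : Subgroup H) z) := by
    rw [mem_fxr_orb]
    intro g _
    have h4 : g⁻¹ * x * g ∈ T := by
      have := hN.conj_mem x hx g⁻¹
      rw [inv_inv] at this
      exact h1 this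
    have h5 := h.fixT _ h4
    rw [mul_smul, mul_smul, inv_smul_eq_iff] at h5
    exact h5
  rw [h.gen] at h3
  exact fun m => h3 m (mem_top m)

/-- `H = ⟨A^H⟩` -/
theorem eq_top_of_normal (h : Fr K p H M T Q A z) {N : Subgroup H} (hN : N.Normal) (hA : A ≤ N) : N = ⊤ := by
  by_contra hne
  have hTi : ¬ 2 ∣ (T ⊓ N).relIndex N := by
    rw [inf_relIndex_right, ← Lib.SylowNormalInf.relIndex_sup_of_normal T N]
    exact h.not_dvd_relIndex le_sup_left
  have h1 := h.red_o2 hne (T' := T ⊓ N) (Q' := Q ⊓ N) (B := A) (z' := z) (h.two.to_le inf_le_left) inf_le_right hTi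
    (fun t ht => h.fixT t ht.1) (h.Q2.to_le inf_le_left) inf_le_right (fun q hq => h.fixQ q hq.1)
    (fun g _ hgz q hq => ⟨h.nrmQ g hgz q hq.1, hN.conj_mem q hq.2 g⟩) (le_inf h.AQ hA) h.Asq
    (fun hp t ht a ha => h.nrmA hp t ht.1 a ha) h.strict
  have h2 : o2 N ≤ o2 (⊤ : Subgroup H) := o2_le_o2 le_top fun g _ x hx => hN.conj_mem x hx g
  have h3 : o2 (⊤ : Subgroup H) = ⊥ := h.o2_eq_bot (by
    constructor
    intro x hx g
    exact conj_mem_of_le (le_normalizer_o2 ⊤) (mem_top g) hx) (o2_isPGroup _)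
  exact h.ne (le_bot_iff.1 ((h1.trans h2).trans h3.le))

end Fr

end Cfsg.Agent.Omega.ML.MinFrame

end

section


/-!
# (ML), the K-list end: THEOREM LOC (helper667, OMEGA)

One 2-local subgroup `R₀ = E.L` of odd index, `E` elementary abelian and self-centralising in `T`, `L` without nontrivial
modules of order `< |E|`, excludes the group of a minimal counterexample of (ML):

* `Dat H M T R₀ E L` : the hypotheses: `T ≤ R₀ < H`, `E` normal in `R₀` elementary abelian, `O₂(R₀) ≤ E`, `C_T(E) ≤ E`,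
  `L ≤ R₀` irreducible on `E` and trivial on every `L`-section `M / W` of order `< |E|`;
* `Base H M T Q A z` : what is used of the frame `Fr` (`p = False`);  `Fr.base`;
* `Base.loc` : **contradiction**, if `T` lies in two maximal subgroups of `H`.
-/

set_option autoImplicit false

namespace Cfsg.Agent.Omega.ML.Loc

open Subgroup Cfsg Cfsg.Agent.ClassTwoFusion.Quad Cfsg.Agent.Omega.NOThree.NoOver Cfsg.Agent.Omega.ML.CD
open Cfsg.Agent.ZN Cfsg.Agent.MinSimple.VModule Cfsg.Agent.Omega.ML.MinFrame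

universe u v

/-- the 2-local data: `T ≤ R₀ < H`, `O₂(R₀) ≤ E` elementary abelian and normal in `R₀`, `C_T(E) ≤ E`, `L ≤ R₀` irreducible on
`E` and trivial on all `M / W` of order `< |E|` -/
structure Dat (H : Type u) [Group H] (M : Type v) [Group M] [MulDistribMulAction H M] (T R₀ E L : Subgroup H) :
    Prop where
  TR : T ≤ R₀
  Rne : R₀ ≠ ⊤
  ER : E ≤ R₀
  nE : R₀ ≤ normalizer (E : Set H)
  sq : ∀ e ∈ E, e * e = 1
  core : o2 R₀ ≤ E
  cT : ∀ t ∈ T, (∀ e ∈ E, t * e = e * t) → t ∈ E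
  LR : L ≤ R₀
  irr : ∀ E₁ ≤ E, (∀ l ∈ L, ∀ x ∈ E₁, l * x * l⁻¹ ∈ E₁) → E₁ = ⊥ ∨ E₁ = E
  triv : ∀ W : Subgroup M, (∀ l ∈ L, ∀ m ∈ W, l • m ∈ W) → (∀ e ∈ E, ∀ m, e • m * m⁻¹ ∈ W) →
    W.index < Nat.card E → ∀ l ∈ L, ∀ m, l • m * m⁻¹ ∈ W

theorem strict_iSup {H : Type*} [Group H] [Finite H] {f : Subgroup H → ℕ} (hf : LS f) {ι : Sort*} {X : ι → Subgroup H}
    (hX : ∀ i, Strict f (X i)) : Strict f (⨆ i, X i) := by
  rw [strict_iff hf]
  exact le_antisymm (hf.lo_le_self _) (iSup_le fun i => (hX i).le_lo hf (le_iSup _ i))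

section

variable {H : Type*} [Group H] {M : Type*} [Group M] [MulDistribMulAction H M]

/-- `N_H(W)` -/
def stb (H : Type*) [Group H] {M : Type*} [Group M] [MulDistribMulAction H M] (W : Subgroup M) : Subgroup H where
  carrier := {g | ∀ m, g • m ∈ W ↔ m ∈ W}
  one_mem' := fun m => by rw [one_smul]
  mul_mem' := fun {x y} hx hy m => by rw [mul_smul, hx, hy]
  inv_mem' := fun {x} hx m => by rw [← hx (x⁻¹ • m), smul_inv_smul]

theorem mem_stb {W : Subgroup M} {g : H} : g ∈ stb H W ↔ ∀ m, g • m ∈ W ↔ m ∈ W := Iff.rfl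

/-- `C_H(W) ∩ C_H(M/W)` -/
def cen (H : Type*) [Group H] {M : Type*} [Group M] [MulDistribMulAction H M] (W : Subgroup M) : Subgroup H where
  carrier := {g | (∀ m ∈ W, g • m = m) ∧ ∀ m, g • m * m⁻¹ ∈ W}
  one_mem' := ⟨fun m _ => one_smul _ m, fun m => by rw [one_smul, mul_inv_cancel]; exact W.one_mem⟩
  mul_mem' := by
    rintro x y ⟨hx, hx'⟩ ⟨hy, hy'⟩
    refine ⟨fun m hm => by rw [mul_smul, hy m hm, hx m hm], fun m => ?_⟩
    have e : (x * y) • m * m⁻¹ = (x • (y • m) * (y • m)⁻¹) * (y • m * m⁻¹) := by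
      rw [mul_smul]; group
    rw [e]
    exact W.mul_mem (hx' _) (hy' _)
  inv_mem' := by
    rintro x ⟨hx, hx'⟩
    refine ⟨fun m hm => by rw [inv_smul_eq_iff, hx m hm], fun m => ?_⟩
    have h1 := hx' (x⁻¹ • m)
    rw [smul_inv_smul] at h1
    have h2 := W.inv_mem h1
    rwa [mul_inv_rev, inv_inv] at h2

theorem mem_cen {W : Subgroup M} {g : H} : g ∈ cen H W ↔ (∀ m ∈ W, g • m = m) ∧ ∀ m, g • m * m⁻¹ ∈ W := Iff.rfl

theorem cen_le_stb (W : Subgroup M) : cen H W ≤ stb H W := by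
  rintro g ⟨hg, hg'⟩ m
  constructor
  · intro h
    have h2 := W.mul_mem (W.inv_mem (hg' m)) h
    have e : (g • m * m⁻¹)⁻¹ * g • m = m := by group
    rwa [e] at h2
  · intro h
    rw [hg m h]
    exact h

theorem conj_mem_cen {W : Subgroup M} {g x : H} (hg : g ∈ stb H W) (hx : x ∈ cen H W) : g * x * g⁻¹ ∈ cen H W := by
  have hg' := (stb H W).inv_mem hg
  refine ⟨fun m hm => ?_, fun m => ?_⟩
  · rw [mul_smul, mul_smul, hx.1 _ ((hg' m).2 hm), smul_inv_smul]
  · have h1 := (hg _).2 (hx.2 (g⁻¹ • m))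
    rw [smul_mul', smul_inv', smul_inv_smul] at h1
    rw [mul_smul, mul_smul]
    exact h1

theorem sq_of_mem_cen {W : Subgroup M} (sq : ∀ m : M, m * m = 1) (hf : ∀ x : H, (∀ m : M, x • m = m) → x = 1) {x : H}
    (hx : x ∈ cen H W) : x * x = 1 := by
  apply hf
  intro m
  have h1 : x • m = (x • m * m⁻¹) * m := by group
  rw [mul_smul]
  calc x • (x • m) = x • ((x • m * m⁻¹) * m) := by rw [← h1]
    _ = (x • m * m⁻¹) * (x • m) := by rw [smul_mul', hx.1 _ (hx.2 m)]
    _ = (x • m * m⁻¹) * ((x • m * m⁻¹) * m) := by rw [← h1]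
    _ = m := by rw [← mul_assoc, sq, one_mul]

theorem isPGroup_of_sq {A : Subgroup H} (hA : ∀ a ∈ A, a * a = 1) : IsPGroup 2 A := fun q =>
  ⟨1, by rw [pow_one, pow_two]; exact Subtype.ext (hA q q.2)⟩

theorem comm_of_sq' {A : Subgroup H} (hA : ∀ a ∈ A, a * a = 1) : ∀ a ∈ A, ∀ b ∈ A, a * b = b * a := by
  intro a ha b hb
  have h1 := hA _ (A.mul_mem ha hb)
  have h2 : a⁻¹ = a := inv_eq_of_mul_eq_one_right (hA a ha)
  have h3 : b⁻¹ = b := inv_eq_of_mul_eq_one_right (hA b hb)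
  calc a * b = (a * b)⁻¹ := (inv_eq_of_mul_eq_one_right h1).symm
    _ = b⁻¹ * a⁻¹ := mul_inv_rev a b
    _ = b * a := by rw [h2, h3]

end

/-- What is used of the frame of a minimal counterexample: `M` an elementary abelian 2-group, `H` faithful on `M`,
`O₂(H) = 1`, `T` a Sylow 2-subgroup of `H` fixing `z`, `Q` a normal 2-subgroup of `C_H(z)`, `1 ≠ A ≤ Q` elementary abelian and
strict, and (RED): strict elementary abelian subgroups of normal 2-subgroups of `C_H(z)` are in `O₂(R)`, `T ≤ R < H`. -/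
structure Base (H : Type u) [Group H] (M : Type v) [Group M] [MulDistribMulAction H M] (T Q A : Subgroup H) (z : M) :
    Prop where
  sq : ∀ m : M, m * m = 1
  faithful : ∀ x : H, (∀ m : M, x • m = m) → x = 1
  core : ∀ N : Subgroup H, N.Normal → IsPGroup 2 N → N = ⊥
  two : IsPGroup 2 T
  odd : ¬ 2 ∣ T.index
  fixT : ∀ t ∈ T, t • z = z
  Q2 : IsPGroup 2 Q
  fixQ : ∀ q ∈ Q, q • z = z
  nrmQ : ∀ g : H, g • z = z → ∀ q ∈ Q, g * q * g⁻¹ ∈ Q
  AQ : A ≤ Q
  Asq : ∀ a ∈ A, a * a = 1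
  strict : Strict (fab M 1 1) A
  ne : A ≠ ⊥
  red : ∀ Q' B R : Subgroup H, IsPGroup 2 Q' → (∀ q ∈ Q', q • z = z) →
    (∀ g : H, g • z = z → ∀ q ∈ Q', g * q * g⁻¹ ∈ Q') → B ≤ Q' → (∀ b ∈ B, b * b = 1) → Strict (fab M 1 1) B →
    T ≤ R → R ≠ ⊤ → B ≤ o2 R

variable {K : Frame.Cls.{u}} {H : Type u} [Group H] [Finite H] {M : Type v} [Group M] [Finite M]
  [MulDistribMulAction H M] {T R₀ E L Q A : Subgroup H} {z : M}

namespace Dat

omit [Finite H] [Finite M] in
theorem smul_mem (D : Dat H M T R₀ E L) {r : H} (hr : r ∈ R₀) {m : M} (hm : m ∈ cv M (E : Set H)) :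
    r • m ∈ cv M (E : Set H) := by
  intro e he
  have h1 := conj_mem_of_le D.nE (R₀.inv_mem hr) he
  rw [inv_inv] at h1
  have h2 := hm _ h1
  rw [mul_smul, mul_smul, inv_smul_eq_iff] at h2
  exact h2

/-- **`C_M(e) = C_M(E)` for all `1 ≠ e ∈ E`** -/
theorem mem_cv_of (D : Dat H M T R₀ E L) (hsq : ∀ m : M, m * m = 1) (hs : Strict (fab M 1 1) E) (hne : E ≠ ⊥) {e : H} (he : e ∈ E) (he1 : e ≠ 1)
    {m : M} (hm : e • m = m) : m ∈ cv M (E : Set H) := by
  have hW : (cv M (E : Set H)).index < Nat.card E := by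
    have h1 := hs ⊥ (bot_lt_iff_ne_bot.2 hne)
    rwa [fab_lt_iff bot_le, pow_one, pow_one, relIndex_bot_left, cv_bot, relIndex_top_right] at h1
  have ht := D.triv _ (fun l hl m hm => D.smul_mem (D.LR hl) hm) (fun e he m b hb => by
    have h1 := quad hsq hs (comm_of_sq' D.sq) he hb m
    rwa [show m⁻¹ = m from inv_eq_of_mul_eq_one_right (hsq m)]) hW
  have hE1 : E ⊓ MulAction.stabilizer H m = ⊥ ∨ E ⊓ MulAction.stabilizer H m = E := by
    refine D.irr _ inf_le_left fun l hl x hx => ⟨conj_mem_of_le D.nE (D.LR hl) hx.1, ?_⟩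
    change (l * x * l⁻¹) • m = m
    have hxm : x • m = m := MulAction.mem_stabilizer_iff.1 hx.2
    have h1 : l⁻¹ • m = (l⁻¹ • m * m⁻¹) * m := by group
    have h2 : x • (l⁻¹ • m) = l⁻¹ • m := by
      calc x • (l⁻¹ • m) = x • ((l⁻¹ • m * m⁻¹) * m) := by rw [← h1]
        _ = (l⁻¹ • m * m⁻¹) * m := by rw [smul_mul', ht _ (L.inv_mem hl) m x hx.1, hxm]
        _ = l⁻¹ • m := h1.symm
    rw [mul_smul, mul_smul, h2, smul_inv_smul]
  have he2 : e ∈ E ⊓ MulAction.stabilizer H m := ⟨he, MulAction.mem_stabilizer_iff.2 hm⟩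
  rcases hE1 with h | h
  · rw [h, mem_bot] at he2
    exact absurd he2 he1
  · intro x hx
    have h2 : x ∈ E ⊓ MulAction.stabilizer H m := by rw [h]; exact hx
    exact MulAction.mem_stabilizer_iff.1 h2.2

end Dat

omit [Finite M] in
theorem Base.o2_le (h : Base H M T Q A z) {R : Subgroup H} (hR : T ≤ R) : o2 R ≤ T :=
  o2_le_of_sylow h.two fun h2 => h.odd (h2.trans (Dvd.intro _ (relIndex_mul_index hR)))

/-- the frame gives the base -/
theorem _root_.Cfsg.Agent.Omega.ML.MinFrame.Fr.base (h : Fr K False H M T Q A z) : Base H M T Q A z where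
  sq := h.sq
  faithful := h.faithful
  core := fun _ hN h2 => h.o2_eq_bot hN h2
  two := h.two
  odd := h.odd
  fixT := h.fixT
  Q2 := h.Q2
  fixQ := h.fixQ
  nrmQ := h.nrmQ
  AQ := h.AQ
  Asq := h.Asq
  strict := h.strict
  ne := h.ne
  red := by
    intro Q' B R hQ hQz hQn hBQ hB2 hB hR hR'
    have h1 : T ≤ MulAction.stabilizer H z := fun t ht => h.fixT t ht
    have h2 : Q' ≤ o2 (MulAction.stabilizer H z) :=
      Cfsg.Agent.MinSimple.VModule.le_o2 (fun q hq => hQz q hq) hQ (le_normalizer_of fun g hg x hx => hQn g hg x hx)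
    have h3 : Q' ≤ T := h2.trans (o2_le_of_sylow h.two (h.not_dvd_relIndex h1))
    exact h.red_o2 hR' h.two hR (h.not_dvd_relIndex hR) h.fixT hQ (h3.trans hR) hQz (fun g _ hg q hq => hQn g hg q hq)
      hBQ hB2 (fun hp => hp.elim) hB

/-- **THEOREM LOC** -/
theorem Base.loc (h : Base H M T Q A z) (D : Dat H M T R₀ E L)
    (two : ∀ R : Subgroup H, T ≤ R → R ≠ ⊤ → ∃ P : Subgroup H, T ≤ P ∧ P ≠ ⊤ ∧ ¬ P ≤ R) : False := by
  have hf := ls_fab (H := H) M 1 1
  have hT : ∀ {R : Subgroup H}, T ≤ R → o2 R ≤ T := fun hR => h.o2_le hR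
  -- the conjugates of `A` under `C_H(z)`
  have hcA : ∀ c ∈ MulAction.stabilizer H z, cj c A ≤ Q := by
    rintro c hc _ ⟨a, ha, rfl⟩
    exact h.nrmQ c hc a (h.AQ ha)
  have hcsq : ∀ c, ∀ a ∈ cj c A, a * a = 1 := by
    rintro c _ ⟨a, ha, rfl⟩
    change (c * a * c⁻¹) * (c * a * c⁻¹) = 1
    have e : (c * a * c⁻¹) * (c * a * c⁻¹) = c * (a * a) * c⁻¹ := by group
    rw [e, h.Asq a ha, mul_one, mul_inv_cancel]
  have hco2 : ∀ c ∈ MulAction.stabilizer H z, ∀ R : Subgroup H, T ≤ R → R ≠ ⊤ → cj c A ≤ o2 R := by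
    intro c hc R hR hR'
    exact h.red Q _ R h.Q2 h.fixQ h.nrmQ (hcA c hc) (hcsq c) (h.strict.cj hf c) hR hR'
  obtain ⟨X, hX⟩ : ∃ X : Subgroup H, X = ⨆ c : MulAction.stabilizer H z, cj (c : H) A := ⟨_, rfl⟩
  have hXs : Strict (fab M 1 1) X := by
    rw [hX]
    exact strict_iSup hf fun c => h.strict.cj hf c
  have hAX : A ≤ X := by
    rw [hX]
    refine le_trans (le_of_eq (cj_one A).symm) (le_iSup (fun c : MulAction.stabilizer H z => cj (c : H) A) 1)
  have hXne : X ≠ ⊥ := fun h1 => h.ne (le_bot_iff.1 (h1 ▸ hAX))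
  have hXo : ∀ R : Subgroup H, T ≤ R → R ≠ ⊤ → X ≤ o2 R := by
    intro R hR hR'
    rw [hX]
    exact iSup_le fun c => hco2 c c.2 R hR hR'
  have hXn : ∀ c ∈ MulAction.stabilizer H z, ∀ x ∈ X, c * x * c⁻¹ ∈ X := by
    intro c hc
    have h1 : X ≤ X.comap (MulAut.conj c).toMonoidHom := by
      conv_lhs => rw [hX]
      refine iSup_le fun d => ?_
      rintro _ ⟨a, ha, rfl⟩
      rw [mem_comap, hX]
      refine (le_iSup (fun c : MulAction.stabilizer H z => cj (c : H) A) (⟨c, hc⟩ * d)) ⟨a, ha, ?_⟩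
      change (c * (d : H)) * a * (c * (d : H))⁻¹ = c * ((d : H) * a * (d : H)⁻¹) * c⁻¹
      group
    exact fun x hx => h1 hx
  -- `E` is strict
  have hEX : X ≤ E := (hXo R₀ D.TR D.Rne).trans D.core
  have hEs : Strict (fab M 1 1) E := by
    have h1 : (⨆ r : R₀, cj (r : H) X) = E := by
      have hle : (⨆ r : R₀, cj (r : H) X) ≤ E := by
        refine iSup_le fun r => ?_
        rintro _ ⟨x, hx, rfl⟩
        exact conj_mem_of_le D.nE r.2 (hEX hx)
      have hXle : X ≤ ⨆ r : R₀, cj (r : H) X :=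
        le_trans (le_of_eq (cj_one X).symm) (le_iSup (fun r : R₀ => cj (r : H) X) 1)
      refine (D.irr _ hle fun l hl => ?_).resolve_left fun h2 => hXne (le_bot_iff.1 (h2 ▸ hXle))
      have h1 : (⨆ r : R₀, cj (r : H) X) ≤ (⨆ r : R₀, cj (r : H) X).comap (MulAut.conj l).toMonoidHom := by
        refine iSup_le fun d => ?_
        rintro _ ⟨a, ha, rfl⟩
        rw [mem_comap]
        refine (le_iSup (fun r : R₀ => cj (r : H) X) (⟨l, D.LR hl⟩ * d)) ⟨a, ha, ?_⟩
        change (l * (d : H)) * a * (l * (d : H))⁻¹ = l * ((d : H) * a * (d : H)⁻¹) * l⁻¹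
        group
      exact fun x hx => h1 hx
    rw [← h1]
    exact strict_iSup hf fun r => hXs.cj hf r
  have hEne : E ≠ ⊥ := fun h1 => hXne (le_bot_iff.1 (h1 ▸ hEX))
  have hE2 : IsPGroup 2 E := isPGroup_of_sq D.sq
  have hEc := comm_of_sq' D.sq
  have hEo : E ≤ o2 R₀ := Cfsg.Agent.MinSimple.VModule.le_o2 D.ER hE2 D.nE
  have hET : E ≤ T := hEo.trans (hT D.TR)
  obtain ⟨W, hW⟩ : ∃ W : Subgroup M, W = cv M (E : Set H) := ⟨_, rfl⟩
  have hfix : ∀ e ∈ E, e ≠ 1 → ∀ m : M, e • m = m → m ∈ W := fun e he he1 m hm => by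
    rw [hW]; exact D.mem_cv_of h.sq hEs hEne he he1 hm
  have hWE : ∀ m ∈ W, ∀ e ∈ E, e • m = m := fun m hm e he => by
    rw [hW] at hm; exact hm e he
  -- `R = N_H(W)`
  have hR₀ : R₀ ≤ stb H W := by
    intro r hr m
    constructor
    · intro h1
      rw [hW] at h1 ⊢
      have h2 := D.smul_mem (R₀.inv_mem hr) h1
      rwa [inv_smul_smul] at h2
    · intro h1
      rw [hW] at h1 ⊢
      exact D.smul_mem hr h1
  have hEcen : E ≤ cen H W := by
    intro e he
    refine ⟨fun m hm => hWE m hm e he, fun m => ?_⟩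
    rw [hW]
    intro b hb
    have h1 := quad h.sq hEs hEc he hb m
    rwa [show m⁻¹ = m from inv_eq_of_mul_eq_one_right (h.sq m)]
  have hcen2 : IsPGroup 2 (cen H W) := isPGroup_of_sq fun x hx => sq_of_mem_cen h.sq h.faithful hx
  have hRne : stb H W ≠ ⊤ := by
    intro h1
    have h2 : (cen H W).Normal := ⟨fun x hx g => conj_mem_cen (by rw [h1]; exact mem_top g) hx⟩
    exact hEne (le_bot_iff.1 (hEcen.trans (h.core _ h2 hcen2).le))
  have hTR : T ≤ stb H W := D.TR.trans hR₀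
  have hcenE : cen H W = E := by
    refine le_antisymm ?_ hEcen
    have h1 : cen H W ≤ o2 (stb H W) := Cfsg.Agent.MinSimple.VModule.le_o2 (cen_le_stb W) hcen2
      (le_normalizer_of fun g hg x hx => conj_mem_cen hg hx)
    have h2 : o2 (stb H W) ≤ o2 R₀ := Cfsg.Agent.MinSimple.VModule.le_o2 ((hT hTR).trans D.TR) (o2_isPGroup _)
      (hR₀.trans (le_normalizer_o2 _))
    exact h1.trans (h2.trans D.core)
  have hRE : ∀ g ∈ stb H W, ∀ e ∈ E, g * e * g⁻¹ ∈ E := by
    intro g hg e he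
    rw [← hcenE] at he ⊢
    exact conj_mem_cen hg he
  -- an element mapping some `1 ≠ e ∈ E` into `E` is in `R`
  have hTI : ∀ g : H, ∀ e ∈ E, e ≠ 1 → g * e * g⁻¹ ∈ E → g ∈ stb H W := by
    intro g e he he1 hge m
    have hne : g * e * g⁻¹ ≠ 1 := by
      intro h1
      apply he1
      rw [mul_inv_eq_one] at h1
      exact mul_left_cancel (h1.trans (mul_one g).symm)
    constructor
    · intro h1
      refine hfix e he he1 m ?_
      have h2 := hWE _ h1 _ hge
      rw [mul_smul, mul_smul, inv_smul_smul] at h2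
      exact (smul_left_cancel g h2)
    · intro h1
      refine hfix _ hge hne _ ?_
      rw [mul_smul, mul_smul, inv_smul_smul, hWE m h1 e he]
  -- `C_H(z) ≤ R`
  have hz : ∀ c : H, c • z = z → c ∈ stb H W := by
    intro c hc
    obtain ⟨x, hx, hx1⟩ : ∃ x ∈ X, x ≠ 1 := by
      obtain ⟨a, ha⟩ := ne_bot_iff_exists_ne_one.1 hXne
      exact ⟨a, a.2, fun h1 => ha (Subtype.ext h1)⟩
    exact hTI c x (hEX hx) hx1 (hEX (hXn c hc x hx))
  have hEP : ∀ R : Subgroup H, T ≤ R → R ≠ ⊤ → E ≤ o2 R := by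
    intro R hR hR'
    exact h.red E E R hE2 (fun q hq => h.fixT q (hET hq)) (fun g hg q hq => hRE g (hz g hg) q hq) le_rfl D.sq hEs hR hR'
  -- the second overgroup
  obtain ⟨P, hTP, hPne, hPR⟩ := two (stb H W) hTR hRne
  obtain ⟨p, hp, hpR⟩ : ∃ p ∈ P, p ∉ stb H W := by
    by_contra hcon
    push Not at hcon
    exact hPR hcon
  have hEoP := hEP P hTP hPne
  have hoT := hT hTP
  obtain ⟨e, he, he1⟩ : ∃ x ∈ E, x ≠ 1 := by
    obtain ⟨a, ha⟩ := ne_bot_iff_exists_ne_one.1 hEne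
    exact ⟨a, a.2, fun h1 => ha (Subtype.ext h1)⟩
  have hconj : ∀ {g : H}, g ∈ P → ∀ {x : H}, x ∈ E → g * x * g⁻¹ ∈ T := fun {g} hg {x} hx =>
    hoT (conj_mem_of_le (le_normalizer_o2 P) hg (hEoP hx))
  -- `p e p⁻¹` centralises `E`
  have hyE : p * e * p⁻¹ ∈ E := by
    refine D.cT _ (hconj hp he) fun x hx => ?_
    -- the commutator is in `E` and in `E^p`
    have h1 : (p * e * p⁻¹) * x * (p * e * p⁻¹)⁻¹ ∈ E := conj_mem_of_le (D.TR.trans D.nE) (hconj hp he) hx
    have h2 : (p * e * p⁻¹) * x * (p * e * p⁻¹)⁻¹ * x⁻¹ ∈ E := E.mul_mem h1 (E.inv_mem hx)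
    have h3 : p⁻¹ * ((p * e * p⁻¹) * x * (p * e * p⁻¹)⁻¹ * x⁻¹) * p ∈ E := by
      have h4 : p⁻¹ * x * p⁻¹⁻¹ ∈ T := hconj (P.inv_mem hp) hx
      rw [inv_inv] at h4
      have h5 : (p⁻¹ * x * p) * e⁻¹ * (p⁻¹ * x * p)⁻¹ ∈ E := conj_mem_of_le (D.TR.trans D.nE) h4 (E.inv_mem he)
      have h6 := E.mul_mem he h5
      have e1 : p⁻¹ * ((p * e * p⁻¹) * x * (p * e * p⁻¹)⁻¹ * x⁻¹) * p = e * ((p⁻¹ * x * p) * e⁻¹ * (p⁻¹ * x * p)⁻¹) := by
        group
      rw [e1]
      exact h6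
    by_contra hne
    refine hpR (hTI p _ h3 ?_ ?_)
    · intro h4
      apply hne
      have h5 : (p * e * p⁻¹) * x * (p * e * p⁻¹)⁻¹ * x⁻¹ = 1 := by
        have h6 : p * (p⁻¹ * ((p * e * p⁻¹) * x * (p * e * p⁻¹)⁻¹ * x⁻¹) * p) * p⁻¹ = p * 1 * p⁻¹ := by rw [h4]
        rw [mul_one, mul_inv_cancel] at h6
        rw [← h6]
        group
      rw [mul_inv_eq_one, mul_inv_eq_iff_eq_mul] at h5
      exact h5
    · have e1 : p * (p⁻¹ * ((p * e * p⁻¹) * x * (p * e * p⁻¹)⁻¹ * x⁻¹) * p) * p⁻¹ =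
          (p * e * p⁻¹) * x * (p * e * p⁻¹)⁻¹ * x⁻¹ := by group
      rw [e1]
      exact h2
  exact hpR (hTI p e he he1 hyE)

/-- **THEOREM LOC** for the frame -/
theorem _root_.Cfsg.Agent.Omega.ML.MinFrame.Fr.loc (h : Fr K False H M T Q A z) (D : Dat H M T R₀ E L)
    (two : ∀ R : Subgroup H, T ≤ R → R ≠ ⊤ → ∃ P : Subgroup H, T ≤ P ∧ P ≠ ⊤ ∧ ¬ P ≤ R) : False :=
  h.base.loc D two

end Cfsg.Agent.Omega.ML.Loc

end

section


/-!
# (ML), the K-list end: THEOREM LOC with a cyclic `L` (helper667, helper907; OMEGA #17388)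

`Base.false_of_prime`: no minimal counterexample has an elementary abelian `E ≤ T` of order `2ⁿ` normalised by the Sylow
2-subgroup `T`, `C_T(E) ≤ E`, and an element `x` with `x ^ p = 1`, `p` an odd prime not dividing `2ᵏ - 1` for `0 < k < n`,
normalising `E` and not centralising it.
-/

set_option autoImplicit false

namespace Cfsg.Agent.Omega.ML.LocPrime

open Subgroup Cfsg Cfsg.Agent.ClassTwoFusion.Quad Cfsg.Agent.Omega.NOThree.NoOver Cfsg.Agent.Omega.ML.CD
open Cfsg.Agent.ZN Cfsg.Agent.MinSimple.VModule Cfsg.Agent.Omega.ML.MinFrame Cfsg.Agent.Omega.ML.Loc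

universe u v

/-- a `p`-group acts trivially on a 2-group of order `< 2ⁿ` if `p` is odd and does not divide `2ᵏ - 1`, `0 < k < n` -/
theorem smul_eq_of_card {C V : Type*} [Group C] [Group V] [Finite V] [MulDistribMulAction C V] {p n : ℕ}
    (hp : p.Prime) (hp2 : p ≠ 2) (nd : ∀ k, 0 < k → k < n → ¬ p ∣ 2 ^ k - 1) (hC : IsPGroup p C)
    (h2 : IsPGroup 2 V) (hV : Nat.card V < 2 ^ n) (c : C) (v : V) : c • v = v := by
  have hpf : Fact p.Prime := ⟨hp⟩
  have h2f : Fact (Nat.Prime 2) := ⟨Nat.prime_two⟩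
  obtain ⟨k, hk⟩ := IsPGroup.iff_card.1 h2
  have hF2 : IsPGroup 2 (cv V (Set.univ : Set C)) := h2.to_subgroup _
  obtain ⟨j, hj⟩ := IsPGroup.iff_card.1 hF2
  have h1 := hC.card_modEq_card_fixedPoints V
  have h3 : Nat.card (MulAction.fixedPoints C V) = Nat.card (cv V (Set.univ : Set C)) := by
    have e : (MulAction.fixedPoints C V) = ((cv V (Set.univ : Set C) : Subgroup V) : Set V) := by
      ext w
      constructor
      · intro hw a _
        exact hw a
      · intro hw a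
        exact hw a (Set.mem_univ a)
    rw [e]
    rfl
  rw [h3, hj, hk] at h1
  have hkn : k < n := by
    rw [hk] at hV
    exact (Nat.pow_lt_pow_iff_right (by norm_num)).1 hV
  have hjk : j ≤ k := by
    have h4 := card_subgroup_dvd_card (cv V (Set.univ : Set C))
    rw [hk, hj] at h4
    exact (Nat.pow_dvd_pow_iff_le_right (by norm_num)).1 h4
  rcases hjk.lt_or_eq with hlt | heq
  · exfalso
    have h4 : p ∣ 2 ^ k - 2 ^ j := (Nat.modEq_iff_dvd' (Nat.pow_le_pow_right (by norm_num) hjk)).1 h1.symm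
    have h5 : 2 ^ k - 2 ^ j = 2 ^ j * (2 ^ (k - j) - 1) := by
      rw [Nat.mul_sub, mul_one, ← pow_add, Nat.add_sub_cancel' hjk]
    rw [h5] at h4
    have h6 : Nat.Coprime p (2 ^ j) := Nat.Coprime.pow_right j ((Nat.coprime_primes hp Nat.prime_two).2 hp2)
    exact nd (k - j) (by omega) (by omega) (h6.dvd_of_dvd_mul_left h4)
  · have h4 : cv V (Set.univ : Set C) = ⊤ := by
      rw [← card_eq_iff_eq_top, hj, hk, heq]
    have h5 : v ∈ cv V (Set.univ : Set C) := by rw [h4]; exact mem_top v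
    exact h5 c (Set.mem_univ c)

/-- the action on a quotient -/
abbrev quo {X U : Type*} [Group X] [Group U] [MulDistribMulAction X U] (D : Subgroup U) [D.Normal]
    (hD : ∀ x : X, ∀ d ∈ D, x • d ∈ D) : MulDistribMulAction X (U ⧸ D) where
  smul x := QuotientGroup.map D D (MulDistribMulAction.toMonoidHom U x) fun d hd => hD x d hd
  one_smul q := by
    obtain ⟨u, rfl⟩ := QuotientGroup.mk_surjective q
    exact congrArg (QuotientGroup.mk (s := D)) (one_smul X u)
  mul_smul x y q := by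
    obtain ⟨u, rfl⟩ := QuotientGroup.mk_surjective q
    exact congrArg (QuotientGroup.mk (s := D)) (mul_smul x y u)
  smul_mul x p q := map_mul (QuotientGroup.map D D (MulDistribMulAction.toMonoidHom U x) fun d hd => hD x d hd) p q
  smul_one x := map_one (QuotientGroup.map D D (MulDistribMulAction.toMonoidHom U x) fun d hd => hD x d hd)

/-- a `p`-group acts trivially on the sections `U / D` of order `< 2ⁿ` -/
theorem smul_mul_inv_mem {C U : Type*} [Group C] [Group U] [Finite U] [MulDistribMulAction C U] {p n : ℕ}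
    (hp : p.Prime) (hp2 : p ≠ 2) (nd : ∀ k, 0 < k → k < n → ¬ p ∣ 2 ^ k - 1) (hC : IsPGroup p C)
    (h2 : ∀ u : U, u * u = 1) {D : Subgroup U} (hD : ∀ x : C, ∀ d ∈ D, x • d ∈ D) (hi : D.index < 2 ^ n) (c : C) (u : U) :
    c • u * u⁻¹ ∈ D := by
  have hcomm := comm_of_sq h2
  have hN : D.Normal := ⟨fun d hd g => by rwa [hcomm g d, mul_inv_cancel_right]⟩
  let _ := quo D hD
  have h3 : IsPGroup 2 (U ⧸ D) := by
    intro q
    obtain ⟨u, rfl⟩ := QuotientGroup.mk_surjective q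
    refine ⟨1, ?_⟩
    rw [pow_one, pow_two, ← QuotientGroup.mk_mul, h2]
    rfl
  have h4 : Nat.card (U ⧸ D) < 2 ^ n := hi
  have h5 := smul_eq_of_card hp hp2 nd hC h3 h4 c (QuotientGroup.mk u)
  have h6 : (QuotientGroup.mk (c • u) : U ⧸ D) = QuotientGroup.mk u := h5
  rw [eq_comm, QuotientGroup.eq] at h6
  rwa [hcomm] at h6

/-- conjugation -/
abbrev cja {H : Type*} [Group H] (C E : Subgroup H) (h : ∀ c ∈ C, ∀ e ∈ E, c * e * c⁻¹ ∈ E) : MulDistribMulAction C E where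
  smul c e := ⟨(c : H) * e * (c : H)⁻¹, h c c.2 e e.2⟩
  one_smul e := Subtype.ext (by
    change (1 : H) * e * (1 : H)⁻¹ = e
    group)
  mul_smul c d e := Subtype.ext (by
    change ((c : H) * d) * e * ((c : H) * d)⁻¹ = (c : H) * ((d : H) * e * (d : H)⁻¹) * (c : H)⁻¹
    group)
  smul_mul c e f := Subtype.ext (by
    change (c : H) * ((e : H) * f) * (c : H)⁻¹ = ((c : H) * e * (c : H)⁻¹) * ((c : H) * f * (c : H)⁻¹)
    group)
  smul_one c := Subtype.ext (by
    change (c : H) * 1 * (c : H)⁻¹ = 1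
    group)

section

variable {H : Type*} [Group H] [Finite H] {E C : Subgroup H} {p n : ℕ}

/-- an element of odd prime order `p` is irreducible on `E` or centralises it -/
theorem irr_of (hp : p.Prime) (hp2 : p ≠ 2) (nd : ∀ k, 0 < k → k < n → ¬ p ∣ 2 ^ k - 1) (hC : IsPGroup p C)
    (el : ∀ e ∈ E, e * e = 1) (card : Nat.card E ≤ 2 ^ n) (norm : ∀ c ∈ C, ∀ e ∈ E, c * e * c⁻¹ ∈ E)
    {E₁ : Subgroup H} (hE : E₁ ≤ E) (h1 : ∀ c ∈ C, ∀ e ∈ E₁, c * e * c⁻¹ ∈ E₁) :
    (E₁ = ⊥ ∨ E₁ = E) ∨ ∀ c ∈ C, ∀ e ∈ E, c * e = e * c := by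
  by_cases hne : E₁ = E
  · exact Or.inl (Or.inr hne)
  by_cases hbot : E₁ = ⊥
  · exact Or.inl (Or.inl hbot)
  right
  have hlt : Nat.card E₁ < 2 ^ n := by
    refine lt_of_lt_of_le ?_ card
    have h2 := Set.ncard_lt_ncard (SetLike.coe_ssubset_coe.2 (lt_of_le_of_ne hE hne)) (Set.toFinite _)
    rwa [← Nat.card_coe_set_eq, ← Nat.card_coe_set_eq] at h2
  -- trivial on `E₁`
  have ht1 : ∀ c ∈ C, ∀ e ∈ E₁, c * e * c⁻¹ = e := by
    intro c hc e he
    let _ := cja C E₁ h1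
    have hE2 : IsPGroup 2 E₁ := isPGroup_of_sq fun e he => el e (hE he)
    exact congrArg Subtype.val (smul_eq_of_card hp hp2 nd hC hE2 hlt ⟨c, hc⟩ ⟨e, he⟩)
  -- trivial on `E / E₁`
  have ht2 : ∀ c ∈ C, ∀ e ∈ E, c * e * c⁻¹ * e⁻¹ ∈ E₁ := by
    intro c hc e he
    let _ := cja C E norm
    have hi : (E₁.subgroupOf E).index < 2 ^ n := by
      refine lt_of_lt_of_le ?_ card
      have h2 : (E₁.subgroupOf E).index * Nat.card (E₁.subgroupOf E) = Nat.card E := by
        rw [mul_comm]; exact Subgroup.card_mul_index _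
      have h3 : 1 < Nat.card (E₁.subgroupOf E) := by
        rw [Subgroup.one_lt_card_iff_ne_bot]
        intro h4
        rw [subgroupOf_eq_bot] at h4
        exact hbot ((disjoint_iff.1 h4).symm ▸ (inf_eq_left.2 hE).symm)
      have h4 : 0 < (E₁.subgroupOf E).index := Nat.pos_of_ne_zero index_ne_zero_of_finite
      nlinarith
    have h2 := smul_mul_inv_mem (U := E) hp hp2 nd hC (fun u => Subtype.ext (el u u.2)) (D := E₁.subgroupOf E)
      (fun x d hd => by
        rw [mem_subgroupOf] at hd ⊢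
        exact h1 x x.2 d hd) hi ⟨c, hc⟩ ⟨e, he⟩
    rw [mem_subgroupOf] at h2
    exact h2
  -- so trivial on `E`
  intro c hc e he
  obtain ⟨a, ha⟩ : ∃ a, a = c * e * c⁻¹ * e⁻¹ := ⟨_, rfl⟩
  have haE : a ∈ E₁ := by rw [ha]; exact ht2 c hc e he
  have hca : ∀ i : ℕ, c ^ i * e * (c ^ i)⁻¹ = a ^ i * e := by
    intro i
    induction i with
    | zero => simp
    | succ i ih =>
      have h3 : c * a ^ i * c⁻¹ = a ^ i := ht1 c hc _ (E₁.pow_mem haE i)
      have h4 : c * e * c⁻¹ = a * e := by rw [ha]; group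
      calc c ^ (i + 1) * e * (c ^ (i + 1))⁻¹ = c * (c ^ i * e * (c ^ i)⁻¹) * c⁻¹ := by
            rw [pow_succ']; group
        _ = (c * a ^ i * c⁻¹) * (c * e * c⁻¹) := by rw [ih]; group
        _ = a ^ (i + 1) * e := by rw [h3, h4, pow_succ]; group
  obtain ⟨k, hk⟩ := hC ⟨c, hc⟩
  have hk' : c ^ p ^ k = 1 := congrArg Subtype.val hk
  have h5 := hca (p ^ k)
  rw [hk', one_mul, inv_one, mul_one] at h5
  have h6 : a ^ p ^ k = 1 := by
    have h7 : a ^ p ^ k * e = 1 * e := by rw [one_mul]; exact h5.symm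
    exact mul_right_cancel h7
  have h7 : a ^ 2 = 1 := by rw [pow_two]; exact el a (hE haE)
  have h8 : Nat.Coprime (p ^ k) 2 := Nat.Coprime.pow_left k ((Nat.coprime_primes hp Nat.prime_two).2 hp2)
  have h9 : a = 1 := by
    have h10 := orderOf_dvd_of_pow_eq_one h6
    have h11 := orderOf_dvd_of_pow_eq_one h7
    exact orderOf_eq_one_iff.1 (Nat.eq_one_of_dvd_coprimes h8 h10 h11)
  rw [h9] at ha
  have h10 : c * e * c⁻¹ = e := by
    rw [eq_comm, mul_inv_eq_one] at ha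
    exact ha
  rw [mul_inv_eq_iff_eq_mul] at h10
  exact h10

end

variable {H : Type u} [Group H] [Finite H] {M : Type v} [Group M] [Finite M]
  [MulDistribMulAction H M] {T Q A E : Subgroup H} {z : M} {x : H} {p n : ℕ}

/-- **THEOREM LOC, cyclic form** -/
theorem _root_.Cfsg.Agent.Omega.ML.Loc.Base.false_of_prime (h : Base H M T Q A z)
    (two : ∀ R : Subgroup H, T ≤ R → R ≠ ⊤ → ∃ P : Subgroup H, T ≤ P ∧ P ≠ ⊤ ∧ ¬ P ≤ R)
    (hET : E ≤ T) (hTE : ∀ t ∈ T, ∀ e ∈ E, t * e * t⁻¹ ∈ E) (el : ∀ e ∈ E, e * e = 1) (card : Nat.card E ≤ 2 ^ n)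
    (cen : ∀ t ∈ T, (∀ e ∈ E, t * e = e * t) → t ∈ E) (hp : p.Prime) (hp2 : p ≠ 2)
    (nd : ∀ k, 0 < k → k < n → ¬ p ∣ 2 ^ k - 1) (hx : x ^ p = 1) (norm : ∀ e ∈ E, x * e * x⁻¹ ∈ E)
    (hne : ∃ e ∈ E, x * e ≠ e * x) : False := by
  have hpf : Fact p.Prime := ⟨hp⟩
  have h2f : Fact (Nat.Prime 2) := ⟨Nat.prime_two⟩
  have hC : IsPGroup p (zpowers x) := by
    rintro ⟨y, k, rfl⟩
    refine ⟨1, Subtype.ext ?_⟩
    change (x ^ k) ^ p ^ 1 = 1
    rw [pow_one, ← zpow_natCast, ← zpow_mul, mul_comm, zpow_mul, zpow_natCast, hx, one_zpow]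
  have hxN : x ∈ normalizer (E : Set H) := by
    rw [Subgroup.mem_normalizer_iff_map_conj_eq]
    refine eq_of_le_of_card_ge ?_ (Nat.card_congr (E.equivMapOfInjective _ (MulAut.conj x).injective).toEquiv).le
    rintro _ ⟨b, hb, rfl⟩
    exact norm b hb
  have hzN : zpowers x ≤ normalizer (E : Set H) := by rwa [zpowers_le]
  have hnorm : ∀ c ∈ zpowers x, ∀ e ∈ E, c * e * c⁻¹ ∈ E := fun c hc e he => (mem_normalizer_iff.1 (hzN hc) e).1 he
  have hirr : ∀ E₁ ≤ E, (∀ l ∈ zpowers x, ∀ y ∈ E₁, l * y * l⁻¹ ∈ E₁) → E₁ = ⊥ ∨ E₁ = E := by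
    intro E₁ h1 h2
    refine (irr_of hp hp2 nd hC el card hnorm h1 h2).resolve_right fun h3 => ?_
    obtain ⟨e, he, hne⟩ := hne
    exact hne (h3 x (mem_zpowers x) e he)
  have hEne : E ≠ ⊥ := by
    rintro rfl
    obtain ⟨e, he, hne⟩ := hne
    rw [mem_bot] at he
    rw [he, mul_one, one_mul] at hne
    exact hne rfl
  have hE2 : IsPGroup 2 E := isPGroup_of_sq el
  have hTR : T ≤ normalizer (E : Set H) := le_normalizer_of hTE
  refine h.loc (R₀ := normalizer (E : Set H)) (E := E) (L := zpowers x) ?_ two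
  refine ⟨hTR, ?_, le_normalizer, le_rfl, el, ?_, cen, hzN, hirr, ?_⟩
  · intro h1
    have h2 : E.Normal := normalizer_eq_top_iff.1 h1
    exact hEne (h.core E h2 hE2)
  · -- `O₂(N(E)) ≤ E`
    obtain ⟨O, hO⟩ : ∃ O, O = o2 (normalizer (E : Set H)) := ⟨_, rfl⟩
    rw [← hO]
    have hOT : O ≤ T := by rw [hO]; exact h.o2_le hTR
    have hO2 : IsPGroup 2 O := by rw [hO]; exact o2_isPGroup _
    have hON : normalizer (E : Set H) ≤ normalizer (O : Set H) := by rw [hO]; exact le_normalizer_o2 _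
    have h3 : ∀ l ∈ zpowers x, ∀ y ∈ E ⊓ centralizer (O : Set H), l * y * l⁻¹ ∈ E ⊓ centralizer (O : Set H) := by
      intro l hl y hy
      refine ⟨hnorm l hl y hy.1, ?_⟩
      refine mem_centralizer_iff.2 ?_
      intro o ho
      have h4 : l⁻¹ * o * l ∈ O := by
        have := conj_mem_of_le hON (hzN ((zpowers x).inv_mem hl)) ho
        rwa [inv_inv] at this
      have h5 := mem_centralizer_iff.1 hy.2 _ h4
      calc o * (l * y * l⁻¹) = l * ((l⁻¹ * o * l) * y) * l⁻¹ := by group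
        _ = l * (y * (l⁻¹ * o * l)) * l⁻¹ := by rw [h5]
        _ = l * y * l⁻¹ * o := by group
    rcases hirr _ inf_le_left h3 with h4 | h4
    · exfalso
      have hOE : ∀ c ∈ O, ∀ e ∈ E, c * e * c⁻¹ ∈ E := fun c hc e he => hTE c (hOT hc) e he
      let _ := cja O E hOE
      have h5 : 2 ∣ Nat.card E := by
        obtain ⟨k, hk⟩ := IsPGroup.iff_card.1 hE2
        rw [hk]
        refine dvd_pow_self 2 ?_
        rintro rfl
        rw [pow_zero, card_eq_one] at hk
        exact hEne hk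
      obtain ⟨b, hb, hb1⟩ := hO2.exists_fixed_point_of_prime_dvd_card_of_fixed_point E h5
        (a := (1 : E)) (fun c => smul_one c)
      apply hb1
      have h6 : (b : H) ∈ E ⊓ centralizer (O : Set H) := by
        refine ⟨b.2, ?_⟩
        refine mem_centralizer_iff.2 ?_
        intro o ho
        have h7 : o * (b : H) * o⁻¹ = b := congrArg Subtype.val (hb ⟨o, ho⟩)
        rwa [mul_inv_eq_iff_eq_mul] at h7
      rw [h4, mem_bot] at h6
      exact (Subtype.ext h6).symm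
    · intro y hy
      refine cen y (hOT hy) fun e he => ?_
      have h5 : e ∈ E ⊓ centralizer (O : Set H) := by rw [h4]; exact he
      exact mem_centralizer_iff.1 h5.2 y hy
  · intro W hW _ hi l hl m
    let _ : MulDistribMulAction (zpowers x) M := inferInstance
    exact smul_mul_inv_mem (C := zpowers x) (U := M) hp hp2 nd hC h.sq (D := W) (fun c d hd => hW c c.2 d hd)
      (lt_of_lt_of_le hi card) ⟨l, hl⟩ m

end Cfsg.Agent.Omega.ML.LocPrime

end

section


/-!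
# (ML), the K-list end: THEOREM LOC for the rows `In H M K T A` (helper667)

* `In.exists_base` : a row situation gives `Loc.Base` for some `z ∈ C_M(T)`;
* `In.false_of_prime` : **THEOREM LOC, cyclic form**;  `In.false_of_dat` : general form;
* `InZ`, `DeadZ` : the rows together with the point `z` (not needed any more).
-/

set_option autoImplicit false

namespace Cfsg.Agent.Omega.ML.LocRow

open Subgroup Cfsg Cfsg.Agent.ClassTwoFusion.Quad Cfsg.Agent.Omega.NOThree.NoOver Cfsg.Agent.Omega.ML.CD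
open Cfsg.Agent.ZN Cfsg.Agent.Omega.ML.Rows Cfsg.Agent.Omega.ML.Loc
open Cfsg.Agent.Omega.ML.MinFrame (le_normalizer_of)

universe u v

/-- the situation of the rows together with the point -/
structure InZ (H : Type u) [Group H] (M : Type v) [Group M] [MulDistribMulAction H M] (K T Q A : Subgroup H) (z : M) :
    Prop where
  row : In H M K T A
  base : Base H M T Q A z

/-- the class `𝒮` does not occur -/
def DeadZ (𝒮 : ∀ (S : Type u) [Group S], Prop) : Prop :=
  ∀ (H : Type u) [Group H] [Finite H] (M : Type v) [Group M] [Finite M] [MulDistribMulAction H M]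
    (K T Q A : Subgroup H) (z : M), InZ H M K T Q A z → 𝒮 (K ⧸ center K) → False

theorem Dead.deadZ {𝒮 : ∀ (S : Type u) [Group S], Prop} (h : Dead.{u, v} 𝒮) : DeadZ.{u, v} 𝒮 :=
  fun H _ _ M _ _ _ K T _ A _ hI hS => h H M K T A hI.row hS

theorem two_of_nmax {H : Type*} [Group H] {T : Subgroup H}
    (nmax : ¬ ∃ N : Subgroup H, N ≠ ⊤ ∧ ∀ R : Subgroup H, T ≤ R → R ≠ ⊤ → R ≤ N) :
    ∀ R : Subgroup H, T ≤ R → R ≠ ⊤ → ∃ P : Subgroup H, T ≤ P ∧ P ≠ ⊤ ∧ ¬ P ≤ R := by
  intro R _ hR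
  by_contra hc
  push Not at hc
  exact nmax ⟨R, hR, fun P hP hP' => hc P hP hP'⟩

variable {H : Type u} [Group H] [Finite H] {M : Type v} [Group M] [Finite M]
  [MulDistribMulAction H M] {K T Q A : Subgroup H} {z : M}

omit [Finite H] in
theorem exists_fixed (hsq : ∀ m : M, m * m = 1) (hT : IsPGroup 2 T) {W : Subgroup M} (hW : ∀ t ∈ T, ∀ w ∈ W, t • w ∈ W)
    (hne : W ≠ ⊥) : ∃ w ∈ W, w ≠ 1 ∧ ∀ t ∈ T, t • w = w := by
  have h2f : Fact (Nat.Prime 2) := ⟨Nat.prime_two⟩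
  let _ : MulDistribMulAction T W :=
    { smul := fun t w => ⟨(t : H) • (w : M), hW t t.2 w w.2⟩
      one_smul := fun w => Subtype.ext (one_smul H (w : M))
      mul_smul := fun c d w => Subtype.ext (mul_smul (c : H) d (w : M))
      smul_mul := fun c u w => Subtype.ext (smul_mul' (c : H) (u : M) w)
      smul_one := fun c => Subtype.ext (smul_one (c : H)) }
  have h1 : IsPGroup 2 W := fun w => ⟨1, by rw [pow_one, pow_two]; exact Subtype.ext (hsq w)⟩
  have h5 : 2 ∣ Nat.card W := by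
    obtain ⟨k, hk⟩ := IsPGroup.iff_card.1 h1
    rw [hk]
    refine dvd_pow_self 2 ?_
    rintro rfl
    rw [pow_zero, card_eq_one] at hk
    exact hne hk
  obtain ⟨b, hb, hb1⟩ := hT.exists_fixed_point_of_prime_dvd_card_of_fixed_point W h5 (a := (1 : W)) (fun c => smul_one c)
  refine ⟨b, b.2, fun h => hb1 (Subtype.ext h.symm), fun t ht => ?_⟩
  exact congrArg Subtype.val (hb ⟨t, ht⟩)

/-- the row gives the base -/
theorem _root_.Cfsg.Agent.Omega.ML.Rows.In.exists_base (h : In H M K T A) :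
    ∃ z : M, z ≠ 1 ∧ Base H M T (o2 (MulAction.stabilizer H z)) A z := by
  have hA1 : A ≠ ⊥ := by
    rintro rfl
    have := h.eight
    rw [card_bot] at this
    omega
  have htop : (⊤ : Subgroup M) ≠ ⊥ := by
    intro h1
    apply hA1
    rw [eq_bot_iff]
    intro a _
    rw [mem_bot]
    apply h.faith
    intro m
    have h2 : ∀ m : M, m = 1 := fun m => mem_bot.1 (h1 ▸ mem_top m)
    rw [h2 m, smul_one]
  obtain ⟨z, -, hz1, hz⟩ := exists_fixed h.sq h.two (W := (⊤ : Subgroup M)) (fun _ _ _ _ => mem_top _) htop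
  have hcore : ∀ N : Subgroup H, N.Normal → IsPGroup 2 N → N = ⊥ := by
    intro N hN h2
    obtain ⟨w, -, hw1, hw⟩ := exists_fixed h.sq h2 (W := (⊤ : Subgroup M)) (fun _ _ _ _ => mem_top _) htop
    have h3 : cv M (N : Set H) = ⊤ := by
      refine (h.irr (cv M (N : Set H)) fun g m hm n hn => ?_).resolve_left fun h4 => hw1 ?_
      · have h5 := hm _ (hN.conj_mem n hn g⁻¹)
        rw [inv_inv, mul_smul, mul_smul, inv_smul_eq_iff] at h5
        exact h5
      · have h5 : w ∈ cv M (N : Set H) := fun n hn => hw n hn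
        rw [h4] at h5
        exact mem_bot.1 h5
    rw [eq_bot_iff]
    intro n hn
    rw [mem_bot]
    apply h.faith
    intro m
    have h4 : m ∈ cv M (N : Set H) := by rw [h3]; exact mem_top m
    exact h4 n hn
  have hTs : T ≤ MulAction.stabilizer H z := fun t ht => hz t ht
  have hst : MulAction.stabilizer H z ≠ ⊤ := by
    intro h1
    have h2 : zpowers z = ⊤ := by
      refine (h.irr (zpowers z) fun g w hw => ?_).resolve_left fun h3 => hz1 (by
        have : z ∈ zpowers z := mem_zpowers z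
        rw [h3] at this
        exact mem_bot.1 this)
      obtain ⟨k, rfl⟩ := hw
      have h3 : g • z = z := MulAction.mem_stabilizer_iff.1 (h1 ▸ mem_top g)
      change g • (z ^ k) ∈ zpowers z
      rw [smul_zpow', h3]
      exact zpow_mem_zpowers z k
    apply hA1
    rw [eq_bot_iff]
    intro a _
    rw [mem_bot]
    apply h.faith
    intro m
    have h3 : m ∈ zpowers z := by rw [h2]; exact mem_top m
    obtain ⟨k, rfl⟩ := h3
    have h4 : a • z = z := MulAction.mem_stabilizer_iff.1 (h1 ▸ mem_top a)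
    change a • (z ^ k) = z ^ k
    rw [smul_zpow', h4]
  have hQT : ∀ Q' : Subgroup H, IsPGroup 2 Q' → (∀ q ∈ Q', q • z = z) → (∀ g : H, g • z = z → ∀ q ∈ Q', g * q * g⁻¹ ∈ Q') →
      Q' ≤ o2 (MulAction.stabilizer H z) := fun Q' hQ hQz hQn =>
    Cfsg.Agent.MinSimple.VModule.le_o2 (fun q hq => hQz q hq) hQ (le_normalizer_of fun g hg x hx => hQn g hg x hx)
  have hoT : o2 (MulAction.stabilizer H z) ≤ T := Cfsg.Agent.MinSimple.VModule.o2_le_of_sylow h.two fun h2 =>
    h.syl (h2.trans (Dvd.intro _ (relIndex_mul_index hTs)))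
  refine ⟨z, hz1, h.sq, h.faith, hcore, h.two, h.syl, hz, Cfsg.Agent.MinSimple.VModule.o2_isPGroup _,
    fun q hq => Cfsg.Agent.MinSimple.VModule.o2_le _ hq, ?_, h.low _ hTs hst, h.el, h.strict, hA1, ?_⟩
  · intro g hg q hq
    exact Cfsg.Agent.Omega.ML.MinFrame.conj_mem_of_le (Cfsg.Agent.MinSimple.VModule.le_normalizer_o2 _) hg hq
  · intro Q' B R hQ hQz hQn hBQ hB2 hB hR hR'
    have h1 : Q' ≤ T := (hQT Q' hQ hQz hQn).trans hoT
    have h2 : ¬ 2 ∣ T.relIndex R := fun h2 => h.syl (h2.trans (Dvd.intro _ (relIndex_mul_index hR)))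
    refine h.bb R T B z hR' hR h.two h2 hz hB2 hB (hBQ.trans ?_)
    refine Cfsg.Agent.MinSimple.VModule.le_o2 (le_inf (h1.trans hR) fun q hq => hQz q hq) hQ
      (le_normalizer_of fun g hg x hx => hQn g hg.2 x hx)

/-- **THEOREM LOC, cyclic form** -/
theorem _root_.Cfsg.Agent.Omega.ML.Rows.In.false_of_prime (h : In H M K T A) {E : Subgroup H} {x : H} {p n : ℕ}
    (hET : E ≤ T) (hTE : ∀ t ∈ T, ∀ e ∈ E, t * e * t⁻¹ ∈ E) (el : ∀ e ∈ E, e * e = 1) (card : Nat.card E ≤ 2 ^ n)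
    (cen : ∀ t ∈ T, (∀ e ∈ E, t * e = e * t) → t ∈ E) (hp : p.Prime) (hp2 : p ≠ 2)
    (nd : ∀ k, 0 < k → k < n → ¬ p ∣ 2 ^ k - 1) (hx : x ^ p = 1) (norm : ∀ e ∈ E, x * e * x⁻¹ ∈ E)
    (hne : ∃ e ∈ E, x * e ≠ e * x) : False := by
  obtain ⟨z, -, hz⟩ := h.exists_base
  exact hz.false_of_prime (two_of_nmax h.nmax) hET hTE el card cen hp hp2 nd hx norm hne

/-- **THEOREM LOC** -/
theorem _root_.Cfsg.Agent.Omega.ML.Rows.In.false_of_dat (h : In H M K T A) {R₀ E L : Subgroup H}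
    (D : Dat H M T R₀ E L) : False := by
  obtain ⟨z, -, hz⟩ := h.exists_base
  exact hz.loc D (two_of_nmax h.nmax)

omit [Finite H] [Finite M] in
/-- `A ≤ K` implies `H = K` -/
theorem _root_.Cfsg.Agent.Omega.ML.Rows.In.eq_top_of_le (h : In H M K T A) (hA : A ≤ K) : K = ⊤ := by
  rw [← h.gen]
  exact (sup_eq_left.2 hA).symm

end Cfsg.Agent.Omega.ML.LocRow

end
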