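import Cfsg.Agent.Mrg.Omega.NOThree.NoOver
import Cfsg.Agent.Mrg.Omega.ML.MinIrr
import Cfsg.Agent.Mrg.Omega.TwoF.AltRk
import Cfsg.Agent.Mrg.Omega.ML.MinFrame
import Cfsg.Agent.Omega.KFacts
import Cfsg.Agent.S0252
import Cfsg.Agent.ClassTwoFusion.Quad

section


/-!
# (ML), the K-list end: the alternating rows (helper482)

* `exists_emb` : `X` with `S ⊴ X`, `C_X(S) = 1`, `S ≃ A_n`, `n ≥ 7`: an embedding `X → S_n` whose image of `S` is `A_n`;
* **`alt_over`** : such an `X`, `n ≠ 8`, every 2-subgroup `T` has a proper overgroup `R` with `|O₂(R)| ≤ 4`;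
* **`deadG_alt`** : the row `DeadG` of the alternating groups of degree `n ≥ 7`, `n ≠ 8`.
-/

set_option autoImplicit false

namespace Cfsg.Agent.Omega.ML.AltRow

open Subgroup Equiv Equiv.Perm Cfsg Cfsg.Agent.ZN Cfsg.Agent.Omega.ML.Rows
open Cfsg.Agent.MinSimple.VModule (o2_isPGroup o2_le le_normalizer_o2)

universe u

theorem exists_emb {X : Type u} [Group X] [Finite X] (S : Subgroup X) [S.Normal]
    (hC : centralizer (S : Set X) = ⊥) {n : ℕ} (h7 : 7 ≤ n) (e : S ≃* alternatingGroup (Fin n)) :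
    ∃ π : X →* Perm (Fin n), Function.Injective π ∧ S.map π = alternatingGroup (Fin n) := by
  obtain ⟨ψ, hψ, -⟩ := Cfsg.Agent.Omega.TwoF.AltRk.exists_psi h7
  let π : X →* Perm (Fin n) := ψ.comp ((MulAut.congr e).toMonoidHom.comp (MulAut.conjNormal (H := S)))
  have hπ : Function.Injective π := by
    refine hψ.comp ((MulAut.congr e).injective.comp ?_)
    rw [injective_iff_map_eq_one]
    intro g hg
    have h1 : g ∈ centralizer (S : Set X) := by
      refine mem_centralizer_iff.2 fun s hs => ?_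
      have h2 : ((MulAut.conjNormal g : MulAut S) ⟨s, hs⟩ : X) = s := by
        rw [hg]; rfl
      rw [MulAut.conjNormal_apply] at h2
      have h3 : g * s * g⁻¹ = s := h2
      exact (mul_inv_eq_iff_eq_mul.1 h3).symm
    rw [hC] at h1
    exact mem_bot.1 h1
  refine ⟨π, hπ, ?_⟩
  have : Nontrivial (Fin n) := Fin.nontrivial_iff_two_le.2 (by omega)
  apply eq_alternatingGroup_of_index_eq_two
  have h1 : Nat.card (S.map π) = Nat.card (alternatingGroup (Fin n)) :=
    (Nat.card_congr (S.equivMapOfInjective π hπ).symm.toEquiv).trans (Nat.card_congr e.toEquiv)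
  have h2 := (S.map π).card_mul_index
  have h3 := (alternatingGroup (Fin n)).card_mul_index
  rw [alternatingGroup.index_eq_two] at h3
  rw [h1, ← h3] at h2
  exact Nat.eq_of_mul_eq_mul_left Nat.card_pos h2

theorem alt_over {X : Type u} [Group X] [Finite X] (S : Subgroup X) [S.Normal]
    (hC : centralizer (S : Set X) = ⊥) {n : ℕ} (h7 : 7 ≤ n) (h8 : n ≠ 8) (e : S ≃* alternatingGroup (Fin n))
    (T : Subgroup X) (hT : IsPGroup 2 T) : ∃ R : Subgroup X, T ≤ R ∧ R ≠ ⊤ ∧ Nat.card (o2 R) ≤ 4 := by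
  obtain ⟨π, hπ, hS⟩ := exists_emb S hC h7 e
  obtain ⟨R₀, hTR, ⟨c, hc, hcR⟩, hN⟩ := AltPerm.main h7 h8 (T.map π) (hT.map π)
  have hex : ∀ c : Perm (Fin n), sign c = 1 → ∃ s, π s = c := by
    intro c hc
    have h1 : c ∈ S.map π := by rw [hS]; exact mem_alternatingGroup.2 hc
    obtain ⟨s, -, hs⟩ := h1
    exact ⟨s, hs⟩
  refine ⟨R₀.comap π, Subgroup.map_le_iff_le_comap.1 hTR, ?_, ?_⟩
  · intro h
    obtain ⟨s, hs⟩ := hex c hc
    have h1 : s ∈ R₀.comap π := by rw [h]; trivial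
    rw [mem_comap, hs] at h1
    exact hcR h1
  · have h1 := hN ((o2 (R₀.comap π)).map π) (Subgroup.map_le_iff_le_comap.2 (o2_le _)) ((o2_isPGroup _).map π) ?_
    · rwa [card_map_of_injective hπ] at h1
    · rintro c hcR hc1 _ ⟨g, hg, rfl⟩
      obtain ⟨s, rfl⟩ := hex c hc1
      have h2 : s ∈ R₀.comap π := hcR
      refine ⟨s * g * s⁻¹, ?_, by simp⟩
      exact (mem_normalizer_iff.1 (le_normalizer_o2 _ h2) g).1 hg

/-- **The alternating rows, degree `≥ 7`, `≠ 8`.** -/
theorem deadG_alt : DeadG.{u} (fun S _ => ∃ n : ℕ, 7 ≤ n ∧ n ≠ 8 ∧ Nonempty (S ≃* alternatingGroup (Fin n))) := by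
  rintro X _ _ S T A h ⟨n, h7, h8, ⟨e⟩⟩
  have := h.norm
  obtain ⟨R, hT, hR, hc⟩ := alt_over S h.cen h7 h8 e T h.two
  exact h.card_le_four_of_o2 hT hR hc

end Cfsg.Agent.Omega.ML.AltRow

end

section


/-!
# (ML), the K-list end: the list of all rows (helper484, GLUE)

* `DeadZ.mono`, `DeadZ.or`, `DeadZ.of_dead`, `DeadZ.of_deadG`, `DeadZ.perm_iso`;
* `OddLie K` : of Lie type in odd characteristic;
* **`RowsML`** : one field per row of the list (every field has the form `DeadZ 𝒮`);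
* **`RowsML.known`** : `RowsML → DeadZ IsKnownSimple'`.
-/

set_option autoImplicit false

namespace Cfsg.Agent.Omega.ML.Known

open Subgroup Cfsg Cfsg.Agent.ZN Cfsg.Agent.Omega.ML.Rows Cfsg.Agent.Omega.ML.LocRow Cfsg.Agent.Omega.KFacts

universe u v

/-- smaller classes -/
theorem DeadZ.mono {𝒮 𝒮' : ∀ (S : Type u) [Group S], Prop} (h : DeadZ.{u, v} 𝒮)
    (h' : ∀ (S : Type u) [Group S], 𝒮' S → 𝒮 S) : DeadZ.{u, v} 𝒮' :=
  fun H _ _ M _ _ _ K T Q A z hI hS => h H M K T Q A z hI (h' _ hS)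

/-- a row of the form `Dead` -/
theorem DeadZ.of_dead {𝒮 : ∀ (S : Type u) [Group S], Prop} (h : Dead.{u, v} 𝒮) : DeadZ.{u, v} 𝒮 :=
  LocRow.Dead.deadZ h

/-- a group-theoretic row -/
theorem DeadZ.of_deadG {𝒮 : ∀ (S : Type u) [Group S], Prop} (h𝒮 : IsoClosed.{u} 𝒮) (h : DeadG.{u} 𝒮) :
    DeadZ.{u, v} 𝒮 :=
  DeadZ.of_dead (h.dead h𝒮)

theorem DeadZ.or {𝒮 𝒮' : ∀ (S : Type u) [Group S], Prop} (h : DeadZ.{u, v} 𝒮) (h' : DeadZ.{u, v} 𝒮') :
    DeadZ.{u, v} fun S _ => 𝒮 S ∨ 𝒮' S :=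
  fun H _ _ M _ _ _ K T Q A z hI hS =>
    hS.elim (fun h1 => h H M K T Q A z hI h1) fun h1 => h' H M K T Q A z hI h1

/-- of Lie type in odd characteristic -/
def OddLie (K : Type u) [Group K] : Prop := ∃ p : ℕ, p.Prime ∧ p ≠ 2 ∧ IsLieTypeChar p K

/-- **The rows of the list of (ML).** -/
structure RowsML : Prop where
  lie2 : DeadZ.{u, v} fun S _ => IsLieTypeChar 2 S
  alt : DeadZ.{u, v} fun S _ => ∃ n : ℕ, 7 ≤ n ∧ n ≠ 8 ∧ Nonempty (S ≃* alternatingGroup (Fin n))
  a6 : DeadZ.{u, v} fun S _ => Nonempty (S ≃* alternatingGroup (Fin 6))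
  odd : DeadZ.{u, v} fun S _ => OddLie S ∧ ¬ IsLieTypeChar 2 S
  tits : DeadZ.{u, v} @Lie.IsoTits
  m11 : DeadZ.{u, v} @Spor.IsoM11
  m12 : DeadZ.{u, v} @Spor.IsoM12
  m22 : DeadZ.{u, v} @Spor.IsoM22
  m23 : DeadZ.{u, v} @Spor.IsoM23
  m24 : DeadZ.{u, v} @Spor.IsoM24
  j1 : DeadZ.{u, v} @Spor.IsoJ1
  j2 : DeadZ.{u, v} @Spor.IsoJ2
  j3 : DeadZ.{u, v} @Spor.IsoJ3
  j4 : DeadZ.{u, v} @Spor.IsoJ4
  co1 : DeadZ.{u, v} @Spor.IsoCo1
  co2 : DeadZ.{u, v} @Spor.IsoCo2
  co3 : DeadZ.{u, v} @Spor.IsoCo3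
  mcl : DeadZ.{u, v} @Spor.IsoMcL
  hs : DeadZ.{u, v} @Spor.IsoHS
  suz : DeadZ.{u, v} @Spor.IsoSuz
  he : DeadZ.{u, v} @Spor.IsoHe
  ru : DeadZ.{u, v} @Spor.IsoRu
  on : DeadZ.{u, v} @Spor.IsoON
  ly : DeadZ.{u, v} @Spor.IsoLy
  fi22 : DeadZ.{u, v} @Spor.IsoFi22
  fi23 : DeadZ.{u, v} @Spor.IsoFi23
  fi24 : DeadZ.{u, v} @Spor.IsoFi24'
  hn : DeadZ.{u, v} @Spor.IsoHN
  th : DeadZ.{u, v} @Spor.IsoTh
  b : DeadZ.{u, v} @Spor.IsoB
  m : DeadZ.{u, v} @Spor.IsoM


theorem isoClosed_alt : IsoClosed.{u} fun S _ => ∃ n : ℕ, 7 ≤ n ∧ n ≠ 8 ∧ Nonempty (S ≃* alternatingGroup (Fin n)) :=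
  fun _ _ _ _ e ⟨n, h7, h8, ⟨f⟩⟩ => ⟨n, h7, h8, ⟨e.symm.trans f⟩⟩

/-- **the alternating row, `n ≥ 7`, `n ≠ 8`** -/
theorem row_alt : DeadZ.{u, v} fun S _ => ∃ n : ℕ, 7 ≤ n ∧ n ≠ 8 ∧ Nonempty (S ≃* alternatingGroup (Fin n)) :=
  DeadZ.of_deadG isoClosed_alt AltRow.deadG_alt

section

variable {K : Type u} [Group K]

theorem odd_psl (h : OddChar @IsPSLChar K) : OddLie K := by
  obtain ⟨p, hp, h2, h⟩ := h
  exact ⟨p, hp, h2, Or.inl h⟩

theorem odd_psp (h : OddChar @IsPSpChar K) : OddLie K := by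
  obtain ⟨p, hp, h2, h⟩ := h
  exact ⟨p, hp, h2, Or.inr (Or.inl h)⟩

theorem odd_psu (h : OddChar @IsPSUChar K) : OddLie K := by
  obtain ⟨p, hp, h2, h⟩ := h
  exact ⟨p, hp, h2, Or.inr (Or.inr (Or.inl h))⟩

theorem odd_omOdd (h : OddChar @IsPOmegaOddChar K) : OddLie K := by
  obtain ⟨p, hp, h2, h⟩ := h
  exact ⟨p, hp, h2, Or.inr (Or.inr (Or.inr (Or.inl h)))⟩

theorem odd_omPlus (h : OddChar @IsPOmegaPlusChar K) : OddLie K := by
  obtain ⟨p, hp, h2, h⟩ := h
  exact ⟨p, hp, h2, Or.inr (Or.inr (Or.inr (Or.inr (Or.inl h))))⟩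

theorem odd_omMinus (h : OddChar @IsPOmegaMinusChar K) : OddLie K := by
  obtain ⟨p, hp, h2, h⟩ := h
  exact ⟨p, hp, h2, Or.inr (Or.inr (Or.inr (Or.inr (Or.inr (Or.inl h)))))⟩

theorem odd_chev (h : OddChar @IsExceptionalChevChar K) : OddLie K := by
  obtain ⟨p, hp, h2, h⟩ := h
  exact ⟨p, hp, h2, Or.inr (Or.inr (Or.inr (Or.inr (Or.inr (Or.inr (Or.inl h))))))⟩

theorem odd_twisted (h : OddChar @IsTwistedE6D4Char K) : OddLie K := by
  obtain ⟨p, hp, h2, h⟩ := h
  exact ⟨p, hp, h2, Or.inr (Or.inr (Or.inr (Or.inr (Or.inr (Or.inr (Or.inr (Or.inl h)))))))⟩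

theorem odd_ree (h : Lie.IsoRee K) : OddLie K :=
  ⟨3, Nat.prime_three, by norm_num,
    Or.inr (Or.inr (Or.inr (Or.inr (Or.inr (Or.inr (Or.inr (Or.inr (Or.inr (Or.inr ⟨rfl, h⟩)))))))))⟩

/-- **The classes of the list.** -/
theorem cases (h : IsKnownSimple' K) :
    IsPrimeCyclic K ∨ IsLieTypeChar 2 K ∨ (OddLie K ∧ ¬ IsLieTypeChar 2 K) ∨
      Nonempty (K ≃* alternatingGroup (Fin 6)) ∨
      (∃ n : ℕ, 7 ≤ n ∧ n ≠ 8 ∧ Nonempty (K ≃* alternatingGroup (Fin n))) ∨ Lie.IsoTits K ∨ IsSporadicGroup K := by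
  by_cases h2 : IsLieTypeChar 2 K
  · exact Or.inr (Or.inl h2)
  have hn := fun (P : Prop) (hP : IsLieTypeChar 2 K ∨ P) => hP.resolve_left h2
  have ho : OddLie K → IsPrimeCyclic K ∨ IsLieTypeChar 2 K ∨ (OddLie K ∧ ¬ IsLieTypeChar 2 K) ∨
      Nonempty (K ≃* alternatingGroup (Fin 6)) ∨
      (∃ n : ℕ, 7 ≤ n ∧ n ≠ 8 ∧ Nonempty (K ≃* alternatingGroup (Fin n))) ∨ Lie.IsoTits K ∨ IsSporadicGroup K :=
    fun h => Or.inr (Or.inr (Or.inl ⟨h, h2⟩))
  rcases h with h | ⟨n, h5, ⟨e⟩⟩ | h | h | h | h | h | h | h | h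
  · exact Or.inl h
  · by_cases h8 : n = 8
    · exfalso
      subst h8
      apply h2
      obtain ⟨e'⟩ := Cfsg.Agent.S0256.result (F := ZMod 2) (by simp)
      exact Or.inl ⟨ZMod 2, inferInstance, inferInstance, inferInstance, 4, by norm_num, by norm_num,
        ⟨e.trans e'.symm⟩⟩
    · by_cases h5' : n = 5
      · exfalso
        subst h5'
        apply h2
        let _ : Fintype (GaloisField 2 2) := Fintype.ofFinite _
        have hc : Fintype.card (GaloisField 2 2) = 4 := by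
          rw [Fintype.card_eq_nat_card, GaloisField.card 2 2 (by norm_num)]; norm_num
        obtain ⟨e'⟩ := Cfsg.Agent.S0252.result (F := GaloisField 2 2) hc
        exact Or.inl ⟨GaloisField 2 2, inferInstance, inferInstance, inferInstance, 2, le_rfl,
          fun _ => hc.ge, ⟨e.trans e'.symm⟩⟩
      · by_cases h6 : n = 6
        · subst h6
          exact Or.inr (Or.inr (Or.inr (Or.inl ⟨e⟩)))
        · exact Or.inr (Or.inr (Or.inr (Or.inr (Or.inl ⟨n, by omega, h8, ⟨e⟩⟩))))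
  · exact ho (odd_psl (hn _ (of_psl h)))
  · exact ho (odd_psp (hn _ (of_psp h)))
  · exact ho (odd_psu (hn _ (of_psu h)))
  · exact ho (odd_omOdd (hn _ (of_omOdd h)))
  · exact ho (odd_omPlus (hn _ (of_omPlus h)))
  · exact ho (odd_omMinus (hn _ (of_omMinus h)))
  · unfold IsExceptionalLieType at h
    by_cases h3 : Lie.IsoChevG2 K ∨ Lie.IsoF4 K ∨ Lie.IsoChevE6 K ∨ Lie.IsoE7 K ∨ Lie.IsoE8 K
    · exact ho (odd_chev (hn _ (of_chev h3)))
    by_cases h4 : Lie.Iso2E6 K ∨ Lie.Iso3D4 K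
    · exact ho (odd_twisted (hn _ (of_twisted h4)))
    by_cases h5 : Lie.IsoSuzuki K
    · exact absurd (Or.inr (Or.inr (Or.inr (Or.inr (Or.inr (Or.inr (Or.inr (Or.inr (Or.inl ⟨rfl, h5⟩)))))))))  h2
    by_cases h6 : Lie.Iso2F4 K
    · exact absurd (Or.inr (Or.inr (Or.inr (Or.inr (Or.inr (Or.inr (Or.inr (Or.inr (Or.inr
        (Or.inl ⟨rfl, h6⟩)))))))))) h2
    by_cases h7 : Lie.IsoRee K
    · exact ho (odd_ree h7)
    by_cases h8 : Lie.IsoTits K
    · exact Or.inr (Or.inr (Or.inr (Or.inr (Or.inr (Or.inl h8)))))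
    exfalso
    tauto
  · exact Or.inr (Or.inr (Or.inr (Or.inr (Or.inr (Or.inr h)))))

end

/-- `K / Z(K)` is not of prime order -/
theorem not_primeCyclic {K : Type u} [Group K] : ¬ IsPrimeCyclic (K ⧸ center K) := by
  intro hc
  have h1 : Nat.Prime (Nat.card (K ⧸ center K)) := hc
  have : Fact (Nat.card (K ⧸ center K)).Prime := ⟨h1⟩
  have hcyc : IsCyclic (K ⧸ center K) := isCyclic_of_prime_card (α := K ⧸ center K) rfl
  have hcomm : ∀ a b : K, a * b = b * a :=
    (MonoidHom.isMulCommutative_of_isCyclic_of_ker_le_center (QuotientGroup.mk' (center K)) (by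
      rw [QuotientGroup.ker_mk'])).is_comm.comm
  have htop : center K = ⊤ := by
    rw [eq_top_iff]
    intro x _
    exact mem_center_iff.2 fun y => hcomm y x
  have h2 : Nat.card (K ⧸ center K) = 1 := by
    rw [htop]
    exact index_top
  rw [h2] at h1
  exact Nat.not_prime_one h1

/-- **All rows of the list: no known simple group occurs.** -/
theorem RowsML.known (R : RowsML.{u, v}) : DeadZ.{u, v} @IsKnownSimple' := by
  intro H _ _ M _ _ _ K T Q A z hI hS
  rcases cases hS with h | h | h | h | h | h | h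
  · exact not_primeCyclic h
  · exact R.lie2 H M K T Q A z hI h
  · exact R.odd H M K T Q A z hI h
  · exact R.a6 H M K T Q A z hI h
  · exact R.alt H M K T Q A z hI h
  · exact R.tits H M K T Q A z hI h
  · unfold IsSporadicGroup at h
    rcases h with h | h | h | h | h | h | h | h | h | h | h | h | h | h | h | h | h | h | h | h | h | h | h | h | h | h
    · exact R.m11 H M K T Q A z hI h
    · exact R.m12 H M K T Q A z hI h
    · exact R.m22 H M K T Q A z hI h
    · exact R.m23 H M K T Q A z hI h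
    · exact R.m24 H M K T Q A z hI h
    · exact R.j1 H M K T Q A z hI h
    · exact R.j2 H M K T Q A z hI h
    · exact R.j3 H M K T Q A z hI h
    · exact R.j4 H M K T Q A z hI h
    · exact R.co1 H M K T Q A z hI h
    · exact R.co2 H M K T Q A z hI h
    · exact R.co3 H M K T Q A z hI h
    · exact R.mcl H M K T Q A z hI h
    · exact R.hs H M K T Q A z hI h
    · exact R.suz H M K T Q A z hI h
    · exact R.he H M K T Q A z hI h
    · exact R.ru H M K T Q A z hI h
    · exact R.on H M K T Q A z hI h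
    · exact R.ly H M K T Q A z hI h
    · exact R.fi22 H M K T Q A z hI h
    · exact R.fi23 H M K T Q A z hI h
    · exact R.fi24 H M K T Q A z hI h
    · exact R.hn H M K T Q A z hI h
    · exact R.th H M K T Q A z hI h
    · exact R.b H M K T Q A z hI h
    · exact R.m H M K T Q A z hI h

end Cfsg.Agent.Omega.ML.Known

end

section


/-!
# A common axis (OMEGA, (ML); #16144 of helper595, fill-ins #16314 of helper114); K-free

`H` acts faithfully and irreducibly on the elementary abelian 2-group `M`, `A` is an elementary abelian subgroup of order at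
least 4 with `|M : C_M(A)| = 2`, `H = ⟨A^H⟩`, and the stabiliser of some `z` normalises `A`: impossible.

* `Tr t c` : `t` acts on `M` as a transvection with centre `c`;
* `false_of_axis`.
-/

set_option autoImplicit false

namespace Cfsg.Agent.Omega.ML.Axis

open Subgroup Cfsg.Agent.ClassTwoFusion.Quad

variable {H M : Type*} [Group H] [Group M] [MulDistribMulAction H M]

/-- `t` acts on `M` as a transvection with centre `c` -/
structure Tr (t : H) (c : M) : Prop where
  fix : t • c = c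
  or : ∀ m : M, t • m = m ∨ t • m = m * c
  ne : ∃ m : M, t • m ≠ m

theorem cm (sq : ∀ v : M, v * v = 1) (v w : M) : v * w = w * v := by
  have hv : v⁻¹ = v := inv_eq_of_mul_eq_one_right (sq v)
  have hw : w⁻¹ = w := inv_eq_of_mul_eq_one_right (sq w)
  calc v * w = (w⁻¹ * v⁻¹)⁻¹ := by group
    _ = (w * v)⁻¹ := by rw [hv, hw]
    _ = w * v := inv_eq_of_mul_eq_one_right (sq _)

theorem cancel (sq : ∀ v : M, v * v = 1) {x y c : M} (h : x * c = y) : x = y * c := by
  rw [← h, mul_assoc, sq, mul_one]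

namespace Tr

variable {t : H} {c : M} (T : Tr t c)
include T

theorem eq {m : M} (hm : t • m ≠ m) : t • m = m * c := (T.or m).resolve_left hm

theorem ne_one : c ≠ 1 := by
  rintro rfl
  obtain ⟨m, hm⟩ := T.ne
  rcases T.or m with h | h
  · exact hm h
  · exact hm (by rw [h, mul_one])

theorem t_ne_one : t ≠ 1 := by
  rintro rfl
  obtain ⟨m, hm⟩ := T.ne
  exact hm (one_smul H m)

theorem conj (g : H) : Tr (g * t * g⁻¹) (g • c) where
  fix := by
    rw [mul_smul, mul_smul, inv_smul_smul, T.fix]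
  or m := by
    rw [mul_smul, mul_smul]
    rcases T.or (g⁻¹ • m) with h | h
    · left; rw [h, smul_inv_smul]
    · right; rw [h, smul_mul', smul_inv_smul]
  ne := by
    obtain ⟨m, hm⟩ := T.ne
    refine ⟨g • m, fun h => hm ?_⟩
    rw [mul_smul, mul_smul, inv_smul_smul] at h
    exact MulAction.injective g h

variable (sq : ∀ v : M, v * v = 1)
include sq

theorem invol (m : M) : t • t • m = m := by
  rcases T.or m with h | h
  · rw [h, h]
  · rw [h, smul_mul', h, T.fix, mul_assoc, sq, mul_one]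

theorem inv_smul (m : M) : t⁻¹ • m = t • m := by
  rw [inv_smul_eq_iff, T.invol sq]

theorem mul_fix {m m' : M} (h : t • m ≠ m) (h' : t • m' ≠ m') : t • (m * m') = m * m' := by
  rw [smul_mul', T.eq h, T.eq h']
  calc m * c * (m' * c) = m * (c * m') * c := by group
    _ = m * (m' * c) * c := by rw [cm sq c m']
    _ = m * m' * (c * c) := by group
    _ = m * m' := by rw [sq, mul_one]

end Tr

/-- the elements of `A` are transvections with centres in `C_M(A)` -/
theorem exists_tr (sq : ∀ v : M, v * v = 1) (faith : ∀ x : H, (∀ v : M, x • v = v) → x = 1) {A : Subgroup H}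
    (h2 : ∀ a ∈ A, a * a = 1) (hind : (cv M (A : Set H)).index = 2) {a : H} (ha : a ∈ A) (ha1 : a ≠ 1) :
    ∃ c ∈ cv M (A : Set H), Tr a c ∧ ∀ m, m ∉ cv M (A : Set H) → a • m = m * c := by
  set U := cv M (A : Set H) with hU
  obtain ⟨m0, hm0⟩ : ∃ m0 : M, m0 ∉ U := by
    by_contra hcon
    push Not at hcon
    have : U = ⊤ := (Subgroup.eq_top_iff' U).2 hcon
    rw [this, Subgroup.index_top] at hind
    omega
  have key : ∀ m, m ∉ U → a • m = m * (m0 * a • m0) := by
    intro m hm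
    have h1 : m * m0 ∈ U := (Subgroup.mul_mem_iff_of_index_two hind).2 (iff_of_false hm hm0)
    have h3 : a • (m * m0) = m * m0 := h1 a ha
    rw [smul_mul'] at h3
    have h4 := cancel sq h3
    rw [h4, mul_assoc]
  have ne : ∃ m : M, a • m ≠ m := by
    by_contra hcon
    push Not at hcon
    exact ha1 (faith a hcon)
  have or' : ∀ m : M, a • m = m ∨ a • m = m * (m0 * a • m0) := by
    intro m
    by_cases hm : m ∈ U
    · exact Or.inl (hm a ha)
    · exact Or.inr (key m hm)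
  have fix : a • (m0 * a • m0) = m0 * a • m0 := by
    rw [smul_mul', ← mul_smul, h2 a ha, one_smul, cm sq]
  have T : Tr a (m0 * a • m0) := ⟨fix, or', ne⟩
  refine ⟨_, ?_, T, key⟩
  by_contra hc
  have h3 := key _ hc
  rw [fix, sq] at h3
  exact T.ne_one h3

/-- **Common axis.** -/
theorem false_of_axis (sq : ∀ v : M, v * v = 1) (faith : ∀ x : H, (∀ v : M, x • v = v) → x = 1)
    {A : Subgroup H} {z : M} (h2 : ∀ a ∈ A, a * a = 1) (hcz : ∀ g : H, g • z = z → g ∈ normalizer (A : Set H))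
    (hind : (cv M (A : Set H)).index = 2) (hgen : normalClosure (A : Set H) = ⊤)
    (hirr : ∀ W : Subgroup M, (∀ g : H, ∀ w ∈ W, g • w ∈ W) → W = ⊥ ∨ W = ⊤)
    {a b : H} (ha : a ∈ A) (hb : b ∈ A) (ha1 : a ≠ 1) (hb1 : b ≠ 1) (hab : a ≠ b) : False := by
  set U := cv M (A : Set H) with hU
  have idx : ∀ {x y : M}, x * y ∈ U ↔ (x ∈ U ↔ y ∈ U) := fun {x y} => Subgroup.mul_mem_iff_of_index_two hind
  -- the transvections
  set TT : Set H := {t | ∃ g : H, ∃ x ∈ A, x ≠ 1 ∧ t = g * x * g⁻¹} with hTT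
  have tr : ∀ t ∈ TT, ∃ c, Tr t (c : M) := by
    rintro _ ⟨g, x, hx, hx1, rfl⟩
    obtain ⟨c, -, T, -⟩ := exists_tr sq faith h2 hind hx hx1
    exact ⟨_, T.conj g⟩
  have tconj : ∀ t ∈ TT, ∀ g : H, g * t * g⁻¹ ∈ TT := by
    rintro _ ⟨k, x, hx, hx1, rfl⟩ g
    exact ⟨g * k, x, hx, hx1, by group⟩
  -- (i)
  have i1 : ∀ t c, t ∈ TT → Tr t c → c ∉ U → t • z ≠ z := by
    intro t c _ T hc hz
    have hn := hcz t hz
    have hU' : ∀ m ∈ U, t • m ∈ U := by
      intro m hm x hx
      have h3 : t⁻¹ * x * t ∈ A := by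
        have := (Subgroup.mem_normalizer_iff.1 (inv_mem hn) x).1 hx
        rwa [inv_inv] at this
      have h4 : x • t • m = t • ((t⁻¹ * x * t) • m) := by
        rw [← mul_smul, ← mul_smul]; congr 1; group
      rw [h4, hm _ h3]
    obtain ⟨m, hm, hm1⟩ : ∃ m ∈ U, t • m ≠ m := by
      by_contra hcon
      push Not at hcon
      obtain ⟨m, hm⟩ := T.ne
      by_cases hmU : m ∈ U
      · exact hm (hcon m hmU)
      · have h3 : m * c ∈ U := idx.2 (iff_of_false hmU hc)
        have h4 := hcon _ h3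
        rw [smul_mul', T.fix] at h4
        exact hm (mul_right_cancel h4)
    have h3 := hU' m hm
    rw [T.eq hm1] at h3
    exact hc ((idx.1 h3).1 hm)
  -- (ii)
  have i2 : ∀ t c t' c', t ∈ TT → t' ∈ TT → Tr t c → Tr t' c' → c ∉ U → c' ∉ U → t • c' = c' → t' • c = c := by
    intro t c t' c' ht ht' T T' hc hc' h
    by_contra hne
    have hz := i1 t c ht T hc
    have hz' := i1 t' c' ht' T' hc'
    have hs := i1 (t * t' * t⁻¹) (t • c') (tconj t' ht' t) (T'.conj t) (by rw [h]; exact hc')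
    apply hs
    rw [mul_smul, mul_smul, T.inv_smul sq, T.eq hz, T'.mul_fix sq hz' hne, smul_mul', T.eq hz, T.fix, mul_assoc, sq,
      mul_one]
  have i2' : ∀ t c t' c', t ∈ TT → t' ∈ TT → Tr t c → Tr t' c' → c ∉ U → c' ∉ U → (t • c' = c' ↔ t' • c = c) :=
    fun t c t' c' ht ht' T T' hc hc' => ⟨i2 t c t' c' ht ht' T T' hc hc', i2 t' c' t c ht' ht T' T hc' hc⟩
  -- (iii)
  have i3 : ∀ t c, t ∈ TT → Tr t c → c ∉ U → ∀ x ∈ A, ∀ e ∈ U, Tr x e → t • e = e →
      ∀ t' c', t' ∈ TT → Tr t' c' → c' ∉ U → t' • e = e := by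
    intro t c ht T hc x hx e he E hte t' c' ht' T' hc'
    have hxc : x • c = c * e := by
      rcases E.or c with h | h
      · exfalso
        -- `x` fixes `c ∉ U` and `U`, so everything
        obtain ⟨m, hm⟩ := E.ne
        apply hm
        by_cases hmU : m ∈ U
        · exact hmU x hx
        · have h3 : m * c ∈ U := idx.2 (iff_of_false hmU hc)
          have h4 := h3 x hx
          rw [smul_mul', h] at h4
          exact mul_right_cancel h4
      · exact h
    have hs := T.conj x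
    rw [hxc] at hs
    have hce : c * e ∉ U := fun h3 => hc ((idx.1 h3).2 he)
    -- `t` and `x t x⁻¹` fix the same elements
    have hfix : ∀ m : M, (x * t * x⁻¹) • m = m ↔ t • m = m := by
      intro m
      rw [mul_smul, mul_smul, E.inv_smul sq]
      rcases E.or m with h | h
      · rw [h]
        constructor
        · intro h3
          have h4 := congrArg (fun y => x • y) h3
          simp only [E.invol sq] at h4
          rw [h4, h]
        · intro h3
          rw [h3, h]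
      · rw [h, smul_mul', hte]
        constructor
        · intro h3
          have h4 := congrArg (fun y => x • y) h3
          simp only [E.invol sq] at h4
          rw [h] at h4
          exact mul_right_cancel h4
        · intro h3
          rw [h3, smul_mul', h, E.fix, mul_assoc, sq, mul_one]
    have h5 := i2' t c t' c' ht ht' T T' hc hc'
    have h6 := i2' _ _ t' c' (tconj t ht x) ht' hs T' hce hc'
    rw [hfix, h5] at h6
    by_cases h7 : t' • c = c
    · have h8 := h6.1 h7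
      rw [smul_mul', h7] at h8
      exact mul_left_cancel h8
    · have h8 : t' • (c * e) ≠ c * e := fun h => h7 (h6.2 h)
      have h9 := T'.mul_fix sq h7 h8
      have e1 : c * (c * e) = e := by rw [← mul_assoc, sq, one_mul]
      rwa [e1] at h9
  -- (iv)
  obtain ⟨ca, hca, Ta, ka⟩ := exists_tr sq faith h2 hind ha ha1
  obtain ⟨cb, hcb, Tb, kb⟩ := exists_tr sq faith h2 hind hb hb1
  have mTT : ∀ x ∈ A, x ≠ 1 → x ∈ TT := fun x hx hx1 => ⟨1, x, hx, hx1, by group⟩
  -- some centre is not in `U`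
  obtain ⟨t, c, ht, T, hc⟩ : ∃ t c, t ∈ TT ∧ Tr t (c : M) ∧ c ∉ U := by
    by_contra hcon
    push Not at hcon
    have hW := hirr (Subgroup.closure {c : M | ∃ t ∈ TT, Tr t (c : M)}) (by
      intro g w hw
      induction hw using Subgroup.closure_induction with
      | mem x hx =>
        obtain ⟨t, ht, T⟩ := hx
        exact Subgroup.subset_closure ⟨_, tconj t ht g, T.conj g⟩
      | one => rw [smul_one]; exact one_mem _
      | mul x y _ _ hx hy => rw [smul_mul']; exact mul_mem hx hy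
      | inv x _ hx => rw [smul_inv']; exact inv_mem hx)
    have hle : Subgroup.closure {c : M | ∃ t ∈ TT, Tr t (c : M)} ≤ U := by
      rw [Subgroup.closure_le]
      rintro c ⟨t, ht, T⟩
      exact hcon t c ht T
    rcases hW with hW | hW
    · have h3 : ca ∈ (⊥ : Subgroup M) := by
        rw [← hW]; exact Subgroup.subset_closure ⟨a, mTT a ha ha1, Ta⟩
      exact Ta.ne_one (Subgroup.mem_bot.1 h3)
    · rw [hW, top_le_iff] at hle
      rw [hle, Subgroup.index_top] at hind
      omega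
  -- an element `e` of `[M, A]` fixed by `t`
  obtain ⟨x, hx, e, he, E, hte⟩ : ∃ x ∈ A, ∃ e ∈ U, Tr x e ∧ t • e = e := by
    by_cases h3 : t • ca = ca
    · exact ⟨a, ha, ca, hca, Ta, h3⟩
    by_cases h4 : t • cb = cb
    · exact ⟨b, hb, cb, hcb, Tb, h4⟩
    have hbb : b⁻¹ = b := inv_eq_of_mul_eq_one_right (h2 b hb)
    have hab1 : a * b ≠ 1 := fun h5 => hab (by rw [eq_inv_of_mul_eq_one_left h5, hbb])
    obtain ⟨c', hc', T', k'⟩ := exists_tr sq faith h2 hind (mul_mem ha hb) hab1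
    have e1 : c' = ca * cb := by
      have h5 := k' c hc
      rw [mul_smul, kb c hc, smul_mul', ka c hc, hcb a ha, mul_assoc] at h5
      exact (mul_left_cancel h5).symm
    exact ⟨a * b, mul_mem ha hb, c', hc', T', by rw [e1]; exact T.mul_fix sq h3 h4⟩
  have h3 := i3 t c ht T hc x hx e he E hte
  -- `C_M(TT₁)` is invariant
  set C := cv M {t : H | t ∈ TT ∧ ∃ c, Tr t (c : M) ∧ c ∉ U} with hC
  have heC : e ∈ C := fun t' ht' => by
    obtain ⟨h4, c', T', hc'⟩ := ht'
    exact h3 t' c' h4 T' hc'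
  have gen1 : ∀ s ∈ TT, ∀ w ∈ C, s • w ∈ C := by
    intro s hs w hw
    obtain ⟨d, S⟩ := tr s hs
    by_cases hd : d ∈ U
    · rintro t' ⟨h4, c', T', hc'⟩
      have e1 : t' • s • w = s • ((s⁻¹ * t' * s) • w) := by
        rw [← mul_smul, ← mul_smul]; congr 1; group
      rw [e1, hw]
      have h5 := tconj t' h4 s⁻¹
      have h6 := T'.conj s⁻¹
      rw [inv_inv] at h5 h6
      refine ⟨h5, _, h6, ?_⟩
      rw [S.inv_smul sq]
      rcases S.or c' with h7 | h7
      · rw [h7]; exact hc'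
      · rw [h7]; exact fun h8 => hc' ((idx.1 h8).2 hd)
    · rw [hw s ⟨hs, d, S, hd⟩]
      exact hw
  have gen2 : ∀ g : H, ∀ w : M, w ∈ C ↔ g • w ∈ C := by
    intro g
    have hg : g ∈ normalClosure (A : Set H) := by rw [hgen]; exact mem_top g
    unfold Subgroup.normalClosure at hg
    induction hg using Subgroup.closure_induction with
    | mem s hs =>
      intro w
      rw [Group.mem_conjugatesOfSet_iff] at hs
      obtain ⟨y, hy, hys⟩ := hs
      obtain ⟨k, hk⟩ := isConj_iff.1 hys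
      by_cases hy1 : y = 1
      · rw [hy1, mul_one, mul_inv_cancel] at hk
        rw [← hk, one_smul]
      · have hsT : s ∈ TT := ⟨k, y, hy, hy1, hk.symm⟩
        refine ⟨gen1 s hsT w, fun h4 => ?_⟩
        obtain ⟨d, S⟩ := tr s hsT
        have h5 := gen1 s hsT _ h4
        rwa [S.invol sq] at h5
    | one => intro w; rw [one_smul]
    | mul x y _ _ hx hy =>
      intro w
      rw [mul_smul, ← hx, ← hy]
    | inv x _ hx =>
      intro w
      rw [hx (x⁻¹ • w), smul_inv_smul]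
  rcases hirr C (fun g w hw => (gen2 g w).1 hw) with h4 | h4
  · rw [h4] at heC
    exact E.ne_one (Subgroup.mem_bot.1 heC)
  · obtain ⟨m, hm⟩ := T.ne
    apply hm
    have h5 : m ∈ C := by rw [h4]; exact mem_top m
    exact h5 t ⟨ht, c, T, hc⟩

end Cfsg.Agent.Omega.ML.Axis

end

section


/-!
# (ML): `|M : C_M(A)| = 2` is dead, for arbitrary best `A` (supplement to #16144); K-free

`R` is a 2-group, `B ≤ R` elementary abelian with the maximal value of `|B| |C_M(B)|` among the elementary abelian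
subgroups of `R`, strict, `|M : C_M(B)| = 2`.

* `TopS.comm_eq` : two such groups which commute are equal;
* `TopS.mem_normalizer` : **if `g` normalises `R`, then `g` normalises `B`**;
* `Fr.exists_top` : in a frame `A` can be chosen with the maximal value of `|A| |C_M(A)|` in `O₂(C_H(z))` (`p = False`);
* `Fr.eight_le` : then `|A| ≥ 8`.
-/

set_option autoImplicit false

namespace Cfsg.Agent.Omega.ML.MinFrame

open Subgroup Cfsg Cfsg.Agent.ClassTwoFusion.Quad Cfsg.Agent.Omega.NOThree.NoOver Cfsg.Agent.Omega.ML.CD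
open Cfsg.Agent.ZN Cfsg.Agent.MinSimple.VModule
open Cfsg.Agent.Omega.ML.Axis (Tr exists_tr)

universe u v

section Ax

variable {H : Type*} [Group H] {M : Type*} [Group M] [MulDistribMulAction H M]

/-- the transvections `b`, `c` commute, if they fix the centres -/
theorem tr_comm (sq : ∀ m : M, m * m = 1) (faith : ∀ x : H, (∀ m : M, x • m = m) → x = 1) {b c : H} {e f : M}
    (hb : Tr b e) (hc : Tr c f) (h1 : b • f = f) (h2 : c • e = e) : b * c = c * b := by
  have key : ∀ m : M, (b * c) • m = (c * b) • m := by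
    intro m
    rw [mul_smul, mul_smul]
    rcases hb.or m with h3 | h3 <;> rcases hc.or m with h4 | h4
    · rw [h3, h4, h3]
    · rw [h3, h4, smul_mul', h3, h1]
    · rw [h3, h4, h3, smul_mul', h4, h2]
    · rw [h3, h4, smul_mul', smul_mul', h3, h4, h1, h2, mul_assoc, mul_assoc, comm_of_sq sq e f]
  have h3 : (b * c) * (c * b)⁻¹ = 1 := faith _ fun m => by
    rw [mul_smul, key, ← mul_smul, mul_inv_cancel, one_smul]
  exact mul_inv_eq_one.1 h3

/-- the product of two transvections which move each other's centre has order divisible by 3 -/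
theorem tr_dich (sq : ∀ m : M, m * m = 1) {R : Subgroup H} (hR : IsPGroup 2 R) {b c : H} {e f : M} (hbR : b ∈ R)
    (hcR : c ∈ R) (hb : Tr b e) (hc : Tr c f) : b • f = f ∨ c • e = e := by
  by_contra hcon
  push Not at hcon
  have h1 := hb.eq hcon.1
  have h2 := hc.eq hcon.2
  have s1 : (b * c) • e = f := by
    rw [mul_smul, h2, smul_mul', hb.fix, h1, comm_of_sq sq f e, ← mul_assoc, sq, one_mul]
  have s2 : (b * c) • f = f * e := by rw [mul_smul, hc.fix, h1]
  have s3 : (b * c) • (b * c) • (b * c) • e = e := by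
    rw [s1, s2, smul_mul', s1, s2, comm_of_sq sq f e, mul_assoc, sq, mul_one]
  obtain ⟨k, hk⟩ := hR ⟨b * c, R.mul_mem hbR hcR⟩
  have hk1 : (b * c) ^ 2 ^ k = 1 := congrArg Subtype.val hk
  have h3 : (b * c) ∈ MulAction.stabilizer H e := by
    refine mem_of_pow_mem (m := 3) (n := 2 ^ k) (Nat.Coprime.pow_right k (by norm_num)) ?_
      (hk1 ▸ one_mem _)
    rw [MulAction.mem_stabilizer_iff, pow_succ, pow_succ, pow_one, mul_smul, mul_smul]
    exact s3
  rw [MulAction.mem_stabilizer_iff, s1] at h3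
  apply hcon.1
  rw [h3, hb.fix]

variable (M) in
/-- best and strict, axis of index 2 -/
structure TopS (R B : Subgroup H) : Prop where
  le : B ≤ R
  el : ∀ b ∈ B, b * b = 1
  max : ∀ C ≤ R, (∀ c ∈ C, c * c = 1) → fab M 1 1 C ≤ fab M 1 1 B
  strict : Strict (fab M 1 1) B
  idx : (cv M (B : Set H)).index = 2

variable [Finite H] [Finite M] {R B C : Subgroup H}

theorem TopS.cj (h : TopS M R B) {g : H} (hg : ∀ x ∈ R, g * x * g⁻¹ ∈ R) : TopS M R (cj g B) where
  le := by
    rintro _ ⟨x, hx, rfl⟩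
    exact hg x (h.le hx)
  el := by
    rintro _ ⟨x, hx, rfl⟩
    rw [← map_mul, h.el x hx, map_one]
  max D hD hD2 := by
    rw [(ls_fab M 1 1).conj]
    exact h.max D hD hD2
  strict := h.strict.cj (ls_fab M 1 1) g
  idx := by
    have h1 : (cv M ((NOThree.NoOver.cj g B : Subgroup H) : Set H)) =
      (cv M (B : Set H)).map (MulDistribMulAction.toMulEquiv M g : M ≃* M).toMonoidHom := QData.cv_map_conj B g
    rw [h1]
    have h2 := Subgroup.index_map_equiv (cv M (B : Set H)) (MulDistribMulAction.toMulEquiv M g : M ≃* M)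
    exact h2.trans h.idx

omit [Finite H] in
/-- two such groups which commute are equal -/
theorem TopS.comm_le [Finite H] (hB : TopS M R B) (hC : TopS M R C) (hc : ∀ b ∈ B, ∀ c ∈ C, b * c = c * b) : C ≤ B := by
  have hel : ∀ x ∈ B ⊔ C, x * x = 1 := by
    intro x hx
    have h1 : C ≤ normalizer (B : Set H) := fun c hcc => centralizer_le_normalizer _ (by
      rw [mem_centralizer_iff]
      exact fun b hb => hc b hb c hcc)
    obtain ⟨b, hb, c, hcc, rfl⟩ := sup_eq_mul h1 hx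
    calc b * c * (b * c) = b * (c * b) * c := by group
      _ = b * (b * c) * c := by rw [hc b hb c hcc]
      _ = (b * b) * (c * c) := by group
      _ = 1 := by rw [hB.el b hb, hC.el c hcc, one_mul]
  have h1 := hB.max (B ⊔ C) (sup_le hB.le hC.le) hel
  have h2 := (ls_fab M 1 1).sup B C
  have h3 := (ls_fab M 1 1).pos B
  have h4 : fab M 1 1 C ≤ fab M 1 1 (B ⊓ C) := by
    have h5 : fab M 1 1 B * fab M 1 1 C ≤ fab M 1 1 B * fab M 1 1 (B ⊓ C) :=
      h2.trans (Nat.mul_le_mul_right _ h1)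
    exact Nat.le_of_mul_le_mul_left h5 h3
  by_contra hcon
  have h5 : B ⊓ C < C := lt_of_le_of_ne inf_le_right fun h6 => hcon (inf_eq_right.1 h6)
  exact absurd h4 (not_le.2 (hC.strict _ h5))

theorem TopS.comm_eq (hB : TopS M R B) (hC : TopS M R C) (hc : ∀ b ∈ B, ∀ c ∈ C, b * c = c * b) : B = C :=
  le_antisymm (hC.comm_le hB fun c hcc b hb => (hc b hb c hcc).symm) (hB.comm_le hC hc)

/-- the asymmetric case -/
theorem TopS.false_of_move (sq : ∀ m : M, m * m = 1) (faith : ∀ x : H, (∀ m : M, x • m = m) → x = 1)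
    (hR : IsPGroup 2 R) (hB : TopS M R B) (hC : TopS M R C) {b : H} (hb : b ∈ B) {e : M} (heB : e ∈ cv M (B : Set H))
    (hbe : Tr b e) (hbm : ∀ m, m ∉ cv M (B : Set H) → b • m = m * e) (heC : e ∉ cv M (C : Set H)) : False := by
  -- `b` fixes the centres of `C`
  have h1 : ∀ c ∈ C, c ≠ 1 → ∃ f ∈ cv M (C : Set H), Tr c f ∧ b • f = f := by
    intro c hc hc1
    obtain ⟨f, hf, hcf, hcm⟩ := exists_tr sq faith hC.el hC.idx hc hc1
    refine ⟨f, hf, hcf, (tr_dich sq hR (hB.le hb) (hC.le hc) hbe hcf).resolve_right fun h2 => ?_⟩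
    rw [hcm e heC] at h2
    exact hcf.ne_one (mul_eq_left.1 h2)
  have hbR : ∀ x ∈ R, b * x * b⁻¹ ∈ R := fun x hx => R.mul_mem (R.mul_mem (hB.le hb) hx) (R.inv_mem (hB.le hb))
  have hD := hC.cj hbR
  have h2 : C = NOThree.NoOver.cj b C := by
    refine hC.comm_eq hD ?_
    rintro c hc _ ⟨c', hc', rfl⟩
    change c * (b * c' * b⁻¹) = (b * c' * b⁻¹) * c
    by_cases hc1 : c = 1
    · rw [hc1, one_mul, mul_one]
    by_cases hc1' : c' = 1
    · rw [hc1', mul_one, mul_inv_cancel, one_mul, mul_one]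
    obtain ⟨f, hf, hcf, hbf⟩ := h1 c hc hc1
    obtain ⟨f', hf', hcf', hbf'⟩ := h1 c' hc' hc1'
    have h3 := hcf'.conj b
    rw [hbf'] at h3
    refine tr_comm sq faith hcf h3 (hf' c hc) ?_
    have h4 : b⁻¹ • f = f := by rw [inv_smul_eq_iff, hbf]
    rw [mul_smul, mul_smul, h4, hf c' hc', hbf]
  -- so `b` normalises `C` and `C_M(C)`
  have h3 : ∀ m ∈ cv M (C : Set H), b • m ∈ cv M (C : Set H) := by
    intro m hm c hc
    rw [h2] at hc
    obtain ⟨c', hc', rfl⟩ := hc
    change (b * c' * b⁻¹) • b • m = b • m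
    rw [mul_smul, mul_smul, inv_smul_smul, hm c' hc']
  have h4 : ¬ cv M (C : Set H) ≤ cv M (B : Set H) := by
    intro h5
    have h6 := relIndex_mul_index h5
    rw [hB.idx, hC.idx] at h6
    have h7 : (cv M (C : Set H)).relIndex (cv M (B : Set H)) = 1 := by omega
    exact heC (relIndex_eq_one.1 h7 heB)
  obtain ⟨m, hm, hmB⟩ := Set.not_subset.1 h4
  have h5 := h3 m hm
  rw [hbm m hmB] at h5
  exact heC ((Subgroup.mul_mem_cancel_left _ hm).1 h5)

/-- **`g` normalises `B`** -/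
theorem TopS.eq_of (sq : ∀ m : M, m * m = 1) (faith : ∀ x : H, (∀ m : M, x • m = m) → x = 1)
    (hR : IsPGroup 2 R) (hB : TopS M R B) (hC : TopS M R C) : B = C := by
  refine hB.comm_eq hC fun b hb c hc => ?_
  by_cases hb1 : b = 1
  · rw [hb1, one_mul, mul_one]
  by_cases hc1 : c = 1
  · rw [hc1, one_mul, mul_one]
  obtain ⟨e, he, hbe, hbm⟩ := exists_tr sq faith hB.el hB.idx hb hb1
  obtain ⟨f, hf, hcf, hcm⟩ := exists_tr sq faith hC.el hC.idx hc hc1
  have h1 : e ∈ cv M (C : Set H) := by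
    by_contra h2
    exact hB.false_of_move sq faith hR hC hb he hbe hbm h2
  have h2 : f ∈ cv M (B : Set H) := by
    by_contra h2
    exact hC.false_of_move sq faith hR hB hc hf hcf hcm h2
  exact tr_comm sq faith hbe hcf (h2 b hb) (h1 c hc)

theorem TopS.mem_normalizer (sq : ∀ m : M, m * m = 1) (faith : ∀ x : H, (∀ m : M, x • m = m) → x = 1)
    (hR : IsPGroup 2 R) (hB : TopS M R B) {g : H} (hg : ∀ x ∈ R, g * x * g⁻¹ ∈ R) :
    g ∈ normalizer (B : Set H) :=
  mem_normalizer_of_map (TopS.eq_of sq faith hR (hB.cj hg) hB)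

end Ax

namespace Fr

variable {K : Frame.Cls.{u}} {H : Type u} [Group H] [Finite H] {M : Type v} [Group M] [Finite M]
  [MulDistribMulAction H M] {T Q A : Subgroup H} {z : M}

variable (M) in
/-- best and strict among the elementary abelian subgroups of `R` -/
structure Bst (R B : Subgroup H) : Prop where
  le : B ≤ R
  el : ∀ b ∈ B, b * b = 1
  max : ∀ C ≤ R, (∀ c ∈ C, c * c = 1) → fab M 1 1 C ≤ fab M 1 1 B
  strict : Strict (fab M 1 1) B

omit [Finite M] in
theorem exists_bst (R : Subgroup H) : ∃ B, Bst M R B := by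
  classical
  have hfin : Set.Finite {B : Subgroup H | B ≤ R ∧ ∀ b ∈ B, b * b = 1} := Set.toFinite _
  obtain ⟨B₁, hB₁, hmax⟩ := Set.exists_max_image _ (fab M 1 1) hfin ⟨⊥, bot_le, fun b hb => by
    rw [mem_bot.1 hb, one_mul]⟩
  have hfin2 : Set.Finite {B : Subgroup H | (B ≤ R ∧ ∀ b ∈ B, b * b = 1) ∧ fab M 1 1 B = fab M 1 1 B₁} := Set.toFinite _
  obtain ⟨B, ⟨⟨h1, h2⟩, h3⟩, hmin⟩ := Set.exists_min_image _ (fun B : Subgroup H => Nat.card B) hfin2 ⟨B₁, hB₁, rfl⟩
  refine ⟨B, h1, h2, fun C hC hC2 => (hmax C ⟨hC, hC2⟩).trans h3.ge, fun C hC => ?_⟩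
  have h4 := hmax C ⟨hC.le.trans h1, fun c hc => h2 c (hC.le hc)⟩
  refine lt_of_le_of_ne (h4.trans h3.ge) fun h5 => ?_
  have h6 := hmin C ⟨⟨hC.le.trans h1, fun c hc => h2 c (hC.le hc)⟩, h5.trans h3⟩
  have h7 : Nat.card C < Nat.card B := by
    have h2 := Set.ncard_lt_ncard (SetLike.coe_ssubset_coe.2 hC) (Set.toFinite _)
    rwa [← Nat.card_coe_set_eq, ← Nat.card_coe_set_eq] at h2
  exact absurd h6 (not_le.2 h7)

/-- **`A` can be chosen best** -/
theorem exists_top (h : Fr K False H M T Q A z) :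
    ∃ B, Bst M (o2 (MulAction.stabilizer H z)) B ∧ Fr K False H M T (o2 (MulAction.stabilizer H z)) B z := by
  obtain ⟨B, hB⟩ := exists_bst (M := M) (o2 (MulAction.stabilizer H z))
  refine ⟨B, hB, ?_⟩
  have hQ : Q ≤ o2 (MulAction.stabilizer H z) :=
    Cfsg.Agent.MinSimple.VModule.le_o2 (fun q hq => h.fixQ q hq) h.Q2
      (le_normalizer_of fun g hg x hx => h.nrmQ g hg x hx)
  exact
    { ind := h.ind
      sec := h.sec
      KH := h.KH
      sq := h.sq
      two := h.two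
      odd := h.odd
      fixT := h.fixT
      Q2 := o2_isPGroup _
      fixQ := fun q hq => o2_le _ hq
      nrmQ := fun g hg q hq => conj_mem_of_le (le_normalizer_o2 _) (R := MulAction.stabilizer H z) hg hq
      AQ := hB.le
      Asq := hB.el
      nrmA := fun hf => hf.elim
      strict := hB.strict
      ne := by
        rintro rfl
        have h1 := hB.max A (h.AQ.trans hQ) h.Asq
        have h2 := h.strict ⊥ (bot_lt_iff_ne_bot.2 h.ne)
        omega
      faithful := h.faithful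
      gen := h.gen }

/-- **`|A| ≥ 8`** for best `A` -/
theorem eight_le (h : Fr K False H M T (o2 (MulAction.stabilizer H z)) A z)
    (hA : Bst M (o2 (MulAction.stabilizer H z)) A) : 8 ≤ Nat.card A := by
  have hlt := h.index_lt
  have hA2 : IsPGroup 2 A := h.Q2.to_le h.AQ
  have hM2 : IsPGroup 2 M := fun x => ⟨1, by rw [pow_one, pow_two]; exact h.sq x⟩
  have : Fact (Nat.Prime 2) := ⟨Nat.prime_two⟩
  obtain ⟨n, hn⟩ := IsPGroup.iff_card.1 hA2
  obtain ⟨m, hm⟩ := hM2.index (cv M (A : Set H))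
  rw [hn, hm] at hlt
  have hmn : m < n := (Nat.pow_lt_pow_iff_right (by norm_num)).1 hlt
  have hm0 : m ≠ 0 := by
    rintro rfl
    rw [pow_zero, index_eq_one] at hm
    exact h.ne ((Subgroup.eq_bot_iff_forall A).2 fun a ha => h.faithful a fun x => by
      have h1 : x ∈ cv M (A : Set H) := hm ▸ mem_top x
      exact h1 a ha)
  have hm1 : m ≠ 1 := by
    rintro rfl
    rw [pow_one] at hm
    have htop : TopS M (o2 (MulAction.stabilizer H z)) A := ⟨hA.le, hA.el, hA.max, hA.strict, hm⟩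
    have hcz : ∀ g : H, g • z = z → g ∈ normalizer (A : Set H) := fun g hg =>
      htop.mem_normalizer h.sq h.faithful (o2_isPGroup _) fun x hx =>
        conj_mem_of_le (le_normalizer_o2 _) (R := MulAction.stabilizer H z) hg hx
    have hgen : normalClosure (A : Set H) = ⊤ := h.eq_top_of_normal normalClosure_normal le_normalClosure
    have h3 : 2 < Nat.card A := by rw [hn]; calc 2 = 2 ^ 1 := rfl
      _ < 2 ^ n := hlt
    have : Nontrivial A := (Subgroup.nontrivial_iff_ne_bot _).2 h.ne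
    obtain ⟨a, ha⟩ := exists_ne (1 : A)
    obtain ⟨b, hb1, hb2⟩ : ∃ b : A, b ≠ 1 ∧ b ≠ a := by
      by_contra hcon
      push Not at hcon
      have h4 : (Set.univ : Set A) ⊆ {1, a} := by
        intro b _
        by_cases hb : b = 1
        · exact Or.inl hb
        · exact Or.inr (hcon b hb)
      have h5 := Set.ncard_le_ncard h4 (Set.toFinite _)
      rw [Set.ncard_univ] at h5
      rw [Set.ncard_pair (Ne.symm ha)] at h5
      omega
    refine Axis.false_of_axis h.sq h.faithful h.Asq hcz hm hgen (fun W hW => h.irred hW) a.2 b.2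
      (fun h5 => ha (Subtype.ext h5)) (fun h5 => hb1 (Subtype.ext h5)) (fun h5 => hb2 (Subtype.ext h5.symm))
  rw [hn]
  calc 8 = 2 ^ 3 := rfl
    _ ≤ 2 ^ n := Nat.pow_le_pow_right (by norm_num) (by omega)

end Fr

end Cfsg.Agent.Omega.ML.MinFrame

end
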