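import Cfsg.Agent.Mrg.Omega.ML.RowsList
import Cfsg.Agent.Mrg.Omega.ML.AltRow
import Cfsg.Agent.Mrg.Omega.TwoF.RowPSp
import Cfsg.Agent.Mrg.Omega.NOThree.NoOver
import Cfsg.Agent.Omega.TwoF.Defs
import Cfsg.Agent.Lib.SylowNormalInf
import Cfsg.Agent.Involutions.NormalFour

section


/-!
# (ML), the K-list end: the fields `alt`, `a6` of `RowsML` (helper482)
-/

set_option autoImplicit false

namespace Cfsg.Agent.Omega.ML.AltDead

open Cfsg Cfsg.Agent.Omega.ML.Rows

universe u v

theorem isoClosed_alt7 : IsoClosed.{u} @IsAlt7 := by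
  rintro S S' _ _ e ⟨n, h7, h8, ⟨f⟩⟩
  exact ⟨n, h7, h8, ⟨e.symm.trans f⟩⟩

theorem isoClosed_alt6 : IsoClosed.{u} @IsAlt6 := by
  rintro S S' _ _ e ⟨f⟩
  exact ⟨e.symm.trans f⟩

/-- field `alt` of `RowsML` -/
theorem alt : Dead.{u, v} @IsAlt7 := AltRow.deadG_alt.dead isoClosed_alt7

/-- field `a6` of `RowsML` -/
theorem a6 : Dead.{u, v} @IsAlt6 := AltSix.deadG_six.dead isoClosed_alt6

end Cfsg.Agent.Omega.ML.AltDead

end

section


/-!
# (ML), the K-list end: rank tools (helper809)

* `AS.card_le_of_rk` : `RK S a` bounds `|A|` by `2 ^ a`; `AS.card_le_four_of_rk`;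
* `AS.le_two` : `A ≤ T`; `AS.o2_le_two` : `O₂(R) ≤ T` for `T ≤ R`;
* `AS.ne_two` : `A ≠ T` if `A ≠ 1` (`T` is in two maximal subgroups); `AS.two_mul_card_le` : `2 |A| ≤ |T|`;
* `AS.top_of_inner` : if the automorphisms of order 2 of `S` are inner then `S = X`.
-/

set_option autoImplicit false

namespace Cfsg.Agent.Omega.ML.Rows

open Subgroup Cfsg Cfsg.Agent.ZN Cfsg.Agent.Omega.TwoF
open Cfsg.Agent.MinSimple.VModule (o2_isPGroup o2_le le_o2 le_normalizer_o2)

universe u

variable {X : Type u} [Group X] {S T A : Subgroup X}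

/-- `X` acts faithfully on `S`. -/
theorem AS.conj_inj (h : AS S T A) :
    Function.Injective (@MulAut.conjNormal X _ S h.norm) := by
  have hn := h.norm
  rw [injective_iff_map_eq_one]
  intro x hx
  have h1 : x ∈ centralizer (S : Set X) := by
    refine mem_centralizer_iff.2 fun s hs => ?_
    have h2 : ((MulAut.conjNormal x : MulAut S) ⟨s, hs⟩ : X) = s := by rw [hx]; rfl
    rw [MulAut.conjNormal_apply] at h2
    calc s * x = (x * s * x⁻¹) * x := by rw [h2]
      _ = x * s := by group
  rw [h.cen] at h1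
  exact mem_bot.1 h1

/-- **The rank bound.** -/
theorem AS.card_le_of_rk (h : AS S T A) {a : ℕ} (hr : RK S a) : Nat.card A ≤ 2 ^ a := by
  have hn := h.norm
  refine hr.card_le_of_injective ((MulAut.conjNormal : X →* MulAut S).comp A.subtype) ?_ fun x =>
    Subtype.ext (by
      rw [pow_two]
      exact h.el x x.2)
  exact h.conj_inj.comp A.subtype_injective

theorem AS.card_le_four_of_rk (h : AS S T A) (hr : RK S 2) : Nat.card A ≤ 4 :=
  h.card_le_of_rk hr

theorem AS.le_two (h : AS S T A) : A ≤ T :=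
  (h.low T le_rfl h.ne_top).trans (o2_le T)

/-- `T` is a maximal 2-subgroup. -/
theorem AS.le_of_two [Finite X] (h : AS S T A) {Q : Subgroup X} (hQ : IsPGroup 2 Q) (hT : T ≤ Q) : Q ≤ T := by
  have hp : Fact (Nat.Prime 2) := ⟨Nat.prime_two⟩
  have h3 : ¬ 2 ∣ T.relIndex Q := fun h4 => h.syl (h4.trans (relIndex_dvd_index_of_le hT))
  obtain ⟨n, hn⟩ := (IsPGroup.iff_card.1 hQ)
  have h4 : T.relIndex Q ∣ 2 ^ n := hn ▸ (T.subgroupOf Q).index_dvd_card
  obtain ⟨k, -, hk⟩ := (Nat.dvd_prime_pow Nat.prime_two).1 h4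
  have h5 : k = 0 := by
    by_contra hk0
    exact h3 (hk ▸ dvd_pow_self 2 hk0)
  rw [h5, pow_zero] at hk
  exact relIndex_eq_one.1 hk

/-- `O₂(R) ≤ T` for overgroups of `T`. -/
theorem AS.o2_le_two [Finite X] (h : AS S T A) {R : Subgroup X} (hT : T ≤ R) : o2 R ≤ T := by
  have h2 : T ≤ normalizer (o2 R : Set X) := hT.trans (le_normalizer_o2 R)
  exact le_sup_left.trans (h.le_of_two ((o2_isPGroup R).to_sup_of_normal_left' h.two h2) le_sup_right)

/-- **`A` is not a Sylow 2-subgroup.** -/
theorem AS.ne_two [Finite X] (h : AS S T A) (hA : A ≠ ⊥) : A ≠ T := by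
  intro hAT
  have hp : Fact (Nat.Prime 2) := ⟨Nat.prime_two⟩
  have hn := h.norm
  have hsim := h.simple
  apply h.nmax
  refine ⟨normalizer (T : Set X), ?_, fun R hTR hR => ?_⟩
  · intro h1
    have h2 : T.Normal := normalizer_eq_top_iff.1 h1
    -- `T ∩ S` is normal in `S`
    have h3 : (T.subgroupOf S).Normal := inferInstance
    rcases hsim.eq_bot_or_eq_top_of_normal _ h3 with h4 | h4
    · -- `T ∩ S = 1`: `[T, S] = 1`
      have h5 : T ≤ centralizer (S : Set X) := by
        rw [← commutator_eq_bot_iff_le_centralizer, eq_bot_iff]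
        refine (commutator_le_inf T S).trans ?_
        rw [subgroupOf_eq_bot, disjoint_iff] at h4
        exact h4.le
      rw [h.cen] at h5
      exact hA (eq_bot_iff.2 (h.le_two.trans h5))
    · -- `S` is a simple 2-group
      have h5 : S ≤ T := subgroupOf_eq_top.1 h4
      have h6 : IsPGroup 2 S := h.two.to_le h5
      have h7 : center S ≠ ⊥ := by
        have := h6.center_nontrivial
        exact (nontrivial_iff_ne_bot _).1 this
      have h8 : center S = ⊤ := (hsim.eq_bot_or_eq_top_of_normal _ inferInstance).resolve_left h7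
      have h9 : S ≤ centralizer (S : Set X) := by
        intro s hs
        refine mem_centralizer_iff.2 fun y hy => ?_
        have h10 : (⟨s, hs⟩ : S) ∈ center S := h8 ▸ mem_top _
        exact congrArg Subtype.val (mem_center_iff.1 h10 ⟨y, hy⟩)
      rw [h.cen] at h9
      obtain ⟨x, hx⟩ := exists_ne (1 : S)
      exact hx (Subtype.ext (mem_bot.1 (h9 x.2)))
  · have h1 : o2 R = T := le_antisymm (h.o2_le_two hTR) (hAT ▸ h.low R hTR hR)
    have h2 := le_normalizer_o2 R
    rwa [h1] at h2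

/-- **`2 |A| ≤ |T|`.** -/
theorem AS.two_mul_card_le [Finite X] (h : AS S T A) (hA : A ≠ ⊥) : 2 * Nat.card A ≤ Nat.card T := by
  have h1 : Nat.card A * A.relIndex T = Nat.card T := by
    rw [← Nat.card_congr (subgroupOfEquivOfLe h.le_two).toEquiv]
    exact (A.subgroupOf T).card_mul_index
  have h2 : A.relIndex T ≠ 1 := fun h3 => h.ne_two hA (le_antisymm h.le_two (relIndex_eq_one.1 h3))
  have h3 : A.relIndex T ≠ 0 := FiniteIndex.index_ne_zero
  rw [← h1, mul_comm]
  exact Nat.mul_le_mul_left _ (by omega)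

/-- **Inner involutory automorphisms.** -/
theorem AS.top_of_inner (h : AS S T A) (hi : ∀ α : MulAut S, α ^ 2 = 1 → ∃ v : S, α = MulAut.conj v) : S = ⊤ := by
  have hn := h.norm
  rw [← h.gen]
  refine (sup_eq_left.2 fun a ha => ?_).symm
  obtain ⟨v, hv⟩ := hi (MulAut.conjNormal a) (by rw [← map_pow, pow_two, h.el a ha, map_one])
  have h1 : a = v := by
    apply h.conj_inj
    rw [hv]
    ext s
    rw [MulAut.conjNormal_apply, MulAut.conj_apply]
    simp
  rw [h1]
  exact v.2

end Cfsg.Agent.Omega.ML.Rows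

end

section


/-!
# (ML), the K-list end: the overgroup `R = C_X(z)` of `T` (helper809)

In the situation `AS S T A` with `|S|` even:

* `AS.exists_inv` : an involution `z ∈ S` with `T ≤ C_X(z) ≠ X`;
* `AS.index_le` : `|X : S| ≤ |Aut(S) : Inn(S)|`;
* `AS.card_le_mul_index` : `|Q| ≤ |Q ∩ S| |X : S|`;
* `AS.card_le_of_inv` : if for every involution `z` of `S` the 2-subgroups normal in `C_S(z)` have order at most `n`,
  and `|Aut(S) : Inn(S)| ≤ k`, then `|A| ≤ n * k`.
-/

set_option autoImplicit false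

namespace Cfsg.Agent.Omega.ML.Rows

open Subgroup Cfsg Cfsg.Agent.ZN Cfsg.Agent.Omega.TwoF
open Cfsg.Agent.MinSimple.VModule (o2_isPGroup o2_le le_o2 le_normalizer_o2)

universe u

variable {X : Type u} [Group X] {S T A : Subgroup X}

/-- The centraliser of a nontrivial element is proper. -/
theorem AS.cent_ne_top (h : AS S T A) {z : X} (hz1 : z ≠ 1) : centralizer ({z} : Set X) ≠ ⊤ := by
  intro h1
  have h2 : z ∈ centralizer (S : Set X) := mem_centralizer_iff.2 fun y _ =>
    mem_centralizer_singleton_iff.1 (h1 ▸ mem_top y)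
  rw [h.cen] at h2
  exact hz1 (mem_bot.1 h2)

/-- **An involution of `S` centralised by `T`.** -/
theorem AS.exists_inv [Finite X] (h : AS S T A) (h2 : 2 ∣ Nat.card S) :
    ∃ z ∈ S, z * z = 1 ∧ z ≠ 1 ∧ T ≤ centralizer ({z} : Set X) := by
  have hp : Fact (Nat.Prime 2) := ⟨Nat.prime_two⟩
  have hn := h.norm
  have h3 : S.subgroupOf T ≠ ⊥ := by
    intro h4
    rw [subgroupOf_eq_bot, disjoint_iff] at h4
    let T' : Sylow 2 X := h.two.toSylow h.syl
    have h5 : ¬ 2 ∣ (T' : Subgroup X).relIndex S := Cfsg.Agent.Lib.SylowNormalInf.not_dvd_relIndex T' S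
    have h6 : (T' : Subgroup X).relIndex S = Nat.card S := by
      show T.relIndex S = _
      rw [← inf_relIndex_right, inf_comm, h4, relIndex_bot_left]
    exact h5 (h6 ▸ h2)
  obtain ⟨z, hz, hzc, hzo⟩ := Cfsg.Agent.Involutions.NormalFour.exists_mem_center_of_normal h.two (S.subgroupOf T) h3
  have h4 : z * z = 1 := by rw [← pow_two, ← hzo, pow_orderOf_eq_one]
  have h5 : z ≠ 1 := by
    rintro rfl
    rw [orderOf_one] at hzo
    omega
  refine ⟨z, hz, congrArg Subtype.val h4, fun h6 => h5 (Subtype.ext h6), fun t ht => ?_⟩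
  exact mem_centralizer_singleton_iff.2 (congrArg Subtype.val (mem_center_iff.1 hzc ⟨t, ht⟩))

/-- `|X : S| ≤ |Aut(S) : Inn(S)|`. -/
theorem AS.index_le [Finite X] (h : AS S T A) : S.index ≤ (MulAut.conj : S →* MulAut S).range.index := by
  have hn := h.norm
  have h1 : S = ((MulAut.conj : S →* MulAut S).range).comap (MulAut.conjNormal : X →* MulAut S) := by
    ext x
    rw [mem_comap]
    constructor
    · intro hx
      refine ⟨⟨x, hx⟩, ?_⟩
      ext s
      rw [MulAut.conjNormal_apply, MulAut.conj_apply]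
      simp
    · rintro ⟨v, hv⟩
      have h1 : x = v := by
        apply h.conj_inj
        rw [← hv]
        ext s
        rw [MulAut.conjNormal_apply, MulAut.conj_apply]
        simp
      rw [h1]
      exact v.2
  have hfin : Finite (MulAut S) := Finite.of_injective (fun φ => (φ : S → S)) DFunLike.coe_injective
  have h2 : S.index = ((MulAut.conj : S →* MulAut S).range).relIndex (MulAut.conjNormal : X →* MulAut S).range := by
    rw [← index_comap, ← h1]
  have hI : ((MulAut.conj : S →* MulAut S).range).Normal := by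
    refine ⟨?_⟩
    rintro _ ⟨x, rfl⟩ φ
    refine ⟨φ x, ?_⟩
    ext y
    simp [MulAut.conj_apply]
  rw [h2]
  exact Nat.le_of_dvd (Nat.pos_of_ne_zero FiniteIndex.index_ne_zero) (relIndex_dvd_index_of_normal _ _)

theorem AS.card_le_mul_index [Finite X] (h : AS S T A) (Q : Subgroup X) :
    Nat.card Q ≤ Nat.card (Q.subgroupOf S) * S.index := by
  have hn := h.norm
  have h1 : Nat.card (S.subgroupOf Q) * (S.subgroupOf Q).index = Nat.card Q := (S.subgroupOf Q).card_mul_index
  have h2 : (S.subgroupOf Q).index ≤ S.index :=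
    Nat.le_of_dvd (Nat.pos_of_ne_zero FiniteIndex.index_ne_zero) (relIndex_dvd_index_of_normal _ _)
  have h3 : Nat.card (S.subgroupOf Q) = Nat.card (Q.subgroupOf S) := by
    have h4 : Nat.card (S.subgroupOf Q) = Nat.card (Q ⊓ S : Subgroup X) := by
      rw [← card_map_of_injective Q.subtype_injective, subgroupOf_map_subtype, inf_comm]
    have h5 : Nat.card (Q.subgroupOf S) = Nat.card (Q ⊓ S : Subgroup X) := by
      rw [← card_map_of_injective S.subtype_injective, subgroupOf_map_subtype]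
    rw [h4, h5]
  rw [← h1, h3]
  exact Nat.mul_le_mul_left _ h2

/-- **Centralisers of involutions of `S`.** -/
theorem AS.card_le_of_inv [Finite X] (h : AS S T A) (h2 : 2 ∣ Nat.card S) {n k : ℕ}
    (hO : ∀ z : S, z * z = 1 → z ≠ 1 → ∀ Q : Subgroup S, Q ≤ centralizer ({z} : Set S) → IsPGroup 2 Q →
      centralizer ({z} : Set S) ≤ normalizer (Q : Set S) → Nat.card Q ≤ n)
    (hk : (MulAut.conj : S →* MulAut S).range.index ≤ k) : Nat.card A ≤ n * k := by
  obtain ⟨z, hz, hzz, hz1, hT⟩ := h.exists_inv h2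
  have hR := h.cent_ne_top hz1
  set R := centralizer ({z} : Set X) with hRd
  have h3 : Nat.card ((o2 R).subgroupOf S) ≤ n := by
    refine hO ⟨z, hz⟩ (Subtype.ext hzz) (fun h4 => hz1 (congrArg Subtype.val h4)) _ ?_ ?_ ?_
    · intro x hx
      exact mem_centralizer_singleton_iff.2 (Subtype.ext (mem_centralizer_singleton_iff.1 (o2_le R hx)))
    · exact (o2_isPGroup R).comap_subtype
    · intro c hc
      have h4 : (c : X) ∈ R := mem_centralizer_singleton_iff.2
        (congrArg Subtype.val (mem_centralizer_singleton_iff.1 hc))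
      have h5 := mem_normalizer_iff.1 (le_normalizer_o2 R h4)
      rw [mem_normalizer_iff]
      intro y
      exact h5 (y : X)
  refine (card_le_of_le (h.low R hT hR)).trans ((h.card_le_mul_index _).trans ?_)
  exact Nat.mul_le_mul h3 (h.index_le.trans hk)

end Cfsg.Agent.Omega.ML.Rows

end
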