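import Cfsg.Agent.Mrg.Omega.ML.RowM12
import Cfsg.Agent.KFacts.M24Two.Octad
import Cfsg.Agent.KFacts.M24Two.Syl
import Cfsg.Prelude.Def_Spor_Mathieu
import Cfsg.Agent.KFacts.M24Two.Out
import Cfsg.Agent.Mrg.Omega.NOThree.NoOver
import Cfsg.Agent.OddHalf.D8.JTwo.Sheet
import Cfsg.Agent.Lib.SylowNormalInf
import Cfsg.Agent.Mrg.Omega.ML.AltDead
import Cfsg.Agent.Mrg.Omega.TwoF.RowPSp
import Cfsg.Agent.Omega.TwoF.Defs
import Cfsg.Agent.Omega.Lie.HeisCover

section


/-!
# (ML), THEOREM LOC: the K-fact of `M24`: `2⁴:A8`, an element of order 5 (helper917)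
-/

set_option autoImplicit false

namespace Cfsg.Agent.Omega.ML.LocM24

open Subgroup Cfsg
open Cfsg.Agent.KFacts.M24Two.CentZ Cfsg.Agent.KFacts.M24Two.Octad
open Cfsg.Agent.KFacts.M24Pair.Letters
open Cfsg.Agent.Omega.ML.LocK

/-- the element of order 5 of `N(E1)` -/
noncomputable def x5 : M24 := ev [5, 10, 11, 15]

theorem x5_pow : x5 ^ 5 = 1 := by
  have h := weq (u := [5, 10, 11, 15, 5, 10, 11, 15, 5, 10, 11, 15, 5, 10, 11, 15, 5, 10, 11, 15]) (v := [])
    (by decide +kernel)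
  rw [ev_nil] at h
  rw [← h]
  have e : ([5, 10, 11, 15, 5, 10, 11, 15, 5, 10, 11, 15, 5, 10, 11, 15, 5, 10, 11, 15] : List ℕ) =
    [5, 10, 11, 15] ++ ([5, 10, 11, 15] ++ ([5, 10, 11, 15] ++ ([5, 10, 11, 15] ++ [5, 10, 11, 15]))) := rfl
  rw [e]
  simp only [ev_append]
  change x5 ^ 5 = x5 * (x5 * (x5 * (x5 * x5)))
  simp only [pow_succ, pow_zero, one_mul, mul_assoc]

theorem x5_ne : x5 ≠ 1 := by
  have h := ne_of_wneb (u := [5, 10, 11, 15]) (v := []) (by decide +kernel)
  rwa [ev_nil] at h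

theorem orderOf_x5 : orderOf x5 = 5 := by
  have : Fact (Nat.Prime 5) := ⟨by norm_num⟩
  exact orderOf_eq_prime x5_pow x5_ne

theorem x5_mem_N : x5 ∈ N := ev_mem_N (by decide)

theorem letters_comm : ∀ r ∈ [0, 1, 2, 3], ∀ s ∈ [0, 1, 2, 3], xx r * xx s = xx s * xx r := by
  have key : ∀ r ∈ [0, 1, 2, 3], ∀ s ∈ [0, 1, 2, 3], weqb [r, s] [s, r] = true := by decide +kernel
  intro r hr s hs
  have h := weq (key r hr s hs)
  simpa only [ev_cons, ev_nil, mul_one] using h

theorem E1_comm (a : M24) (ha : a ∈ E1) (b : M24) (hb : b ∈ E1) : a * b = b * a := by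
  have h1 : E1 ≤ centralizer (E1 : Set M24) := by
    refine cl_le fun r hr => ?_
    rw [mem_centralizer_iff]
    have h2 : E1 ≤ centralizer ({xx r} : Set M24) := by
      refine cl_le fun s hs => ?_
      rw [mem_centralizer_singleton_iff]
      exact letters_comm s hs r hr
    intro y hy
    exact mem_centralizer_singleton_iff.1 (h2 hy)
  exact (mem_centralizer_iff.1 (h1 ha) b hb).symm

theorem E1_sq (a : M24) (ha : a ∈ E1) : a * a = 1 := by
  rcases eq_or_ne a 1 with rfl | h
  · rw [mul_one]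
  · obtain ⟨k, hk⟩ := factsE.EC a ha h
    rw [← hk]
    calc k * z * k⁻¹ * (k * z * k⁻¹) = k * (z * z) * k⁻¹ := by group
      _ = 1 := by rw [zz]; group

theorem odd_index : ¬ 2 ∣ (normalizer (E1 : Set M24)).index := by
  intro h
  have h1 := h.trans (index_dvd_of_le C_le_N)
  have h2 : Nat.card C * C.index = Nat.card M24 := C.card_mul_index
  rw [card_C, SporadicA.M24Trans.card_M24] at h2
  omega

/-- **The K-fact of `M24`.** -/
theorem loc : Loc M24 E1 x5 5 4 where
  comm := E1_comm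
  sq := E1_sq
  card := by rw [card_E1]; norm_num
  odd := odd_index
  cent := fun g hg => factsE.cen g hg
  prime := by norm_num
  p2 := by norm_num
  ord := orderOf_x5
  nd := by
    intro k h0 h1
    interval_cases k <;> omega
  norm := fun a ha => N_conj x5_mem_N ha
  ne := by
    by_contra hcon
    push Not at hcon
    have h1 := factsE.cen _ hcon
    have h2 := E1_sq _ h1
    have h3 := orderOf_dvd_of_pow_eq_one (show x5 ^ 2 = 1 by rw [pow_two, h2])
    rw [orderOf_x5] at h3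
    omega

theorem hasLoc {K : Type*} [Group K] (h : Spor.IsoM24 K) : HasLoc K := by
  obtain ⟨e⟩ := h
  exact HasLoc.congr e.symm ⟨_, _, _, _, loc⟩

end Cfsg.Agent.Omega.ML.LocM24

end

section


/-!
# (ML), the K-list end: the row `M24` (THEOREM LOC with `2⁴:A8`, `p = 5`; helper917)
-/

set_option autoImplicit false

namespace Cfsg.Agent.Omega.ML.RowM24

open Subgroup Cfsg Cfsg.Agent.Omega.ML.Rows

universe u v

/-- `5²` does not divide the order of `M24`. -/
theorem not_dvd_card : ¬ 5 ^ 2 ∣ Nat.card M24 := by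
  rw [SporadicA.M24Trans.card_M24]
  norm_num

/-- All automorphisms of groups isomorphic to `M24` are inner. -/
theorem inner {S : Type*} [Group S] (h : Spor.IsoM24 S) (α : MulAut S) : ∃ k, α = MulAut.conj k := by
  obtain ⟨e⟩ := h
  obtain ⟨k, hk⟩ := Cfsg.Agent.KFacts.M24Two.Out.exists_conj ((MulAut.congr e) α)
  refine ⟨e.symm k, ?_⟩
  ext x
  have h1 := congrArg (fun f : MulAut M24 => f (e x)) hk
  change e (α (e.symm (e x))) = k * e x * k⁻¹ at h1
  rw [e.symm_apply_apply] at h1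
  rw [MulAut.conj_apply]
  apply e.injective
  rw [h1, map_mul, map_mul, map_inv, e.apply_symm_apply]

/-- **The row `M24`.** -/
theorem dead : Dead.{u, v} (fun S _ => Spor.IsoM24 S) := by
  refine LocRow.dead_of_loc fun S _ _ h => ⟨?_, inner h⟩
  obtain ⟨e⟩ := h
  refine ⟨_, _, _, _, LocM24.loc.map e.symm, ?_⟩
  rw [Nat.card_congr e.toEquiv]
  exact not_dvd_card

end Cfsg.Agent.Omega.ML.RowM24

end

section


/-!
# (ML), the K-list end: sporadic groups with a sheet of type (E) (helper926)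

`S` a simple normal subgroup of `X`, `C_X(S) = 1`, `SheetX z P R` (helper915's sheet of type (E) without the `y`-trick:
`J2 J3 Suz Co1 Co2 Th B M J4 HN Fi24'`), `R = O₂(C_S(z)^∞)`:

* `o2_le_R` : `O₂(C_X(z)) ≤ R`;
* `AS.le_conj` : in the situation `AS S T A`: `A ≤ R^g` for some `g`;   `AS.eq_top` : `S = X`;
* `AS.card_le` : `|A| ≤ 4` if the elementary abelian subgroups of `R` have order at most 4;   `deadG_of` : the row.
-/

set_option autoImplicit false

namespace Cfsg.Agent.Omega.ML.ShE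

open Subgroup Cfsg Cfsg.Agent.OddHalf.D8.Sheet Cfsg.Agent.OddHalf.D8.JTwo.Sheet Cfsg.Agent.Omega.ML.Rows
open Cfsg.Agent.ZN
open Cfsg.Agent.MinSimple.VModule (o2_isPGroup o2_le le_o2 le_normalizer_o2)

universe u

variable {X : Type u} [Group X] {S T A : Subgroup X}

/-- `O₂(C_X(z)) ≤ R`. -/
theorem o2_le_R (hS : S.Normal) (hc : centralizer (S : Set X) = ⊥) {z : S} {P R : Subgroup S} (h : SheetX z P R) :
    o2 (centralizer ({(z : X)} : Set X)) ≤ R.map S.subtype := by
  set D := o2 (centralizer ({(z : X)} : Set X)) with hD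
  have hD2 : IsPGroup 2 D := o2_isPGroup _
  have hDz : ∀ d ∈ D, d * (z : X) = z * d := fun d hd => mem_centralizer_singleton_iff.1 (o2_le _ hd)
  -- `P` normalises `D`
  have hPn : ∀ x ∈ P, ∀ d ∈ D, (x : X) * d * (x : X)⁻¹ ∈ D := by
    intro x hx d hd
    have h1 : (x : X) ∈ centralizer ({(z : X)} : Set X) :=
      mem_centralizer_singleton_iff.2 (congrArg Subtype.val (h.cen x hx))
    exact (mem_normalizer_iff.1 (le_normalizer_o2 _ h1) d).1 hd
  -- `D ∩ P ≤ R`
  have hB : P ⊓ D.comap S.subtype ≤ R := by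
    apply h.Rmax _ inf_le_left
    · exact (hD2.comap_of_injective S.subtype S.subtype_injective).to_le inf_le_right
    · rintro x hx b ⟨hb1, hb2⟩
      exact ⟨P.mul_mem (P.mul_mem hx hb1) (P.inv_mem hx), hPn x hx _ hb2⟩
  intro d hd
  let α : MulAut S := MulAut.conjNormal d
  have hαx : ∀ x : S, ((α x : S) : X) = d * x * d⁻¹ := fun x => MulAut.conjNormal_apply d x
  have hαz : α z = z := Subtype.ext (by rw [hαx, hDz d hd, mul_inv_cancel_right])
  have hα2 : IsPGroup 2 (zpowers α) := by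
    have h1 : IsPGroup 2 (zpowers d) := hD2.to_le (zpowers_le.2 hd)
    have h2 := h1.map (MulAut.conjNormal : X →* MulAut S)
    rwa [MonoidHom.map_zpowers] at h2
  obtain ⟨r, hr, hαr⟩ := h.aut α hα2 hαz (by
    intro x hx
    apply hB
    refine ⟨P.mul_mem (P.inv_mem hx) (map_P h.perf h.cen h.der α hαz hx), ?_⟩
    show ((x⁻¹ * α x : S) : X) ∈ D
    rw [Subgroup.coe_mul, Subgroup.coe_inv, hαx]
    have h1 : (x : X)⁻¹ * (d * x * d⁻¹) = ((x : X)⁻¹ * d * x) * d⁻¹ := by group
    rw [h1]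
    refine D.mul_mem ?_ (D.inv_mem hd)
    have h2 := hPn x⁻¹ (P.inv_mem hx) d hd
    rwa [Subgroup.coe_inv, inv_inv] at h2)
  have h1 : (r : X)⁻¹ * d ∈ centralizer (S : Set X) := by
    rw [mem_centralizer_iff]
    intro y hy
    have h2 : d * y * d⁻¹ = (r : X) * y * (r : X)⁻¹ := by
      have h3 := congrArg (fun β : MulAut S => ((β ⟨y, hy⟩ : S) : X)) hαr
      rw [hαx] at h3
      exact h3
    calc y * ((r : X)⁻¹ * d) = (r : X)⁻¹ * (r * y * (r : X)⁻¹) * d := by group
      _ = (r : X)⁻¹ * (d * y * d⁻¹) * d := by rw [h2]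
      _ = (r : X)⁻¹ * d * y := by group
  rw [hc, mem_bot, inv_mul_eq_one] at h1
  exact ⟨r, hr, h1⟩

/-- A conjugate of `z` by an element of `S` is centralised by `T`. -/
theorem exists_conj [Finite X] (hS : S.Normal) (hT : IsPGroup 2 T) (hTi : ¬ 2 ∣ T.index) {z : S}
    (hz : ∃ S₀ : Sylow 2 S, z ∈ S₀ ∧ (∀ x ∈ S₀, x * z = z * x) ∧ ∀ y ∈ S₀, (∀ x ∈ S₀, x * y = y * x) → y = 1 ∨ y = z) :
    ∃ g : S, T ≤ centralizer ({(g * z * g⁻¹ : X)} : Set X) := by
  have hp : Fact (Nat.Prime 2) := ⟨Nat.prime_two⟩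
  obtain ⟨S₀, hz0, hzc, hzu⟩ := hz
  -- the Sylow subgroup `T ∩ S` of `S`
  let T' : Sylow 2 X := hT.toSylow hTi
  have h1 : ¬ 2 ∣ (T' : Subgroup X).relIndex S := Cfsg.Agent.Lib.SylowNormalInf.not_dvd_relIndex T' S
  let T₀ : Sylow 2 S := (Cfsg.Agent.Lib.SylowNormalInf.isPGroup_subgroupOf T' S).toSylow h1
  have hT₀ : ∀ x : S, x ∈ T₀ ↔ (x : X) ∈ T := fun x => Iff.rfl
  obtain ⟨g, hg⟩ := MulAction.exists_smul_eq S S₀ T₀
  refine ⟨g, fun t ht => mem_centralizer_singleton_iff.2 ?_⟩
  have hmem : ∀ x : S, x ∈ S₀ → g * x * g⁻¹ ∈ T₀ := by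
    intro x hx
    rw [← hg]
    exact ⟨x, hx, rfl⟩
  have hmem' : ∀ x : S, x ∈ T₀ → g⁻¹ * x * g ∈ S₀ := by
    intro x hx
    rw [← hg] at hx
    obtain ⟨y, hy, rfl⟩ := hx
    show g⁻¹ * (g * y * g⁻¹) * g ∈ S₀
    have : g⁻¹ * (g * y * g⁻¹) * g = y := by group
    rwa [this]
  -- conjugation by `t`
  let α : MulAut S := MulAut.conjNormal t
  have hαx : ∀ x : S, ((α x : S) : X) = t * x * t⁻¹ := fun x => MulAut.conjNormal_apply t x
  have hαT : ∀ x : S, x ∈ T₀ → α x ∈ T₀ := by
    intro x hx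
    rw [hT₀, hαx]
    exact T.mul_mem (T.mul_mem ht ((hT₀ x).1 hx)) (T.inv_mem ht)
  have hαT' : ∀ x : S, x ∈ T₀ → α.symm x ∈ T₀ := by
    intro x hx
    have h2 : ((α.symm x : S) : X) = t⁻¹ * x * t := by
      have h3 := hαx (α.symm x)
      rw [MulEquiv.apply_symm_apply] at h3
      rw [h3]; group
    rw [hT₀, h2]
    exact T.mul_mem (T.mul_mem (T.inv_mem ht) ((hT₀ x).1 hx)) ht
  have h2 : α (g * z * g⁻¹) = g * z * g⁻¹ := by
    rcases hzu (g⁻¹ * α (g * z * g⁻¹) * g) (hmem' _ (hαT _ (hmem z hz0))) (by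
      intro x hx
      have h3 : g⁻¹ * α.symm (g * x * g⁻¹) * g ∈ S₀ := hmem' _ (hαT' _ (hmem x hx))
      have h4 := hzc _ h3
      have h5 : α.symm (g * x * g⁻¹) * (g * z * g⁻¹) = (g * z * g⁻¹) * α.symm (g * x * g⁻¹) := by
        calc α.symm (g * x * g⁻¹) * (g * z * g⁻¹) = g * ((g⁻¹ * α.symm (g * x * g⁻¹) * g) * z) * g⁻¹ := by group
          _ = g * (z * (g⁻¹ * α.symm (g * x * g⁻¹) * g)) * g⁻¹ := by rw [h4]
          _ = _ := by group
      have h6 : (g * x * g⁻¹) * α (g * z * g⁻¹) = α (g * z * g⁻¹) * (g * x * g⁻¹) := by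
        have h7 := congrArg α h5
        rw [map_mul α (α.symm (g * x * g⁻¹)), map_mul α (g * z * g⁻¹), MulEquiv.apply_symm_apply] at h7
        exact h7
      calc x * (g⁻¹ * α (g * z * g⁻¹) * g) = g⁻¹ * ((g * x * g⁻¹) * α (g * z * g⁻¹)) * g := by group
        _ = g⁻¹ * (α (g * z * g⁻¹) * (g * x * g⁻¹)) * g := by rw [h6]
        _ = _ := by group) with h3 | h3
    · have h4 : α (g * z * g⁻¹) = 1 := by
        have h5 : α (g * z * g⁻¹) = g * (g⁻¹ * α (g * z * g⁻¹) * g) * g⁻¹ := by group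
        rw [h5, h3]; group
      have h5 : g * z * g⁻¹ = 1 := α.injective (h4.trans (map_one α).symm)
      rw [h4, h5]
    · calc α (g * z * g⁻¹) = g * (g⁻¹ * α (g * z * g⁻¹) * g) * g⁻¹ := by group
        _ = _ := by rw [h3]
  have h3 := congrArg Subtype.val h2
  rw [hαx, Subgroup.coe_mul, Subgroup.coe_mul, Subgroup.coe_inv, mul_inv_eq_iff_eq_mul] at h3
  exact h3

/-- **`A ≤ O₂(C_X(z))^g`, `g ∈ S`.** -/
theorem le_o2_conj [Finite X] (h : AS S T A) {z : S} (hz1 : z ≠ 1)
    (hz : ∃ S₀ : Sylow 2 S, z ∈ S₀ ∧ (∀ x ∈ S₀, x * z = z * x) ∧ ∀ y ∈ S₀, (∀ x ∈ S₀, x * y = y * x) → y = 1 ∨ y = z) :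
    ∃ g : S, ∀ a ∈ A, (g : X)⁻¹ * a * g ∈ o2 (centralizer ({(z : X)} : Set X)) := by
  have hS := h.norm
  obtain ⟨g, hg⟩ := exists_conj hS h.two h.syl hz
  refine ⟨g, ?_⟩
  have hne : centralizer ({((g : X) * z * (g : X)⁻¹)} : Set X) ≠ ⊤ := by
    intro h1
    have h2 : (z : X) ∈ centralizer (S : Set X) := by
      rw [mem_centralizer_iff]
      intro y _
      have h3 : (g * y * (g : X)⁻¹) * (g * z * (g : X)⁻¹) = (g * z * (g : X)⁻¹) * (g * y * (g : X)⁻¹) :=
        mem_centralizer_singleton_iff.1 (h1 ▸ mem_top _)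
      calc y * (z : X) = (g : X)⁻¹ * ((g * y * (g : X)⁻¹) * (g * z * (g : X)⁻¹)) * g := by group
        _ = (g : X)⁻¹ * ((g * z * (g : X)⁻¹) * (g * y * (g : X)⁻¹)) * g := by rw [h3]
        _ = z * y := by group
    rw [h.cen, mem_bot] at h2
    exact hz1 (Subtype.ext h2)
  have hle := h.low _ hg hne
  intro a ha
  have h1 := hle ha
  -- equivariance
  have h2 : (o2 (centralizer ({((g : X) * z * (g : X)⁻¹)} : Set X))).map (MulAut.conj (g : X)⁻¹).toMonoidHom ≤
      o2 (centralizer ({(z : X)} : Set X)) := by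
    have hc1 : ∀ x ∈ centralizer ({((g : X) * z * (g : X)⁻¹)} : Set X), (g : X)⁻¹ * x * g ∈ centralizer ({(z : X)} : Set X) := by
      intro x hx
      rw [mem_centralizer_singleton_iff] at hx ⊢
      calc (g : X)⁻¹ * x * g * z = (g : X)⁻¹ * (x * (g * z * (g : X)⁻¹)) * g := by group
        _ = (g : X)⁻¹ * ((g * z * (g : X)⁻¹) * x) * g := by rw [hx]
        _ = z * ((g : X)⁻¹ * x * g) := by group
    have hc2 : ∀ x ∈ centralizer ({(z : X)} : Set X), (g : X) * x * (g : X)⁻¹ ∈ centralizer ({((g : X) * z * (g : X)⁻¹)} : Set X) := by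
      intro x hx
      rw [mem_centralizer_singleton_iff] at hx ⊢
      calc (g : X) * x * (g : X)⁻¹ * (g * z * (g : X)⁻¹) = (g : X) * (x * z) * (g : X)⁻¹ := by group
        _ = (g : X) * (z * x) * (g : X)⁻¹ := by rw [hx]
        _ = _ := by group
    refine le_o2 ?_ ((o2_isPGroup _).map _) ?_
    · rintro _ ⟨x, hx, rfl⟩
      have h3 := hc1 x (o2_le _ hx)
      rw [MulEquiv.toMonoidHom_eq_coe, MonoidHom.coe_coe, MulAut.conj_apply, inv_inv]
      exact h3
    · have key : ∀ x ∈ centralizer ({(z : X)} : Set X), ∀ y ∈ (o2 (centralizer ({((g : X) * z * (g : X)⁻¹)} : Set X))).map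
          (MulAut.conj (g : X)⁻¹).toMonoidHom, x * y * x⁻¹ ∈ (o2 (centralizer ({((g : X) * z * (g : X)⁻¹)} : Set X))).map
          (MulAut.conj (g : X)⁻¹).toMonoidHom := by
        rintro x hx _ ⟨y, hy, rfl⟩
        refine ⟨(g * x * (g : X)⁻¹) * y * (g * x * (g : X)⁻¹)⁻¹, ?_, ?_⟩
        · exact (mem_normalizer_iff.1 (le_normalizer_o2 _ (hc2 x hx)) y).1 hy
        · rw [MulEquiv.toMonoidHom_eq_coe, MonoidHom.coe_coe, MulAut.conj_apply, MulAut.conj_apply]
          group
      intro x hx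
      rw [mem_normalizer_iff]
      intro y
      refine ⟨fun hy => key x hx y hy, fun hy => ?_⟩
      have h3 := key x⁻¹ (inv_mem hx) _ hy
      have h4 : x⁻¹ * (x * y * x⁻¹) * x⁻¹⁻¹ = y := by group
      rwa [h4] at h3
  apply h2
  refine ⟨a, h1, ?_⟩
  rw [MulEquiv.toMonoidHom_eq_coe, MonoidHom.coe_coe, MulAut.conj_apply, inv_inv]

/-- **`A ≤ R^g`.** -/
theorem le_conj [Finite X] (h : AS S T A) {z : S} {P R : Subgroup S} (hz : SheetX z P R) :
    ∃ g : X, ∀ a ∈ A, g⁻¹ * a * g ∈ R.map S.subtype := by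
  obtain ⟨g, hg⟩ := le_o2_conj h hz.z1 hz.syl
  exact ⟨g, fun a ha => o2_le_R h.norm h.cen hz (hg a ha)⟩

/-- `A ≤ S`, so `S = X`. -/
theorem eq_top [Finite X] (h : AS S T A) {z : S} {P R : Subgroup S} (hz : SheetX z P R) : S = ⊤ := by
  obtain ⟨g, hg⟩ := le_conj h hz
  have hS := h.norm
  rw [← h.gen]
  refine (sup_eq_left.2 fun a ha => ?_).symm
  obtain ⟨r, -, hr⟩ := hg a ha
  have h1 : a = g * r * g⁻¹ := by
    change (r : X) = g⁻¹ * a * g at hr
    rw [hr]; group
  rw [h1]
  exact hS.conj_mem _ r.2 g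

/-- `|A| ≤ 4` if the elementary abelian subgroups of `R` have order at most 4. -/
theorem card_le [Finite X] (h : AS S T A) {z : S} {P R : Subgroup S} (hz : SheetX z P R) {n : ℕ}
    (hR : ∀ B ≤ R, (∀ b ∈ B, b * b = 1) → Nat.card B ≤ n) : Nat.card A ≤ n := by
  obtain ⟨g, hg⟩ := le_conj h hz
  have h1 : A.map (MulAut.conj g⁻¹).toMonoidHom ≤ R.map S.subtype := by
    rintro _ ⟨a, ha, rfl⟩
    have h2 := hg a ha
    rw [MulEquiv.toMonoidHom_eq_coe, MonoidHom.coe_coe, MulAut.conj_apply, inv_inv]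
    exact h2
  obtain ⟨B, hB, hBA⟩ : ∃ B ≤ R, B.map S.subtype = A.map (MulAut.conj g⁻¹).toMonoidHom := by
    refine ⟨(A.map (MulAut.conj g⁻¹).toMonoidHom).comap S.subtype, ?_, ?_⟩
    · intro x hx
      obtain ⟨r, hr, hrx⟩ := h1 hx
      rwa [← S.subtype_injective hrx]
    · refine map_comap_eq_self ?_
      rw [range_subtype]
      exact h1.trans (map_subtype_le _)
  have h3 : Nat.card B = Nat.card A := by
    rw [← card_map_of_injective S.subtype_injective, hBA, card_map_of_injective (MulAut.conj g⁻¹).injective]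
  rw [← h3]
  refine hR B hB fun b hb => ?_
  have h4 : (b : X) ∈ A.map (MulAut.conj g⁻¹).toMonoidHom := by
    rw [← hBA]; exact ⟨b, hb, rfl⟩
  obtain ⟨a, ha, hab⟩ := h4
  apply Subtype.ext
  rw [Subgroup.coe_mul, Subgroup.coe_one, ← hab, ← map_mul, h.el a ha, map_one]

/-- **The row of a class of groups with a sheet of type (E), `R` of rank at most 2.** -/
theorem deadG_of {𝒮 : ∀ (S : Type u) [Group S], Prop}
    (hs : ∀ (S : Type u) [Group S], Finite S → 𝒮 S → ∃ (z : S) (P R : Subgroup S), SheetX z P R ∧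
      ∀ B ≤ R, (∀ b ∈ B, b * b = 1) → Nat.card B ≤ 4) : DeadG.{u} 𝒮 := by
  intro X _ _ S T A h hS
  obtain ⟨z, P, R, hz, hR⟩ := hs S inferInstance hS
  exact card_le h hz hR

end Cfsg.Agent.Omega.ML.ShE

end

section


/-!
# (ML), the K-list end: `R = C_X(z)`, `Z(S₀) = ⟨z⟩` for a Sylow 2-subgroup `S₀` of `S` (helper809)

* `conj_o2_mem` : `O₂` of conjugate subgroups;
* `AS.conj_of_syl` : a conjugate of `A` lies in `O₂(C_X(z))`;
* `AS.card_le_of_syl` : `|A| ≤ n` if the elementary abelian subgroups of `O₂(C_X(z))` have order at most `n`.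
-/

set_option autoImplicit false

namespace Cfsg.Agent.Omega.ML.Rows

open Subgroup Cfsg Cfsg.Agent.ZN Cfsg.Agent.Omega.TwoF
open Cfsg.Agent.MinSimple.VModule (o2_isPGroup o2_le le_o2 le_normalizer_o2)

universe u

variable {X : Type u} [Group X] {S T A : Subgroup X}

/-- Conjugate subgroups. -/
theorem conj_o2_mem {R R' : Subgroup X} (g : X) (h : ∀ x, x ∈ R ↔ g * x * g⁻¹ ∈ R') :
    (o2 R').comap (MulAut.conj g).toMonoidHom ≤ o2 R := by
  refine le_o2 (fun x hx => (h x).2 (o2_le R' hx)) ((o2_isPGroup R').comap_of_injective _ (MulAut.conj g).injective) ?_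
  intro r hr
  have h5 := mem_normalizer_iff.1 (le_normalizer_o2 R' ((h r).1 hr))
  rw [mem_normalizer_iff]
  intro y
  rw [mem_comap, mem_comap, map_mul, map_mul, map_inv]
  exact h5 _

/-- **A conjugate of `A` lies in `O₂(C_X(z))`.** -/
theorem AS.conj_of_syl [Finite X] (h : AS S T A) {z : S} (hz1 : z ≠ 1)
    (hz : ∃ S₀ : Sylow 2 S, z ∈ S₀ ∧ (∀ x ∈ S₀, x * z = z * x) ∧ ∀ y ∈ S₀, (∀ x ∈ S₀, x * y = y * x) → y = 1 ∨ y = z) :
    ∃ g : X, ∀ a ∈ A, g⁻¹ * a * g ∈ o2 (centralizer ({(z : X)} : Set X)) := by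
  obtain ⟨g, hg⟩ := ShE.exists_conj h.norm h.two h.syl hz
  have hgz : (g : X) * z * (g : X)⁻¹ ≠ 1 := by
    intro h1
    apply hz1
    apply Subtype.ext
    calc (z : X) = (g : X)⁻¹ * ((g : X) * z * (g : X)⁻¹) * g := by group
      _ = 1 := by rw [h1]; group
  have h1 := h.low _ hg (h.cent_ne_top hgz)
  refine ⟨g, fun a ha => ?_⟩
  apply conj_o2_mem (R := centralizer ({(z : X)} : Set X))
    (R' := centralizer ({(g : X) * z * (g : X)⁻¹} : Set X)) (g : X)
  · intro x
    rw [mem_centralizer_singleton_iff, mem_centralizer_singleton_iff]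
    constructor
    · intro h2
      calc g * x * (g : X)⁻¹ * (g * z * (g : X)⁻¹) = g * (x * z) * (g : X)⁻¹ := by group
        _ = g * (z * x) * (g : X)⁻¹ := by rw [h2]
        _ = _ := by group
    · intro h2
      calc x * z = (g : X)⁻¹ * (g * x * (g : X)⁻¹ * (g * z * (g : X)⁻¹)) * g := by group
        _ = (g : X)⁻¹ * (g * z * (g : X)⁻¹ * (g * x * (g : X)⁻¹)) * g := by rw [h2]
        _ = _ := by group
  · rw [mem_comap]
    show (g : X) * ((g : X)⁻¹ * a * g) * (g : X)⁻¹ ∈ _
    have h2 : (g : X) * ((g : X)⁻¹ * a * g) * (g : X)⁻¹ = a := by group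
    rw [h2]
    exact h1 ha

/-- **Elementary abelian subgroups of `O₂(C_X(z))`.** -/
theorem AS.card_le_of_syl [Finite X] (h : AS S T A) {z : S} (hz1 : z ≠ 1)
    (hz : ∃ S₀ : Sylow 2 S, z ∈ S₀ ∧ (∀ x ∈ S₀, x * z = z * x) ∧ ∀ y ∈ S₀, (∀ x ∈ S₀, x * y = y * x) → y = 1 ∨ y = z)
    {n : ℕ} (hn : ∀ B ≤ o2 (centralizer ({(z : X)} : Set X)), (∀ b ∈ B, b * b = 1) → Nat.card B ≤ n) :
    Nat.card A ≤ n := by
  obtain ⟨g, hg⟩ := h.conj_of_syl hz1 hz
  have h1 : A.map (MulAut.conj g⁻¹).toMonoidHom ≤ o2 (centralizer ({(z : X)} : Set X)) := by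
    rintro _ ⟨a, ha, rfl⟩
    have h2 := hg a ha
    rw [MulEquiv.toMonoidHom_eq_coe, MonoidHom.coe_coe, MulAut.conj_apply, inv_inv]
    exact h2
  have h2 := hn _ h1 (by
    rintro _ ⟨a, ha, rfl⟩
    rw [← map_mul, h.el a ha, map_one])
  rwa [card_map_of_injective (MulAut.conj g⁻¹).injective] at h2

end Cfsg.Agent.Omega.ML.Rows

end

section


/-!
# (ML), the K-list end: a sheet of type (E) and one inverted element (helper667)

**`dead_of`** : the class `𝒮` (closed under isomorphism) of groups with a sheet `SheetX z P R` (helper926, helper915), whose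
elementary abelian subgroups `B ≤ R` have order at most `2 ^ n`, and `InvAt y n` (helper226) for every involution
`y ∈ R`, `y ≠ z`, is a row.
-/

set_option autoImplicit false

namespace Cfsg.Agent.Omega.ML.ShInv

open Subgroup Cfsg Cfsg.Agent.OddHalf.D8.JTwo.Sheet Cfsg.Agent.Omega.ML.Rows Cfsg.Agent.Omega.ML.ShE
open Cfsg.Agent.Omega.ML.InvChain

universe u v

/-- The row of a class of groups with a sheet of type (E), `R` of rank at most `n`, `InvAt y n` for the involutions
`y ≠ z` of `R`. -/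
theorem dead_of {𝒮 : ∀ (S : Type u) [Group S], Prop} (h𝒮 : IsoClosed.{u} 𝒮)
    (hs : ∀ (S : Type u) [Group S], Finite S → 𝒮 S → ∃ (z : S) (P R : Subgroup S) (n : ℕ), SheetX z P R ∧
      (∀ B ≤ R, (∀ b ∈ B, b * b = 1) → Nat.card B ≤ 2 ^ n) ∧ ∀ y ∈ R, y * y = 1 → y ≠ 1 → y ≠ z → InvAt y n) :
    Dead.{u, v} 𝒮 := by
  classical
  intro H _ _ M _ _ _ K T A h hK
  have hZ := h.normalZ
  set π := QuotientGroup.mk' (centralizer (K : Set H)) with hπ
  have hker : π.ker = centralizer (K : Set H) := QuotientGroup.ker_mk' _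
  have hs' : Function.Surjective π := QuotientGroup.mk'_surjective _
  have has := h.as hZ
  obtain ⟨z, P, R, n, hz, hR, hI⟩ := hs _ inferInstance (h𝒮 _ _ (equivZ hZ) hK)
  have htop := ShE.eq_top has hz
  have hcard : Nat.card A ≤ 2 ^ n := by
    rw [← h.card_map hZ]
    exact ShE.card_le has hz hR
  -- `K = ⊤`
  have hKt : K = ⊤ := by
    have h1 : K ⊔ π.ker = ⊤ := by
      rw [← comap_map_eq]
      change (K.map π).comap π = ⊤
      rw [htop, comap_top]
    rw [hker] at h1
    rw [← h1]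
    exact (sup_eq_left.2 h.cen).symm
  obtain ⟨g, hg⟩ := ShE.le_conj has hz
  -- the element
  obtain ⟨x, hxA, hx1, hx2⟩ : ∃ x ∈ A, π x ≠ 1 ∧ g⁻¹ * π x * g ≠ (z : H ⧸ centralizer (K : Set H)) := by
    by_contra hcon
    push Not at hcon
    have h1 : Nat.card A ≤ 2 := by
      rw [← h.card_map hZ]
      have h2 : ∀ a : A.map π, (a : H ⧸ centralizer (K : Set H)) = 1 ∨ g⁻¹ * (a : H ⧸ centralizer (K : Set H)) * g = z := by
        rintro ⟨_, a, ha, rfl⟩
        by_cases h3 : π a = 1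
        · exact Or.inl h3
        · exact Or.inr (hcon a ha h3)
      have h3 : Function.Injective (fun a : A.map π => (if (a : H ⧸ centralizer (K : Set H)) = 1 then false else true : Bool)) := by
        intro a b hab
        apply Subtype.ext
        by_cases ha : (a : H ⧸ centralizer (K : Set H)) = 1
        · by_cases hb : (b : H ⧸ centralizer (K : Set H)) = 1
          · rw [ha, hb]
          · simp [ha, hb] at hab
        · by_cases hb : (b : H ⧸ centralizer (K : Set H)) = 1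
          · simp [ha, hb] at hab
          · have h4 := (h2 a).resolve_left ha
            have h5 := (h2 b).resolve_left hb
            rw [← h5] at h4
            exact mul_left_cancel (mul_right_cancel h4)
      have h4 := Nat.card_le_card_of_injective _ h3
      rwa [Nat.card_eq_fintype_card (α := Bool), Fintype.card_bool] at h4
    have := h.eight
    omega
  obtain ⟨r, hr, hrx⟩ := hg (π x) (mem_map_of_mem π hxA)
  change (r : H ⧸ centralizer (K : Set H)) = g⁻¹ * π x * g at hrx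
  have hxx : π x * π x = 1 := by rw [← map_mul, h.el x hxA, map_one]
  have hI' : InvAt r n := by
    refine hI r hr (Subtype.ext ?_) ?_ ?_
    · rw [Subgroup.coe_mul, hrx, Subgroup.coe_one]
      calc g⁻¹ * π x * g * (g⁻¹ * π x * g) = g⁻¹ * (π x * π x) * g := by group
        _ = 1 := by rw [hxx]; group
    · intro h1
      apply hx1
      rw [h1, Subgroup.coe_one] at hrx
      calc π x = g * (g⁻¹ * π x * g) * g⁻¹ := by group
        _ = 1 := by rw [← hrx]; group
    · intro h1
      exact hx2 (by rw [← hrx, h1])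
  have h2 : InvAt (π x) n := by
    have h3 := (hI'.map (K.map π).subtype (K.map π).subtype_injective).conj g
    have h4 : g * (K.map π).subtype r * g⁻¹ = π x := by
      change g * (r : H ⧸ centralizer (K : Set H)) * g⁻¹ = π x
      rw [hrx]; group
    rwa [h4] at h3
  have hxK : x ∈ K := hKt ▸ mem_top x
  -- transport to `K / Z(K)`
  let ι : (H ⧸ centralizer (K : Set H)) →* K.map π :=
    { toFun := fun y => ⟨y, htop ▸ mem_top y⟩
      map_one' := rfl
      map_mul' := fun _ _ => rfl }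
  have hι : Function.Injective ι := fun a b hab => congrArg Subtype.val hab
  have h3 : InvAt ((equivZ hZ).symm (ι (π x))) n :=
    (h2.map ι hι).map (equivZ hZ).symm.toMonoidHom (equivZ hZ).symm.injective
  have h4 : (equivZ hZ).symm (ι (π x)) = ((⟨x, hxK⟩ : K) : K ⧸ center K) := by
    rw [MulEquiv.symm_apply_eq]
    rfl
  rw [h4] at h3
  exact InvRow.false_of_inv h hcard (x := ⟨x, hxK⟩) hxA h3

end Cfsg.Agent.Omega.ML.ShInv

end

section


/-!
# (ML), the K-list end: from `TwoF.LB` (elementary abelian `V`, one universe) to `Lie.Heis.LB` (helper369)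

`heis_of_twoF : TwoF.LB.{u} K n → Lie.Heis.LB.{_, u, w} K n`.
-/

set_option autoImplicit false

namespace Cfsg.Agent.Omega.ML.LBConv

open Subgroup Cfsg.Agent.Omega.TwoF Cfsg.Agent.Omega.Lie

universe u v w

/-- restriction of an action to an invariant subgroup -/
def restr {L V : Type*} [Group L] [CommGroup V] (φ : L →* MulAut V) (W : Subgroup V)
    (hW : ∀ g, ∀ x ∈ W, φ g x ∈ W) : L →* MulAut W where
  toFun g :=
    { toFun := fun x => ⟨φ g x, hW g x x.2⟩
      invFun := fun x => ⟨φ g⁻¹ x, hW g⁻¹ x x.2⟩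
      left_inv := fun x => Subtype.ext (by
        show φ g⁻¹ (φ g x) = x
        rw [← MulAut.mul_apply, ← map_mul, inv_mul_cancel, map_one, MulAut.one_apply])
      right_inv := fun x => Subtype.ext (by
        show φ g (φ g⁻¹ x) = x
        rw [← MulAut.mul_apply, ← map_mul, mul_inv_cancel, map_one, MulAut.one_apply])
      map_mul' := fun x y => Subtype.ext (map_mul (φ g) (x : V) y) }
  map_one' := by
    ext x
    show φ 1 (x : V) = x
    rw [map_one, MulAut.one_apply]
  map_mul' g h := by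
    ext x
    show φ (g * h) (x : V) = φ g (φ h x)
    rw [map_mul, MulAut.mul_apply]

theorem coe_restr {L V : Type*} [Group L] [CommGroup V] (φ : L →* MulAut V) (W : Subgroup V)
    (hW : ∀ g, ∀ x ∈ W, φ g x ∈ W) (g : L) (x : W) : ((restr φ W hW g x : W) : V) = φ g x := rfl

/-- a finite group has a copy in every universe -/
theorem exists_copy (V : Type w) [CommGroup V] [Finite V] : ∃ (W : Type u) (_ : CommGroup W), Nonempty (W ≃* V) := by
  have key : ∀ (W : Type u), Nonempty (W ≃ V) → ∃ (_ : CommGroup W), Nonempty (W ≃* V) := by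
    rintro W ⟨e⟩
    exact ⟨e.commGroup, ⟨e.mulEquiv⟩⟩
  obtain ⟨m, ⟨e0⟩⟩ := Finite.exists_equiv_fin V
  exact ⟨ULift.{u} (Fin m), key _ ⟨Equiv.ulift.trans e0.symm⟩⟩

/-- change of universe -/
theorem elem_ulift {K : Type v} [Group K] {n : ℕ} (h : TwoF.LB.{u} K n) {L : Type u} [Group L] [Finite L]
    {π : L →* K} (hπ : OddCover π) {V : Type w} [CommGroup V] [Finite V] (φ : L →* MulAut V)
    (hV : ∀ x : V, x ^ 2 = 1) (hφ : φ ≠ 1) : 2 ^ n ≤ Nat.card V := by
  obtain ⟨W, _, ⟨f⟩⟩ := exists_copy.{u} V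
  have : Finite W := Finite.of_equiv V f.symm.toEquiv
  have h1 := h L π hπ W ((MulAut.congr f.symm).toMonoidHom.comp φ) (fun x => by
    apply f.injective
    rw [map_pow, map_one]
    exact hV _) (fun h2 => hφ (by
      ext g x
      have h3 := DFunLike.congr_fun (DFunLike.congr_fun h2 g) (f.symm x)
      have h4 : f.symm (φ g (f (f.symm x))) = f.symm x := h3
      rw [f.apply_symm_apply] at h4
      rw [MonoidHom.one_apply, MulAut.one_apply]
      exact f.symm.injective h4))
  rwa [Nat.card_congr f.toEquiv] at h1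

/-- **From elementary abelian groups to abelian 2-groups, from one universe to two.** -/
theorem heis_of_twoF {K : Type v} [Group K] {n : ℕ} (h : TwoF.LB.{u} K n) : Heis.LB.{v, u, w} K n := by
  intro L _ _ π hs hc ho hp V _ _ hV φ hφ
  have hπ : OddCover π := ⟨hp, hs, hc, ho⟩
  -- induction on the order of `V`
  obtain ⟨k, hk⟩ : ∃ k, Nat.card V ≤ k := ⟨_, le_rfl⟩
  induction k generalizing V with
  | zero => exact absurd hk (by have := Nat.card_pos (α := V); omega)
  | succ k ih =>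
    -- `Ω₁(V)` and the squares
    let sq : V →* V := powMonoidHom 2
    have hker : ∀ g, ∀ x ∈ sq.ker, φ g x ∈ sq.ker := by
      intro g x hx
      rw [MonoidHom.mem_ker] at hx ⊢
      have h1 : x ^ 2 = 1 := hx
      show (φ g x) ^ 2 = 1
      rw [← map_pow, h1, map_one]
    have hran : ∀ g, ∀ x ∈ sq.range, φ g x ∈ sq.range := by
      rintro g _ ⟨x, rfl⟩
      refine ⟨φ g x, ?_⟩
      show (φ g x) ^ 2 = φ g (x ^ 2)
      rw [map_pow]
    by_cases h1 : restr φ sq.ker hker = 1
    · by_cases h2 : restr φ sq.range hran = 1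
      · exfalso
        -- `φ g x = x * d`, `d ∈ Ω₁(V)`
        apply hφ
        have h3 : ∀ g x, x⁻¹ * φ g x ∈ sq.ker := by
          intro g x
          rw [MonoidHom.mem_ker]
          have h4 := congrArg Subtype.val (DFunLike.congr_fun (DFunLike.congr_fun h2 g) ⟨x ^ 2, x, rfl⟩)
          have h5 : φ g (x ^ 2) = x ^ 2 := h4
          show (x⁻¹ * φ g x) ^ 2 = 1
          rw [mul_pow, ← map_pow, h5, inv_pow, inv_mul_cancel]
        have h4 : ∀ g, ∀ x ∈ sq.ker, φ g x = x := by
          intro g x hx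
          exact congrArg Subtype.val (DFunLike.congr_fun (DFunLike.congr_fun h1 g) ⟨x, hx⟩)
        have h5 : ∀ g g' x, φ (g * g') x = φ g x * (x⁻¹ * φ g' x) := by
          intro g g' x
          rw [map_mul, MulAut.mul_apply]
          have h6 : φ g' x = x * (x⁻¹ * φ g' x) := by rw [mul_inv_cancel_left]
          rw [h6, map_mul, h4 g _ (h3 g' x), ← h6]
        have h6 : ∀ g g', φ g * φ g' = φ g' * φ g := by
          intro g g'
          rw [← map_mul, ← map_mul]
          ext x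
          rw [h5, h5]
          rw [mul_comm x⁻¹ (φ g' x), mul_comm x⁻¹ (φ g x), ← mul_assoc, ← mul_assoc, mul_comm (φ g x)]
        have h7 : commutator L ≤ φ.ker := by
          rw [commutator_def, commutator_le]
          intro a _ b _
          rw [MonoidHom.mem_ker, map_commutatorElement, commutatorElement_eq_one_iff_mul_comm]
          exact h6 a b
        rw [hp] at h7
        ext g x
        have h8 : φ g = 1 := h7 (mem_top g)
        rw [h8]
        rfl
      · have h3 : sq.range ≠ ⊤ := by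
          intro h4
          -- `sq` injective: `V` is a 2-group
          have h5 : Function.Surjective sq := MonoidHom.range_eq_top.1 h4
          have h6 : Function.Injective sq := Finite.injective_iff_surjective.2 h5
          apply hφ
          ext g x
          have h7 : ∀ x : V, x = 1 := by
            intro x
            obtain ⟨j, hj⟩ := hV x
            have h8 : ∀ j : ℕ, ∀ y : V, y ^ 2 ^ j = 1 → y = 1 := by
              intro j
              induction j with
              | zero => intro y hy; rwa [pow_zero, pow_one] at hy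
              | succ j ih2 =>
                intro y hy
                rw [pow_succ, pow_mul] at hy
                apply ih2
                apply h6
                show (y ^ 2 ^ j) ^ 2 = (1 : V) ^ 2
                rw [hy, one_pow]
            exact h8 j x hj
          rw [h7 (φ g x), h7 x, map_one]
        have h4 : Nat.card sq.range < Nat.card V := by
          refine lt_of_le_of_ne (Subgroup.card_le_card_group _) fun h5 => h3 ?_
          exact Subgroup.eq_top_of_card_eq _ h5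
        have h5 := ih sq.range (hV.to_subgroup _) (restr φ sq.range hran) h2 (by omega)
        exact h5.trans h4.le
    · have h2 := elem_ulift h hπ (restr φ sq.ker hker) (fun x => Subtype.ext (by
        have h3 := x.2
        rw [MonoidHom.mem_ker] at h3
        exact h3)) h1
      exact h2.trans (Subgroup.card_le_card_group _)

end Cfsg.Agent.Omega.ML.LBConv

end
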