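import Cfsg.Agent.Mrg.Omega.ML.RowMJ
import Cfsg.Agent.Omega.TwoF.RowM12
import Cfsg.Agent.CoThreeStd.InvTwo
import Mathlib
import Cfsg.Agent.Mrg.Omega.ML.MinFrame
import Cfsg.Agent.Mrg.Omega.NOThree.NoOver
import Cfsg.Agent.UGT.End.M22
import Cfsg.Agent.J4Type.HexStab
import Cfsg.Agent.J4Type.Aut22
import Cfsg.Agent.CoOneType.CoOneE
import Cfsg.Agent.CoOneType.FrameFix
import Cfsg.Agent.CoOneType.ClosingCo1

section


/-!
# (ML), the K-list end: the row M12 (helper226)

`u` of order 11, `w₀ u w₀⁻¹ = u ^ 5`, `w₀` of order 5; the involutions `y` (2A), `p r` (2B) and their conjugates under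
`b` have products of order 5.  So `dim [M, x] ≥ 4` for all involutions, `m_2(Aut M12) ≤ 4`.
-/

set_option autoImplicit false

namespace Cfsg.Agent.Omega.ML.RowM12

open Subgroup Cfsg Cfsg.Agent.Omega.ML.Rows Cfsg.Agent.Omega.ML.InvChain Cfsg.Agent.Omega.ML.InvTool
open Cfsg.Agent.Omega.TwoF Cfsg.Agent.CoThreeStd.MTwelve Cfsg.Agent.CoThreeStd.InvTwo

universe u v

theorem wd_rep (l : List ℕ) (k : ℕ) : wd (List.replicate k l).flatten = wd l ^ k := by
  induction k with
  | zero => rfl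
  | succ k ih => rw [List.replicate_succ, List.flatten_cons, wd_append, ih, pow_succ']

theorem order_wd {l : List ℕ} {n : ℕ} (hn : n.Prime) (h : eqW (List.replicate n l).flatten [] = true)
    (h1 : act l 0 ≠ 0) : orderOf (wd l) = n := by
  have : Fact n.Prime := ⟨hn⟩
  apply orderOf_eq_prime
  · rw [← wd_rep, wd_eq h, wd_nil]
  · intro h2
    apply h1
    have h3 := (act_spec l 0 (by norm_num)).1
    rw [h2] at h3
    rw [← h3]
    exact enc_dec 0 (by norm_num)

theorem ord_u : orderOf (wd [2, 5, 1, 0]) = 11 := order_wd (by norm_num) (by decide +kernel) (by decide +kernel)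

theorem ord_w : orderOf (wd [1, 5]) = 5 := order_wd (by norm_num) (by decide +kernel) (by decide +kernel)

theorem chain_u : Chain (wd [2, 5, 1, 0]) 10 := by
  refine Chain.base _ 10 (by rw [ord_u]; norm_num) (by rw [ord_u]; norm_num) ?_
  intro j hj hj'
  rw [ord_u]
  interval_cases j <;> norm_num

theorem inv_w : (wd [1, 5])⁻¹ = wd [5, 1] := by
  rw [inv_eq_iff_mul_eq_one, ← wd_append]
  exact (wd_eq (by decide +kernel : eqW ([1, 5] ++ [5, 1]) [] = true)).trans wd_nil

theorem chain5 {w : Spor.M12} (hw : orderOf w = 5) : Chain w 8 := by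
  refine chain_of_sylow (w₀ := wd [1, 5]) (k := 5) chain_u (by rw [ord_w]; norm_num) (by rw [ord_w]; norm_num) ?_ ?_
    (by rw [ord_w]; norm_num) (by rw [ord_w, TwoF.RowM12.card_M12]; norm_num) (by rw [hw, ord_w])
  · rw [inv_w, ← wd_append, ← wd_append]
    rw [← wd_rep]
    exact wd_eq (by decide +kernel)
  · rw [← wd_append, ← wd_append]
    exact wd_ne 0 (by norm_num) (by decide +kernel)

theorem invAt_y : InvAt y 4 := by
  have h1 : y * y = 1 := (inv2.invA y isA_y).1
  refine invAt_of_mul (h := b) (m := 8) h1 (chain5 ?_) (by norm_num)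
  have h2 : y * (b * y * b⁻¹) = wd [0, 5, 0, 5] := by
    have h3 : b⁻¹ = b := by
      rw [inv_eq_iff_mul_eq_one]
      have := wd_eq (by decide +kernel : eqW [5, 5] [] = true)
      simpa [wd, gen] using this
    rw [h3]
    simp [wd, gen, mul_assoc]
  rw [h2]
  exact order_wd (by norm_num) (by decide +kernel) (by decide +kernel)

theorem invAt_pr : InvAt (p * r) 4 := by
  have h1 : p * r * (p * r) = 1 := (inv2.invB _ isB_pr).1
  refine invAt_of_mul (h := b) (m := 8) h1 (chain5 ?_) (by norm_num)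
  have h2 : p * r * (b * (p * r) * b⁻¹) = wd [1, 3, 5, 1, 3, 5] := by
    have h3 : b⁻¹ = b := by
      rw [inv_eq_iff_mul_eq_one]
      have := wd_eq (by decide +kernel : eqW [5, 5] [] = true)
      simpa [wd, gen] using this
    rw [h3]
    simp [wd, gen, mul_assoc]
  rw [h2]
  exact order_wd (by norm_num) (by decide +kernel) (by decide +kernel)

theorem invAt {x : Spor.M12} (h2 : x * x = 1) (h1 : x ≠ 1) : InvAt x 4 := by
  rcases inv2.cases x h2 h1 with ⟨c, rfl⟩ | ⟨c, rfl⟩
  · have := invAt_y.conj c⁻¹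
    rwa [inv_inv] at this
  · have := invAt_pr.conj c⁻¹
    rwa [inv_inv] at this

theorem out_lt : (MulAut.conj : Spor.M12 →* MulAut Spor.M12).range.index < 8 :=
  lt_of_le_of_lt (Nat.le_of_dvd (by norm_num) TwoF.RowM12.index_dvd) (by norm_num)

/-- **The row M12.** -/
theorem dead : Dead.{u, v} (fun S _ => Spor.IsoM12 S) := dead_of_model TwoF.RowM12.rk out_lt fun _ h2 h1 => invAt h2 h1

end Cfsg.Agent.Omega.ML.RowM12

end

section


/-!
# (ML), K-list end: the K-fact of THEOREM LOC (helper667, bb OMEGA #17388), cyclic form (helper907)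

`Loc K E x p n`: `E` is an elementary abelian 2-subgroup of `K` of order `2ⁿ`, its normaliser has odd index, `E`
contains its centralizer, and the element `x` of odd prime order `p` normalises `E`, does not centralise it, and `p` does
not divide `2ᵏ - 1` for `0 < k < n`.

* `Loc.map`: transport by an isomorphism.
-/

set_option autoImplicit false

namespace Cfsg.Agent.Omega.ML.LocK

open Subgroup

variable {K : Type*} [Group K]

/-- The K-fact. -/
structure Loc (K : Type*) [Group K] (E : Subgroup K) (x : K) (p n : ℕ) : Prop where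
  comm : ∀ a ∈ E, ∀ b ∈ E, a * b = b * a
  sq : ∀ a ∈ E, a * a = 1
  card : Nat.card E = 2 ^ n
  odd : ¬ 2 ∣ (normalizer (E : Set K)).index
  cent : ∀ g : K, (∀ a ∈ E, g * a = a * g) → g ∈ E
  prime : p.Prime
  p2 : p ≠ 2
  ord : orderOf x = p
  nd : ∀ k, 0 < k → k < n → ¬ p ∣ 2 ^ k - 1
  norm : ∀ a ∈ E, x * a * x⁻¹ ∈ E
  ne : ∃ a ∈ E, x * a ≠ a * x

/-- `K` has a fact. -/
def HasLoc (K : Type*) [Group K] : Prop := ∃ (E : Subgroup K) (x : K) (p n : ℕ), Loc K E x p n

theorem mem_normalizer_of {E : Subgroup K} {g : K} (h : ∀ a ∈ E, g * a * g⁻¹ ∈ E)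
    (h' : ∀ a ∈ E, g⁻¹ * a * g ∈ E) : g ∈ normalizer (E : Set K) := by
  rw [mem_normalizer_iff]
  intro a
  refine ⟨h a, fun ha => ?_⟩
  have := h' _ ha
  have e : g⁻¹ * (g * a * g⁻¹) * g = a := by group
  rwa [e] at this

theorem Loc.map {L : Type*} [Group L] {E : Subgroup K} {x : K} {p n : ℕ} (h : Loc K E x p n) (f : K ≃* L) :
    Loc L (E.map f.toMonoidHom) (f x) p n where
  comm := by
    rintro _ ⟨a, ha, rfl⟩ _ ⟨b, hb, rfl⟩
    show f a * f b = f b * f a
    rw [← map_mul, h.comm a ha b hb, map_mul]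
  sq := by
    rintro _ ⟨a, ha, rfl⟩
    show f a * f a = 1
    rw [← map_mul, h.sq a ha, map_one]
  card := by
    rw [← h.card]
    exact Subgroup.card_map_of_injective f.injective
  odd := by
    have h1 : normalizer ((E.map f.toMonoidHom : Subgroup L) : Set L) =
        (normalizer (E : Set K)).map f.toMonoidHom := by
      ext y
      constructor
      · intro hy
        refine ⟨f.symm y, mem_normalizer_of ?_ ?_, f.apply_symm_apply y⟩
        · intro a ha
          obtain ⟨b, hb, hb'⟩ := (mem_normalizer_iff.1 hy (f a)).1 ⟨a, ha, rfl⟩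
          have e : f.symm y * a * (f.symm y)⁻¹ = b := by
            apply f.injective
            rw [map_mul, map_mul, map_inv, f.apply_symm_apply]
            exact hb'.symm
          rw [e]; exact hb
        · intro a ha
          obtain ⟨b, hb, hb'⟩ := (mem_normalizer_iff.1 ((normalizer _).inv_mem hy) (f a)).1 ⟨a, ha, rfl⟩
          have e : (f.symm y)⁻¹ * a * f.symm y = b := by
            apply f.injective
            rw [map_mul, map_mul, map_inv, f.apply_symm_apply]
            rw [inv_inv] at hb'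
            exact hb'.symm
          rw [e]; exact hb
      · rintro ⟨g, hg, rfl⟩
        rw [SetLike.mem_coe, mem_normalizer_iff] at hg
        refine mem_normalizer_of ?_ ?_
        · rintro _ ⟨a, ha, rfl⟩
          refine ⟨g * a * g⁻¹, (hg a).1 ha, ?_⟩
          show f (g * a * g⁻¹) = f g * f a * (f g)⁻¹
          rw [map_mul, map_mul, map_inv]
        · rintro _ ⟨a, ha, rfl⟩
          refine ⟨g⁻¹ * a * g, ?_, ?_⟩
          · rw [SetLike.mem_coe, hg]
            have e : g * (g⁻¹ * a * g) * g⁻¹ = a := by group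
            rw [e]; exact ha
          · show f (g⁻¹ * a * g) = (f g)⁻¹ * f a * f g
            rw [map_mul, map_mul, map_inv]
    rw [h1, index_map_of_bijective f.bijective]
    exact h.odd
  cent := by
    intro g hg
    refine ⟨f.symm g, h.cent _ fun a ha => ?_, f.apply_symm_apply g⟩
    apply f.injective
    rw [map_mul, map_mul, f.apply_symm_apply]
    exact hg (f a) ⟨a, ha, rfl⟩
  prime := h.prime
  p2 := h.p2
  ord := by rw [f.orderOf_eq, h.ord]
  nd := h.nd
  norm := by
    rintro _ ⟨a, ha, rfl⟩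
    refine ⟨x * a * x⁻¹, h.norm a ha, ?_⟩
    show f (x * a * x⁻¹) = f x * f a * (f x)⁻¹
    rw [map_mul, map_mul, map_inv]
  ne := by
    obtain ⟨a, ha, hne⟩ := h.ne
    refine ⟨f a, ⟨a, ha, rfl⟩, fun e => hne (f.injective ?_)⟩
    rw [map_mul, map_mul, e]

theorem HasLoc.congr {L : Type*} [Group L] (f : K ≃* L) (h : HasLoc K) : HasLoc L := by
  obtain ⟨E, x, p, n, h⟩ := h
  exact ⟨_, _, p, n, h.map f⟩

end Cfsg.Agent.Omega.ML.LocK

end

section


/-!
# (ML), K-list end: lifting an element of prime order to a perfect central extension (helper907)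

`exists_lift_of_perfect`: `π : H → B` surjective with central kernel, `H` finite perfect, `p² ∤ |B|`, `x ∈ B` of order
`p`: there is `x' ∈ H` of order `p` with `π x' = x`. [A Sylow `p`-subgroup `P` of `H` is abelian; the transfer `H → P`
is trivial and raises the elements of `ker π ∩ P` to the power `|H : P|`: so `p ∤ |ker π|`.]
-/

set_option autoImplicit false

namespace Cfsg.Agent.Omega.ML.LocTr

open Subgroup

variable {H B : Type*} [Group H] [Group B] [Finite H] {π : H →* B} {p : ℕ}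

theorem not_dvd_card_ker (hker : π.ker ≤ center H) (perf : commutator H = ⊤) (hp : p.Prime)
    (surj : Function.Surjective π) (hsq : ¬ p ^ 2 ∣ Nat.card B) : ¬ p ∣ Nat.card π.ker := by
  intro hd
  have hpf : Fact p.Prime := ⟨hp⟩
  obtain ⟨z, hz⟩ := exists_prime_orderOf_dvd_card' p hd
  have hzp : (z : H) ^ p = 1 := by
    have h1 : z ^ p = 1 := by rw [← hz]; exact pow_orderOf_eq_one z
    exact_mod_cast congrArg Subtype.val h1
  have hz1 : (z : H) ≠ 1 := by
    intro h1
    have h2 : z = 1 := Subtype.ext h1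
    rw [h2, orderOf_one] at hz
    exact hp.one_lt.ne hz
  have hzc : (z : H) ∈ center H := hker z.2
  obtain ⟨P⟩ : Nonempty (Sylow p H) := inferInstance
  have hle : zpowers (z : H) ≤ center H := by rw [zpowers_le]; exact hzc
  have hn : (zpowers (z : H)).Normal := ⟨fun y hy g => by
    rwa [mem_center_iff.1 (hle hy) g, mul_inv_cancel_right]⟩
  have hpg : IsPGroup p (zpowers (z : H)) := by
    intro y
    obtain ⟨k, hk⟩ := y.2
    refine ⟨1, Subtype.ext ?_⟩
    rw [pow_one]
    change (y : H) ^ p = 1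
    rw [← hk]
    change ((z : H) ^ k) ^ p = 1
    rw [← zpow_natCast, ← zpow_mul, mul_comm, zpow_mul, zpow_natCast, hzp, one_zpow]
  have hzP : (z : H) ∈ (P : Subgroup H) := hpg.le_sylow_of_normal P (mem_zpowers _)
  -- `P` is commutative
  have hB : Finite B := Finite.of_surjective π surj
  set f : (P : Subgroup H) →* B := π.comp (P : Subgroup H).subtype with hf
  have hr : IsPGroup p f.range := by
    rintro ⟨_, y, rfl⟩
    obtain ⟨k, hk⟩ := P.2 y
    refine ⟨k, Subtype.ext ?_⟩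
    change f y ^ p ^ k = 1
    rw [← map_pow, hk, map_one]
  obtain ⟨k, hk⟩ := IsPGroup.iff_card.1 hr
  have hk1 : k ≤ 1 := by
    by_contra hcon
    apply hsq
    have h1 : p ^ 2 ∣ Nat.card f.range := by rw [hk]; exact pow_dvd_pow p (by omega)
    exact h1.trans (card_subgroup_dvd_card _)
  have hcyc : IsCyclic f.range := by
    interval_cases k
    · rw [pow_zero] at hk
      have := (Nat.card_eq_one_iff_unique.1 hk).1
      exact isCyclic_of_subsingleton
    · rw [pow_one] at hk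
      exact isCyclic_of_prime_card hk
  have hcomm : ∀ a b : (P : Subgroup H), a * b = b * a := by
    suffices h : IsMulCommutative (P : Subgroup H) from h.is_comm.comm
    refine MonoidHom.isMulCommutative_of_isCyclic_of_ker_le_center f.rangeRestrict ?_
    intro y hy
    rw [MonoidHom.ker_rangeRestrict] at hy
    rw [mem_center_iff]
    intro w
    exact Subtype.ext (mem_center_iff.1 (hker (show (y : H) ∈ π.ker from hy)) w)
  let _ : CommGroup (P : Subgroup H) := { (inferInstance : Group (P : Subgroup H)) with mul_comm := hcomm }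
  have key : ∀ (k : ℕ) (g₀ : H), g₀⁻¹ * (z : H) ^ k * g₀ ∈ (P : Subgroup H) → g₀⁻¹ * (z : H) ^ k * g₀ = (z : H) ^ k := by
    intro k g _
    rw [mul_assoc, ← mem_center_iff.1 (Subgroup.pow_mem _ hzc k) g, inv_mul_cancel_left]
  have h1 := MonoidHom.transfer_eq_pow (MonoidHom.id (P : Subgroup H)) (z : H) key
  have h2 : (z : H) ∈ (MonoidHom.transfer (MonoidHom.id (P : Subgroup H))).ker := by
    have h3 := Abelianization.commutator_subset_ker (MonoidHom.transfer (MonoidHom.id (P : Subgroup H)))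
    rw [perf] at h3
    exact h3 (mem_top _)
  rw [MonoidHom.mem_ker, h1] at h2
  have h4 : (z : H) ^ (P : Subgroup H).index = 1 := congrArg Subtype.val h2
  have h5 : ¬ p ∣ (P : Subgroup H).index := P.not_dvd_index' index_ne_zero_of_finite
  have h6 : Nat.Coprime p (P : Subgroup H).index := (Nat.Prime.coprime_iff_not_dvd hp).2 h5
  have h7 : orderOf (z : H) ∣ Nat.gcd p (P : Subgroup H).index :=
    Nat.dvd_gcd (orderOf_dvd_of_pow_eq_one hzp) (orderOf_dvd_of_pow_eq_one h4)
  rw [h6, Nat.dvd_one, orderOf_eq_one_iff] at h7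
  exact hz1 h7

omit [Finite H] in
/-- **Lift of an element of prime order.** -/
theorem exists_lift_of_not_dvd (hp : p.Prime) (surj : Function.Surjective π) (hnd : ¬ p ∣ Nat.card π.ker) {x : B}
    (hx : orderOf x = p) : ∃ x' : H, π x' = x ∧ orderOf x' = p := by
  have hpf : Fact p.Prime := ⟨hp⟩
  obtain ⟨h, rfl⟩ := surj x
  have hc : Nat.Coprime (Nat.card π.ker) p := ((Nat.Prime.coprime_iff_not_dvd hp).2 hnd).symm
  obtain ⟨m, -, hm⟩ := Nat.exists_mul_mod_eq_one_of_coprime hc hp.one_lt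
  have h1 : h ^ p ∈ π.ker := by
    rw [MonoidHom.mem_ker, map_pow, ← hx, pow_orderOf_eq_one]
  have h2 : (h ^ p) ^ Nat.card π.ker = 1 := by
    have h3 : (⟨h ^ p, h1⟩ : π.ker) ^ Nat.card π.ker = 1 := pow_card_eq_one'
    exact congrArg Subtype.val h3
  have h3 : π (h ^ (Nat.card π.ker * m)) = π h := by
    rw [map_pow]
    conv_rhs => rw [← pow_one (π h)]
    rw [pow_eq_pow_iff_modEq, hx]
    change _ % p = 1 % p
    rw [hm, Nat.mod_eq_of_lt hp.one_lt]
  refine ⟨h ^ (Nat.card π.ker * m), h3, ?_⟩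
  apply orderOf_eq_prime
  · rw [← pow_mul, show Nat.card π.ker * m * p = p * Nat.card π.ker * m by ring, pow_mul, pow_mul, h2, one_pow]
  · intro h4
    rw [h4, map_one] at h3
    rw [← h3, orderOf_one] at hx
    exact hp.one_lt.ne hx

/-- **Lift of an element of prime order to a perfect central extension.** -/
theorem exists_lift_of_perfect (hker : π.ker ≤ center H) (perf : commutator H = ⊤) (hp : p.Prime)
    (surj : Function.Surjective π) (hsq : ¬ p ^ 2 ∣ Nat.card B) {x : B} (hx : orderOf x = p) :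
    ∃ x' : H, π x' = x ∧ orderOf x' = p :=
  exists_lift_of_not_dvd hp surj (not_dvd_card_ker hker perf hp surj hsq) hx

end Cfsg.Agent.Omega.ML.LocTr

end

section


/-!
# (ML), the K-list end: from the K-fact `LocK.Loc` to the row (helper907)

* `In.false_of_loc` : the K-fact for the almost simple group `X = H / C_H(K)` and a prime `p` with `p² ∤ |X|`
  excludes the situation `In`;
* `In.eq_top` : `H = K` if all automorphisms of `K / Z(K)` are inner;
* `dead_of_loc` : the row of a class of simple groups with the K-fact and without outer automorphisms;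
* `dead_of_locX` : the row from the K-fact for the almost simple groups `X` of the situation `Rows.AS`.
-/

set_option autoImplicit false

namespace Cfsg.Agent.Omega.ML.LocRow

open Subgroup Cfsg Cfsg.Agent.ClassTwoFusion.Quad Cfsg.Agent.Omega.NOThree.NoOver Cfsg.Agent.Omega.ML.CD
open Cfsg.Agent.ZN Cfsg.Agent.Omega.ML.Rows Cfsg.Agent.Omega.ML.Loc

universe u v w

/-! ### Sylow -/

section sylow

variable {X : Type*} [Group X] [Finite X]

/-- A subgroup of odd index contains a conjugate of the Sylow 2-subgroup `T`. -/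
theorem exists_conj_le {T N : Subgroup X} (hT : IsPGroup 2 T) (hTi : ¬ 2 ∣ T.index) (hN : ¬ 2 ∣ N.index) :
    ∃ g : X, ∀ t ∈ T, g * t * g⁻¹ ∈ N := by
  have hf : Fact (Nat.Prime 2) := ⟨Nat.prime_two⟩
  obtain ⟨P⟩ : Nonempty (Sylow 2 N) := inferInstance
  have hP : IsPGroup 2 ((P : Subgroup N).map N.subtype) := P.2.map _
  have hPi : ¬ 2 ∣ ((P : Subgroup N).map N.subtype).index := by
    rw [index_map_subtype]
    intro h
    rcases (Nat.prime_two.dvd_mul).1 h with h | h
    · exact P.not_dvd_index' index_ne_zero_of_finite h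
    · exact hN h
  obtain ⟨g, hg⟩ := MulAction.exists_smul_eq X (hT.toSylow hTi) (hP.toSylow hPi)
  refine ⟨g, fun t ht => ?_⟩
  have h1 : ((g • hT.toSylow hTi : Sylow 2 X) : Subgroup X) = (P : Subgroup N).map N.subtype := by
    rw [hg]; rfl
  have h2 : g * t * g⁻¹ ∈ ((g • hT.toSylow hTi : Sylow 2 X) : Subgroup X) := ⟨t, ht, rfl⟩
  rw [h1] at h2
  obtain ⟨y, -, hy⟩ := h2
  rw [← hy]
  exact y.2

omit [Finite X] in
/-- A 2-subgroup normalised by the Sylow 2-subgroup `T` lies in `T`. -/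
theorem le_of_norm {T E : Subgroup X} (hT : IsPGroup 2 T) (hTi : ¬ 2 ∣ T.index) (hE : IsPGroup 2 E)
    (hn : T ≤ normalizer (E : Set X)) : E ≤ T := by
  have hf : Fact (Nat.Prime 2) := ⟨Nat.prime_two⟩
  have h1 : IsPGroup 2 (T ⊔ E : Subgroup X) := IsPGroup.to_sup_of_normal_right' hT hE hn
  have h2 : (T ⊔ E : Subgroup X) = T := (hT.toSylow hTi).is_maximal' h1 le_sup_left
  exact le_sup_right.trans h2.le

end sylow

variable {H : Type u} [Group H] [Finite H] {M : Type v} [Group M] [Finite M]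
  [MulDistribMulAction H M] {K T A : Subgroup H}

omit [Finite H] [Finite M] in
/-- The square of every element of `H` lies in `K`. -/
theorem sq_mem (h : In H M K T A) (g : H) : g * g ∈ K := by
  have hK := h.norm
  have hg : g ∈ K ⊔ A := h.gen ▸ mem_top g
  obtain ⟨k, hk, a, ha, rfl⟩ := mem_sup_of_normal_left.1 hg
  have h1 : k * a * (k * a) = k * (a * k * a⁻¹) * (a * a) := by group
  rw [h1, h.el a ha, mul_one]
  exact K.mul_mem hk (hK.conj_mem k hk a)

/-- **THEOREM LOC from the K-fact of the almost simple group `X`.** -/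
theorem _root_.Cfsg.Agent.Omega.ML.Rows.In.false_of_loc (h : In H M K T A) {X : Type w} [Group X] {π : H →* X} (surj : Function.Surjective π)
    (hker : π.ker = centralizer (K : Set H)) {E : Subgroup X} {x : X} {p n : ℕ} (L : LocK.Loc X E x p n)
    (hsq : ¬ p ^ 2 ∣ Nat.card X) : False := by
  have hX : Finite X := Finite.of_surjective π surj
  have hf : Fact (Nat.Prime 2) := ⟨Nat.prime_two⟩
  have hT' : IsPGroup 2 (T.map π) := h.two.map π
  have hTi' : ¬ 2 ∣ (T.map π).index := fun h1 => h.syl (h1.trans (index_map_dvd T surj))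
  -- WLOG `π(T)` normalises `E`
  obtain ⟨g, hg⟩ := exists_conj_le hT' hTi' L.odd
  obtain ⟨F, y, L', hTF⟩ : ∃ (F : Subgroup X) (y : X), LocK.Loc X F y p n ∧ T.map π ≤ normalizer (F : Set X) := by
    refine ⟨_, _, L.map (MulAut.conj g⁻¹), fun t ht => ?_⟩
    have key : ∀ s ∈ T.map π, ∀ a ∈ E.map (MulAut.conj g⁻¹).toMonoidHom,
        s * a * s⁻¹ ∈ E.map (MulAut.conj g⁻¹).toMonoidHom := by
      rintro s hs _ ⟨e, he, rfl⟩
      have h1 := (mem_normalizer_iff.1 (hg s hs) e).1 he
      refine ⟨_, h1, ?_⟩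
      change g⁻¹ * (g * s * g⁻¹ * e * (g * s * g⁻¹)⁻¹) * g⁻¹⁻¹ = s * (g⁻¹ * e * g⁻¹⁻¹) * s⁻¹
      group
    refine LocK.mem_normalizer_of (fun a ha => key t ht a ha) fun a ha => ?_
    have h2 := key t⁻¹ ((T.map π).inv_mem ht) a ha
    rwa [inv_inv] at h2
  clear hg L
  have hF2 : IsPGroup 2 F := fun a => ⟨1, Subtype.ext (by rw [pow_one, pow_two]; exact L'.sq a a.2)⟩
  have hFT : F ≤ T.map π := le_of_norm hT' hTi' hF2 hTF
  have hbot := h.inf_eq_bot T h.two
  have hinj : ∀ t ∈ T, π t = 1 → t = 1 := by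
    intro t ht h1
    have h2 : t ∈ T ⊓ centralizer (K : Set H) := ⟨ht, by rw [← hker]; exact h1⟩
    rw [hbot] at h2
    exact mem_bot.1 h2
  have hsqT : ∀ t ∈ T, π t ∈ F → t * t = 1 := fun t ht h1 =>
    hinj _ (T.mul_mem ht ht) (by rw [map_mul]; exact L'.sq _ h1)
  -- the lift of `x`
  have hpr := L'.prime
  have hodd : p % 2 = 1 := hpr.eq_two_or_odd.resolve_left L'.p2
  have hyS : y ∈ K.map π := by
    obtain ⟨g, hg⟩ := surj y
    have h1 : y ^ 2 ∈ K.map π := by
      rw [pow_two]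
      exact ⟨g * g, sq_mem h g, by rw [map_mul, hg]⟩
    have h2 : y = (y ^ 2) ^ ((p + 1) / 2) := by
      rw [← pow_mul, show 2 * ((p + 1) / 2) = p + 1 by omega, pow_succ, ← L'.ord, pow_orderOf_eq_one, one_mul]
    rw [h2]
    exact Subgroup.pow_mem _ h1 _
  obtain ⟨x', hx1, hx2⟩ : ∃ x' : H, π x' = y ∧ x' ^ p = 1 := by
    have h1 := LocTr.exists_lift_of_perfect (π := π.subgroupMap K) (p := p) (x := ⟨y, hyS⟩) ?_ h.perf hpr
      (MonoidHom.subgroupMap_surjective _ _) (fun h1 => hsq (h1.trans (card_subgroup_dvd_card _))) ?_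
    · obtain ⟨k, hk1, hk2⟩ := h1
      refine ⟨k, congrArg Subtype.val hk1, ?_⟩
      have h3 : k ^ p = 1 := by rw [← hk2]; exact pow_orderOf_eq_one k
      exact_mod_cast congrArg Subtype.val h3
    · intro k hk
      rw [mem_center_iff]
      intro l
      have h2 : π (k : H) = 1 := congrArg Subtype.val hk
      have h3 : (k : H) ∈ centralizer (K : Set H) := by rw [← hker]; exact h2
      exact Subtype.ext (mem_centralizer_iff.1 h3 l l.2)
    · rw [← L'.ord, ← orderOf_submonoid]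
  -- the subgroup of `T`
  refine h.false_of_prime (E := T ⊓ F.comap π) (x := x') (p := p) (n := n) inf_le_left ?_ ?_ ?_ ?_ hpr L'.p2 L'.nd hx2
    ?_ ?_
  · rintro t ht e ⟨he, he'⟩
    refine ⟨T.mul_mem (T.mul_mem ht he) (T.inv_mem ht), ?_⟩
    change π (t * e * t⁻¹) ∈ F
    rw [map_mul, map_mul, map_inv]
    exact (mem_normalizer_iff.1 (hTF ⟨t, ht, rfl⟩) _).1 he'
  · rintro e ⟨he, he'⟩
    exact hsqT e he he'
  · rw [← L'.card]
    refine Nat.card_le_card_of_injective (fun e : (T ⊓ F.comap π : Subgroup H) => (⟨π e, e.2.2⟩ : F)) ?_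
    intro a b hab
    have h1 : π a = π b := congrArg Subtype.val hab
    have h2 : (a : H) * (b : H)⁻¹ = 1 := hinj _ (T.mul_mem a.2.1 (T.inv_mem b.2.1)) (by
      rw [map_mul, map_inv, h1, mul_inv_cancel])
    exact Subtype.ext (mul_inv_eq_one.1 h2)
  · intro t ht hc
    refine ⟨ht, L'.cent _ fun a ha => ?_⟩
    obtain ⟨e, he, rfl⟩ := hFT ha
    rw [← map_mul, hc e ⟨he, ha⟩, map_mul]
  · rintro e ⟨he, he'⟩
    have h1 : π (x' * e * x'⁻¹) ∈ F := by
      rw [map_mul, map_mul, map_inv, hx1]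
      exact L'.norm _ he'
    obtain ⟨t, ht, ht'⟩ := hFT h1
    have hζ : t⁻¹ * (x' * e * x'⁻¹) ∈ centralizer (K : Set H) := by
      rw [← hker, MonoidHom.mem_ker, map_mul, map_inv, ht', inv_mul_cancel]
    have hcom := h.zen _ hζ
    have ht2 : t * t = 1 := hsqT t ht (by rw [ht']; exact h1)
    have he2 : e * e = 1 := hsqT e he he'
    have h2 : (t⁻¹ * (x' * e * x'⁻¹)) * (t⁻¹ * (x' * e * x'⁻¹)) = 1 := by
      have h3 : t⁻¹ = t := inv_eq_of_mul_eq_one_left ht2
      calc (t⁻¹ * (x' * e * x'⁻¹)) * (t⁻¹ * (x' * e * x'⁻¹))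
          = (t⁻¹ * (x' * e * x'⁻¹)) * t⁻¹ * (x' * e * x'⁻¹) := by group
        _ = t⁻¹ * (t⁻¹ * (x' * e * x'⁻¹)) * (x' * e * x'⁻¹) := by rw [hcom]
        _ = (t * t)⁻¹ * (x' * (e * e) * x'⁻¹) := by group
        _ = 1 := by rw [ht2, he2]; group
    have h3 : t⁻¹ * (x' * e * x'⁻¹) = 1 := by
      have h4 : orderOf (t⁻¹ * (x' * e * x'⁻¹)) ∣ 2 := orderOf_dvd_of_pow_eq_one (by rw [pow_two]; exact h2)
      have h5 : orderOf (t⁻¹ * (x' * e * x'⁻¹)) ∣ Nat.card (center K) := by
        rw [← h.card_centralizer]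
        have := orderOf_dvd_natCard (⟨_, hζ⟩ : centralizer (K : Set H))
        rwa [orderOf_mk] at this
      have h6 : Nat.Coprime 2 (Nat.card (center K)) := Nat.coprime_two_left.2 h.odd
      exact orderOf_eq_one_iff.1 (Nat.eq_one_of_dvd_coprimes h6 h4 h5)
    have h4 : x' * e * x'⁻¹ = t := by
      rw [inv_mul_eq_one] at h3
      exact h3.symm
    exact ⟨by rw [h4]; exact ht, h1⟩
  · obtain ⟨a, ha, hne⟩ := L'.ne
    obtain ⟨e, he, rfl⟩ := hFT ha
    refine ⟨e, ⟨he, ha⟩, fun h1 => hne ?_⟩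
    rw [← hx1, ← map_mul, h1, map_mul]

omit [Finite H] [Finite M] in
/-- `H = K` if all the automorphisms of `K / Z(K)` are inner. -/
theorem _root_.Cfsg.Agent.Omega.ML.Rows.In.eq_top (h : In H M K T A)
    (inn : ∀ α : MulAut (K ⧸ center K), ∃ k, α = MulAut.conj k) : K = ⊤ := by
  rw [eq_top_iff]
  intro g _
  have hK := h.norm
  -- the action of `g` on `K / Z(K)`
  let φ : MulAut K := MulAut.conjNormal g
  have hφ : (center K).map φ.toMonoidHom = center K := by
    exact characteristic_iff_map_eq.1 inferInstance φ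
  let α : MulAut (K ⧸ center K) := QuotientGroup.congr (center K) (center K) φ hφ
  obtain ⟨q, hq⟩ := inn α
  obtain ⟨k, rfl⟩ := QuotientGroup.mk_surjective q
  have h1 : (k : H)⁻¹ * g ∈ centralizer (K : Set H) := by
    refine commutes_of_central h.perf fun l hl x => ?_
    have h2 : α (QuotientGroup.mk ⟨l, hl⟩) = MulAut.conj (QuotientGroup.mk k) (QuotientGroup.mk ⟨l, hl⟩) := by rw [hq]
    have h3 : (QuotientGroup.mk (φ ⟨l, hl⟩) : K ⧸ center K) = QuotientGroup.mk (k * ⟨l, hl⟩ * k⁻¹) := h2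
    rw [QuotientGroup.eq] at h3
    have h5 : (g * l * g⁻¹)⁻¹ * ((k : H) * l * (k : H)⁻¹) ∈ centralizer (K : Set H) :=
      mem_centralizer_iff.2 fun w hw => congrArg Subtype.val (mem_center_iff.1 h3 ⟨w, hw⟩)
    have h6 : l * (k : H)⁻¹ ∈ K := K.mul_mem hl (K.inv_mem k.2)
    have h7 := mem_centralizer_iff.1 ((centralizer (K : Set H)).inv_mem h5) _ h6
    have h4 : (k : H)⁻¹ * g * l * ((k : H)⁻¹ * g)⁻¹ * l⁻¹ = ((g * l * g⁻¹)⁻¹ * ((k : H) * l * (k : H)⁻¹))⁻¹ := by
      calc (k : H)⁻¹ * g * l * ((k : H)⁻¹ * g)⁻¹ * l⁻¹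
          = (l * (k : H)⁻¹ * ((g * l * g⁻¹)⁻¹ * ((k : H) * l * (k : H)⁻¹))⁻¹) * (l * (k : H)⁻¹)⁻¹ := by group
        _ = _ := by rw [h7, mul_inv_cancel_right]
    rw [h4]
    exact h.zen _ ((centralizer (K : Set H)).inv_mem h5) x
  have h2 := K.mul_mem k.2 (h.cen h1)
  rwa [mul_inv_cancel_left] at h2

/-- **The row of a class of simple groups with the K-fact and without outer automorphisms.** -/
theorem dead_of_loc {𝒮 : ∀ (S : Type u) [Group S], Prop}
    (hS : ∀ (S : Type u) [Group S] [Finite S], 𝒮 S → (∃ (E : Subgroup S) (x : S) (p n : ℕ),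
      LocK.Loc S E x p n ∧ ¬ p ^ 2 ∣ Nat.card S) ∧ ∀ α : MulAut S, ∃ k, α = MulAut.conj k) :
    Dead.{u, v} 𝒮 := by
  intro H _ _ M _ _ _ K T A h hK
  obtain ⟨⟨E, x, p, n, L, hsq⟩, inn⟩ := hS _ hK
  have htop := h.eq_top inn
  subst htop
  -- `H → K / Z(K)`
  let π : H →* ((⊤ : Subgroup H) ⧸ center (⊤ : Subgroup H)) :=
    (QuotientGroup.mk' (center (⊤ : Subgroup H))).comp (topEquiv (G := H)).symm.toMonoidHom
  refine h.false_of_loc (π := π) ?_ ?_ L hsq
  · exact (QuotientGroup.mk'_surjective _).comp (topEquiv (G := H)).symm.surjective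
  · ext g
    rw [MonoidHom.mem_ker, mem_centralizer_iff]
    constructor
    · intro h1 k _
      have h2 : ((topEquiv (G := H)).symm g) ∈ center (⊤ : Subgroup H) := (QuotientGroup.eq_one_iff _).1 h1
      exact congrArg Subtype.val (mem_center_iff.1 h2 ⟨k, mem_top k⟩)
    · intro h1
      refine (QuotientGroup.eq_one_iff _).2 (mem_center_iff.2 fun k => Subtype.ext ?_)
      exact h1 k (mem_top _)

/-- **The row from the K-fact for the almost simple groups.** -/
theorem dead_of_locX {𝒮 : ∀ (S : Type u) [Group S], Prop} (h𝒮 : IsoClosed.{u} 𝒮)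
    (hS : ∀ (X : Type u) [Group X] [Finite X] (S T A : Subgroup X), AS S T A → 8 ≤ Nat.card A → 𝒮 S →
      ∃ (E : Subgroup X) (x : X) (p n : ℕ), LocK.Loc X E x p n ∧ ¬ p ^ 2 ∣ Nat.card X) :
    Dead.{u, v} 𝒮 := by
  intro H _ _ M _ _ _ K T A h hK
  have hZ := h.normalZ
  have h8 := h.eight
  rw [← h.card_map hZ] at h8
  obtain ⟨E, x, p, n, L, hsq⟩ := hS _ _ _ _ (h.as hZ) h8 (h𝒮 _ _ (equivZ hZ) hK)
  exact h.false_of_loc (QuotientGroup.mk'_surjective _) (QuotientGroup.ker_mk' _) L hsq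

end Cfsg.Agent.Omega.ML.LocRow

end

section


/-!
# Almost simple groups in a model of the automorphism group (helper278)

`exists_embed`: `S ⊴ X`, `C_X(S) = 1`, `e : S ≃* L`, `L ≤ D ≤ P`, every automorphism of `L` is the conjugation by an
element of `D` and `C_D(L) = 1`: an injective `φ : X →* P` with `L ≤ range φ ≤ D`.
-/

set_option autoImplicit false

namespace Cfsg.Agent.Omega.ML.LocExt

open Subgroup Cfsg.Agent.Omega.ML.LocK

theorem exists_embed {X : Type*} [Group X] {P : Type*} [Group P] {S : Subgroup X} [S.Normal] {L D : Subgroup P}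
    (hLD : L ≤ D) (e : S ≃* L) (hS : ∀ x : X, (∀ s ∈ S, x * s * x⁻¹ = s) → x = 1)
    (hex : ∀ α : L ≃* L, ∃ g ∈ D, ∀ m : L, (α m : P) = g * m * g⁻¹)
    (hD : ∀ g ∈ D, (∀ m : L, g * (m : P) * g⁻¹ = m) → g = 1) :
    ∃ φ : X →* P, Function.Injective φ ∧ L ≤ φ.range ∧ φ.range ≤ D := by
  have hmem : ∀ (x : X) (s : S), x * s * x⁻¹ ∈ S := fun x s => Normal.conj_mem inferInstance (s : X) s.2 x
  -- the automorphism of `L` induced by `x`
  let α : X → (L ≃* L) := fun x => (e.symm.trans (MulAut.conjNormal x : MulAut S)).trans e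
  have hα : ∀ (x : X) (m : L), α x m = e ⟨x * (e.symm m : S) * x⁻¹, hmem x (e.symm m)⟩ := by
    intro x m
    show e (MulAut.conjNormal x (e.symm m)) = _
    congr 1
  choose g hgD hg using fun x => hex (α x)
  -- uniqueness
  have huniq : ∀ (a b : P), a ∈ D → b ∈ D → (∀ m : L, a * (m : P) * a⁻¹ = b * m * b⁻¹) → a = b := by
    intro a b ha hb hab
    have h1 : b⁻¹ * a = 1 := by
      apply hD _ (D.mul_mem (D.inv_mem hb) ha)
      intro m
      have h2 := hab m
      calc b⁻¹ * a * (m : P) * (b⁻¹ * a)⁻¹ = b⁻¹ * (a * m * a⁻¹) * b := by group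
        _ = b⁻¹ * (b * m * b⁻¹) * b := by rw [h2]
        _ = m := by group
    rw [← mul_one b, ← h1]
    group
  have hmul : ∀ x y, g (x * y) = g x * g y := by
    intro x y
    apply huniq _ _ (hgD _) (D.mul_mem (hgD x) (hgD y))
    intro m
    have h1 : α (x * y) m = α x (α y m) := by
      rw [hα, hα, hα]
      congr 1
      apply Subtype.ext
      show x * y * ((e.symm m : S) : X) * (x * y)⁻¹ =
        x * ((e.symm (e ⟨y * (e.symm m : S) * y⁻¹, hmem y (e.symm m)⟩) : S) : X) * x⁻¹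
      rw [e.symm_apply_apply]
      show _ = x * (y * ((e.symm m : S) : X) * y⁻¹) * x⁻¹
      group
    calc g (x * y) * (m : P) * (g (x * y))⁻¹ = (α (x * y) m : P) := (hg (x * y) m).symm
      _ = (α x (α y m) : P) := by rw [h1]
      _ = g x * (g y * m * (g y)⁻¹) * (g x)⁻¹ := by rw [hg x, hg y]
      _ = g x * g y * m * (g x * g y)⁻¹ := by group
  let φ : X →* P := MonoidHom.mk' g hmul
  refine ⟨φ, ?_, ?_, ?_⟩
  · rw [injective_iff_map_eq_one]
    intro x hx
    have hx' : g x = 1 := hx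
    apply hS
    intro s hs
    have h1 := hg x (e ⟨s, hs⟩)
    rw [hx', hα, one_mul, inv_one, mul_one] at h1
    have h2 := e.injective (Subtype.ext h1)
    have h3 := congrArg Subtype.val h2
    have h4 : ((e.symm (e ⟨s, hs⟩) : S) : X) = s := by rw [e.symm_apply_apply]
    rw [← h4]
    simpa only [e.symm_apply_apply] using h3
  · intro m hm
    refine ⟨((e.symm ⟨m, hm⟩ : S) : X), ?_⟩
    show g _ = m
    apply huniq _ _ (hgD _) (hLD hm)
    intro n
    rw [← hg, hα]
    have h1 : (⟨((e.symm ⟨m, hm⟩ : S) : X) * (e.symm n : S) * ((e.symm ⟨m, hm⟩ : S) : X)⁻¹,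
        hmem _ (e.symm n)⟩ : S) = e.symm ⟨m, hm⟩ * e.symm n * (e.symm ⟨m, hm⟩)⁻¹ := Subtype.ext rfl
    rw [h1, map_mul, map_mul, map_inv, e.apply_symm_apply, e.apply_symm_apply]
    rfl
  · rintro _ ⟨x, rfl⟩
    exact hgD x

/-- The K-fact, read off in the model. -/
theorem hasLoc_of_embed {X : Type*} [Group X] {P : Type*} [Group P] {φ : X →* P} (hφ : Function.Injective φ)
    (h : HasLoc φ.range) : HasLoc X := HasLoc.congr (MonoidHom.ofInjective hφ).symm h

end Cfsg.Agent.Omega.ML.LocExt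

end

section


/-!
# (ML), THEOREM LOC: the K-fact of `M22`: `2⁴:A6`, an element of order 5 (helper278)

* `hasLoc_of` : `K ≤ M24` containing the pointwise stabiliser of an octad `O`, with `|K : K_O|` odd and `5 ∣ |K_O|`.
-/

set_option autoImplicit false

namespace Cfsg.Agent.Omega.ML.LocM22

open Subgroup Cfsg
open Cfsg.Agent.SporadicA.OctadFix
open Cfsg.Agent.UGT.End.Octad
open Cfsg.Agent.Omega.ML.LocK
open scoped Pointwise

theorem exists_loc_of {K : Subgroup (Equiv.Perm GolayPt)} (hK : K ≤ M24) {O : Finset GolayPt} (hO : O ∈ octads)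
    (hE : fixOct O ≤ K) (hodd : ¬ 2 ∣ (MulAction.stabilizer K O).index)
    (h5 : 5 ∣ Nat.card (MulAction.stabilizer K O)) : ∃ (E : Subgroup K) (x : K), Loc K E x 5 4 := by
  have hcard := card_fixOct hO
  have hconj : ∀ g : K, (g : Equiv.Perm GolayPt) • O = O → ∀ a ∈ (fixOct O).subgroupOf K,
      g * a * g⁻¹ ∈ (fixOct O).subgroupOf K := by
    intro g hg a ha
    rw [mem_subgroupOf] at ha ⊢
    exact conj_mem (hK g.2) hg ha
  have hinv : ∀ g : K, (g : Equiv.Perm GolayPt) • O = O → ((g⁻¹ : K) : Equiv.Perm GolayPt) • O = O := by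
    intro g hg
    conv_lhs => rw [← hg]
    rw [Subgroup.coe_inv, inv_smul_smul]
  have hcent : ∀ g : K, (∀ a ∈ (fixOct O).subgroupOf K, g * a = a * g) → g ∈ (fixOct O).subgroupOf K := by
    intro g hg
    have hc : ∀ b ∈ fixOct O, (g : Equiv.Perm GolayPt) * b = b * g := by
      intro b hb
      exact congrArg Subtype.val (hg ⟨b, hE hb⟩ (mem_subgroupOf.2 hb))
    have hne : ∃ v ∈ fixOct O, v ≠ 1 := by
      by_contra hcon
      push Not at hcon
      have h1 : fixOct O = ⊥ := (eq_bot_iff_forall _).2 hcon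
      rw [h1, card_bot] at hcard
      omega
    obtain ⟨v, hv, hv1⟩ := hne
    rw [mem_subgroupOf]
    exact mem_fixOct_of_comm hO (hK g.2) (stab_of_comm hO hv hv1 (hc v hv)) hc
  have : Fact (Nat.Prime 5) := ⟨by norm_num⟩
  obtain ⟨x, hx⟩ := exists_prime_orderOf_dvd_card' 5 h5
  have hxO : ((x : K) : Equiv.Perm GolayPt) • O = O := x.2
  have hx5 : orderOf (x : K) = 5 := by rw [Subgroup.orderOf_coe, hx]
  refine ⟨(fixOct O).subgroupOf K, x, ?_⟩
  exact
    { comm := fun a ha b hb => Subtype.ext (mul_comm_fixOct hO (mem_subgroupOf.1 ha) (mem_subgroupOf.1 hb))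
      sq := fun a ha => Subtype.ext (fixOct_sq hO (mem_subgroupOf.1 ha))
      card := by
        rw [Nat.card_congr (subgroupOfEquivOfLe hE).toEquiv, hcard]
        norm_num
      odd := by
        intro h
        refine hodd (h.trans (index_dvd_of_le fun g hg => ?_))
        have hg' : (g : Equiv.Perm GolayPt) • O = O := hg
        refine mem_normalizer_of (hconj g hg') fun a ha => ?_
        have := hconj g⁻¹ (hinv g hg') a ha
        rwa [inv_inv] at this
      cent := hcent
      prime := by norm_num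
      p2 := by norm_num
      ord := hx5
      nd := by
        intro k h0 h1
        interval_cases k <;> omega
      norm := hconj x hxO
      ne := by
        by_contra hcon
        push Not at hcon
        have h1 := hcent _ hcon
        have h2 : (x : K) * x = 1 := Subtype.ext (fixOct_sq hO (mem_subgroupOf.1 h1))
        have h3 := orderOf_dvd_of_pow_eq_one (show (x : K) ^ 2 = 1 by rw [pow_two, h2])
        rw [hx5] at h3
        omega }

theorem hasLoc_of {K : Subgroup (Equiv.Perm GolayPt)} (hK : K ≤ M24) {O : Finset GolayPt} (hO : O ∈ octads)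
    (hE : fixOct O ≤ K) (hodd : ¬ 2 ∣ (MulAction.stabilizer K O).index)
    (h5 : 5 ∣ Nat.card (MulAction.stabilizer K O)) : HasLoc K := by
  obtain ⟨E, x, h⟩ := exists_loc_of hK hO hE hodd h5
  exact ⟨E, x, 5, 4, h⟩

theorem index_stab {O : Finset GolayPt} (hO : O ∈ octads) (h0 : none ∈ O) (h1 : some 0 ∈ O) :
    (MulAction.stabilizer Spor.M22 O).index = 77 := by
  rw [MulAction.index_stabilizer, ← Cfsg.Agent.SporadicStructure.MonoCounts.ncard_octads_in]
  congr 1
  ext O'
  rw [MulAction.mem_orbit_iff]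
  constructor
  · rintro ⟨g, rfl⟩
    obtain ⟨hM, g0, g1⟩ := (Cfsg.Agent.SporadicA.MathieuRecog.mem_M22_iff (g : Equiv.Perm GolayPt)).1 g.2
    refine ⟨(GolayOrbit.Walk.smul_mem_octads_iff hM O).2 hO, ?_, ?_⟩
    · have := Finset.smul_mem_smul_finset (a := (g : Equiv.Perm GolayPt)) h0
      rwa [Equiv.Perm.smul_def, g0] at this
    · have := Finset.smul_mem_smul_finset (a := (g : Equiv.Perm GolayPt)) h1
      rwa [Equiv.Perm.smul_def, g1] at this
  · rintro ⟨hO', k0, k1⟩
    obtain ⟨g, hg, e, g0, g1⟩ := Cfsg.Agent.J4Type.HexStab.exists_flag hO hO' h0 h1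
      Cfsg.Agent.J4Type.HexStab.none_ne_zero k0 k1 Cfsg.Agent.J4Type.HexStab.none_ne_zero
    exact ⟨⟨g, (Cfsg.Agent.SporadicA.MathieuRecog.mem_M22_iff g).2 ⟨hg, g0, g1⟩⟩, e⟩

theorem hasLoc_M22 : HasLoc Spor.M22 := by
  have hne : {O : Finset GolayPt | O ∈ octads ∧ (none ∈ O ∧ some 0 ∈ O)}.Nonempty := by
    rw [Set.nonempty_iff_ne_empty]
    intro e
    have := Cfsg.Agent.SporadicStructure.MonoCounts.ncard_octads_in
    rw [e, Set.ncard_empty] at this
    omega
  obtain ⟨O, hO, h0, h1⟩ := hne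
  have hi := index_stab hO h0 h1
  have hK : Spor.M22 ≤ M24 := fun g hg => ((Cfsg.Agent.SporadicA.MathieuRecog.mem_M22_iff g).1 hg).1
  refine hasLoc_of hK hO ?_ ?_ ?_
  · intro g hg
    rw [mem_fixOct] at hg
    exact (Cfsg.Agent.SporadicA.MathieuRecog.mem_M22_iff g).2 ⟨hg.1, hg.2 _ h0, hg.2 _ h1⟩
  · rw [hi]; omega
  · have h2 := card_mul_index (MulAction.stabilizer Spor.M22 O)
    rw [hi, Cfsg.Agent.SporadicA.MathieuRecog.card_M22] at h2
    omega

/-- **The K-fact of `M22`.** -/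
theorem hasLoc {K : Type*} [Group K] (h : Spor.IsoM22 K) : HasLoc K := by
  obtain ⟨e⟩ := h
  exact HasLoc.congr e.symm hasLoc_M22

end Cfsg.Agent.Omega.ML.LocM22

end

section


/-!
# (ML), THEOREM LOC: the K-fact of `M23`: `2⁴:A7` on an octad missing the point, an element of order 5 (helper278)
-/

set_option autoImplicit false

namespace Cfsg.Agent.Omega.ML.LocM23

open Subgroup Cfsg
open Cfsg.Agent.SporadicA.GolayBase Cfsg.Agent.SporadicA.GolayPerm
open Cfsg.Agent.SporadicStructure.MonoCounts Cfsg.Agent.SporadicStructure.MonoPerms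
open Cfsg.Agent.SporadicA.OctadFix
open Cfsg.Agent.Omega.ML.LocK
open scoped Pointwise

/-- The octads through `none`. -/
theorem ncard_octads_none : {O : Finset GolayPt | O ∈ octads ∧ none ∈ O}.ncard = 253 := by
  have h := ncard_octads (fun m => m.testBit 23)
  have h2 : cnt 12 0 (fun i => force (enc i) fun m => Nat.beq (popcount m) 8 && m.testBit 23) = 253 := by
    decide +kernel
  rw [h2] at h
  rw [← h]
  congr 1
  ext O
  simp only [Set.mem_ofPred_eq, mem_iff_testBit]
  exact Iff.rfl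

theorem exists_ne {O : Finset GolayPt} (hO : O ∈ octads) (h0 : none ∈ O) : ∃ q ∈ O, (none : GolayPt) ≠ q := by
  by_contra hcon
  push Not at hcon
  have h1 : O = {none} := Finset.eq_singleton_iff_unique_mem.2 ⟨h0, fun x hx => (hcon x hx).symm⟩
  have h2 : O.card = 8 := hO.2
  rw [h1, Finset.card_singleton] at h2
  omega

theorem index_stab {O : Finset GolayPt} (hO : O ∈ octads) (h0 : none ∈ O) :
    (MulAction.stabilizer Spor.M23 O).index = 253 := by
  rw [MulAction.index_stabilizer, ← ncard_octads_none]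
  congr 1
  ext O'
  rw [MulAction.mem_orbit_iff]
  constructor
  · rintro ⟨g, rfl⟩
    obtain ⟨hM, g0⟩ := (Cfsg.Agent.SporadicA.MathieuRecog.mem_M23_iff (g : Equiv.Perm GolayPt)).1 g.2
    refine ⟨(GolayOrbit.Walk.smul_mem_octads_iff hM O).2 hO, ?_⟩
    have := Finset.smul_mem_smul_finset (a := (g : Equiv.Perm GolayPt)) h0
    rwa [Equiv.Perm.smul_def, g0] at this
  · rintro ⟨hO', k0⟩
    obtain ⟨q, hq, hne⟩ := exists_ne hO h0
    obtain ⟨q', hq', hne'⟩ := exists_ne hO' k0
    obtain ⟨g, hg, e, g0, -⟩ := Cfsg.Agent.J4Type.HexStab.exists_flag hO hO' h0 hq hne k0 hq' hne'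
    exact ⟨⟨g, (Cfsg.Agent.SporadicA.MathieuRecog.mem_M23_iff g).2 ⟨hg, g0⟩⟩, e⟩

theorem exists_loc_M23 : ∃ (E : Subgroup Spor.M23) (x : Spor.M23), Loc Spor.M23 E x 5 4 := by
  have hne : {O : Finset GolayPt | O ∈ octads ∧ none ∈ O}.Nonempty := by
    rw [Set.nonempty_iff_ne_empty]
    intro e
    have := ncard_octads_none
    rw [e, Set.ncard_empty] at this
    omega
  obtain ⟨O, hO, h0⟩ := hne
  have hi := index_stab hO h0
  have hK : Spor.M23 ≤ M24 := fun g hg => ((Cfsg.Agent.SporadicA.MathieuRecog.mem_M23_iff g).1 hg).1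
  refine LocM22.exists_loc_of hK hO ?_ ?_ ?_
  · intro g hg
    rw [mem_fixOct] at hg
    exact (Cfsg.Agent.SporadicA.MathieuRecog.mem_M23_iff g).2 ⟨hg.1, hg.2 _ h0⟩
  · rw [hi]; omega
  · have h2 := card_mul_index (MulAction.stabilizer Spor.M23 O)
    rw [hi, Cfsg.Agent.SporadicA.MathieuRecog.card_M23] at h2
    omega

theorem hasLoc_M23 : HasLoc Spor.M23 := by
  obtain ⟨E, x, h⟩ := exists_loc_M23
  exact ⟨E, x, 5, 4, h⟩

/-- **The K-fact of `M23`.** -/
theorem hasLoc {K : Type*} [Group K] (h : Spor.IsoM23 K) : HasLoc K := by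
  obtain ⟨e⟩ := h
  exact HasLoc.congr e.symm hasLoc_M23

end Cfsg.Agent.Omega.ML.LocM23

end

section


/-!
# (ML), THEOREM LOC: the K-fact of the almost simple groups `M22`, `M22:2`, `M23` (helper278)
-/

set_option autoImplicit false

namespace Cfsg.Agent.Omega.ML.LocM22X

open Subgroup Cfsg
open Cfsg.Agent.SporadicA.OctadFix
open Cfsg.Agent.J4Type.Aut22
open Cfsg.Agent.Omega.ML.LocK Cfsg.Agent.Omega.ML.LocExt
open scoped Pointwise

theorem mem_of_D22 {g : Equiv.Perm GolayPt} (hg : g ∈ D22) {O : Finset GolayPt} (h0 : none ∈ O) (h1 : some 0 ∈ O) :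
    none ∈ g • O ∧ some 0 ∈ g • O := by
  have e0 := Finset.smul_mem_smul_finset (a := g) h0
  have e1 := Finset.smul_mem_smul_finset (a := g) h1
  rw [Equiv.Perm.smul_def] at e0 e1
  rcases ((mem_D22_iff g).1 hg).2 with ⟨g0, g1⟩ | ⟨g0, g1⟩
  · rw [g0] at e0
    rw [g1] at e1
    exact ⟨e0, e1⟩
  · rw [g0] at e0
    rw [g1] at e1
    exact ⟨e1, e0⟩

theorem index_stab {K : Subgroup (Equiv.Perm GolayPt)} (hK : Spor.M22 ≤ K) (hK' : K ≤ D22) {O : Finset GolayPt}
    (hO : O ∈ octads) (h0 : none ∈ O) (h1 : some 0 ∈ O) : (MulAction.stabilizer K O).index = 77 := by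
  rw [MulAction.index_stabilizer, ← Cfsg.Agent.SporadicStructure.MonoCounts.ncard_octads_in]
  congr 1
  ext O'
  rw [MulAction.mem_orbit_iff]
  constructor
  · rintro ⟨g, rfl⟩
    have hg := hK' g.2
    exact ⟨(GolayOrbit.Walk.smul_mem_octads_iff ((mem_D22_iff _).1 hg).1 O).2 hO, mem_of_D22 hg h0 h1⟩
  · rintro ⟨hO', k0, k1⟩
    obtain ⟨g, hg, e, g0, g1⟩ := Cfsg.Agent.J4Type.HexStab.exists_flag hO hO' h0 h1
      Cfsg.Agent.J4Type.HexStab.none_ne_zero k0 k1 Cfsg.Agent.J4Type.HexStab.none_ne_zero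
    exact ⟨⟨g, hK ((Cfsg.Agent.SporadicA.MathieuRecog.mem_M22_iff g).2 ⟨hg, g0, g1⟩)⟩, e⟩

/-- the two groups `M22`, `M22:2` -/
theorem exists_loc_of_between {K : Subgroup (Equiv.Perm GolayPt)} (hK : Spor.M22 ≤ K) (hK' : K ≤ D22) :
    (∃ (E : Subgroup K) (x : K), Loc K E x 5 4) ∧ ¬ 5 ^ 2 ∣ Nat.card K := by
  have hne : {O : Finset GolayPt | O ∈ octads ∧ (none ∈ O ∧ some 0 ∈ O)}.Nonempty := by
    rw [Set.nonempty_iff_ne_empty]
    intro e
    have := Cfsg.Agent.SporadicStructure.MonoCounts.ncard_octads_in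
    rw [e, Set.ncard_empty] at this
    omega
  obtain ⟨O, hO, h0, h1⟩ := hne
  have hi := index_stab hK hK' hO h0 h1
  constructor
  · refine LocM22.exists_loc_of (fun g hg => ((mem_D22_iff g).1 (hK' hg)).1) hO ?_ ?_ ?_
    · intro g hg
      rw [mem_fixOct] at hg
      exact hK ((Cfsg.Agent.SporadicA.MathieuRecog.mem_M22_iff g).2 ⟨hg.1, hg.2 _ h0, hg.2 _ h1⟩)
    · rw [hi]; omega
    · have h2 := card_mul_index (MulAction.stabilizer K O)
      have h3 := card_dvd_of_le hK
      rw [hi] at h2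
      rw [Cfsg.Agent.SporadicA.MathieuRecog.card_M22] at h3
      omega
  · intro h
    have h2 := h.trans (card_dvd_of_le hK')
    rw [card_D22] at h2
    omega

/-- **The K-fact of `M22` and `M22:2`**: `S ⊴ X`, `C_X(S) = 1`, `S ≅ M22`. -/
theorem exists_loc {X : Type*} [Group X] {S : Subgroup X} [S.Normal]
    (hS : ∀ x : X, (∀ s ∈ S, x * s * x⁻¹ = s) → x = 1) (h : Spor.IsoM22 S) :
    (∃ (E : Subgroup X) (x : X), Loc X E x 5 4) ∧ ¬ 5 ^ 2 ∣ Nat.card X := by
  obtain ⟨e⟩ := h
  obtain ⟨φ, hφ, h1, h2⟩ := exists_embed M22_le_D22 e hS exists_conj fun g hg hm => eq_one_of_centralizes hg hm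
  obtain ⟨⟨E, x, hE⟩, h5⟩ := exists_loc_of_between h1 h2
  refine ⟨⟨_, _, hE.map (MonoidHom.ofInjective hφ).symm⟩, ?_⟩
  rwa [Nat.card_congr (MonoidHom.ofInjective hφ).toEquiv]

end Cfsg.Agent.Omega.ML.LocM22X

end

section


/-!
# (ML), the K-list end: the row `M22` (with `M22:2` and the covers of odd index) (helper278)
-/

set_option autoImplicit false

namespace Cfsg.Agent.Omega.ML.RowMLoc

open Subgroup Cfsg Cfsg.Agent.Omega.ML.Rows Cfsg.Agent.Omega.ML.LocRow

universe u v

theorem M22.isoClosed : IsoClosed.{u} @Spor.IsoM22 := fun _ _ _ _ e h => by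
  obtain ⟨f⟩ := h
  exact ⟨e.symm.trans f⟩

/-- an element centralising the socle is trivial -/
theorem eq_one_of_conj {X : Type u} [Group X] {S T A : Subgroup X} (h : AS S T A) (x : X)
    (hx : ∀ s ∈ S, x * s * x⁻¹ = s) : x = 1 := by
  have h1 : x ∈ centralizer (S : Set X) := by
    refine mem_centralizer_iff.2 fun s hs => ?_
    have h2 := hx s hs
    rw [mul_inv_eq_iff_eq_mul] at h2
    exact h2.symm
  rw [h.cen] at h1
  exact mem_bot.1 h1

/-- **The row `M22`.** -/
theorem M22.dead : Dead.{u, v} @Spor.IsoM22 :=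
  dead_of_locX M22.isoClosed fun X _ _ S T A h _ hS => by
    have := h.norm
    obtain ⟨⟨E, x, hE⟩, h5⟩ := LocM22X.exists_loc (eq_one_of_conj h) hS
    exact ⟨E, x, 5, 4, hE, h5⟩

end Cfsg.Agent.Omega.ML.RowMLoc

end

section


/-!
# (ML), THEOREM LOC: the K-fact of `Co1`: `2¹¹:M24`, an element of order 23 (helper907)
-/

set_option autoImplicit false

namespace Cfsg.Agent.Omega.ML.LocCo1

open Subgroup Cfsg
open Cfsg.Agent.SporadicA.Co0Mono Cfsg.Agent.SporadicA.Co1Simple
open Cfsg.Agent.CoOneType.SignFacts (sup wt mem_sup wt_add_allOne)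
open Cfsg.Agent.CoOneType.CoOneE
open Cfsg.Agent.Omega.ML.LocK
open scoped Pointwise

/-- A permutation of `M24` which fixes all the octads is trivial. -/
theorem perm_eq_one_of {σ : M24} (h : ∀ c : golayCode, wt c = 8 → wordPerm σ c = c) : σ = 1 := by
  obtain ⟨o, ho⟩ := Cfsg.Agent.CoOneType.ClosingCo1.exists_octad
  have hin : ∃ i, i ∈ sup o := by
    by_contra hcon
    push Not at hcon
    have h1 : sup o = ∅ := Finset.eq_empty_of_forall_notMem hcon
    unfold wt at ho
    rw [h1, Finset.card_empty] at ho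
    omega
  have hout : ∃ j, j ∉ sup o := by
    by_contra hcon
    push Not at hcon
    have h1 : sup o = Finset.univ := Finset.eq_univ_of_forall hcon
    unfold wt at ho
    rw [h1, Finset.card_univ, Cfsg.Agent.Leech.Code.card_golayPt] at ho
    omega
  obtain ⟨i, hi⟩ := hin
  obtain ⟨j, hj⟩ := hout
  have hij : i ≠ j := fun e => hj (e ▸ hi)
  apply Subtype.ext
  ext1 p
  by_contra hp
  change ¬ (σ : Equiv.Perm GolayPt) p = p at hp
  obtain ⟨τ, hτi, hτj⟩ := Cfsg.Agent.S0399.two_transitive i j p ((σ : Equiv.Perm GolayPt) p) hij (Ne.symm hp)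
  have hs := sup_wordPerm τ o
  have hw : wt (wordPerm τ o) = 8 := by
    unfold wt
    rw [hs, Finset.card_smul_finset]
    exact ho
  have h1 := h _ hw
  have h2 := sup_wordPerm σ (wordPerm τ o)
  rw [h1, hs] at h2
  have hpm : p ∈ τ • sup o := by
    rw [Finset.mem_smul_finset]
    exact ⟨i, hi, hτi⟩
  have hqm : (σ : Equiv.Perm GolayPt) p ∈ τ • sup o := by
    rw [h2, Finset.mem_smul_finset]
    exact ⟨p, hpm, rfl⟩
  rw [Finset.mem_smul_finset] at hqm
  obtain ⟨k, hk, hk'⟩ := hqm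
  have h3 : k = j := (τ : Equiv.Perm GolayPt).injective (by rw [hτj]; exact hk')
  exact hj (h3 ▸ hk)

theorem E_comm (a : Spor.Co1) (ha : a ∈ E) (b : Spor.Co1) (hb : b ∈ E) : a * b = b * a := by
  obtain ⟨c, rfl⟩ := ha
  obtain ⟨d, rfl⟩ := hb
  rw [← map_mul, ← map_mul, ← signCo0_add, ← signCo0_add, add_comm]

/-- `E` contains its centralizer. -/
theorem cent_E (g : Spor.Co1) (hg : ∀ a ∈ E, g * a = a * g) : g ∈ E := by
  obtain ⟨d, hd⟩ := Cfsg.Agent.CoOneType.ClosingCo1.exists_dodecad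
  obtain ⟨x, hx, rfl⟩ := centralizer_dodecad_le d hd (mem_centralizer_singleton_iff.2 (hg _ ⟨d, rfl⟩))
  obtain ⟨a, σ, rfl⟩ := exists_sign_perm hx
  have hσ : σ = 1 := by
    apply perm_eq_one_of
    intro c hc
    have h1 : pr (permCo0 σ) * pr (signCo0 c) = pr (signCo0 c) * pr (permCo0 σ) := by
      have h2 := hg _ ⟨c, rfl⟩
      rw [map_mul, mul_assoc, ← mul_assoc (pr (signCo0 c)), E_comm _ ⟨c, rfl⟩ _ ⟨a, rfl⟩, mul_assoc] at h2
      exact mul_left_cancel h2
    have h3 : pr (signCo0 c) = pr (signCo0 (wordPerm σ c)) := by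
      rw [← perm_mul_sign_mul_inv, map_mul, map_mul, map_inv, h1, mul_inv_cancel_right]
    rcases (pr_sign_eq_iff _ _).1 h3 with h2 | h2
    · exact h2
    · exfalso
      have h3 : wt (wordPerm σ c) = 8 := by
        unfold wt
        rw [sup_wordPerm, Finset.card_smul_finset]
        exact hc
      have h4 := wt_add_allOne c
      rw [← h2] at h4
      omega
  rw [hσ, map_one, mul_one]
  exact ⟨a, rfl⟩

theorem conj_mem {g : Co0} (hg : g ∈ N) {a : Spor.Co1} (ha : a ∈ E) : pr g * a * (pr g)⁻¹ ∈ E := by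
  obtain ⟨c, rfl⟩ := ha
  obtain ⟨d, hd⟩ := N_normalises g hg c
  exact ⟨d, by rw [← hd, map_mul, map_mul, map_inv]⟩

theorem map_N_le : N.map pr ≤ normalizer (E : Set Spor.Co1) := by
  rintro _ ⟨g, hg, rfl⟩
  refine mem_normalizer_of (fun a ha => conj_mem hg ha) fun a ha => ?_
  have h := conj_mem (N.inv_mem hg) ha
  rwa [map_inv, inv_inv] at h

theorem odd_index : ¬ 2 ∣ (normalizer (E : Set Spor.Co1)).index := by
  intro h
  have h1 := h.trans (index_dvd_of_le map_N_le)
  have h2 : (N.map pr).index = N.index := by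
    refine index_map_eq N pr_surjective ?_
    intro x hx
    have h3 : x ∈ center Co0 := by
      rw [MonoidHom.mem_ker] at hx
      have h4 : pr 1 = pr x := by rw [map_one, hx]
      rw [mem_center_iff]
      rcases (pr_eq_iff 1 x).1 h4 with h5 | h5
      · exact Or.inl h5
      · rw [one_mul] at h5; exact Or.inr h5
    rcases (mem_center_iff x).1 h3 with rfl | rfl
    · exact N.one_mem
    · exact sign_mem_N _
  rw [h2, Cfsg.Agent.CoOneType.FrameFix.index_N] at h1
  omega

theorem orderOf_pr : orderOf (pr x23) = 23 := by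
  have : Fact (Nat.Prime 23) := ⟨by norm_num⟩
  apply orderOf_eq_prime
  · rw [← map_pow, x23_pow, map_one]
  · intro h
    have h4 : pr 1 = pr x23 := by rw [map_one, h]
    rcases (pr_eq_iff 1 x23).1 h4 with h5 | h5
    · exact x23_ne_one h5
    · rw [one_mul] at h5
      have h6 : x23 ^ 2 = 1 := by rw [h5, pow_two, signCo0_mul_self]
      have h7 := orderOf_dvd_of_pow_eq_one h6
      rw [orderOf_x23] at h7
      omega

/-- **The K-fact of `Co1`.** -/
theorem loc : Loc Spor.Co1 E (pr x23) 23 11 where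
  comm := E_comm
  sq := E_sq
  card := by rw [card_E]; norm_num
  odd := odd_index
  cent := cent_E
  prime := by norm_num
  p2 := by norm_num
  ord := orderOf_pr
  nd := by
    intro k h0 h1
    interval_cases k <;> omega
  norm := fun a ha => conj_mem x23_mem_N ha
  ne := by
    by_contra hcon
    push Not at hcon
    have h1 := cent_E _ hcon
    have h2 := E_sq _ h1
    have h3 := orderOf_dvd_of_pow_eq_one (show (pr x23) ^ 2 = 1 by rw [pow_two, h2])
    rw [orderOf_pr] at h3
    omega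

theorem hasLoc {K : Type*} [Group K] (h : Spor.IsoCo1 K) : HasLoc K := by
  obtain ⟨e⟩ := h
  exact HasLoc.congr e.symm ⟨_, _, _, _, loc⟩

end Cfsg.Agent.Omega.ML.LocCo1

end
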