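import Cfsg.Agent.Mrg.Omega.ML.AltDead


/-!
# (ML), the K-list end: a subgroup of odd index of `S = X` (helper809)

* `exists_conj_le` : a 2-subgroup `T` lies in a conjugate of every subgroup of odd index;
* `AS.card_le_of_odd_index` : `S = X`, `R < S` of odd index; if the 2-subgroups of `R` which are normal in `R` have order
  at most `n` then `|A| ≤ n`;
* `AS.card_le_of_odd_index_simple` : `R` simple and not a 2-group: `|A| ≤ 1`.
-/

set_option autoImplicit false

namespace Cfsg.Agent.Omega.ML.Rows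

open Subgroup Cfsg Cfsg.Agent.ZN Cfsg.Agent.Omega.TwoF
open Cfsg.Agent.MinSimple.VModule (o2_isPGroup o2_le le_o2 le_normalizer_o2)

universe u

variable {X : Type u} [Group X] {S T A : Subgroup X}

/-- A 2-subgroup lies in a conjugate of a subgroup of odd index. -/
theorem exists_conj_le [Finite X] {T R : Subgroup X} (hT : IsPGroup 2 T) (hR : ¬ 2 ∣ R.index) :
    ∃ g : X, ∀ t ∈ T, g⁻¹ * t * g ∈ R := by
  have hp : Fact (Nat.Prime 2) := ⟨Nat.prime_two⟩
  have h1 : (MulAction.fixedPoints T (X ⧸ R)).Nonempty :=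
    hT.nonempty_fixed_point_of_prime_not_dvd_card _ hR
  obtain ⟨x, hx⟩ := h1
  obtain ⟨g, rfl⟩ := QuotientGroup.mk_surjective x
  refine ⟨g, fun t ht => ?_⟩
  have h2 : (QuotientGroup.mk (t * g) : X ⧸ R) = QuotientGroup.mk g := hx ⟨t, ht⟩
  have h3 := QuotientGroup.eq.1 h2.symm
  rwa [← mul_assoc] at h3

/-- **A subgroup of odd index of `S = X`.** -/
theorem AS.card_le_of_odd_index [Finite X] (h : AS S T A) (hS : S = ⊤) {R : Subgroup S} (hR : ¬ 2 ∣ R.index)
    (hR1 : R ≠ ⊤) {n : ℕ} (hn : ∀ Q : Subgroup S, Q ≤ R → IsPGroup 2 Q → R ≤ normalizer (Q : Set S) → Nat.card Q ≤ n) :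
    Nat.card A ≤ n := by
  have hall : ∀ x : X, x ∈ S := fun x => hS ▸ mem_top x
  have h1 : ¬ 2 ∣ (R.map S.subtype).index := by
    have h0 : S.index = 1 := by rw [hS, index_top]
    rwa [index_map_subtype, h0, mul_one]
  obtain ⟨g, hg⟩ := exists_conj_le h.two h1
  -- the conjugate
  set R' : Subgroup X := (R.map S.subtype).comap (MulAut.conj g⁻¹).toMonoidHom with hR'
  have hmem : ∀ x : X, x ∈ R' ↔ (⟨g⁻¹ * x * g, hall _⟩ : S) ∈ R := by
    intro x
    rw [hR', mem_comap]
    constructor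
    · rintro ⟨r, hr, hrx⟩
      have h2 : (⟨g⁻¹ * x * g, hall _⟩ : S) = r := by
        apply Subtype.ext
        change (r : X) = g⁻¹ * x * g⁻¹⁻¹ at hrx
        rw [hrx, inv_inv]
      rwa [h2]
    · intro hr
      refine ⟨_, hr, ?_⟩
      show g⁻¹ * x * g = g⁻¹ * x * g⁻¹⁻¹
      rw [inv_inv]
  have hT : T ≤ R' := by
    intro t ht
    rw [hmem]
    obtain ⟨r, hr, hrx⟩ := hg t ht
    have h2 : (⟨g⁻¹ * t * g, hall _⟩ : S) = r := Subtype.ext hrx.symm
    rwa [h2]
  have hne : R' ≠ ⊤ := by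
    intro h2
    apply hR1
    rw [eq_top_iff]
    intro x _
    have h3 : g * x * g⁻¹ ∈ R' := h2 ▸ mem_top _
    rw [hmem] at h3
    have h4 : (⟨g⁻¹ * (g * x * g⁻¹) * g, hall _⟩ : S) = x := Subtype.ext (by group)
    rwa [h4] at h3
  have h2 := h.low R' hT hne
  -- the subgroup `Q`
  let f : S →* X := (MulAut.conj g).toMonoidHom.comp S.subtype
  have hf : Function.Injective f := (MulAut.conj g).injective.comp S.subtype_injective
  have hfa : ∀ x : S, f x = g * x * g⁻¹ := fun x => rfl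
  have h3 : Nat.card ((o2 R').comap f) ≤ n := by
    apply hn
    · intro x hx
      have h4 : f x ∈ R' := o2_le R' hx
      rw [hmem] at h4
      have h5 : (⟨g⁻¹ * f x * g, hall _⟩ : S) = x := Subtype.ext (by rw [hfa]; group)
      rwa [h5] at h4
    · exact (o2_isPGroup R').comap_of_injective _ hf
    · intro r hr
      have h4 : f r ∈ R' := by
        rw [hmem]
        have h5 : (⟨g⁻¹ * f r * g, hall _⟩ : S) = r := Subtype.ext (by rw [hfa]; group)
        rwa [h5]
      have h5 := mem_normalizer_iff.1 (le_normalizer_o2 R' h4)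
      rw [mem_normalizer_iff]
      intro y
      rw [mem_comap, mem_comap, map_mul, map_mul, map_inv]
      exact h5 (f y)
  have h4 : ((o2 R').comap f).map f = o2 R' := by
    refine map_comap_eq_self fun x _ => ?_
    exact ⟨⟨g⁻¹ * x * g, hall _⟩, by rw [hfa]; group⟩
  have h5 : Nat.card (o2 R') = Nat.card ((o2 R').comap f) := by
    rw [← card_map_of_injective hf, h4]
  exact (card_le_of_le h2).trans (h5 ▸ h3)

/-- **A simple subgroup of odd index.** -/
theorem AS.card_le_of_odd_index_simple [Finite X] (h : AS S T A) (hS : S = ⊤) {R : Subgroup S} (hR : ¬ 2 ∣ R.index)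
    (hR1 : R ≠ ⊤) (hs : IsSimpleGroup R) (h2 : ¬ IsPGroup 2 R) : Nat.card A ≤ 1 := by
  refine h.card_le_of_odd_index hS hR hR1 fun Q hQR hQ hN => ?_
  have h3 : (Q.subgroupOf R).Normal := by
    refine ⟨fun q hq g => ?_⟩
    exact (mem_normalizer_iff.1 (hN g.2) q).1 hq
  rcases hs.eq_bot_or_eq_top_of_normal _ h3 with h4 | h4
  · have h5 : Q = ⊥ := by
      rw [eq_bot_iff]
      intro q hq
      have h6 : (⟨q, hQR hq⟩ : R) ∈ Q.subgroupOf R := hq
      rw [h4, mem_bot] at h6
      exact mem_bot.2 (congrArg Subtype.val h6)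
    rw [h5, card_bot]
  · exact absurd (hQ.to_le (subgroupOf_eq_top.1 h4)) h2

end Cfsg.Agent.Omega.ML.Rows
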