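import Cfsg.Agent.Mrg.Omega.ML.AltRow
import Cfsg.Agent.Mrg.Omega.NOThree.NoOver
import Cfsg.Agent.Mrg.Omega.EH3.NodeHom
import Cfsg.Agent.Omega.TwoF.Rk
import Cfsg.Agent.Omega.Lie.HeisCover

section


/-!
# (ML): a minimal counterexample gives the situation `Rows.In`; (ML) from the rows

`p = False`: `A` is any elementary abelian subgroup of a 2-subgroup `Q` of `C_H(z)` normalised by `C_H(z)`.

* `Fr.exists_in` : a frame gives `Rows.In H M L T A` for some `L`, `A`;
* `mls_of_dead` : **(ML) for all groups of a section-closed class, if `Rows.In` does not occur in it**;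
* `mls_of_rows` : the same with `Rows.Dead 𝒮`;
* `rel_le`, `card_le` : the consumers' forms: `|A : C_A(W)| ≤ |W : C_W(A)|` for `W = ⟨z^H⟩`, and `|A| ≤ |M : C_M(A)|` if
  `M = ⟨z^H⟩` is faithful.
-/

set_option autoImplicit false

namespace Cfsg.Agent.Omega.ML.MinFrame

open Subgroup Cfsg Cfsg.Agent.ClassTwoFusion.Quad Cfsg.Agent.Omega.NOThree.NoOver Cfsg.Agent.Omega.ML.CD
open Cfsg.Agent.ZN Cfsg.Agent.MinSimple.VModule

universe u v

namespace Fr

variable {K : Frame.Cls.{u}} {H : Type u} [Group H] [Finite H] {M : Type v} [Group M] [Finite M]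
  [MulDistribMulAction H M] {T Q A : Subgroup H} {z : M}

/-- **The frame gives `Rows.In`** -/
theorem exists_in (hFF : FFBr.AStmt.{max u v}) (h : Fr K False H M T Q A z) :
    ∃ L B : Subgroup H, Rows.In H M L T B := by
  obtain ⟨B, hB, h'⟩ := h.exists_top
  obtain ⟨L, hLn, hLq, hLA, hC, hCL, hodd, -⟩ := h'.exists_comp'' hFF
  refine ⟨L, B, ?_⟩
  exact
    { sq := h'.sq
      faith := h'.faithful
      irr := fun W hW => h'.irred hW
      norm := hLn
      qs := hLq
      odd := by
        have h1 : (center L).map L.subtype ≤ center H := by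
          rw [← hC]
          rintro _ ⟨x, hx, rfl⟩
          rw [mem_centralizer_iff]
          intro y hy
          exact congrArg Subtype.val (mem_center_iff.1 hx ⟨y, hy⟩)
        have h2 := card_dvd_of_le h1
        rw [card_map_of_injective L.subtype_injective] at h2
        exact hodd.of_dvd_nat h2
      cen := hC.le.trans hCL
      zen := fun c hc x => mem_center_iff.1 (hC.le hc) x
      gen := hLA
      two := h'.two
      syl := h'.odd
      el := h'.Asq
      strict := h'.strict
      eight := h'.eight_le hB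
      low := fun R hT hR => h'.le_o2 hT hR
      nmax := h'.nmax hFF
      bb := by
        intro R P C v hR hPR hP hPi hPv hC2 hCs hCo
        refine h'.red_o2 hR (T' := P) (Q' := o2 (R ⊓ MulAction.stabilizer H v)) (B := C) (z' := v) hP hPR hPi hPv
          (o2_isPGroup _) ((o2_le _).trans inf_le_left) (fun q hq => (o2_le _ hq).2) ?_ hCo hC2 (fun hf => hf.elim) hCs
        exact fun g hgR hgv q hq => conj_mem_of_le (le_normalizer_o2 _) (R := R ⊓ MulAction.stabilizer H v)
          ⟨hgR, hgv⟩ hq }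

end Fr

/-- **(ML) if `Rows.In` does not occur** -/
theorem mls_of_dead {K : Frame.Cls.{u}} (hFF : FFBr.AStmt.{max u v}) (sec : Sec K)
    (hdead : ∀ (H : Type u) [Group H] [Finite H] (M : Type v) [Group M] [Finite M] [MulDistribMulAction H M],
      K H → ∀ L T B : Subgroup H, Rows.In H M L T B → False)
    (H : Type u) [Group H] [Finite H] (M : Type v) [Group M] [Finite M] [MulDistribMulAction H M] (hK : K H)
    (sq : ∀ m : M, m * m = 1) : MLS False H M := by
  have key : ∀ n m : ℕ, ∀ (H : Type u) [Group H] [Finite H] (M : Type v) [Group M] [Finite M]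
      [MulDistribMulAction H M], K H → (∀ x : M, x * x = 1) → Nat.card H = n → Nat.card M = m → MLS False H M := by
    intro n
    induction n using Nat.strong_induction_on with
    | _ n ihn =>
      intro m
      induction m using Nat.strong_induction_on with
      | _ m ihm =>
        intro H _ _ M _ _ _ hK sq hn hm
        by_contra hcon
        have ind : Ind.{u, v} K False (Nat.card H) (Nat.card M) := by
          intro H' _ _ M' _ _ _ hK' sq' hlt
          rcases hlt with hlt | ⟨heq, hlt⟩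
          · exact ihn (Nat.card H') (hn ▸ hlt) (Nat.card M') H' M' hK' sq' rfl rfl
          · exact ihm (Nat.card M') (hm ▸ hlt) H' M' hK' sq' (heq.trans hn) rfl
        obtain ⟨T, Q, A, z, h⟩ := exists_fr sec hK sq ind hcon
        obtain ⟨L, B, hin⟩ := h.exists_in hFF
        exact hdead H M hK L T B hin
  exact key _ _ H M hK sq rfl rfl

/-- **(ML) from the rows** -/
theorem mls_of_rows {K : Frame.Cls.{u}} (hFF : FFBr.AStmt.{max u v}) (sec : Sec K)
    {𝒮 : ∀ (S : Type u) [Group S], Prop} (hdead : Rows.Dead.{u, v} 𝒮)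
    (hK : ∀ (H : Type u) [Group H] [Finite H], K H → ∀ L : Subgroup H, IsQuasisimple L → 𝒮 (L ⧸ center L))
    (H : Type u) [Group H] [Finite H] (M : Type v) [Group M] [Finite M] [MulDistribMulAction H M] (hKH : K H)
    (sq : ∀ m : M, m * m = 1) : MLS False H M :=
  mls_of_dead hFF sec (fun H _ _ M _ _ _ hKH L T B hin => hdead H M L T B hin (hK H hKH L hin.qs)) H M hKH sq

section consumer

variable {H : Type u} [Group H] [Finite H] {M : Type v} [Group M] [Finite M] [MulDistribMulAction H M]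

omit [Finite H] [Finite M] in
/-- the consumers' form: `|A : C_A(W)| ≤ |W : C_W(A)|` for `W = ⟨z^H⟩` -/
theorem rel_le (h : MLS False H M) {T A : Subgroup H} {z : M} (hT : IsPGroup 2 T) (hTi : ¬ 2 ∣ T.index)
    (hz : ∀ t ∈ T, t • z = z) (hA : A ≤ o2 (MulAction.stabilizer H z)) (hA2 : ∀ a ∈ A, a * a = 1) :
    (fxr H (orb (⊤ : Subgroup H) z)).relIndex A ≤ (cv M (A : Set H)).relIndex (orb (⊤ : Subgroup H) z) :=
  h T (o2 (MulAction.stabilizer H z)) A z (mem_top _) hT le_top (by rwa [relIndex_top_right]) hz (o2_isPGroup _) le_top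
    (fun _ hq => o2_le _ hq)
    (fun _ _ hg _ hq => conj_mem_of_le (le_normalizer_o2 _) (R := MulAction.stabilizer H z) hg hq) hA hA2
    (fun hf => hf.elim)

omit [Finite H] [Finite M] in
/-- `M = ⟨z^H⟩` faithful: `|A| ≤ |M : C_M(A)|` -/
theorem card_le (h : MLS False H M) (faith : ∀ x : H, (∀ m : M, x • m = m) → x = 1) {T A : Subgroup H} {z : M}
    (hT : IsPGroup 2 T) (hTi : ¬ 2 ∣ T.index) (hz : ∀ t ∈ T, t • z = z)
    (hgen : closure (Set.range fun g : H => g • z) = ⊤)
    (hA : A ≤ o2 (MulAction.stabilizer H z)) (hA2 : ∀ a ∈ A, a * a = 1) :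
    Nat.card A ≤ (cv M (A : Set H)).index := by
  have h1 := rel_le h hT hTi hz hA hA2
  have h2 : orb (⊤ : Subgroup H) z = ⊤ := by
    rw [← top_le_iff, ← hgen, closure_le]
    rintro _ ⟨g, rfl⟩
    exact smul_mem_orb_self (mem_top g)
  have h3 : fxr H (⊤ : Subgroup M) = ⊥ :=
    (Subgroup.eq_bot_iff_forall _).2 fun x hx => faith x fun m => hx m (mem_top m)
  rw [h2, h3, relIndex_bot_left, relIndex_top_right] at h1
  exact h1

end consumer

end Cfsg.Agent.Omega.ML.MinFrame

end

section


/-!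
# The dual count (OMEGA, (ML); #15208 of helper729, (L4) of #15924 of helper883); K-free

A functional on the subgroup `W` of `M` is a function `u : M → ℤˣ` which is multiplicative on `W` (`Fn W u`).
`st X W u` is the stabiliser of `u` in `X`.

* `dc` : **(DC)** `|X : C_X(u)| ≤ |W : C_W(X)|`, `X` any subgroup of `H`, `W` an `X`-invariant subgroup of `M`;
* `Chain X W D` : `|X : D| ≤ |W : C_W(X)|`; `Chain.step` : **(CHAIN)** from `W` to `W' ≥ W` with a functional on `W'`
  trivial on `W`;  `Chain.fo_le` : if the functionals of one chain have trivial common stabiliser then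
  `|X| |C_M(X)| ≤ |M|`;
* `fo_le` : **(L4)** one functional of `M` with `C_X(u) = 1` suffices;
* `exists_fix` : a strict `A` (over-offender) fixes no functional regularly: `W` `A`-invariant, `[W, A] ≠ 1`, `u` on `W`:
  some `a ∈ A`, not centralising `W`, fixes `u`; `exists_fix_hyp`, `exists_fix_ne_one`.
-/

set_option autoImplicit false
set_option linter.unusedVariables false

namespace Cfsg.Agent.Omega.ML.Dual

open Subgroup Cfsg.Agent.ClassTwoFusion.Quad Cfsg.Agent.Omega.NOThree.NoOver Cfsg.Agent.Omega.ML.CD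

/-- at most `|W : C|` homomorphisms `W → ±1` are trivial on `C` -/
theorem card_le_index {W : Type*} [Group W] [Finite W] (C : Subgroup W) {ι : Type*} (χ : ι → (W →* ℤˣ))
    (hinj : Function.Injective χ) (hC : ∀ i, ∀ c ∈ C, χ i c = 1) : Nat.card ι ≤ C.index := by
  classical
  have : Finite (W →* ℤˣ) := DFunLike.finite _
  have : Finite ι := Finite.of_injective χ hinj
  have := Fintype.ofFinite ι
  have := Fintype.ofFinite (W ⧸ C)
  let F : ι → (W ⧸ C → ℚ) := fun i q => Quotient.liftOn' q (fun w => (((χ i w : ℤˣ) : ℤ) : ℚ)) (by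
    intro a b hab
    rw [QuotientGroup.leftRel_apply] at hab
    have h1 := hC i _ hab
    rw [map_mul, map_inv, inv_mul_eq_one] at h1
    simp only [h1])
  let L : (W ⧸ C → ℚ) →ₗ[ℚ] (W → ℚ) := LinearMap.funLeft ℚ ℚ (QuotientGroup.mk)
  have hlin : LinearIndependent ℚ F := by
    apply LinearIndependent.of_comp L
    let e : ι → (W →* ℚ) := fun i => (Int.castRingHom ℚ : ℤ →* ℚ).comp ((Units.coeHom ℤ).comp (χ i))
    have he : Function.Injective e := by
      intro i j hij
      apply hinj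
      ext w
      have h1 := DFunLike.congr_fun hij w
      have h2 : (((χ i w : ℤˣ) : ℤ) : ℚ) = (((χ j w : ℤˣ) : ℤ) : ℚ) := h1
      exact_mod_cast h2
    exact (linearIndependent_monoidHom W ℚ).comp e he
  have h1 := hlin.fintype_card_le_finrank
  rw [Module.finrank_fintype_fun_eq_card] at h1
  rw [Subgroup.index, Nat.card_eq_fintype_card, Nat.card_eq_fintype_card]
  exact h1

variable {H : Type*} [Group H] {M : Type*} [Group M] [MulDistribMulAction H M]

/-- `u` is a functional on `W` -/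
def Fn (W : Subgroup M) (u : M → ℤˣ) : Prop := ∀ w ∈ W, ∀ w' ∈ W, u (w * w') = u w * u w'

/-- `W` is `X`-invariant -/
def Iv (X : Subgroup H) (W : Subgroup M) : Prop := ∀ x ∈ X, ∀ w ∈ W, x • w ∈ W

theorem Fn.one {W : Subgroup M} {u : M → ℤˣ} (h : Fn W u) : u 1 = 1 := by
  have h1 := h 1 (one_mem _) 1 (one_mem _)
  rw [mul_one] at h1
  exact (mul_eq_left.1 h1.symm)

theorem Fn.inv {W : Subgroup M} {u : M → ℤˣ} (h : Fn W u) {w : M} (hw : w ∈ W) : u w⁻¹ = u w := by
  have h1 := h w hw w⁻¹ (inv_mem hw)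
  rw [mul_inv_cancel, h.one] at h1
  have h2 : u w * u w = 1 := Int.units_mul_self _
  exact mul_left_cancel (h1.symm.trans h2.symm)

theorem Fn.mono {W W' : Subgroup M} {u : M → ℤˣ} (h : Fn W' u) (hW : W ≤ W') : Fn W u :=
  fun w hw w' hw' => h w (hW hw) w' (hW hw')

/-- the stabiliser in `X` of the functional `u` on `W` -/
def st (X : Subgroup H) (W : Subgroup M) (u : M → ℤˣ) : Subgroup H where
  carrier := {x | x ∈ X ∧ ∀ w ∈ W, x • w ∈ W ∧ x⁻¹ • w ∈ W ∧ u (x • w) = u w}
  one_mem' := ⟨one_mem _, fun w hw => by simpa using hw⟩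
  mul_mem' := by
    rintro x y ⟨hx, hx'⟩ ⟨hy, hy'⟩
    refine ⟨mul_mem hx hy, fun w hw => ⟨?_, ?_, ?_⟩⟩
    · rw [mul_smul]; exact (hx' _ (hy' w hw).1).1
    · rw [mul_inv_rev, mul_smul]; exact (hy' _ (hx' w hw).2.1).2.1
    · rw [mul_smul, (hx' _ (hy' w hw).1).2.2, (hy' w hw).2.2]
  inv_mem' := by
    rintro x ⟨hx, hx'⟩
    refine ⟨inv_mem hx, fun w hw => ⟨(hx' w hw).2.1, ?_, ?_⟩⟩
    · rw [inv_inv]; exact (hx' w hw).1
    · have h1 := (hx' _ (hx' w hw).2.1).2.2
      rw [smul_inv_smul] at h1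
      exact h1.symm

theorem st_le (X : Subgroup H) (W : Subgroup M) (u : M → ℤˣ) : st X W u ≤ X := fun _ hx => hx.1

theorem mem_st {X : Subgroup H} {W : Subgroup M} (hW : Iv X W) {u : M → ℤˣ} {x : H} :
    x ∈ st X W u ↔ x ∈ X ∧ ∀ w ∈ W, u (x • w) = u w :=
  ⟨fun h => ⟨h.1, fun w hw => (h.2 w hw).2.2⟩, fun h => ⟨h.1, fun w hw =>
    ⟨hW x h.1 w hw, hW _ (inv_mem h.1) w hw, h.2 w hw⟩⟩⟩

/-- the elements of `W` on which all `u ^ x` agree -/
theorem exists_K {X : Subgroup H} {W : Subgroup M} (hW : Iv X W) {u : M → ℤˣ} (hu : Fn W u) :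
    ∃ K : Subgroup M, ∀ w, w ∈ K ↔ w ∈ W ∧ ∀ x ∈ X, u (x • w) = u w := by
  refine ⟨{ carrier := {w | w ∈ W ∧ ∀ x ∈ X, u (x • w) = u w}, one_mem' := ?_, mul_mem' := ?_, inv_mem' := ?_ },
    fun w => Iff.rfl⟩
  · rintro w w' ⟨hw, h1⟩ ⟨hw', h2⟩
    refine ⟨mul_mem hw hw', fun x hx => ?_⟩
    rw [smul_mul', hu _ (hW x hx w hw) _ (hW x hx w' hw'), h1 x hx, h2 x hx, hu w hw w' hw']
  · exact ⟨one_mem _, fun x _ => by rw [smul_one]⟩
  · rintro w ⟨hw, h1⟩
    refine ⟨inv_mem hw, fun x hx => ?_⟩
    rw [smul_inv', hu.inv (hW x hx w hw), h1 x hx, hu.inv hw]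

/-- **(DC)**, general form -/
theorem dc' [Finite H] [Finite M] {X : Subgroup H} {W K : Subgroup M} (hW : Iv X W) {u : M → ℤˣ} (hu : Fn W u)
    (hKW : K ≤ W) (hK : ∀ w ∈ K, ∀ x ∈ X, u (x • w) = u w) : (st X W u).relIndex X ≤ K.relIndex W := by
  classical
  let χ₀ : X → (W →* ℤˣ) := fun x =>
    { toFun := fun w => u ((x : H)⁻¹ • (w : M)) * u w
      map_one' := by
        change u ((x : H)⁻¹ • (1 : M)) * u 1 = 1
        rw [smul_one, hu.one, one_mul]
      map_mul' := fun w w' => by
        change u ((x : H)⁻¹ • ((w : M) * w')) * u ((w : M) * w') = _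
        rw [smul_mul', hu _ (hW _ (inv_mem x.2) w w.2) _ (hW _ (inv_mem x.2) w' w'.2), hu w w.2 w' w'.2]
        exact mul_mul_mul_comm _ _ _ _ }
  have hχ : ∀ x (w : W), χ₀ x w = u ((x : H)⁻¹ • (w : M)) * u w := fun _ _ => rfl
  have key : ∀ x y : X, x⁻¹ * y ∈ (st X W u).subgroupOf X ↔ χ₀ x = χ₀ y := by
    intro x y
    rw [mem_subgroupOf, mem_st hW]
    constructor
    · rintro ⟨-, h⟩
      ext w
      rw [hχ, hχ]
      have h1 := h _ (hW _ (inv_mem y.2) w w.2)
      rw [Subgroup.coe_mul, Subgroup.coe_inv, mul_smul, smul_inv_smul] at h1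
      rw [h1]
    · intro h
      refine ⟨(x⁻¹ * y).2, fun w hw => ?_⟩
      have h1 := DFunLike.congr_fun h ⟨(y : H) • w, hW _ y.2 w hw⟩
      rw [hχ, hχ] at h1
      have h2 := mul_right_cancel h1
      rw [inv_smul_smul] at h2
      rw [Subgroup.coe_mul, Subgroup.coe_inv, mul_smul]
      exact h2
  let χ : X ⧸ (st X W u).subgroupOf X → (W →* ℤˣ) := fun q => Quotient.liftOn' q χ₀ (by
    intro a b hab
    rw [QuotientGroup.leftRel_apply] at hab
    exact (key a b).1 hab)
  have hinj : Function.Injective χ := by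
    intro p q
    refine Quotient.inductionOn₂' p q fun a b hab => ?_
    exact Quotient.sound' (by
      rw [QuotientGroup.leftRel_apply]
      exact (key a b).2 hab)
  have h1 := card_le_index (K.subgroupOf W) χ hinj (by
    intro q
    refine Quotient.inductionOn' q fun x => ?_
    intro c hc
    change u ((x : H)⁻¹ • (c : M)) * u c = 1
    rw [hK c hc _ (inv_mem x.2)]
    exact Int.units_mul_self _)
  exact h1

/-- **(DC)**: `|X : C_X(u)| ≤ |W : C_W(X)|` -/
theorem dc [Finite H] [Finite M] {X : Subgroup H} {W : Subgroup M} (hW : Iv X W) {u : M → ℤˣ} (hu : Fn W u) :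
    (st X W u).relIndex X ≤ (cv M (X : Set H)).relIndex W := by
  have h1 := dc' hW hu (K := cv M (X : Set H) ⊓ W) inf_le_right (fun w hw x hx => by rw [hw.1 x hx])
  rwa [inf_relIndex_right] at h1

/-- the state of the chain argument -/
def Chain (X : Subgroup H) (W : Subgroup M) (D : Subgroup H) : Prop :=
  D.relIndex X ≤ (cv M (X : Set H)).relIndex W

theorem Chain.bot (X : Subgroup H) : Chain X (⊥ : Subgroup M) X := by
  unfold Chain
  rw [relIndex_self, relIndex_bot_right]

/-- **(CHAIN)** -/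
theorem Chain.step [Finite H] [Finite M] {X D : Subgroup H} {W W' : Subgroup M} (h : Chain X W D) (hD : D ≤ X)
    (hWW : W ≤ W') (hW : Iv X W) (hW' : Iv X W') {u : M → ℤˣ} (hu : Fn W' u) (hu1 : ∀ w ∈ W, u w = 1) :
    Chain X W' (D ⊓ st X W' u) := by
  unfold Chain at h ⊢
  obtain ⟨K, hK⟩ := exists_K hW' hu
  set C : Subgroup M := cv M (X : Set H) ⊓ W' with hC
  have hCK : C ⊔ W ≤ K := by
    refine sup_le (fun w hw => (hK w).2 ⟨hw.2, fun x hx => by rw [hw.1 x hx]⟩) (fun w hw => (hK w).2 ⟨hWW hw, ?_⟩)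
    intro x hx
    rw [hu1 w hw, hu1 _ (hW x hx w hw)]
  have h1 := dc' hW' hu (K := C ⊔ W) (hCK.trans fun w hw => ((hK w).1 hw).1) (fun w hw => ((hK w).1 (hCK hw)).2)
  have h2 : C.relIndex (C ⊔ W) * (C ⊔ W).relIndex W' = C.relIndex W' :=
    relIndex_mul_relIndex _ _ _ le_sup_left (sup_le inf_le_right hWW)
  have h3 : C.relIndex W ≤ C.relIndex (C ⊔ W) := relIndex_le_of_le_right le_sup_right (relIndex_ne _ _)
  have h4 : C.relIndex W = (cv M (X : Set H)).relIndex W := by
    rw [hC, ← inf_relIndex_right, inf_assoc, inf_eq_right.2 hWW, inf_relIndex_right]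
  have h5 : C.relIndex W' = (cv M (X : Set H)).relIndex W' := by rw [hC, inf_relIndex_right]
  have h6 : (D ⊓ st X W' u).relIndex X ≤ D.relIndex X * (st X W' u).relIndex X := relIndex_inf_le
  rw [← h5, ← h2]
  calc _ ≤ _ := h6
    _ ≤ C.relIndex (C ⊔ W) * (C ⊔ W).relIndex W' := Nat.mul_le_mul ((h.trans_eq h4.symm).trans h3) h1

/-- the last line of (CHAIN) -/
theorem Chain.fo_le [Finite H] [Finite M] {X D : Subgroup H} (h : Chain X (⊤ : Subgroup M) D) (hD : D = ⊥) :
    fo M X ≤ Nat.card M := by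
  unfold Chain at h
  rw [hD, relIndex_bot_left, relIndex_top_right] at h
  rw [← Subgroup.card_mul_index (cv M (X : Set H)), fo, mul_comm]
  exact Nat.mul_le_mul_left _ h

/-- **(L4)** a regular functional -/
theorem fo_le [Finite H] [Finite M] {X : Subgroup H} {u : M → ℤˣ} (hu : ∀ w w', u (w * w') = u w * u w')
    (h : ∀ x ∈ X, (∀ w, u (x • w) = u w) → x = 1) : fo M X ≤ Nat.card M := by
  have hW : Iv X (⊤ : Subgroup M) := fun _ _ _ _ => mem_top _
  have h1 : Chain X (⊤ : Subgroup M) (X ⊓ st X ⊤ u) :=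
    (Chain.bot X).step le_rfl bot_le (fun x _ w hw => by
      rw [mem_bot] at hw ⊢
      rw [hw, smul_one]) hW (fun w _ w' _ => hu w w') (fun w hw => by
      rw [mem_bot] at hw
      rw [hw]
      exact Fn.one (W := ⊤) (fun w _ w' _ => hu w w'))
  refine h1.fo_le (eq_bot_iff.2 fun x hx => ?_)
  exact mem_bot.2 (h x hx.1 fun w => ((mem_st hW).1 hx.2).2 w (mem_top w))

/-- the elements of `A` centralising `W` -/
def cw (A : Subgroup H) (W : Subgroup M) : Subgroup H where
  carrier := {a | a ∈ A ∧ ∀ w ∈ W, a • w = w}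
  one_mem' := ⟨one_mem _, fun w _ => one_smul H w⟩
  mul_mem' := by
    rintro x y ⟨hx, hx'⟩ ⟨hy, hy'⟩
    exact ⟨mul_mem hx hy, fun w hw => by rw [mul_smul, hy' w hw, hx' w hw]⟩
  inv_mem' := by
    rintro x ⟨hx, hx'⟩
    exact ⟨inv_mem hx, fun w hw => by
      have h1 := hx' w hw
      rw [inv_smul_eq_iff, h1]⟩

theorem mem_cw {A : Subgroup H} {W : Subgroup M} {a : H} : a ∈ cw A W ↔ a ∈ A ∧ ∀ w ∈ W, a • w = w := Iff.rfl

theorem cw_le (A : Subgroup H) (W : Subgroup M) : cw A W ≤ A := fun _ h => h.1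

theorem cw_lt {A : Subgroup H} {W : Subgroup M} (h : ∃ a ∈ A, ∃ w ∈ W, a • w ≠ w) : cw A W < A := by
  refine lt_of_le_of_ne (cw_le A W) fun h1 => ?_
  obtain ⟨a, ha, w, hw, hne⟩ := h
  rw [← h1] at ha
  exact hne (ha.2 w hw)

/-- **(f) of #14873**: `|W : C_W(A)| < |A : C_A(W)|` for every `W ≤ M` with `[W, A] ≠ 1` -/
theorem strict_lt [Finite H] [Finite M] {A : Subgroup H} (hA : Strict (fo M) A) {W : Subgroup M}
    (h : ∃ a ∈ A, ∃ w ∈ W, a • w ≠ w) : (cv M (A : Set H)).relIndex W < (cw A W).relIndex A := by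
  have hA' : Strict (fab M 1 1) A := fun B hB => by
    rw [fab_one, fab_one]
    exact hA B hB
  have h1 := relIndex_lt_of_moves hA' (cw_lt h) (W := W) (fun w hw a ha => ha.2 w hw)
  rwa [pow_one, pow_one] at h1

/-- **A strict group has no regular functional** -/
theorem exists_fix [Finite H] [Finite M] {A : Subgroup H} (hA : Strict (fo M) A) {W : Subgroup M} (hW : Iv A W)
    (h : ∃ a ∈ A, ∃ w ∈ W, a • w ≠ w) {u : M → ℤˣ} (hu : Fn W u) :
    ∃ a ∈ A, (∃ w ∈ W, a • w ≠ w) ∧ ∀ w ∈ W, u (a • w) = u w := by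
  by_contra hcon
  push Not at hcon
  have h1 : st A W u ≤ cw A W := by
    intro a ha
    refine ⟨ha.1, fun w hw => ?_⟩
    by_contra hne
    obtain ⟨v, hv, hv'⟩ := hcon a ha.1 ⟨w, hw, hne⟩
    exact hv' (((mem_st hW).1 ha).2 v hv)
  have h2 := dc hW hu
  have h3 := strict_lt hA h
  have h4 : (cw A W).relIndex A ≤ (st A W u).relIndex A := relIndex_le_of_le_left h1 (relIndex_ne _ _)
  omega

/-- the same with a subgroup of index two of `W` -/
theorem exists_fix_hyp [Finite H] [Finite M] {A : Subgroup H} (hA : Strict (fo M) A) {W U : Subgroup M} (hW : Iv A W)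
    (h : ∃ a ∈ A, ∃ w ∈ W, a • w ≠ w) (hU : U.relIndex W = 2) :
    ∃ a ∈ A, (∃ w ∈ W, a • w ≠ w) ∧ ∀ w ∈ W, (a • w) * w⁻¹ ∈ U := by
  classical
  have hidx : (U.subgroupOf W).index = 2 := hU
  have hmul := fun x y : W => mul_mem_iff_of_index_two hidx (a := x) (b := y)
  have h2 : ∀ v ∈ W, ∀ w ∈ W, (v * w ∈ U ↔ (v ∈ U ↔ w ∈ U)) := fun v hv w hw => hmul ⟨v, hv⟩ ⟨w, hw⟩
  obtain ⟨a, ha, ha1, ha2⟩ := exists_fix hA hW h (u := fun w => if w ∈ U then 1 else -1) (by
    intro w hw w' hw'
    have := h2 w hw w' hw'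
    by_cases h3 : w ∈ U <;> by_cases h4 : w' ∈ U <;> simp [h3, h4] at this <;> simp [h3, h4, this])
  refine ⟨a, ha, ha1, fun w hw => ?_⟩
  have h3 := ha2 w hw
  rw [h2 _ (hW a ha w hw) _ (inv_mem hw), inv_mem_iff]
  by_cases h4 : w ∈ U <;> by_cases h5 : a • w ∈ U <;> simp [h4, h5] at h3 ⊢

/-- `W = M`, `A` faithful: every functional is fixed by some `a ≠ 1` -/
theorem exists_fix_ne_one [Finite H] [Finite M] {A : Subgroup H} (hA : Strict (fo M) A)
    (h : ∃ a ∈ A, ∃ w : M, a • w ≠ w) {u : M → ℤˣ} (hu : ∀ w w', u (w * w') = u w * u w') :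
    ∃ a ∈ A, a ≠ 1 ∧ ∀ w, u (a • w) = u w := by
  obtain ⟨a0, ha0, w0, hw0⟩ := h
  obtain ⟨a, ha, ⟨w, -, hw⟩, h2⟩ := exists_fix hA (W := ⊤) (fun _ _ _ _ => mem_top _) ⟨a0, ha0, w0, mem_top _, hw0⟩
    (u := u) (fun w _ w' _ => hu w w')
  exact ⟨a, ha, fun h1 => hw (by rw [h1, one_smul]), fun w => h2 w (mem_top w)⟩

end Cfsg.Agent.Omega.ML.Dual

end

section


/-!
# Chermak-Delgado for all subgroups, and orbit sums (OMEGA, (ML); #16692 of helper694); K-free

* `glob` : **(G)** `M` a faithful irreducible `H`-module over `F_p`, `B` ANY subgroup of `H`: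
  `|B|^{m(M)} |H|^{m(C_M(B))} ≤ |H|^{m(M)}`, `m(W) = log_p |W|`;
* `over_off` : **(G1)** if `|A| = p^a` and `|A| |C_M(A)| > |M|` then `|M|^a ≤ |H|^(a-1)`;
  `exact_off` : if `A ≠ 1`, `|A| |C_M(A)| ≥ |M|` then `|M| ≤ |H|`;
* `orbit_sum` : **(SUM)** `A` abelian and strict, `A ≤ P₀`, `P₀` a 2-group, `v ∈ M` with `∏ v^{P₀} ≠ 1` (the product over the
  orbit): then `A` centralises the orbit.
-/

set_option autoImplicit false
set_option linter.unusedVariables false

namespace Cfsg.Agent.Omega.ML.Glob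

open Subgroup Cfsg.Agent.ClassTwoFusion.Quad Cfsg.Agent.Omega.NOThree.NoOver Cfsg.Agent.Omega.ML.CD
  Cfsg.Agent.Omega.ML.Dual

section G

variable {H : Type*} [Group H] {M : Type*} [Group M] [MulDistribMulAction H M]

/-- `log_p |W|` -/
noncomputable def mm (p : ℕ) (W : Subgroup M) : ℕ := Nat.log p (Nat.card W)

omit [MulDistribMulAction H M] in
theorem card_eq [Finite M] {p : ℕ} (hp : p.Prime) (hM : IsPGroup p M) (W : Subgroup M) :
    Nat.card W = p ^ mm p W := by
  have : Fact p.Prime := ⟨hp⟩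
  obtain ⟨n, hn⟩ := IsPGroup.iff_card.1 (hM.to_subgroup W)
  rw [mm, hn, Nat.log_pow hp.one_lt]

variable (M) in
/-- `|B|^{m(M)} |H|^{m(C_M(B))}` -/
noncomputable def F (p : ℕ) (B : Subgroup H) : ℕ :=
  Nat.card B ^ mm p (⊤ : Subgroup M) * Nat.card H ^ mm p (cv M (B : Set H))

theorem ls_F [Finite H] [Finite M] {p : ℕ} (hp : p.Prime) (hM : IsPGroup p M) :
    LS (F M p : Subgroup H → ℕ) where
  pos := fun B => Nat.mul_pos (Nat.pow_pos Nat.card_pos) (Nat.pow_pos Nat.card_pos)
  sup := by
    intro B D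
    have h1 := Nat.pow_le_pow_left (card_mul_card_le B D) (mm p (⊤ : Subgroup M))
    have h2 := card_cv_le (M := M) B D
    rw [card_eq hp hM, card_eq hp hM, card_eq hp hM, card_eq hp hM, ← pow_add, ← pow_add,
      Nat.pow_le_pow_iff_right hp.one_lt] at h2
    have h3 : Nat.card H ^ (mm p (cv M (B : Set H)) + mm p (cv M (D : Set H))) ≤
        Nat.card H ^ (mm p (cv M ((B ⊔ D : Subgroup H) : Set H)) + mm p (cv M ((B ⊓ D : Subgroup H) : Set H))) :=
      Nat.pow_le_pow_right Nat.card_pos h2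
    rw [mul_pow, mul_pow] at h1
    rw [pow_add, pow_add] at h3
    unfold F
    calc _ = (Nat.card B ^ mm p (⊤ : Subgroup M) * Nat.card D ^ mm p (⊤ : Subgroup M)) *
          (Nat.card H ^ mm p (cv M (B : Set H)) * Nat.card H ^ mm p (cv M (D : Set H))) := by ring
      _ ≤ _ := Nat.mul_le_mul h1 h3
      _ = _ := by ring
  conj := by
    intro g B
    have h1 : Nat.card (cj g B) = Nat.card B :=
      (Nat.card_congr (B.equivMapOfInjective _ (MulAut.conj g).injective).toEquiv).symm
    have h2 : Nat.card (cv M (cj g B : Set H)) = Nat.card (cv M (B : Set H)) := by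
      have h3 : cv M (cj g B : Set H) = _ := QData.cv_map_conj (V := M) B g
      rw [h3]
      exact (Nat.card_congr ((cv M (B : Set H)).equivMapOfInjective _
        (MulDistribMulAction.toMulEquiv M g : M ≃* M).injective).toEquiv).symm
    unfold F mm
    rw [h1, h2]

/-- **(G)** -/
theorem glob [Finite H] [Finite M] {p : ℕ} (hp : p.Prime) (hM : IsPGroup p M)
    (faith : ∀ h : H, (∀ m : M, h • m = m) → h = 1)
    (irr : ∀ W : Subgroup M, (∀ h : H, ∀ w ∈ W, h • w ∈ W) → W = ⊥ ∨ W = ⊤) (B : Subgroup H) :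
    Nat.card B ^ mm p (⊤ : Subgroup M) * Nat.card H ^ mm p (cv M (B : Set H)) ≤
      Nat.card H ^ mm p (⊤ : Subgroup M) := by
  have hF := ls_F (H := H) (M := M) hp hM
  set N := hi (F M p) (⊤ : Subgroup H) with hN
  have hbest := hF.best_hi (⊤ : Subgroup H)
  rw [← hN] at hbest
  have hcj : ∀ g : H, cj g N = N := by
    intro g
    have h1 := hF.hi_cj g (⊤ : Subgroup H)
    have h2 : cj g (⊤ : Subgroup H) = ⊤ := by
      rw [eq_top_iff]
      intro x _
      exact mem_cj.2 (mem_top _)
    rw [h2] at h1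
    exact h1.symm
  have h1 : F M p B ≤ F M p N := hbest.2 B le_top
  refine le_trans h1 ?_
  rcases irr (cv M (N : Set H)) (by
    intro h w hw a ha
    have h3 : h⁻¹ * a * h ∈ N := by
      have h4 : h⁻¹ * a * h⁻¹⁻¹ ∈ cj h⁻¹ N := mem_cj.2 (by
        rw [show h⁻¹⁻¹ * (h⁻¹ * a * h⁻¹⁻¹) * h⁻¹ = a by group]
        exact ha)
      rw [hcj, inv_inv] at h4
      exact h4
    have h5 := hw _ h3
    calc a • h • w = h • (h⁻¹ * a * h) • w := by
          rw [← mul_smul, ← mul_smul]; congr 1; group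
      _ = h • w := by rw [h5]) with h2 | h2
  · have h3 : mm p (cv M (N : Set H)) = 0 := by
      rw [mm, h2, card_bot, Nat.log_one_right]
    rw [F, h3, pow_zero, mul_one]
    exact Nat.pow_le_pow_left (card_le_card_group N) _
  · have h3 : N = ⊥ := by
      rw [eq_bot_iff]
      intro x hx
      refine mem_bot.2 (faith x fun m => ?_)
      exact (h2 ▸ mem_top m : m ∈ cv M (N : Set H)) x hx
    rw [h3, F, cv_bot, card_bot, one_pow, one_mul]

/-- **(G1)** over-offenders -/
theorem over_off [Finite H] [Finite M] {p : ℕ} (hp : p.Prime) (hM : IsPGroup p M)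
    (faith : ∀ h : H, (∀ m : M, h • m = m) → h = 1)
    (irr : ∀ W : Subgroup M, (∀ h : H, ∀ w ∈ W, h • w ∈ W) → W = ⊥ ∨ W = ⊤) {A : Subgroup H} {a : ℕ}
    (hA : Nat.card A = p ^ a) (hf : Nat.card M < fo M A) : Nat.card M ^ a ≤ Nat.card H ^ (a - 1) := by
  have h1 := glob hp hM faith irr A
  have hM' : Nat.card M = p ^ mm p (⊤ : Subgroup M) := by
    rw [← card_eq hp hM, card_top]
  rw [fo, hA, hM', card_eq hp hM (cv M (A : Set H)), ← pow_add, Nat.pow_lt_pow_iff_right hp.one_lt] at hf
  rw [hM', ← pow_mul, mul_comm _ a, pow_mul, ← hA]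
  set n := mm p (⊤ : Subgroup M)
  set k := mm p (cv M (A : Set H))
  have hH : 0 < Nat.card H := Nat.card_pos
  by_cases hk : k ≤ n
  · have h2 : Nat.card H ^ n = Nat.card H ^ (n - k) * Nat.card H ^ k := by
      rw [← pow_add, Nat.sub_add_cancel hk]
    rw [h2] at h1
    have h3 := Nat.le_of_mul_le_mul_right h1 (Nat.pow_pos hH)
    exact h3.trans (Nat.pow_le_pow_right hH (by omega))
  · exfalso
    apply hk
    have h3 : Nat.card (cv M (A : Set H)) ≤ Nat.card (⊤ : Subgroup M) := by
      rw [card_top]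
      exact card_le_card_group _
    rw [card_eq hp hM, card_eq hp hM, Nat.pow_le_pow_iff_right hp.one_lt] at h3
    exact h3

/-- **exact offenders** -/
theorem exact_off [Finite H] [Finite M] {p : ℕ} (hp : p.Prime) (hM : IsPGroup p M)
    (faith : ∀ h : H, (∀ m : M, h • m = m) → h = 1)
    (irr : ∀ W : Subgroup M, (∀ h : H, ∀ w ∈ W, h • w ∈ W) → W = ⊥ ∨ W = ⊤) {A : Subgroup H} {a : ℕ}
    (hA : Nat.card A = p ^ a) (ha : a ≠ 0) (hf : Nat.card M ≤ fo M A) : Nat.card M ≤ Nat.card H := by
  have h1 := glob hp hM faith irr A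
  have hM' : Nat.card M = p ^ mm p (⊤ : Subgroup M) := by
    rw [← card_eq hp hM, card_top]
  have hk : mm p (cv M (A : Set H)) ≤ mm p (⊤ : Subgroup M) := by
    have h3 : Nat.card (cv M (A : Set H)) ≤ Nat.card (⊤ : Subgroup M) := by
      rw [card_top]
      exact card_le_card_group _
    rwa [card_eq hp hM, card_eq hp hM, Nat.pow_le_pow_iff_right hp.one_lt] at h3
  rw [fo, hA, hM', card_eq hp hM (cv M (A : Set H)), ← pow_add, Nat.pow_le_pow_iff_right hp.one_lt] at hf
  rw [hM']
  set n := mm p (⊤ : Subgroup M)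
  set k := mm p (cv M (A : Set H))
  have hH : 0 < Nat.card H := Nat.card_pos
  have h2 : Nat.card H ^ n = Nat.card H ^ (n - k) * Nat.card H ^ k := by
    rw [← pow_add, Nat.sub_add_cancel hk]
  rw [h2, hA] at h1
  have h3 := Nat.le_of_mul_le_mul_right h1 (Nat.pow_pos hH)
  have h4 : (p ^ n) ^ a ≤ Nat.card H ^ a := by
    rw [← pow_mul, mul_comm, pow_mul]
    exact h3.trans (Nat.pow_le_pow_right hH (by omega))
  exact (Nat.pow_le_pow_iff_left ha).1 h4

end G

section Sum

variable {H : Type*} [Group H] {M : Type*} [CommGroup M] [MulDistribMulAction H M]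

/-- the additive version of the action -/
@[reducible] def addAct (T : Subgroup H) : DistribMulAction T (Additive M) where
  smul t x := Additive.ofMul ((t : H) • x.toMul)
  one_smul x := by
    change Additive.ofMul (((1 : T) : H) • x.toMul) = x
    rw [OneMemClass.coe_one, one_smul]
    rfl
  mul_smul t u x := by
    change Additive.ofMul (((t * u : T) : H) • x.toMul) = Additive.ofMul ((t : H) • (u : H) • x.toMul)
    rw [MulMemClass.coe_mul, mul_smul]
  smul_zero t := by
    change Additive.ofMul ((t : H) • (1 : M)) = 0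
    rw [smul_one]
    rfl
  smul_add t x y := by
    change Additive.ofMul ((t : H) • (x.toMul * y.toMul)) = _
    rw [smul_mul']
    rfl

/-- **(SUM)** -/
theorem orbit_sum [Finite H] [Finite M] (hM : ∀ m : M, m * m = 1) {P₀ A : Subgroup H} (hP : IsPGroup 2 P₀)
    (hAP : A ≤ P₀) (hAc : ∀ a ∈ A, ∀ b ∈ A, a * b = b * a) (hA : Strict (fo M) A) (v : M)
    [Fintype (MulAction.orbit P₀ v)] (hs : ∏ y : MulAction.orbit P₀ v, (y : M) ≠ 1) :
    ∀ a ∈ A, ∀ y ∈ MulAction.orbit P₀ v, a • y = y := by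
  classical
  let _ := addAct (M := M) P₀
  let f : MulAction.orbit P₀ v → Additive M := fun y => Additive.ofMul (y : M)
  have hfr : Cfsg.Agent.Omega.EH3.ST.Fr P₀ f (∑ y, f y) :=
    { two := fun x => hM x.toMul
      pg := hP
      tr := fun b c => MulAction.exists_smul_eq P₀ b c
      eq := fun t y => rfl
      ne := fun h => hs h
      sum := rfl }
  let _ : Module (ZMod 2) (Additive M) := AddCommGroup.zmodModule (n := 2) (fun x => by
    rw [two_nsmul]
    exact hM x.toMul)
  have h01 : ∀ c : ZMod 2, c = 0 ∨ c = 1 := by decide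
  have hli : LinearIndependent (ZMod 2) f := by
    rw [linearIndependent_iff']
    intro s g hg i hi
    have h1' : ∑ y ∈ s.filter (fun y => g y = 1), f y = ∑ i ∈ s, g i • f i := by
      rw [Finset.sum_filter]
      refine Finset.sum_congr rfl fun y _ => ?_
      rcases h01 (g y) with h | h
      · rw [h, zero_smul, if_neg (by decide)]
      · rw [h, one_smul, if_pos rfl]
    have h1 : ∑ y ∈ s.filter (fun y => g y = 1), f y = 0 := h1'.trans hg
    have h2 := hfr.indep _ h1
    rcases h01 (g i) with h | h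
    · exact h
    · exfalso
      have h3 : i ∈ s.filter (fun y => g y = 1) := Finset.mem_filter.2 ⟨hi, h⟩
      rw [h2] at h3
      exact Finset.notMem_empty _ h3
  -- the orbits of `A`
  have hmem : ∀ a ∈ A, ∀ y : MulAction.orbit P₀ v, a • (y : M) ∈ MulAction.orbit P₀ v := by
    intro a ha y
    have := (⟨a, hAP ha⟩ : P₀) • y
    exact ((⟨a, hAP ha⟩ : P₀) • y).2
  let r : Setoid (MulAction.orbit P₀ v) :=
    { r := fun y y' => ∃ a ∈ A, a • (y : M) = y'
      iseqv :=
        { refl := fun y => ⟨1, one_mem _, one_smul _ _⟩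
          symm := fun {y y'} h => by
            obtain ⟨a, ha, h1⟩ := h
            exact ⟨a⁻¹, inv_mem ha, by rw [← h1, inv_smul_smul]⟩
          trans := fun {x y z} h h' => by
            obtain ⟨a, ha, h1⟩ := h
            obtain ⟨b, hb, h2⟩ := h'
            exact ⟨b * a, mul_mem hb ha, by rw [mul_smul, h1, h2]⟩ } }
  let rep : MulAction.orbit P₀ v → MulAction.orbit P₀ v := fun y => (Quotient.mk r y).out
  have hrep : ∀ y, ∃ a ∈ A, a • (rep y : M) = y := fun y => by
    have h1 : (Quotient.mk r (rep y)) = Quotient.mk r y := Quotient.out_eq _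
    exact Quotient.exact h1
  have hrr : ∀ y y' : MulAction.orbit P₀ v, (∃ a ∈ A, a • (y : M) = y') → rep y = rep y' := fun y y' h => by
    have h1 : Quotient.mk r y = Quotient.mk r y' := Quotient.sound h
    change (Quotient.mk r y).out = (Quotient.mk r y').out
    rw [h1]
  have hrep2 : ∀ y, rep (rep y) = rep y := fun y => hrr _ _ (hrep y)
  -- the functional
  obtain ⟨φ, hφ⟩ : ∃ φ : Additive M →ₗ[ZMod 2] ZMod 2, ∀ y, φ (f y) = if rep y = y then 1 else 0 := by
    let b := Module.Basis.extend hli.linearIndepOn_id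
    have hb : ∀ y, ∃ i, b i = f y := by
      intro y
      exact ⟨⟨f y, hli.linearIndepOn_id.subset_extend (Set.subset_univ _) ⟨y, rfl⟩⟩, Module.Basis.extend_apply_self _ _⟩
    have hinj : Function.Injective f := fun x y h => Subtype.ext h
    refine ⟨b.constr (ZMod 2) (fun i => if ∃ y, rep y = y ∧ f y = b i then 1 else 0), fun y => ?_⟩
    obtain ⟨i, hi⟩ := hb y
    rw [← hi, Module.Basis.constr_basis]
    by_cases h : rep y = y
    · rw [if_pos h, if_pos ⟨y, h, hi.symm⟩]
    · rw [if_neg h, if_neg]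
      rintro ⟨y', h1, h2⟩
      rw [hi] at h2
      rw [hinj h2] at h1
      exact h h1
  let u : M → ℤˣ := fun m => if φ (Additive.ofMul m) = 0 then 1 else -1
  have hu : ∀ w w', u (w * w') = u w * u w' := by
    intro w w'
    have h1 : φ (Additive.ofMul (w * w')) = φ (Additive.ofMul w) + φ (Additive.ofMul w') := by
      rw [ofMul_mul, map_add]
    change (if φ (Additive.ofMul (w * w')) = 0 then (1 : ℤˣ) else -1) = _
    rw [h1]
    change _ = (if φ (Additive.ofMul w) = 0 then (1 : ℤˣ) else -1) * (if φ (Additive.ofMul w') = 0 then (1 : ℤˣ) else -1)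
    rcases h01 (φ (Additive.ofMul w)) with h | h <;> rcases h01 (φ (Additive.ofMul w')) with h' | h' <;>
      rw [h, h'] <;> decide
  -- the subspace
  let W : Subgroup M := closure (MulAction.orbit P₀ v)
  have hWA : Iv A W := by
    intro a ha w hw
    induction hw using closure_induction with
    | mem y hy => exact subset_closure (hmem a ha ⟨y, hy⟩)
    | one => rw [smul_one]; exact one_mem _
    | mul x y _ _ hx hy => rw [smul_mul']; exact mul_mem hx hy
    | inv x _ hx => rw [smul_inv']; exact inv_mem hx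
  by_contra hcon
  push Not at hcon
  obtain ⟨a₀, ha₀, y₀, hy₀, hne⟩ := hcon
  obtain ⟨a, ha, ⟨w, hw, haw⟩, hfix⟩ := exists_fix hA hWA ⟨a₀, ha₀, y₀, subset_closure hy₀, hne⟩
    (u := u) (fun w _ w' _ => hu w w')
  have hkey : ∀ y : MulAction.orbit P₀ v, a • (y : M) = y := by
    intro y
    have h1 : a • (rep y : M) = rep y := by
      have h2 := hfix _ (subset_closure (rep y).2)
      have h3 : φ (f ⟨a • (rep y : M), hmem a ha _⟩) = 1 := by
        have h4 : φ (f (rep y)) = 1 := by rw [hφ, if_pos (hrep2 y)]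
        have h5 : u (rep y : M) = -1 := by
          change (if φ (f (rep y)) = 0 then (1 : ℤˣ) else -1) = -1
          rw [h4]
          decide
        rw [h5] at h2
        change (if φ (f ⟨a • (rep y : M), hmem a ha _⟩) = 0 then (1 : ℤˣ) else -1) = -1 at h2
        rcases h01 (φ (f ⟨a • (rep y : M), hmem a ha _⟩)) with h | h
        · rw [if_pos h] at h2
          exact absurd h2 (by decide)
        · exact h
      rw [hφ] at h3
      have h6 : rep ⟨a • (rep y : M), hmem a ha _⟩ = ⟨a • (rep y : M), hmem a ha _⟩ := by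
        by_contra h7
        rw [if_neg h7] at h3
        exact absurd h3 (by decide)
      have h8 : rep (rep y) = rep ⟨a • (rep y : M), hmem a ha _⟩ := hrr _ _ ⟨a, ha, rfl⟩
      rw [hrep2, h6] at h8
      exact (congrArg Subtype.val h8).symm
    obtain ⟨b, hb, hby⟩ := hrep y
    rw [← hby, ← mul_smul, hAc a ha b hb, mul_smul, h1]
  apply haw
  clear haw
  induction hw using closure_induction with
  | mem y hy => exact hkey ⟨y, hy⟩
  | one => rw [smul_one]
  | mul x y _ _ hx hy => rw [smul_mul', hx, hy]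
  | inv x _ hx => rw [smul_inv', hx]

end Sum

end Cfsg.Agent.Omega.ML.Glob

end

section


/-!
# (ML), the K-list end: the numerical criterion

In the situation `Rows.In H M K T A` (`|A| = 2 ^ a`):
* `card_center_le` : `|Z(K)| ≤ 2 ^ (a - 1)`;
* `image facts` : `X = H / C_H(K)`, `N` the image of `K`: `N ≃* K ⧸ center K`, `C_X(N) = 1`, `X = N A`, `|A| = |image of A|`;
* `dead` : **the criterion** `NumML S` (`LB S n`, `RK S a`, `OutB S b` and `|S| ^ (a-1) * 2 ^ ((a-1) * (a-1+b)) < 2 ^ (a * n)`).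
-/

set_option autoImplicit false
set_option linter.unusedVariables false

namespace Cfsg.Agent.Omega.ML.Num

open Subgroup Cfsg Cfsg.Agent.ClassTwoFusion.Quad Cfsg.Agent.Omega.NOThree.NoOver Cfsg.Agent.Omega.ML.CD
  Cfsg.Agent.Omega.ML.Rows Cfsg.Agent.Omega.TwoF
open Cfsg.Agent.Omega.Lie
open scoped commutatorElement

universe u v w

/-- `|X : N| ≤ 2 ^ b` for `X = N A` almost simple with socle `N ≅ S`, `A` an elementary abelian 2-group. -/
def OutB (S : Type w) [Group S] (b : ℕ) : Prop :=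
  ∀ (X : Type u) [Group X] [Finite X] (N : Subgroup X) [N.Normal], Nonempty (N ≃* S) →
    centralizer (N : Set X) = ⊥ → ∀ A : Subgroup X, (∀ a ∈ A, a * a = 1) → N ⊔ A = ⊤ → N.index ≤ 2 ^ b

theorem index_le_card {X : Type*} [Group X] [Finite X] {N A : Subgroup X} [N.Normal] (h : N ⊔ A = ⊤) :
    N.index ≤ Nat.card A := by
  have h1 := relIndex_sup_right A N
  rw [sup_comm, h, relIndex_top_right] at h1
  rw [h1]
  exact Nat.card_le_card_of_surjective (fun a : A => (QuotientGroup.mk a : A ⧸ (N.subgroupOf A)))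
    QuotientGroup.mk_surjective

theorem OutB.of_rk {S : Type w} [Group S] {a : ℕ} (h : Rk.RK.{u} S a) : OutB.{u} S a := by
  intro X _ _ N _ hN hc A hA hX
  exact (index_le_card hX).trans (h X N hN hc A hA)

theorem OutB.mono {S : Type w} [Group S] {a b : ℕ} (h : OutB.{u} S a) (hab : a ≤ b) : OutB.{u} S b :=
  fun X _ _ N _ hN hc A hA hX => (h X N hN hc A hA hX).trans (Nat.pow_le_pow_right (by norm_num) hab)

/-- **The numerical criterion.** -/
def NumML (S : Type u) [Group S] : Prop :=
  ∃ n a b : ℕ, Heis.LB.{u, u, v} S n ∧ Rk.RK.{u} S a ∧ OutB.{u} S b ∧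
    Nat.card S ^ (a - 1) * 2 ^ ((a - 1) * (a - 1 + b)) < 2 ^ (a * n)

theorem NumML.of_card_out {S : Type u} [Group S] {n a b N : ℕ} (h1 : Heis.LB.{u, u, v} S n) (h2 : Rk.RK.{u} S a)
    (h3 : OutB.{u} S b) (h4 : Nat.card S ≤ 2 ^ N) (h5 : (a - 1) * (N + a - 1 + b) < a * n) : NumML.{u, v} S := by
  refine ⟨n, a, b, h1, h2, h3, ?_⟩
  rcases Nat.eq_zero_or_pos a with h6 | h6
  · subst h6
    simp at h5
  · calc Nat.card S ^ (a - 1) * 2 ^ ((a - 1) * (a - 1 + b))
        ≤ (2 ^ N) ^ (a - 1) * 2 ^ ((a - 1) * (a - 1 + b)) :=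
          Nat.mul_le_mul_right _ (Nat.pow_le_pow_left h4 _)
      _ = 2 ^ ((a - 1) * (N + a - 1 + b)) := by
          rw [← pow_mul, ← pow_add]
          congr 1
          rw [show N + a - 1 + b = N + (a - 1 + b) by omega]
          ring
      _ < 2 ^ (a * n) := Nat.pow_lt_pow_right (by norm_num) h5

theorem NumML.of_card {S : Type u} [Group S] {n a N : ℕ} (h1 : Heis.LB.{u, u, v} S n) (h2 : Rk.RK.{u} S a)
    (h4 : Nat.card S ≤ 2 ^ N) (h5 : (a - 1) * (N + 2 * a - 1) < a * n) : NumML.{u, v} S := by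
  refine NumML.of_card_out h1 h2 (OutB.of_rk h2) h4 ?_
  rcases Nat.eq_zero_or_pos a with h6 | h6
  · subst h6
    simp at h5
  · rwa [show N + a - 1 + a = N + 2 * a - 1 by omega]

section image

variable {H : Type u} [Group H] {M : Type v} [Group M] [MulDistribMulAction H M] {K T A : Subgroup H}

theorem perf (h : In H M K T A) : _root_.commutator K = ⊤ := h.qs.1.commutator_eq_top

/-- the image of `K` in `H / C_H(K)` -/
def img (K : Subgroup H) [(centralizer (K : Set H)).Normal] : Subgroup (H ⧸ centralizer (K : Set H)) :=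
  K.map (QuotientGroup.mk' (centralizer (K : Set H)))

theorem subgroupOf_eq (h : In H M K T A) : (centralizer (K : Set H)).subgroupOf K = center K := by
  ext z
  rw [mem_subgroupOf, mem_center_iff, mem_centralizer_iff]
  constructor
  · intro hz y
    exact Subtype.ext (hz y y.2)
  · intro hz y hy
    exact congrArg Subtype.val (hz ⟨y, hy⟩)

theorem exists_equiv (h : In H M K T A) [(centralizer (K : Set H)).Normal] : Nonempty (img K ≃* K ⧸ center K) := by
  let f : K →* H ⧸ centralizer (K : Set H) := (QuotientGroup.mk' (centralizer (K : Set H))).comp K.subtype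
  have hk : f.ker = center K := by
    rw [← subgroupOf_eq h]
    ext z
    rw [MonoidHom.mem_ker, mem_subgroupOf]
    show (QuotientGroup.mk (z : H) : H ⧸ centralizer (K : Set H)) = 1 ↔ _
    rw [QuotientGroup.eq_one_iff]
  have hr : f.range = img K := by
    rw [MonoidHom.range_comp, K.range_subtype]
    rfl
  exact ⟨((QuotientGroup.quotientMulEquivOfEq hk.symm).trans
    ((QuotientGroup.quotientKerEquivRange f).trans (MulEquiv.subgroupCongr hr))).symm⟩

theorem img_normal (h : In H M K T A) [(centralizer (K : Set H)).Normal] : (img K).Normal :=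
  h.norm.map _ (QuotientGroup.mk'_surjective _)

theorem centralizer_img (h : In H M K T A) [(centralizer (K : Set H)).Normal] :
    centralizer (img K : Set (H ⧸ centralizer (K : Set H))) = ⊥ := by
  have hn := h.norm
  rw [eq_bot_iff]
  intro x hx
  obtain ⟨g, rfl⟩ := QuotientGroup.mk_surjective x
  rw [mem_bot, QuotientGroup.eq_one_iff]
  -- `[g, K] ≤ C_H(K)`
  have h1 : ∀ k ∈ K, ⁅g, k⁆ ∈ centralizer (K : Set H) := by
    intro k hk
    have h2 := mem_centralizer_iff.1 hx (QuotientGroup.mk k) ⟨k, hk, rfl⟩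
    rw [← QuotientGroup.eq_one_iff, commutatorElement_def]
    simp only [QuotientGroup.mk_mul, QuotientGroup.mk_inv]
    rw [← h2]
    group
  -- `k ↦ [g, k]` is a homomorphism `K → C_H(K)`, central, so trivial on the perfect group `K`
  have hz := h.zen
  let f : K →* H :=
    { toFun := fun k => ⁅g, (k : H)⁆
      map_one' := by simp
      map_mul' := fun k l => by
        have h3 : (k : H)⁻¹ * ⁅g, (l : H)⁆ = ⁅g, (l : H)⁆ * (k : H)⁻¹ := hz _ (h1 l l.2) (k : H)⁻¹
        rw [coe_mul]
        calc ⁅g, (k : H) * l⁆ = (g * k * g⁻¹) * (⁅g, (l : H)⁆ * (k : H)⁻¹) := by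
              simp only [commutatorElement_def]; group
          _ = (g * k * g⁻¹) * ((k : H)⁻¹ * ⁅g, (l : H)⁆) := by rw [h3]
          _ = ⁅g, (k : H)⁆ * ⁅g, (l : H)⁆ := by simp only [commutatorElement_def]; group }
  have hab : ∀ k l : K, f k * f l = f l * f k := fun k l => hz _ (h1 l l.2) _
  have hf : ∀ k : K, f k = 1 := by
    intro k
    have h3 : commutator K ≤ f.ker := by
      rw [_root_.commutator_def, commutator_le]
      intro a _ b _
      rw [MonoidHom.mem_ker, map_commutatorElement, commutatorElement_eq_one_iff_mul_comm]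
      exact hab a b
    rw [perf h] at h3
    exact MonoidHom.mem_ker.1 (h3 (mem_top k))
  rw [mem_centralizer_iff]
  intro k hk
  have h4 : ⁅g, k⁆ = 1 := hf ⟨k, hk⟩
  exact (commutatorElement_eq_one_iff_mul_comm.1 h4).symm

theorem isPGroup_A (h : In H M K T A) : IsPGroup 2 A := fun a =>
  ⟨1, Subtype.ext (by rw [pow_one, pow_two]; exact h.el a a.2)⟩

theorem disj [Finite H] (h : In H M K T A) : A ⊓ centralizer (K : Set H) = ⊥ := by
  have h1 : Nat.card (centralizer (K : Set H)) = Nat.card (center K) := h.card_centralizer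
  have h2 : Nat.Coprime (Nat.card A) (Nat.card (centralizer (K : Set H))) := by
    rw [h1]
    obtain ⟨n, hn⟩ := IsPGroup.iff_card.1 (isPGroup_A h)
    rw [hn]
    exact Nat.Coprime.pow_left _ (Nat.coprime_two_left.2 h.odd)
  exact (disjoint_of_coprime_natCard h2).eq_bot

theorem card_map_A [Finite H] (h : In H M K T A) [(centralizer (K : Set H)).Normal] :
    Nat.card (A.map (QuotientGroup.mk' (centralizer (K : Set H)))) = Nat.card A := by
  have h1 : Function.Injective ((QuotientGroup.mk' (centralizer (K : Set H))).comp A.subtype) := by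
    rw [← MonoidHom.ker_eq_bot_iff, eq_bot_iff]
    intro a ha
    have h2 : (QuotientGroup.mk (a : H) : H ⧸ centralizer (K : Set H)) = 1 := ha
    rw [QuotientGroup.eq_one_iff] at h2
    have h3 : (a : H) ∈ A ⊓ centralizer (K : Set H) := ⟨a.2, h2⟩
    rw [disj h, mem_bot] at h3
    exact mem_bot.2 (Subtype.ext h3)
  have h2 : A.map (QuotientGroup.mk' (centralizer (K : Set H))) =
      ((QuotientGroup.mk' (centralizer (K : Set H))).comp A.subtype).range := by
    rw [MonoidHom.range_comp, A.range_subtype]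
  rw [h2]
  exact (Nat.card_congr (MonoidHom.ofInjective h1).toEquiv).symm

theorem sup_map (h : In H M K T A) [(centralizer (K : Set H)).Normal] :
    img K ⊔ A.map (QuotientGroup.mk' (centralizer (K : Set H))) = ⊤ := by
  rw [img, ← Subgroup.map_sup, h.gen]
  exact map_top_of_surjective _ (QuotientGroup.mk'_surjective _)

theorem index_img (h : In H M K T A) [(centralizer (K : Set H)).Normal] : (img K).index = K.index := by
  rw [img, index_map, MonoidHom.range_eq_top.2 (QuotientGroup.mk'_surjective _), index_top, mul_one,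
    QuotientGroup.ker_mk', sup_eq_left.2 h.cen]

theorem el_map (h : In H M K T A) [(centralizer (K : Set H)).Normal] :
    ∀ a ∈ A.map (QuotientGroup.mk' (centralizer (K : Set H))), a * a = 1 := by
  rintro _ ⟨a, ha, rfl⟩
  rw [← map_mul, h.el a ha, map_one]

/-- `m_2` -/
theorem card_A_le [Finite H] (h : In H M K T A) {a : ℕ} (hr : Rk.RK.{u} (K ⧸ center K) a) :
    Nat.card A ≤ 2 ^ a := by
  have := h.normalZ
  have := img_normal h
  rw [← card_map_A h]
  exact hr _ (img K) (exists_equiv h) (centralizer_img h) _ (el_map h)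

theorem index_le [Finite H] (h : In H M K T A) {b : ℕ} (hr : OutB.{u} (K ⧸ center K) b) : K.index ≤ 2 ^ b := by
  have := h.normalZ
  have := img_normal h
  rw [← index_img h]
  exact hr _ (img K) (exists_equiv h) (centralizer_img h) _ (el_map h) (sup_map h)

theorem overOff [Finite H] [Finite M] (h : In H M K T A) : Nat.card M < fo M A := by
  have h1 : (⊥ : Subgroup H) < A := by
    rw [bot_lt_iff_ne_bot]
    rintro rfl
    have := h.eight
    rw [card_bot] at this
    omega
  have h2 := h.strict ⊥ h1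
  rwa [fab_one, fab_one, fo_bot] at h2

/-- `|Z| ≤ 2 ^ (a - 1)` -/
theorem card_center_le [Finite H] [Finite M] (h : In H M K T A) {a : ℕ} (ha : Nat.card A = 2 ^ a) :
    Nat.card (centralizer (K : Set H)) ≤ 2 ^ (a - 1) := by
  -- an element `x` of `A`, `x ≠ 1`
  have h1 : A ≠ ⊥ := by
    rintro rfl
    have := h.eight
    rw [card_bot] at this
    omega
  obtain ⟨x, hx⟩ := A.ne_bot_iff_exists_ne_one.1 h1
  have hcomm : ∀ m n : M, m * n = n * m := by
    intro m n
    have h2 := h.sq (m * n)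
    have h3 := h.sq m
    have h4 := h.sq n
    calc m * n = m * (m * n * (m * n)) * n := by rw [h2, mul_one]
      _ = (m * m) * n * m * (n * n) := by group
      _ = n * m := by rw [h3, h4, one_mul, mul_one]
  let f : M →* M :=
    { toFun := fun m => m * ((x : H) • m)
      map_one' := by rw [smul_one, mul_one]
      map_mul' := fun m n => by
        rw [smul_mul']
        calc m * n * ((x : H) • m * (x : H) • n) = m * (n * (x : H) • m) * (x : H) • n := by group
          _ = m * ((x : H) • m * n) * (x : H) • n := by rw [hcomm n]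
          _ = m * (x : H) • m * (n * (x : H) • n) := by group }
  -- `ker f = C_M(x) ≥ C_M(A)`
  have hker : cv M (A : Set H) ≤ f.ker := by
    intro m hm
    rw [MonoidHom.mem_ker]
    show m * ((x : H) • m) = 1
    rw [hm _ x.2, h.sq]
  -- `|f.range| < |A|`
  have h2 : Nat.card f.range * Nat.card f.ker = Nat.card M := by
    rw [mul_comm, ← Nat.card_congr (QuotientGroup.quotientKerEquivRange f).toEquiv]
    exact (card_eq_card_quotient_mul_card_subgroup f.ker).symm ▸ mul_comm _ _
  have h3 := overOff h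
  rw [fo] at h3
  have h4 : Nat.card f.range < Nat.card A := by
    have h5 : Nat.card f.range * Nat.card (cv M (A : Set H)) ≤ Nat.card M := by
      rw [← h2]
      exact Nat.mul_le_mul_left _ (card_le_of_le hker)
    have h6 := lt_of_le_of_lt h5 h3
    exact lt_of_mul_lt_mul_right h6 (Nat.zero_le _)
  have h5 : Nat.card f.range ≤ 2 ^ (a - 1) := by
    have hp : IsPGroup 2 f.range := fun m => ⟨1, Subtype.ext (by rw [pow_one, pow_two]; exact h.sq m)⟩
    obtain ⟨k, hk⟩ := IsPGroup.iff_card.1 hp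
    rw [hk, ha, Nat.pow_lt_pow_iff_right (by norm_num)] at h4
    rw [hk]
    exact Nat.pow_le_pow_right (by norm_num) (by omega)
  refine le_trans ?_ h5
  -- `Z` acts semiregularly
  have h6 : ∃ m : M, f m ≠ 1 := by
    by_contra hcon
    push Not at hcon
    apply hx
    apply Subtype.ext
    apply h.faith
    intro m
    have h7 : m * ((x : H) • m) = 1 := hcon m
    have h8 := h.sq m
    exact mul_left_cancel (h7.trans h8.symm)
  obtain ⟨m, hm⟩ := h6
  have hreg : ∀ z ∈ centralizer (K : Set H), z • f m = f m → z = 1 := by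
    intro z hz hzm
    let W : Subgroup M :=
      { carrier := {w | z • w = w}
        one_mem' := smul_one z
        mul_mem' := fun {a b} ha hb => by
          show z • (a * b) = a * b
          rw [smul_mul', show z • a = a from ha, show z • b = b from hb]
        inv_mem' := fun {a} ha => by
          show z • a⁻¹ = a⁻¹
          rw [smul_inv', show z • a = a from ha] }
    rcases h.irr W (fun g w hw => by
      show z • g • w = g • w
      rw [smul_smul, ← h.zen z hz g, mul_smul, show z • w = w from hw]) with h7 | h7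
    · exfalso
      apply hm
      rw [← mem_bot, ← h7]
      exact hzm
    · apply h.faith
      intro w
      have : w ∈ W := by rw [h7]; exact mem_top w
      exact this
  refine Nat.card_le_card_of_injective
    (fun z : centralizer (K : Set H) => (⟨(z : H) • f m, ⟨(z : H) • m, ?_⟩⟩ : f.range)) ?_
  · show (z : H) • m * ((x : H) • (z : H) • m) = (z : H) • (m * (x : H) • m)
    rw [smul_mul', smul_smul, smul_smul, h.zen z z.2 x]
  · intro z y hzy
    have h7 : (z : H) • f m = (y : H) • f m := congrArg Subtype.val hzy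
    have h8 := hreg (y⁻¹ * z) (mul_mem (inv_mem y.2) z.2) (by
      rw [mul_smul, h7]
      exact inv_smul_smul (y : H) (f m))
    exact Subtype.ext (inv_mul_eq_one.1 h8).symm

theorem card_H_le [Finite H] [Finite M] (h : In H M K T A) {a b : ℕ} (ha : Nat.card A = 2 ^ a)
    (hr : OutB.{u} (K ⧸ center K) b) : Nat.card H ≤ Nat.card (K ⧸ center K) * 2 ^ (a - 1) * 2 ^ b := by
  have h1 : Nat.card K * K.index = Nat.card H := card_mul_index K
  have h2 : Nat.card K = Nat.card (K ⧸ center K) * Nat.card (center K) := card_eq_card_quotient_mul_card_subgroup _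
  rw [← h1, h2, ← h.card_centralizer]
  exact Nat.mul_le_mul (Nat.mul_le_mul_left _ (card_center_le h ha)) (index_le h hr)

/-- the lower bound -/
theorem lb_le [Finite H] [Finite M] (h : In H M K T A) {n : ℕ} (hl : Heis.LB.{u, u, v} (K ⧸ center K) n) :
    2 ^ n ≤ Nat.card M := by
  have hcomm : ∀ m n : M, m * n = n * m := by
    intro m n
    have h2 := h.sq (m * n)
    have h3 := h.sq m
    have h4 := h.sq n
    calc m * n = m * (m * n * (m * n)) * n := by rw [h2, mul_one]
      _ = (m * m) * n * m * (n * n) := by group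
      _ = n * m := by rw [h3, h4, one_mul, mul_one]
  let _ : CommGroup M := { ‹Group M› with mul_comm := hcomm }
  have hp : IsPGroup 2 M := fun m => ⟨1, by rw [pow_one, pow_two]; exact h.sq m⟩
  refine hl K (QuotientGroup.mk' (center K)) (QuotientGroup.mk'_surjective _)
    (le_of_eq (QuotientGroup.ker_mk' _)) ?_ (perf h) M hp
    ((MulDistribMulAction.toMulAut H M).comp K.subtype) ?_
  · rw [QuotientGroup.ker_mk']
    exact h.odd
  · intro h1
    have h2 : ∀ k : K, k = 1 := by
      intro k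
      apply Subtype.ext
      apply h.faith
      intro m
      have := congrArg (fun e : MulAut M => e m) (DFunLike.congr_fun h1 k)
      exact this
    have h3 : IsSimpleGroup (K ⧸ center K) := h.qs.2
    obtain ⟨x, hx⟩ := exists_ne (1 : K ⧸ center K)
    obtain ⟨k, rfl⟩ := QuotientGroup.mk_surjective x
    exact hx (by rw [h2 k]; rfl)

end image

theorem num {s n a a' b : ℕ} (hs : 1 ≤ s) (h1 : 1 ≤ a') (h2 : a' ≤ a)
    (h3 : 2 ^ (n * a') ≤ (s * 2 ^ (a' - 1) * 2 ^ b) ^ (a' - 1))
    (h4 : s ^ (a - 1) * 2 ^ ((a - 1) * (a - 1 + b)) < 2 ^ (a * n)) : False := by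
  set t := s * 2 ^ (a - 1) * 2 ^ b with ht
  have ht1 : 1 ≤ t := Nat.mul_pos (Nat.mul_pos hs (by positivity)) (by positivity)
  have h5 : t ^ (a - 1) < 2 ^ (a * n) := by
    refine lt_of_eq_of_lt ?_ h4
    rw [ht, mul_assoc, mul_pow, ← pow_add, ← pow_mul]
    ring_nf
  have h6 : t ^ ((a - 1) * a') < 2 ^ (a * n * a') := by
    rw [pow_mul, pow_mul 2 (a * n) a']
    exact Nat.pow_lt_pow_left h5 (by omega)
  have h7 : 2 ^ (a * n * a') ≤ t ^ ((a' - 1) * a) := by
    rw [show a * n * a' = n * a' * a by ring, pow_mul 2 (n * a') a, pow_mul t (a' - 1) a]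
    refine Nat.pow_le_pow_left (h3.trans (Nat.pow_le_pow_left ?_ _)) _
    rw [ht]
    exact Nat.mul_le_mul_right _ (Nat.mul_le_mul_left _ (Nat.pow_le_pow_right (by norm_num) (by omega)))
  have h8 : (a' - 1) * a ≤ (a - 1) * a' := by
    rw [Nat.sub_mul, Nat.sub_mul, one_mul, one_mul, mul_comm a' a]
    omega
  have h9 : t ^ ((a' - 1) * a) ≤ t ^ ((a - 1) * a') := Nat.pow_le_pow_right ht1 h8
  exact absurd (h7.trans h9) (not_le.2 h6)

/-- **(G1) kills the rows with `NumML`.** -/
theorem dead : Dead.{u, v} fun S _ => NumML.{u, v} S := by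
  intro H _ _ M _ _ _ K T A h ⟨n, a, b, hl, hr, ho, hn⟩
  obtain ⟨a', ha'⟩ := IsPGroup.iff_card.1 (isPGroup_A h)
  have h1 : a' ≤ a := by
    have h2 := card_A_le h hr
    rwa [ha', Nat.pow_le_pow_iff_right (by norm_num)] at h2
  have h2 : 1 ≤ a' := by
    rcases Nat.eq_zero_or_pos a' with h3 | h3
    · subst h3
      have := h.eight
      rw [ha'] at this
      norm_num at this
    · exact h3
  have hp : IsPGroup 2 M := fun m => ⟨1, by rw [pow_one, pow_two]; exact h.sq m⟩
  have h3 := Glob.over_off Nat.prime_two hp h.faith h.irr ha' (overOff h)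
  have h4 := card_H_le h ha' ho
  have h5 := lb_le h hl
  have hs : 1 ≤ Nat.card (K ⧸ center K) := Nat.card_pos
  refine num hs h2 h1 (n := n) (b := b) ?_ hn
  rw [pow_mul]
  exact (Nat.pow_le_pow_left h5 _).trans (h3.trans (Nat.pow_le_pow_left h4 _))

end Cfsg.Agent.Omega.ML.Num

end
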