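import Cfsg.Agent.Mrg.Omega.TwoF.SignLift
import Cfsg.Agent.Mrg.Omega.TwoF.WeightCover
import Cfsg.Agent.Mrg.Omega.Lie.HeisF
import Cfsg.Agent.S0249


/-!
# (ML), K-list end, row `PSL_n(q)`: the bound `q^(n-1) - 1` for all odd covers

`π : L → PSL_n(F)` a perfect central extension with kernel of odd order, `char F ≠ 2`, `n ≥ 3`. The group
`A = {1 + e_p φ}` has a canonical lift `A'` to `L`, elementary abelian, on which `L` induces a group which is transitive on
the nontrivial elements (sign elements: `SignLift`).  Hence `lb : LB (PSL_n(q)) (q^(n-1) - 1)`.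
-/

set_option autoImplicit false
set_option linter.unusedSectionVars false
set_option linter.unusedSimpArgs false

universe u v w

namespace Cfsg.Agent.Omega.ML.PslLB

open Matrix Cfsg.Agent.Omega.Lie.Heis Cfsg.Agent.Omega.TwoF Cfsg.Agent.Omega.TwoF.SignLift
  Cfsg.Agent.Omega.TwoF.LBPsl
open Cfsg.Agent.ClassicalGeometry.AutPSL.Root

section sl

variable {ι F : Type*} [Fintype ι] [DecidableEq ι] [Field F]

/-- the shear formula -/
theorem E_conj {p j k : ι} (hpj : p ≠ j) (hpk : p ≠ k) (hjk : j ≠ k) (s t : F) :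
    E hjk t * E hpj s * (E hjk t)⁻¹ = E hpj s * E hpk (-(s * t)) := by
  apply conj_of_mul
  apply sl_ext; intro v
  rw [sl_mul_mulVec, sl_mul_mulVec, sl_mul_mulVec, E_mulVec, E_mulVec, E_mulVec, E_mulVec, E_mulVec]
  funext i
  by_cases hi : i = p
  · subst hi
    simp [hpj, hpk, hjk, hpj.symm, hpk.symm, hjk.symm]
    ring
  · by_cases hi' : i = j
    · subst hi'
      simp [hpj, hpk, hjk, hpj.symm, hpk.symm, hjk.symm]
    · simp [hi, hi']

theorem H_inv_E {p i k : ι} (hpi : p ≠ i) (hpk : p ≠ k) (hik : i ≠ k) (s : F) :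
    H hik * E hpi s * (H hik)⁻¹ = (E hpi s)⁻¹ := by
  apply conj_of_mul
  rw [E_inv]
  apply sl_ext; intro v
  rw [sl_mul_mulVec, sl_mul_mulVec, E_mulVec, E_mulVec, H_mulVec, H_mulVec]
  funext j
  by_cases hj : j = p
  · subst hj
    simp [hpi, hpk, hik]
  · by_cases hj' : j = i
    · subst hj'
      simp [hpi.symm]
    · by_cases hk : j = k
      · subst hk
        simp [hpk.symm, hj', hpi.symm]
      · simp [hj, hj', hk]

/-- the sign function of `H` -/
def sg (i k : ι) : ι → F := fun a => if a = i ∨ a = k then -1 else 1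

theorem H_sg {i k : ι} (hik : i ≠ k) (x : ι → F) :
    ((H hik : Matrix.SpecialLinearGroup ι F) : Matrix ι ι F) *ᵥ x = fun a => sg i k a * x a := by
  rw [H_mulVec]
  funext a
  by_cases h1 : a = i
  · subst h1; simp [sg]
  · by_cases h2 : a = k
    · subst h2; simp [sg, hik.symm]
    · simp [sg, h1, h2]

theorem H_symm {i k : ι} (hik : i ≠ k) : (H hik : Matrix.SpecialLinearGroup ι F) = H hik.symm := by
  apply sl_ext; intro v
  rw [H_mulVec, H_mulVec]
  funext j
  by_cases hj : j = i
  · subst hj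
    simp [hik]
  · by_cases hj' : j = k
    · subst hj'
      simp [hik.symm]
    · simp [hj, hj']

theorem H_comm_E {j k : ι} (hjk : j ≠ k) (t : F) : H hjk * E hjk t = E hjk t * H hjk := by
  apply sl_ext; intro v
  rw [sl_mul_mulVec, sl_mul_mulVec, E_mulVec, E_mulVec, H_mulVec, H_mulVec]
  funext i
  by_cases hi : i = j
  · subst hi
    simp [hjk, hjk.symm]; ring
  · by_cases hi' : i = k
    · subst hi'
      simp [hjk.symm]
    · simp [hi, hi']

theorem H_sq {i k : ι} (hik : i ≠ k) : (H hik * H hik : Matrix.SpecialLinearGroup ι F) = 1 := by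
  apply sl_ext; intro v
  rw [sl_mul_mulVec, H_mulVec, H_mulVec, Matrix.SpecialLinearGroup.coe_one, one_mulVec]
  funext j
  by_cases hj : j = i
  · subst hj
    simp
  · by_cases hj' : j = k
    · subst hj'
      simp [hik.symm]
    · simp [hj, hj']

theorem H_H {i k j l : ι} (hik : i ≠ k) (hjl : j ≠ l) :
    (H hik * (H hjl)⁻¹ : Matrix.SpecialLinearGroup ι F) ^ (2 ^ 1) = 1 := by
  have hinv : ((H hjl)⁻¹ : Matrix.SpecialLinearGroup ι F) = H hjl := by
    rw [inv_eq_iff_mul_eq_one, H_sq]
  have hc : (H hik * H hjl : Matrix.SpecialLinearGroup ι F) = H hjl * H hik := by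
    apply sl_ext; intro v
    rw [sl_mul_mulVec, sl_mul_mulVec, H_sg, H_sg, H_sg, H_sg]
    funext a
    ring
  rw [hinv, pow_one, pow_two]
  calc H hik * H hjl * (H hik * H hjl) = H hik * (H hjl * H hik) * H hjl := by group
    _ = (H hik * H hik) * (H hjl * H hjl) := by rw [← hc]; group
    _ = 1 := by rw [H_sq, H_sq, one_mul]

/-- different positions in one row -/
theorem cc_row {p i j : ι} (hpi : p ≠ i) (hpj : p ≠ j) (hij : i ≠ j) (s t : F) : CC (E hpi s) (E hpj t) := by
  apply CC.inv (H hpj)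
  · apply sl_ext; intro v
    rw [sl_mul_mulVec, sl_mul_mulVec, E_mulVec, E_mulVec, E_mulVec, E_mulVec]
    funext k
    by_cases hk : k = p
    · simp [hk, hpi.symm, hpj.symm]; ring
    · simp [hk]
  · apply conj_of_mul
    rw [E_inv]
    apply sl_ext; intro v
    rw [sl_mul_mulVec, sl_mul_mulVec, E_mulVec, E_mulVec, H_mulVec, H_mulVec]
    funext k
    by_cases hk : k = p
    · subst hk
      simp [hpi, hpi.symm, hpj, hij]
      ring
    · by_cases hk' : k = j
      · subst hk'
        simp [hpj.symm]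
      · simp [hk, hk']
  · exact H_comm_E hpj t

/-- one column -/
theorem cc_col {p i k : ι} (hpi : p ≠ i) (hki : k ≠ i) (hpk : p ≠ k) (s t : F) : CC (E hpi s) (E hki t) := by
  apply CC.inv (H hki)
  · apply sl_ext; intro v
    rw [sl_mul_mulVec, sl_mul_mulVec, E_mulVec, E_mulVec, E_mulVec, E_mulVec]
    funext j
    by_cases hj : j = p
    · subst hj
      simp [hpk, hpi.symm, hki.symm, hpi]
    · by_cases hj' : j = k
      · subst hj'
        simp [hpk.symm, hpi.symm, hki.symm]
      · simp [hj, hj']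
  · rw [H_symm]
    exact H_inv_E hpi hpk hki.symm s
  · exact H_comm_E hki t

/-- general Weyl elements -/
def Wc {i j : ι} (hij : i ≠ j) (c : F) : Matrix.SpecialLinearGroup ι F :=
  E hij.symm c * E hij (-c⁻¹) * E hij.symm c

theorem Wc_mulVec {i j : ι} (hij : i ≠ j) {c : F} (hc : c ≠ 0) (x : ι → F) :
    ((Wc hij c : Matrix.SpecialLinearGroup ι F) : Matrix ι ι F) *ᵥ x
      = fun k => if k = i then - (c⁻¹ * x j) else if k = j then c * x i else x k := by
  rw [Wc, sl_mul_mulVec, sl_mul_mulVec, E_mulVec, E_mulVec, E_mulVec]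
  funext k
  by_cases hk : k = i
  · subst hk
    simp [hij, hij.symm, mul_add, ← mul_assoc, inv_mul_cancel₀ hc]
  · by_cases hk' : k = j
    · subst hk'
      simp [hij, hij.symm, mul_add, ← mul_assoc, inv_mul_cancel₀ hc, mul_inv_cancel₀ hc]
    · simp [hk, hk']

theorem cc_one (b : Matrix.SpecialLinearGroup ι F) : CC 1 b :=
  CC.two 0 (by rw [one_mul, mul_one]) (one_pow _)

/-- disjoint positions -/
theorem cc_disj {p i j k : ι} (hpi : p ≠ i) (hjk : j ≠ k) (hpj : p ≠ j) (hpk : p ≠ k) (hij : i ≠ j) (hik : i ≠ k)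
    (s t : F) : CC (E hpi s) (E hjk t) := by
  by_cases hs : s = 0
  · rw [hs, E_zero]; exact cc_one _
  by_cases ht : t = 0
  · rw [ht, E_zero]; exact (cc_one _).symm
  apply CC.swap (Wc hpj t * Wc hik s)
  · apply sl_ext; intro v
    rw [sl_mul_mulVec, sl_mul_mulVec, E_mulVec, E_mulVec, E_mulVec, E_mulVec]
    funext a
    by_cases ha : a = p
    · subst ha
      simp [hpj, hij, hpj.symm, hik]
    · by_cases ha' : a = j
      · subst ha'
        simp [hpj.symm, hpk.symm, hpk]
      · simp [ha, ha']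
  · apply conj_of_mul
    apply sl_ext; intro v
    rw [sl_mul_mulVec, sl_mul_mulVec, sl_mul_mulVec, sl_mul_mulVec, E_mulVec, E_mulVec, Wc_mulVec hik hs,
      Wc_mulVec hpj ht, Wc_mulVec hik hs, Wc_mulVec hpj ht]
    funext a
    by_cases h1 : a = p
    · subst h1
      simp [hpj, hpi, hik, hij, hpk, hjk, hpj.symm, hpi.symm, hik.symm, hij.symm, hpk.symm, hjk.symm]
    · by_cases h2 : a = j
      · subst h2
        simp [hpj, hpi, hik, hij, hpk, hjk, hpj.symm, hpi.symm, hik.symm, hij.symm, hpk.symm, hjk.symm]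
        ring
      · by_cases h3 : a = i
        · subst h3
          simp [hpj, hpi, hik, hij, hpk, hjk, hpj.symm, hpi.symm, hik.symm, hij.symm, hpk.symm, hjk.symm]
        · by_cases h4 : a = k
          · subst h4
            simp [hpj, hpi, hik, hij, hpk, hjk, hpj.symm, hpi.symm, hik.symm, hij.symm, hpk.symm, hjk.symm]
          · simp [h1, h2, h3, h4]
  · apply conj_of_mul
    apply sl_ext; intro v
    rw [sl_mul_mulVec, sl_mul_mulVec, sl_mul_mulVec, sl_mul_mulVec, E_mulVec, E_mulVec, Wc_mulVec hik hs,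
      Wc_mulVec hpj ht, Wc_mulVec hik hs, Wc_mulVec hpj ht]
    funext a
    by_cases h1 : a = p
    · subst h1
      simp [hpj, hpi, hik, hij, hpk, hjk, hpj.symm, hpi.symm, hik.symm, hij.symm, hpk.symm, hjk.symm]
      field_simp
      ring
    · by_cases h2 : a = j
      · subst h2
        simp [hpj, hpi, hik, hij, hpk, hjk, hpj.symm, hpi.symm, hik.symm, hij.symm, hpk.symm, hjk.symm]
      · by_cases h3 : a = i
        · subst h3
          simp [hpj, hpi, hik, hij, hpk, hjk, hpj.symm, hpi.symm, hik.symm, hij.symm, hpk.symm, hjk.symm]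
        · by_cases h4 : a = k
          · subst h4
            simp [hpj, hpi, hik, hij, hpk, hjk, hpj.symm, hpi.symm, hik.symm, hij.symm, hpk.symm, hjk.symm]
          · simp [h1, h2, h3, h4]

/-- one position -/
theorem cc_same {p i k : ι} (hpi : p ≠ i) (hpk : p ≠ k) (hki : k ≠ i) (s t : F) : CC (E hpi s) (E hpi t) := by
  have h1 : E hpi t = E hpk t * (E hki 1 * (E hpk t)⁻¹ * (E hki 1)⁻¹) := by
    rw [E_inv, E_conj hpk hpi hki, ← mul_assoc, E_mul, add_neg_cancel, E_zero, one_mul]
    congr 1
    ring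
  rw [h1]
  refine CC.mul (cc_row hpi hpk hki.symm s t) (CC.mul (CC.mul (cc_col hpi hki hpk s 1) ?_) ?_)
  · exact (cc_row hpi hpk hki.symm s t).inv'
  · exact (cc_col hpi hki hpk s 1).inv'

end sl

section reach

variable {I F : Type*} [DecidableEq I] [Field F]

/-- elementary steps -/
def Step (v w : I → F) : Prop := ∃ (j k : I) (t : F), j ≠ k ∧ w = Function.update v k (v k + t * v j)

theorem Step.symm {v w : I → F} (h : Step v w) : Step w v := by
  obtain ⟨j, k, t, hjk, rfl⟩ := h
  refine ⟨j, k, -t, hjk, ?_⟩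
  funext i
  by_cases hi : i = k
  · subst hi
    simp [Function.update_of_ne hjk]
  · simp [Function.update_of_ne hi]

theorem reach_single [Finite I] [Nontrivial I] {v : I → F} (hv : v ≠ 0) (i₀ : I) :
    Relation.ReflTransGen Step v (Pi.single i₀ 1) := by
  classical
  have := Fintype.ofFinite I
  obtain ⟨j, hj⟩ : ∃ j, v j ≠ 0 := by
    by_contra h
    push Not at h
    exact hv (funext h)
  obtain ⟨k, hk⟩ := exists_ne j
  -- make the entry `k` equal to `1`
  have h1 : Relation.ReflTransGen Step v (Function.update v k 1) := by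
    refine Relation.ReflTransGen.single ⟨j, k, (1 - v k) / v j, hk.symm, ?_⟩
    rw [div_mul_cancel₀ _ hj]
    congr 1
    ring
  have h2 : ∀ (w : I → F), w k = 1 → ∀ S : Finset I, k ∉ S →
      Relation.ReflTransGen Step w (fun i => if i ∈ S then 0 else w i) := by
    intro w hw S
    induction S using Finset.induction_on with
    | empty => intro _; simp only [Finset.notMem_empty, if_false]; exact Relation.ReflTransGen.refl
    | insert a S ha ih =>
      intro hk
      rw [Finset.mem_insert, not_or] at hk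
      refine (ih hk.2).tail ⟨k, a, -w a, hk.1, ?_⟩
      funext i
      by_cases hi : i = a
      · subst hi
        simp [ha, hk.2, hw]
      · simp [hi, Function.update_of_ne hi]
  have h3 : Relation.ReflTransGen Step v (Pi.single k 1) := by
    refine h1.trans ?_
    have h4 := h2 (Function.update v k 1) (Function.update_self _ _ _) (Finset.univ.erase k)
      (Finset.notMem_erase _ _)
    convert h4 using 1
    funext i
    by_cases hi : i = k
    · subst hi; simp
    · simp [hi]
  by_cases hki : k = i₀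
  · rw [← hki]; exact h3
  · refine h3.trans (Relation.ReflTransGen.tail (b := Function.update (Pi.single k (1 : F)) i₀ 1)
      (Relation.ReflTransGen.single ⟨k, i₀, 1, hki, ?_⟩) ⟨i₀, k, -1, fun h => hki h.symm, ?_⟩)
    · funext i
      by_cases hi : i = i₀
      · subst hi
        have h5 : i ≠ k := fun h => hki h.symm
        simp [Pi.single_apply, h5]
      · simp [Function.update_of_ne hi]
    · funext i
      by_cases hi : i = k
      · subst hi
        simp [Pi.single_apply, hki, Function.update_of_ne hki]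
      · by_cases hi' : i = i₀
        · subst hi'
          simp [Function.update_of_ne hi]
        · simp [hi, hi', Pi.single_apply, Function.update_of_ne hi, Function.update_of_ne hi']

theorem reach [Finite I] [Nontrivial I] {v w : I → F} (hv : v ≠ 0) (hw : w ≠ 0) : Relation.ReflTransGen Step v w := by
  obtain ⟨i₀, -⟩ := exists_pair_ne I
  refine (reach_single hv i₀).trans ?_
  have hs : ∀ a b : I → F, Relation.ReflTransGen Step a b → Relation.ReflTransGen Step b a := by
    intro a b h
    induction h with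
    | refl => exact Relation.ReflTransGen.refl
    | tail _ h ih => exact Relation.ReflTransGen.head h.symm ih
  exact hs _ _ (reach_single hw i₀)

theorem hom_ext [Finite I] {N L : Type*} [CommGroup N] [Group L] (f g : (I → N) →* L)
    (h : ∀ i x, f (Pi.mulSingle i x) = g (Pi.mulSingle i x)) : f = g := by
  classical
  have := Fintype.ofFinite I
  ext v
  have h1 : v ∈ MonoidHom.eqLocus f g := by
    rw [← Finset.univ_prod_mulSingle v]
    exact Subgroup.prod_mem _ fun i _ => h i (v i)
  exact h1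

end reach

section lift

variable {ι F : Type*} [Fintype ι] [DecidableEq ι] [Field F] {L : Type*} [Group L]
  {π : L →* Matrix.ProjectiveSpecialLinearGroup ι F}

/-- a lift inverted by the lifts of the sign elements -/
def Good (π : L →* Matrix.ProjectiveSpecialLinearGroup ι F) (p i : ι) (a : L) : Prop :=
  ∀ (k : ι) (hik : i ≠ k), p ≠ k → ∀ g : L, π g = pr (H hik) → g * a * g⁻¹ = a⁻¹

variable (hπ : Function.Surjective π) (hc : π.ker ≤ Subgroup.center L) (ho : Odd (Nat.card π.ker))

include hπ hc ho in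
theorem exists_good {p i k : ι} (hpi : p ≠ i) (hik : i ≠ k) (hpk : p ≠ k) (s : F) :
    ∃ a : L, π a = pr (E hpi s) ∧ Good π p i a := by
  have hinv : ∀ (k : ι) (hik : i ≠ k), p ≠ k → pr (H hik) * pr (E hpi s) * (pr (H hik))⁻¹ = (pr (E hpi s))⁻¹ := by
    intro k hik hpk
    rw [← map_inv, ← map_mul, ← map_mul, H_inv_E hpi hpk hik, map_inv]
  obtain ⟨g₀, hg₀⟩ := hπ (pr (H hik))
  obtain ⟨a, ha, hga⟩ := exists_inv_lift hπ hc ho (s := pr (E hpi s)) (g := g₀) (by rw [hg₀]; exact hinv k hik hpk)
  refine ⟨a, ha, fun k' hik' hpk' g hg => ?_⟩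
  have h1 : π (g * g₀⁻¹) * π a = π a * π (g * g₀⁻¹) := by
    rw [map_mul, map_inv, hg, hg₀, ha]
    have e1 := hinv k hik hpk
    have e2 := hinv k' hik' hpk'
    set x := pr (E hpi s)
    set h := pr (H hik : Matrix.SpecialLinearGroup ι F)
    set h' := pr (H hik' : Matrix.SpecialLinearGroup ι F)
    have e3 : h * x = x⁻¹ * h := by rw [← e1]; group
    have e4 : h' * x⁻¹ * h'⁻¹ = x := by
      calc h' * x⁻¹ * h'⁻¹ = (h' * x * h'⁻¹)⁻¹ := by group
        _ = x := by rw [e2, inv_inv]
    have e5 : h⁻¹ * x * h = x⁻¹ := by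
      calc h⁻¹ * x * h = h⁻¹ * (x⁻¹)⁻¹ * h := by rw [inv_inv]
        _ = h⁻¹ * (h * x * h⁻¹)⁻¹ * h := by rw [e1]
        _ = x⁻¹ := by group
    calc h' * h⁻¹ * x = h' * (h⁻¹ * x * h) * h⁻¹ := by group
      _ = h' * x⁻¹ * h'⁻¹ * (h' * h⁻¹) := by rw [e5]; group
      _ = x * (h' * h⁻¹) := by rw [e4]
  have h2 : π (g * g₀⁻¹) ^ (2 ^ 1) = 1 := by
    rw [map_mul, map_inv, hg, hg₀, ← map_inv, ← map_mul, ← map_pow, H_H, map_one]
  have h3 := comm_of_two hc ho h1 h2
  calc g * a * g⁻¹ = (g * g₀⁻¹) * (g₀ * a * g₀⁻¹) * (g * g₀⁻¹)⁻¹ := by group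
    _ = (g * g₀⁻¹) * a⁻¹ * (g * g₀⁻¹)⁻¹ := by rw [hga]
    _ = ((g * g₀⁻¹) * a * (g * g₀⁻¹)⁻¹)⁻¹ := by group
    _ = a⁻¹ := by rw [h3, mul_inv_cancel_right]

include hπ hc ho in
theorem good_unique {p i k : ι} (hik : i ≠ k) (hpk : p ≠ k) {a b : L} (ha : Good π p i a) (hb : Good π p i b)
    (h : π a = π b) : a = b := by
  obtain ⟨g, hg⟩ := hπ (pr (H hik))
  exact Lie.HeisLift.inv_lift_unique hc ho (ha k hik hpk g hg) (hb k hik hpk g hg) h

/-- the row group of `SL` -/
def rowHom (F : Type*) [Field F] (p : ι) : ({i : ι // p ≠ i} → Multiplicative F) →* Matrix.SpecialLinearGroup ι F where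
  toFun v := tr (Pi.single p 1) (fun j => if h : p ≠ j then (v ⟨j, h⟩).toAdd else 0) (by simp)
  map_one' := by
    apply sl_ext; intro x
    rw [tr_mulVec, Matrix.SpecialLinearGroup.coe_one, one_mulVec]
    have h1 : (fun j => if h : p ≠ j then ((1 : {i : ι // p ≠ i} → Multiplicative F) ⟨j, h⟩).toAdd else 0) =
        (0 : ι → F) := by
      funext j
      by_cases h : p ≠ j
      · rw [dif_pos h]; rfl
      · rw [dif_neg h]; rfl
    rw [h1, zero_dotProduct, zero_smul, add_zero]
  map_mul' v w := by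
    rw [tr_mul_same_center]
    apply sl_ext; intro x
    rw [tr_mulVec, tr_mulVec]
    congr 3
    funext j
    by_cases h : p ≠ j
    · simp only [Pi.add_apply, dif_pos h]; rfl
    · simp only [Pi.add_apply, dif_neg h, add_zero]

theorem rowHom_apply (p : ι) (v : {i : ι // p ≠ i} → Multiplicative F) : ∃ h,
    rowHom F p v = tr (Pi.single p 1) (fun j => if h : p ≠ j then (v ⟨j, h⟩).toAdd else 0) h :=
  ⟨by simp, rfl⟩

theorem rowHom_single (p : ι) (i : {i : ι // p ≠ i}) (s : Multiplicative F) :
    rowHom F p (Pi.mulSingle i s) = E i.2 s.toAdd := by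
  apply sl_ext; intro x
  obtain ⟨h0, h0'⟩ := rowHom_apply p (Pi.mulSingle i s)
  rw [h0', tr_mulVec, E_mulVec]
  have h1 : (fun j => if h : p ≠ j then ((Pi.mulSingle i s : {i : ι // p ≠ i} → Multiplicative F) ⟨j, h⟩).toAdd else 0) =
      (Pi.single (i : ι) s.toAdd : ι → F) := by
    funext j
    by_cases h : p ≠ j
    · rw [dif_pos h]
      by_cases hj : j = i
      · subst hj
        rw [Pi.single_eq_same, Pi.mulSingle_eq_same]
      · rw [Pi.single_eq_of_ne hj, Pi.mulSingle_eq_of_ne (fun h' => hj (congrArg Subtype.val h'))]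
        rfl
    · rw [dif_neg h, Pi.single_eq_of_ne]
      intro h'
      exact h (h' ▸ i.2)
  rw [h1, single_dotProduct]
  funext k
  by_cases hk : k = p
  · subst hk; simp
  · simp [hk]

theorem rowHom_injective (p : ι) {v : {i : ι // p ≠ i} → Multiplicative F} (h : pr (rowHom F p v) = 1) : v = 1 := by
  rw [pr_eq_one_iff, Matrix.SpecialLinearGroup.mem_center_iff] at h
  obtain ⟨c, -, hc⟩ := h
  funext i
  have h3 := congrFun (congrFun hc p) i
  have h4 : (rowHom F p v : Matrix ι ι F) p i = (v i).toAdd := by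
    obtain ⟨h0, h0'⟩ := rowHom_apply p v
    rw [h0', coe_tr, Matrix.add_apply, Matrix.one_apply_ne i.2, vecMulVec_apply, zero_add, dif_pos i.2]
    simp
  rw [h4, Matrix.scalar_apply, Matrix.diagonal_apply_ne _ i.2] at h3
  exact Multiplicative.toAdd.injective h3.symm

include hπ hc ho in
/-- **The lift of the row group.** -/
theorem exists_lift_row (hcard : 3 ≤ Fintype.card ι) (p : ι) :
    ∃ Φ : ({i : ι // p ≠ i} → Multiplicative F) →* L, Function.Injective Φ ∧
      ∀ v w : {i : ι // p ≠ i} → Multiplicative F, v ≠ 1 → w ≠ 1 →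
        ∃ g : L, (∀ v', ∃ w', g * Φ v' * g⁻¹ = Φ w') ∧ g * Φ v * g⁻¹ = Φ w := by
  classical
  -- third indices
  have h3 : ∀ i : ι, p ≠ i → ∃ k, p ≠ k ∧ i ≠ k := by
    intro i hi
    have h1 : ({p, i} : Finset ι).card < Fintype.card ι := (Finset.card_le_two).trans_lt (by omega)
    obtain ⟨k, -, hk⟩ := Finset.exists_mem_notMem_of_card_lt_card (s := {p, i}) (t := Finset.univ)
      (by rwa [Finset.card_univ])
    simp only [Finset.mem_insert, Finset.mem_singleton, not_or] at hk
    exact ⟨k, fun h => hk.1 h.symm, fun h => hk.2 h.symm⟩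
  have hex : ∀ (i : {i : ι // p ≠ i}) (s : F), ∃ a : L, π a = pr (E i.2 s) ∧ Good π p i a := by
    intro i s
    obtain ⟨k, hpk, hik⟩ := h3 i i.2
    exact exists_good hπ hc ho i.2 hik hpk s
  choose y hy hgood using hex
  have hcc : ∀ (i j : {i : ι // p ≠ i}) (s t : F), y i s * y j t = y j t * y i s := by
    intro i j s t
    by_cases hij : i = j
    · subst hij
      obtain ⟨k, hpk, hik⟩ := h3 i i.2
      exact ((cc_same i.2 hpk hik.symm s t).map pr).comm hπ hc ho _ _ (hy i s) (hy i t)
    · exact ((cc_row i.2 j.2 (fun h => hij (Subtype.ext h)) s t).map pr).comm hπ hc ho _ _ (hy i s) (hy j t)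
  have hadd : ∀ (i : {i : ι // p ≠ i}) (s t : F), y i s * y i t = y i (s + t) := by
    intro i s t
    obtain ⟨k, hpk, hik⟩ := h3 i i.2
    refine good_unique hπ hc ho hik hpk ?_ (hgood i _) (by rw [map_mul, hy, hy, hy, ← map_mul, E_mul])
    intro k hik hpk g hg
    calc g * (y i s * y i t) * g⁻¹ = (g * y i s * g⁻¹) * (g * y i t * g⁻¹) := by group
      _ = (y i t * y i s)⁻¹ := by rw [hgood i s k hik hpk g hg, hgood i t k hik hpk g hg, _root_.mul_inv_rev]
      _ = (y i s * y i t)⁻¹ := by rw [hcc]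
  let ϕ : ∀ i : {i : ι // p ≠ i}, Multiplicative F →* L := fun i =>
    MonoidHom.mk' (fun s => y i s.toAdd) fun s t => (hadd i _ _).symm
  have hϕ : Pairwise fun i j => ∀ x z, Commute (ϕ i x) (ϕ j z) := fun i j _ x z => hcc i j _ _
  let Φ : ({i : ι // p ≠ i} → Multiplicative F) →* L := MonoidHom.noncommPiCoprod ϕ hϕ
  have hΦ : ∀ i x, Φ (Pi.mulSingle i x) = y i x.toAdd := fun i x =>
    MonoidHom.noncommPiCoprod_mulSingle (ϕ := ϕ) (hcomm := hϕ) i x
  have hπΦ : π.comp Φ = pr.comp (rowHom F p) := by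
    refine hom_ext _ _ fun i x => ?_
    rw [MonoidHom.comp_apply, hΦ, hy, MonoidHom.comp_apply, rowHom_single]
  have hinj : Function.Injective Φ := by
    rw [injective_iff_map_eq_one]
    intro v hv
    apply rowHom_injective p
    have h1 := DFunLike.congr_fun hπΦ v
    rw [MonoidHom.comp_apply, hv, map_one] at h1
    exact h1.symm
  refine ⟨Φ, hinj, ?_⟩
  -- the shears
  have hsh : ∀ (j k : {i : ι // p ≠ i}) (t : F) (hjk : (j : ι) ≠ k) (g : L), π g = pr (E hjk t) →
      ∀ v : {i : ι // p ≠ i} → Multiplicative F, g * Φ v * g⁻¹ =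
        Φ (Function.update v k (v k * Multiplicative.ofAdd (-((v j).toAdd * t)))) := by
    intro j k t hjk g hg
    have hjk' : j ≠ k := fun h => hjk (congrArg Subtype.val h)
    -- the shear as a homomorphism
    let σ : ({i : ι // p ≠ i} → Multiplicative F) →* ({i : ι // p ≠ i} → Multiplicative F) :=
      { toFun := fun v => Function.update v k (v k * Multiplicative.ofAdd (-((v j).toAdd * t)))
        map_one' := by
          funext i
          by_cases hi : i = k
          · subst hi
            rw [Function.update_self]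
            simp
          · rw [Function.update_of_ne hi]
        map_mul' := by
          intro v w
          funext i
          by_cases hi : i = k
          · subst hi
            rw [Function.update_self, Pi.mul_apply, Pi.mul_apply, Pi.mul_apply, Function.update_self,
              Function.update_self, toAdd_mul]
            rw [show -(((v j).toAdd + (w j).toAdd) * t) = -((v j).toAdd * t) + -((w j).toAdd * t) by ring, ofAdd_add]
            exact mul_mul_mul_comm _ _ _ _
          · rw [Function.update_of_ne hi, Pi.mul_apply, Pi.mul_apply, Function.update_of_ne hi,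
              Function.update_of_ne hi] }
    have key : (MulAut.conj g).toMonoidHom.comp Φ = Φ.comp σ := by
      refine hom_ext _ _ fun i x => ?_
      change g * Φ (Pi.mulSingle i x) * g⁻¹ = Φ (σ (Pi.mulSingle i x))
      rw [hΦ]
      by_cases hij : i = j
      · subst hij
        have h1 : σ (Pi.mulSingle i x) = Pi.mulSingle i x * Pi.mulSingle k (Multiplicative.ofAdd (-(x.toAdd * t))) := by
          funext a
          change Function.update (Pi.mulSingle (M := fun _ => Multiplicative F) i x) k _ a = _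
          by_cases ha : a = k
          · subst ha
            rw [Function.update_self, Pi.mul_apply, Pi.mulSingle_eq_same, Pi.mulSingle_eq_same]
          · rw [Function.update_of_ne ha, Pi.mul_apply, Pi.mulSingle_eq_of_ne ha, mul_one]
        rw [h1, map_mul, hΦ, hΦ]
        -- both sides are inverted by the lifts of `H_{ik}`
        obtain ⟨h, hh⟩ := hπ (pr (H hjk))
        have e1 : h * y i x.toAdd * h⁻¹ = (y i x.toAdd)⁻¹ := hgood i _ k hjk k.2 h hh
        have e2 : h * y k (-(x.toAdd * t)) * h⁻¹ = (y k (-(x.toAdd * t)))⁻¹ :=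
          hgood k _ i hjk.symm i.2 h (by rw [hh, H_symm])
        refine Lie.HeisLift.inv_lift_unique hc ho (g := h) (Lie.HeisLift.conj_inv hc e1 ?_) ?_ ?_
        · rw [hg, hh, ← map_mul, ← map_mul, H_comm_E]
        · change h * (y i x.toAdd * y k (-(x.toAdd * t))) * h⁻¹ = (y i x.toAdd * y k (-(x.toAdd * t)))⁻¹
          calc h * (y i x.toAdd * y k (-(x.toAdd * t))) * h⁻¹
              = (h * y i x.toAdd * h⁻¹) * (h * y k (-(x.toAdd * t)) * h⁻¹) := by group
            _ = (y k (-(x.toAdd * t)) * y i x.toAdd)⁻¹ := by rw [e1, e2, _root_.mul_inv_rev]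
            _ = _ := by rw [hcc]
        · change π (g * y i x.toAdd * g⁻¹) = π (y i x.toAdd * y k (-(x.toAdd * t)))
          rw [map_mul, map_mul, map_inv, map_mul, hg, hy, hy, ← map_inv, ← map_mul, ← map_mul, ← map_mul,
            E_conj i.2 k.2 hjk]
      · have h1 : σ (Pi.mulSingle i x) = Pi.mulSingle i x := by
          funext a
          change Function.update (Pi.mulSingle (M := fun _ => Multiplicative F) i x) k _ a = _
          by_cases ha : a = k
          · subst ha
            rw [Function.update_self, Pi.mulSingle_eq_of_ne (fun h => hij h.symm)]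
            simp
          · rw [Function.update_of_ne ha]
        rw [h1, hΦ]
        have h2 : CC (pr (E i.2 x.toAdd)) (pr (E hjk t)) := by
          by_cases hik : i = k
          · subst hik
            exact (cc_col i.2 hjk j.2 _ t).map pr
          · exact (cc_disj i.2 hjk j.2 k.2 (fun h => hij (Subtype.ext h)) (fun h => hik (Subtype.ext h)) _ t).map pr
        rw [← h2.comm hπ hc ho _ _ (hy i _) hg, mul_inv_cancel_right]
    intro v
    exact DFunLike.congr_fun key v
  -- transitivity
  have hne : Nontrivial {i : ι // p ≠ i} := by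
    rw [← Finite.one_lt_card_iff_nontrivial, Nat.card_eq_fintype_card, Fintype.card_subtype_compl]
    simp only [Fintype.card_unique]
    omega
  intro v w hv hw
  have h0 : ∀ v : {i : ι // p ≠ i} → Multiplicative F, v ≠ 1 → (fun i => (v i).toAdd) ≠ (0 : {i : ι // p ≠ i} → F) := by
    intro v hv h
    apply hv
    funext i
    exact Multiplicative.toAdd.injective (congrFun h i)
  have h1 := reach (h0 v hv) (h0 w hw)
  generalize hw' : (fun i => (w i).toAdd) = w' at h1
  have h2 : ∀ w' : {i : ι // p ≠ i} → F, Relation.ReflTransGen Step (fun i => (v i).toAdd) w' →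
      ∃ g : L, (∀ v', ∃ w', g * Φ v' * g⁻¹ = Φ w') ∧ g * Φ v * g⁻¹ = Φ (fun i => Multiplicative.ofAdd (w' i)) := by
    intro w' h
    induction h with
    | refl => exact ⟨1, fun v' => ⟨v', by group⟩, by rw [one_mul, inv_one, mul_one]; rfl⟩
    | tail _ h ih =>
      obtain ⟨g, hg1, hg2⟩ := ih
      obtain ⟨j, k, t, hjk, rfl⟩ := h
      obtain ⟨g', hg'⟩ := hπ (pr (E (fun h => hjk (Subtype.ext h) : (j : ι) ≠ k) (-t)))
      refine ⟨g' * g, fun v' => ?_, ?_⟩
      · obtain ⟨w₁, hw₁⟩ := hg1 v'
        refine ⟨Function.update w₁ k (w₁ k * Multiplicative.ofAdd (-((w₁ j).toAdd * (-t)))), ?_⟩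
        calc g' * g * Φ v' * (g' * g)⁻¹ = g' * (g * Φ v' * g⁻¹) * g'⁻¹ := by group
          _ = g' * Φ w₁ * g'⁻¹ := by rw [hw₁]
          _ = _ := hsh j k (-t) _ g' hg' w₁
      · calc g' * g * Φ v * (g' * g)⁻¹ = g' * (g * Φ v * g⁻¹) * g'⁻¹ := by group
          _ = _ := by rw [hg2, hsh j k (-t) _ g' hg']
          _ = _ := by
            congr 1
            funext i
            by_cases hi : i = k
            · subst hi
              rw [Function.update_self, Function.update_self]
              rw [toAdd_ofAdd, ofAdd_add]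
              congr 2
              ring
            · rw [Function.update_of_ne hi, Function.update_of_ne hi]
  obtain ⟨g, hg1, hg2⟩ := h2 w' h1
  refine ⟨g, hg1, ?_⟩
  rw [hg2, ← hw']
  rfl

end lift

section main

variable {F : Type*} [Field F] [Fintype F] {n : ℕ}

/-- **The bound `q^(n-1) - 1` for `PSL_n(q)`, `q` odd, `n ≥ 3`, all odd covers.** -/
theorem lb (h2 : (2 : F) ≠ 0) (hn : 3 ≤ n) {m : ℕ} (hm : m ≤ Nat.card F ^ (n - 1) - 1) :
    LB.{_, v, w} (Matrix.ProjectiveSpecialLinearGroup (Fin n) F) m := by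
  have hs : IsSimpleGroup (Matrix.ProjectiveSpecialLinearGroup (Fin n) F) :=
    Cfsg.Agent.S0249.result n hn
  have hodd : Odd (Nat.card F) := by
    rw [Nat.card_eq_fintype_card, ← Nat.not_even_iff_odd]
    intro h
    obtain ⟨p, hp⟩ := CharP.exists F
    obtain ⟨k, hpp, hk⟩ := FiniteField.card F p
    have h3 : 2 ∣ p := by
      rw [hk] at h
      exact Nat.prime_two.dvd_of_dvd_pow (even_iff_two_dvd.1 h)
    have h4 : p = 2 := ((Nat.prime_dvd_prime_iff_eq Nat.prime_two hpp).1 h3).symm
    subst h4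
    exact h2 (by exact_mod_cast CharP.cast_eq_zero F 2)
  apply LB.of_irr
  intro L _ _ π hπ hc ho hL V _ _ h2V φ hφ hirr
  have : Fact (Nat.Prime 2) := ⟨Nat.prime_two⟩
  obtain ⟨Φ, hΦ, htr⟩ := exists_lift_row hπ hc ho (by rw [Fintype.card_fin]; exact hn)
    (⟨0, by omega⟩ : Fin n)
  have hcard : Nat.card Φ.range = Nat.card F ^ (n - 1) := by
    rw [← Nat.card_congr (MonoidHom.ofInjective hΦ).toEquiv, Nat.card_fun, Nat.card_eq_fintype_card (α := {i // _}),
      Fintype.card_subtype_compl]
    simp only [Fintype.card_unique, Fintype.card_fin]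
    rfl
  have hne : Nontrivial {i : Fin n // (⟨0, by omega⟩ : Fin n) ≠ i} := by
    rw [← Finite.one_lt_card_iff_nontrivial, Nat.card_eq_fintype_card, Fintype.card_subtype_compl]
    simp only [Fintype.card_unique, Fintype.card_fin]
    omega
  have h0 : (⟨0, by omega⟩ : Fin n) ≠ ⟨1, by omega⟩ := fun h => by
    have := congrArg Fin.val h
    simp at this
  let i₀ : {i : Fin n // (⟨0, by omega⟩ : Fin n) ≠ i} := ⟨⟨1, by omega⟩, h0⟩
  have h1 := Weight.pow_card_sub_one_le (ℓ := 2) (φ := φ) (WeightCover.Irr.sq hirr h2V) (A := Φ.range) (by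
      rintro _ ⟨a, rfl⟩ _ ⟨b, rfl⟩
      rw [← map_mul, ← map_mul, mul_comm]) (by
      rw [hcard]
      exact fun h => (Nat.not_even_iff_odd.2 (hodd.pow)) (even_iff_two_dvd.2 h)) (by
      refine ⟨Φ (Pi.mulSingle i₀ (Multiplicative.ofAdd 1)), ⟨_, rfl⟩, fun h => ?_⟩
      have h3 := hΦ (hφ (h.trans (map_one φ).symm) |>.trans (map_one Φ).symm)
      have h4 := congrFun h3 i₀
      rw [Pi.mulSingle_eq_same] at h4
      exact one_ne_zero (Multiplicative.ofAdd.injective h4)) (by
      rintro _ ⟨a, rfl⟩ _ ⟨b, rfl⟩ ha hb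
      obtain ⟨g, hg1, hg2⟩ := htr a b (fun h => ha (by rw [h, map_one])) (fun h => hb (by rw [h, map_one]))
      refine ⟨g, ?_, 0, Or.inl (by rw [pow_zero, pow_one, hg2])⟩
      rintro _ ⟨c, rfl⟩
      obtain ⟨w', hw'⟩ := hg1 c
      exact ⟨w', hw'.symm⟩)
  rw [hcard] at h1
  exact (Nat.pow_le_pow_right (by norm_num) hm).trans h1

end main

end Cfsg.Agent.Omega.ML.PslLB
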