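import Cfsg.Agent.Mrg.Omega.ML.InOf
import Cfsg.Agent.Mrg.Omega.ML.PslLB
import Cfsg.Agent.Mrg.Omega.TwoF.RowPsl
import Cfsg.Agent.Omega.KFacts
import Cfsg.Agent.S0243
import Cfsg.Agent.Mrg.Omega.NOThree.NoOver

section


/-!
# (ML), the K-list end: `PSL_n(q)`, `q` odd, `n ≥ 3`, `(n, q) ≠ (3, 3)`

`LB = q^(n-1) - 1`, `RK = rk n + 2` (`5` for `PSL_4(3)`), `|PSL_n(q)| ≤ q^(n²-1)`.
-/

set_option autoImplicit false

universe u v w

namespace Cfsg.Agent.Omega.ML.OddPsl

open Cfsg Matrix Cfsg.Agent.Omega.Lie Cfsg.Agent.Omega.TwoF Cfsg.Agent.Omega.KFacts Cfsg.Agent.Omega.ML.Num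
open Cfsg.Agent.ClassicalGeometry.AutPSL.Root (pr_surjective)

section card

variable {F : Type*} [Field F] [Fintype F]

/-- `|PSL_n(q)| ≤ q^(n²-1)`, `n = k + 1` -/
theorem card_le (k : ℕ) (hk : 1 ≤ k) :
    Nat.card (Matrix.ProjectiveSpecialLinearGroup (Fin (k + 1)) F) ≤ Nat.card F ^ (k * k + 2 * k) := by
  have h := Cfsg.Agent.S0243.result (F := F) (q := Nat.card F) Nat.card_eq_fintype_card.symm (k + 1) (by omega)
  have hq : 1 < Nat.card F := Finite.one_lt_card
  set q := Nat.card F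
  set c := Nat.card (Matrix.ProjectiveSpecialLinearGroup (Fin (k + 1)) F)
  have hg : 1 ≤ Nat.gcd (k + 1) (q - 1) := Nat.gcd_pos_of_pos_left _ (by omega)
  have h1 : (q - 1) * c ≤ (q - 1) * q ^ (k * k + 2 * k) := by
    calc (q - 1) * c ≤ Nat.gcd (k + 1) (q - 1) * ((q - 1) * c) := Nat.le_mul_of_pos_left _ hg
      _ = ∏ i : Fin (k + 1), (q ^ (k + 1) - q ^ (i : ℕ)) := h
      _ = (∏ i : Fin k, (q ^ (k + 1) - q ^ ((Fin.castSucc i : Fin (k + 1)) : ℕ))) * (q ^ (k + 1) - q ^ k) := by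
          rw [Fin.prod_univ_castSucc, Fin.val_last]
      _ ≤ (q ^ (k + 1)) ^ k * (q ^ (k + 1) - q ^ k) := by
          refine Nat.mul_le_mul_right _ ?_
          calc (∏ i : Fin k, (q ^ (k + 1) - q ^ ((Fin.castSucc i : Fin (k + 1)) : ℕ)))
              ≤ ∏ _i : Fin k, q ^ (k + 1) := Finset.prod_le_prod' fun i _ => Nat.sub_le _ _
            _ = (q ^ (k + 1)) ^ k := by rw [Finset.prod_const, Finset.card_univ, Fintype.card_fin]
      _ = (q - 1) * q ^ (k * k + 2 * k) := by
          rw [pow_succ q k, ← Nat.mul_sub_one, ← pow_succ, ← pow_mul]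
          rw [show (k + 1) * k = k * k + k by ring, show k * k + 2 * k = (k * k + k) + k by ring, pow_add]
          ring
  exact Nat.le_of_mul_le_mul_left h1 (by omega)

end card

/-- `q ≤ 2 ^ h`, `q = 2 h - 1` -/
theorem le_two_pow (h : ℕ) (h2 : 2 ≤ h) : 2 * h - 1 ≤ 2 ^ h := by
  induction h, h2 using Nat.le_induction with
  | base => norm_num
  | succ h h2 ih =>
    rw [pow_succ]
    omega

/-- the inequality for `n ≥ 5` -/
theorem num_big {h k : ℕ} (h2 : 2 ≤ h) (hk : 4 ≤ k) : (k * k + 2 * k) * h + 2 * k + 4 ≤ (2 * h - 1) ^ k := by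
  obtain ⟨m, rfl⟩ : ∃ m, h = m + 2 := ⟨h - 2, by omega⟩
  rw [show 2 * (m + 2) - 1 = 2 * m + 3 by omega]
  induction k, hk using Nat.le_induction with
  | base =>
    ring_nf
    nlinarith [Nat.zero_le (m ^ 4), Nat.zero_le (m ^ 3), Nat.zero_le (m ^ 2)]
  | succ k hk ih =>
    rw [pow_succ]
    have h3 : (2 * m + 3) ^ k * 3 ≤ (2 * m + 3) ^ k * (2 * m + 3) := Nat.mul_le_mul_left _ (by omega)
    refine le_trans ?_ h3
    have h4 : ((k + 1) * (k + 1) + 2 * (k + 1)) * (m + 2) + 2 * (k + 1) + 4 ≤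
        ((k * k + 2 * k) * (m + 2) + 2 * k + 4) * 3 := by
      nlinarith [Nat.zero_le (k * k * m), Nat.zero_le (k * m), Nat.mul_le_mul hk hk,
        Nat.mul_le_mul_right m (Nat.mul_le_mul hk hk), Nat.mul_le_mul_right m hk]
    exact h4.trans (Nat.mul_le_mul_right _ ih)

section main

variable {F : Type} [Field F] [Fintype F]

theorem ne_of_two (h2 : (2 : F) ≠ 0) : ∃ h, 2 ≤ h ∧ Nat.card F = 2 * h - 1 := by
  obtain ⟨p, hp⟩ := CharP.exists F
  obtain ⟨k, hpp, hk⟩ := FiniteField.card F p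
  have hodd : ¬ 2 ∣ Nat.card F := by
    rw [Nat.card_eq_fintype_card, hk]
    intro h
    have h3 : 2 ∣ p := Nat.prime_two.dvd_of_dvd_pow h
    have h4 : p = 2 := ((Nat.prime_dvd_prime_iff_eq Nat.prime_two hpp).1 h3).symm
    subst h4
    exact h2 (by exact_mod_cast CharP.cast_eq_zero F 2)
  have hq : 1 < Nat.card F := Finite.one_lt_card
  exact ⟨(Nat.card F + 1) / 2, by omega, by omega⟩

theorem numML_of_equiv {K : Type u} [Group K] {k : ℕ} (hk : 2 ≤ k) (h2 : (2 : F) ≠ 0)
    (hx : ¬ (k = 2 ∧ Nat.card F = 3)) (e : K ≃* Matrix.ProjectiveSpecialLinearGroup (Fin (k + 1)) F) :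
    NumML.{u, v} K := by
  obtain ⟨h, hh2, hq⟩ := ne_of_two h2
  have hlb : Heis.LB.{u, u, v} K (Nat.card F ^ k - 1) :=
    (PslLB.lb.{u, v} h2 (n := k + 1) (by omega) (m := Nat.card F ^ k - 1) (by simp)).congr e.symm
  have hrk : Rk.RK.{u} K (RkLin.rk (k + 1) + 2) :=
    ((RkPSL.rkAut h2 (n := k + 1) (by omega)).rk).of_equiv e.symm
  have hcard : Nat.card K ≤ 2 ^ ((k * k + 2 * k) * h) := by
    rw [Nat.card_congr e.toEquiv]
    refine (card_le k (by omega)).trans ?_
    rw [hq, mul_comm (k * k + 2 * k) h, pow_mul]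
    exact Nat.pow_le_pow_left (le_two_pow h hh2) _
  rcases Nat.lt_or_ge k 4 with hk4 | hk4
  · obtain rfl | rfl : k = 2 ∨ k = 3 := by omega
    · have hr : RkLin.rk 3 = 2 := by decide
      rw [hr] at hrk
      have hh3 : 3 ≤ h := by
        by_contra hlt
        exact hx ⟨rfl, by omega⟩
      refine NumML.of_card hlb hrk hcard ?_
      obtain ⟨m, rfl⟩ : ∃ m, h = m + 3 := ⟨h - 3, by omega⟩
      rw [hq, show 2 * (m + 3) - 1 = 2 * m + 5 by omega]
      have h5 : (2 * m + 5) ^ 2 - 1 = 4 * m * m + 20 * m + 24 := by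
        rw [show (2 * m + 5) ^ 2 = 4 * m * m + 20 * m + 24 + 1 by ring]
        exact Nat.add_sub_cancel _ _
      rw [h5]
      norm_num
      nlinarith [Nat.zero_le (m * m)]
    · by_cases h3 : h = 2
      · subst h3
        have hq3 : Nat.card F = 3 := by omega
        have hrk' : Rk.RK.{u} K 5 := by
          have h6 := (RkPSL.rkAut_odd h2 (n := 4) (by omega) (F := F) (by
            intro σ _
            have e3 : ZMod 3 ≃+* F := FiniteField.ringEquivOfCardEq (by
              rw [ZMod.card, ← hq3, Nat.card_eq_fintype_card])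
            have : Subsingleton (ZMod 3 ≃+* ZMod 3) := by
              refine ⟨fun a b => ?_⟩
              have := Subsingleton.elim (a : ZMod 3 →+* ZMod 3) (b : ZMod 3 →+* ZMod 3)
              exact RingEquiv.ext fun x => congrFun (congrArg (fun f : ZMod 3 →+* ZMod 3 => (f : ZMod 3 → ZMod 3)) this) x
            have h7 : (e3.trans (σ.trans e3.symm)) = RingEquiv.refl _ := Subsingleton.elim _ _
            refine RingEquiv.ext fun x => ?_
            have h8 := congrArg (fun f : ZMod 3 ≃+* ZMod 3 => f (e3.symm x)) h7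
            have h9 : e3.symm (σ (e3 (e3.symm x))) = e3.symm x := h8
            rw [e3.apply_symm_apply] at h9
            exact e3.symm.injective h9)).rk
          exact (h6.of_equiv e.symm).mono (by decide)
        refine NumML.of_card (N := 23) hlb hrk' ?_ (by rw [hq3]; norm_num)
        rw [Nat.card_congr e.toEquiv]
        have h := Cfsg.Agent.S0243.result (F := F) (q := 3) (by rw [← hq3, Nat.card_eq_fintype_card]) 4 (by norm_num)
        have h1 : Nat.gcd 4 (3 - 1) = 2 := by decide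
        have h2 : ∏ i : Fin 4, (3 ^ 4 - 3 ^ (i : ℕ)) = 24261120 := by decide
        rw [h1, h2] at h
        change Nat.card (Matrix.ProjectiveSpecialLinearGroup (Fin 4) F) ≤ _
        omega
      · have hr : RkLin.rk 4 = 4 := by decide
        rw [hr] at hrk
        refine NumML.of_card hlb hrk hcard ?_
        obtain ⟨m, rfl⟩ : ∃ m, h = m + 3 := ⟨h - 3, by omega⟩
        rw [hq, show 2 * (m + 3) - 1 = 2 * m + 5 by omega]
        have h5 : (2 * m + 5) ^ 3 - 1 = 8 * m * m * m + 60 * m * m + 150 * m + 124 := by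
          rw [show (2 * m + 5) ^ 3 = 8 * m * m * m + 60 * m * m + 150 * m + 124 + 1 by ring]
          exact Nat.add_sub_cancel _ _
        rw [h5]
        norm_num
        nlinarith [Nat.zero_le (m * m), Nat.zero_le (m * m * m)]
  · have hr : RkLin.rk (k + 1) = k := by
      unfold RkLin.rk
      rw [if_neg (by omega)]
      omega
    rw [hr] at hrk
    refine NumML.of_card hlb hrk hcard ?_
    have h5 := num_big hh2 hk4
    rw [← hq] at h5
    set X := Nat.card F ^ k
    set Y := (k * k + 2 * k) * h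
    have h6 : Y + 2 * (k + 2) - 1 ≤ X - 1 := by omega
    calc (k + 2 - 1) * (Y + 2 * (k + 2) - 1) ≤ (k + 1) * (X - 1) := Nat.mul_le_mul (by omega) h6
      _ < (k + 2) * (X - 1) := Nat.mul_lt_mul_of_pos_right (by omega) (by omega)

end main

/-- **`PSL_n(q)`, `q` odd**: `n = 2`, or `(n, q) = (3, 3)`, or `NumML` -/
theorem psl {K : Type u} [Group K] (h : OddChar @IsPSLChar K) :
    (∃ (F : Type) (_ : Field F) (_ : Fintype F), Odd (Fintype.card F) ∧ 3 < Fintype.card F ∧
      Nonempty (K ≃* Matrix.ProjectiveSpecialLinearGroup (Fin 2) F)) ∨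
    (∃ (F : Type) (_ : Field F) (_ : Fintype F), Fintype.card F = 3 ∧
      Nonempty (K ≃* Matrix.ProjectiveSpecialLinearGroup (Fin 3) F)) ∨ NumML.{u, v} K := by
  obtain ⟨p, hp, hp2, F, _, _, _, n, hn, h4, ⟨e⟩⟩ := h
  have h2 : (2 : F) ≠ 0 := by
    intro h0
    have h1 : ((2 : ℕ) : F) = 0 := by exact_mod_cast h0
    rw [CharP.cast_eq_zero_iff F p] at h1
    exact hp2 ((Nat.prime_dvd_prime_iff_eq hp Nat.prime_two).1 h1)
  rcases Nat.lt_or_ge n 3 with h3 | h3
  · left
    obtain rfl : n = 2 := by omega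
    obtain ⟨h, hh, hq⟩ := ne_of_two h2
    rw [Nat.card_eq_fintype_card] at hq
    have h5 := h4 rfl
    refine ⟨F, _, _, ?_, h5, ⟨e⟩⟩
    rw [hq, Nat.odd_iff]
    omega
  · right
    obtain ⟨k, rfl⟩ : ∃ k, n = k + 1 := ⟨n - 1, by omega⟩
    by_cases hx : k = 2 ∧ Nat.card F = 3
    · left
      obtain ⟨rfl, hF⟩ := hx
      exact ⟨F, _, _, by rw [← hF, Nat.card_eq_fintype_card], ⟨e⟩⟩
    · right
      exact numML_of_equiv (by omega) h2 hx e

end Cfsg.Agent.Omega.ML.OddPsl

end

section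


/-!
# (ML), the K-list end: a local criterion for `|A| ≤ 4` (helper600)

`Loc z P`: `P` is a Sylow 2-subgroup of `S`, `z` is the only involution of `C_S(P)` and of `O₂(C_S(z))`.
`AS.card_le_four_of_loc`: then `|A| ≤ 4` if `|X : S| ≤ 2`; `AS.index_dvd`: `|X : S|` divides `|Out(S)|`.
Examples: `L₃(3)`, `M₁₁`, `U₃(3)`.
-/

set_option autoImplicit false

namespace Cfsg.Agent.Omega.ML.RowLoc

open Subgroup Cfsg Cfsg.Agent.ZN Cfsg.Agent.Omega.ML.Rows
open Cfsg.Agent.MinSimple.VModule (o2_isPGroup o2_le le_o2 le_normalizer_o2)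

universe u

/-- `z` is the only involution of `C_S(P)`, `P` Sylow, and of the normal 2-subgroups of `C_S(z)` -/
structure Loc {S : Type*} [Group S] (z : S) (P : Subgroup S) : Prop where
  z1 : z ≠ 1
  zz : z * z = 1
  pP : IsPGroup 2 P
  odd : ¬ 2 ∣ P.index
  zc : ∀ p ∈ P, z * p = p * z
  uniq : ∀ x : S, (∀ p ∈ P, x * p = p * x) → x * x = 1 → x = 1 ∨ x = z
  oo : ∀ N : Subgroup S, IsPGroup 2 N → (∀ n ∈ N, n * z = z * n) →
    (∀ g, g * z = z * g → ∀ n ∈ N, g * n * g⁻¹ ∈ N) → ∀ n ∈ N, n * n = 1 → n = 1 ∨ n = z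

theorem Loc.of_equiv {S S' : Type*} [Group S] [Group S'] (e : S ≃* S') {z : S} {P : Subgroup S} (h : Loc z P) :
    Loc (e z) (P.map e.toMonoidHom) where
  z1 := fun h1 => h.z1 (e.injective (by rw [h1, map_one]))
  zz := by rw [← map_mul, h.zz, map_one]
  pP := h.pP.map _
  odd := by
    rw [index_map_of_bijective (f := e.toMonoidHom) e.bijective P]
    exact h.odd
  zc := by
    rintro _ ⟨p, hp, rfl⟩
    show e z * e p = e p * e z
    rw [← map_mul, h.zc p hp, map_mul]
  uniq := by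
    intro x hx hxx
    obtain ⟨w, rfl⟩ := e.surjective x
    have a1 : ∀ p ∈ P, w * p = p * w := by
      intro p hp
      have h1 : e w * e p = e p * e w := hx (e p) ⟨p, hp, rfl⟩
      rw [← map_mul, ← map_mul] at h1
      exact e.injective h1
    have a2 : w * w = 1 := by
      rw [← map_mul, ← map_one e] at hxx
      exact e.injective hxx
    rcases h.uniq w a1 a2 with h1 | h1
    · left; rw [h1, map_one]
    · right; rw [h1]
  oo := by
    intro N hN hc hn n hnN hnn
    obtain ⟨w, rfl⟩ := e.surjective n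
    have a1 : ∀ m ∈ N.comap e.toMonoidHom, m * z = z * m := by
      intro m hm
      have h1 : e m * e z = e z * e m := hc (e m) hm
      rw [← map_mul, ← map_mul] at h1
      exact e.injective h1
    have a2 : ∀ g, g * z = z * g → ∀ m ∈ N.comap e.toMonoidHom, g * m * g⁻¹ ∈ N.comap e.toMonoidHom := by
      intro g hg m hm
      show e (g * m * g⁻¹) ∈ N
      rw [map_mul, map_mul, map_inv]
      exact hn (e g) (by rw [← map_mul, ← map_mul, hg]) (e m) hm
    have a3 : w * w = 1 := by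
      rw [← map_mul, ← map_one e] at hnn
      exact e.injective hnn
    rcases h.oo (N.comap e.toMonoidHom) (hN.comap_of_injective _ e.injective) a1 a2 w hnN a3 with h1 | h1
    · left; rw [h1, map_one]
    · right; rw [h1]

variable {X : Type u} [Group X] {S T A : Subgroup X}

/-- `|X : S|` divides `|Out(S)|` -/
theorem AS.index_dvd (h : AS S T A) {n : ℕ} (hn : (MulAut.conj : S →* MulAut S).range.index ∣ n) : S.index ∣ n := by
  have hSn := h.norm
  have h1 : (MulAut.conj : S →* MulAut S).range.comap (MulAut.conjNormal (H := S)) = S := by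
    ext x
    constructor
    · rintro ⟨s, hs⟩
      have h2 : (s : X)⁻¹ * x ∈ centralizer (S : Set X) := by
        refine mem_centralizer_iff.2 fun y hy => ?_
        have h3 := congrArg (fun α : MulAut S => ((α ⟨y, hy⟩ : S) : X)) hs
        have h4 : (s : X) * y * (s : X)⁻¹ = x * y * x⁻¹ := by
          simpa [MulAut.conj_apply, MulAut.conjNormal_apply] using h3
        calc y * ((s : X)⁻¹ * x) = (s : X)⁻¹ * (s * y * (s : X)⁻¹) * x := by group
          _ = (s : X)⁻¹ * (x * y * x⁻¹) * x := by rw [h4]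
          _ = (s : X)⁻¹ * x * y := by group
      rw [h.cen, mem_bot, inv_mul_eq_one] at h2
      rw [← h2]
      exact s.2
    · intro hx
      refine ⟨⟨x, hx⟩, ?_⟩
      ext y
      simp [MulAut.conj_apply, MulAut.conjNormal_apply]
  have hInn : (MulAut.conj : S →* MulAut S).range.Normal := by
    refine ⟨?_⟩
    rintro _ ⟨s, rfl⟩ α
    refine ⟨α s, ?_⟩
    ext y
    simp [MulAut.conj_apply, MulAut.mul_apply]
  rw [← h1, index_comap]
  exact (relIndex_dvd_index_of_normal _ _).trans hn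

/-- **the local criterion** -/
theorem AS.card_le_four_of_loc [Finite X] (h : AS S T A) {z : S} {P : Subgroup S} (L : Loc z P)
    (hi : S.index ≤ 2) : Nat.card A ≤ 4 := by
  classical
  have : Fact (Nat.Prime 2) := ⟨Nat.prime_two⟩
  have hSn := h.norm
  -- a Sylow subgroup of `X` containing `P`, conjugate to `T`
  obtain ⟨Q0, hQ0⟩ := (L.pP.map S.subtype).exists_le_sylow
  have hTS : ∃ T0 : Sylow 2 X, (T0 : Subgroup X) = T := by
    refine ⟨h.two.toSylow h.syl, rfl⟩
  obtain ⟨T0, hT0⟩ := hTS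
  obtain ⟨g, hg⟩ := MulAction.exists_smul_eq X Q0 T0
  have hT : ∀ t, t ∈ T ↔ g⁻¹ * t * g ∈ (Q0 : Subgroup X) := by
    intro t
    rw [← hT0, ← hg, Sylow.coe_subgroup_smul, mem_pointwise_smul_iff_inv_smul_mem]
    simp [MulAut.smul_def, ← map_inv]
  -- `Q0 ∩ S = P`
  have hQS : ∀ x : S, (x : X) ∈ (Q0 : Subgroup X) → x ∈ P := by
    intro x hx
    set P0 : Sylow 2 S := L.pP.toSylow L.odd with hP0
    have h1 : (P : Subgroup S) ≤ (Q0 : Subgroup X).subgroupOf S := fun p hp => hQ0 ⟨p, hp, rfl⟩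
    have h2 : IsPGroup 2 ((Q0 : Subgroup X).subgroupOf S) :=
      Q0.isPGroup'.comap_of_injective _ S.subtype_injective
    have h3 : (Q0 : Subgroup X).subgroupOf S = P := P0.is_maximal' h2 h1
    rw [← h3]
    exact hx
  -- conjugation
  have hS : ∀ {x : X} (y : X), x ∈ S → y * x * y⁻¹ ∈ S := fun y hx => hSn.conj_mem _ hx y
  -- `Q0` centralises `z`
  have hz0 : ∀ u ∈ (Q0 : Subgroup X), u * (z : X) = z * u := by
    intro u hu
    have hu' : u⁻¹ ∈ (Q0 : Subgroup X) := inv_mem hu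
    have h1 := L.uniq ⟨u * z * u⁻¹, hS u z.2⟩ (fun p hp => ?_) ?_
    · rcases h1 with h1 | h1
      · exfalso
        apply L.z1
        have h2 : u * (z : X) * u⁻¹ = 1 := congrArg Subtype.val h1
        apply Subtype.ext
        calc (z : X) = u⁻¹ * (u * z * u⁻¹) * u := by group
          _ = 1 := by rw [h2]; group
      · exact mul_inv_eq_iff_eq_mul.1 (congrArg Subtype.val h1)
    · have hpQ : (p : X) ∈ (Q0 : Subgroup X) := hQ0 ⟨p, hp, rfl⟩
      have h2 : (⟨u⁻¹ * p * u⁻¹⁻¹, hS u⁻¹ p.2⟩ : S) ∈ P :=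
        hQS _ (mul_mem (mul_mem hu' hpQ) (inv_mem hu'))
      have h3 := congrArg Subtype.val (L.zc _ h2)
      have h4 : (z : X) * (u⁻¹ * p * u⁻¹⁻¹) = (u⁻¹ * p * u⁻¹⁻¹) * z := h3
      apply Subtype.ext
      show (u * (z : X) * u⁻¹) * p = p * (u * z * u⁻¹)
      calc (u * (z : X) * u⁻¹) * p = u * (z * (u⁻¹ * p * u⁻¹⁻¹)) * u⁻¹ := by group
        _ = u * ((u⁻¹ * p * u⁻¹⁻¹) * z) * u⁻¹ := by rw [h4]
        _ = p * (u * z * u⁻¹) := by group
    · apply Subtype.ext
      show (u * (z : X) * u⁻¹) * (u * z * u⁻¹) = 1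
      calc (u * (z : X) * u⁻¹) * (u * z * u⁻¹) = u * (z * z) * u⁻¹ := by group
        _ = 1 := by
            have h5 : (z : X) * z = 1 := congrArg Subtype.val L.zz
            rw [h5]; group
  -- `z' = g z g⁻¹`, `R = C(z')`
  set z' : X := g * z * g⁻¹ with hz'
  set R : Subgroup X := centralizer ({z'} : Set X) with hR
  have hRm : ∀ x, x ∈ R ↔ x * z' = z' * x := fun x => mem_centralizer_singleton_iff
  have hTR : T ≤ R := by
    intro t ht
    rw [hRm]
    have h1 := hz0 _ ((hT t).1 ht)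
    calc t * (g * z * g⁻¹) = g * ((g⁻¹ * t * g) * z) * g⁻¹ := by group
      _ = g * (z * (g⁻¹ * t * g)) * g⁻¹ := by rw [h1]
      _ = g * z * g⁻¹ * t := by group
  have hz'1 : z' ≠ 1 := by
    intro h1
    apply L.z1
    apply Subtype.ext
    calc (z : X) = g⁻¹ * z' * g := by rw [hz']; group
      _ = 1 := by rw [h1]; group
  have hRt : R ≠ ⊤ := by
    intro h1
    apply hz'1
    have h2 : z' ∈ centralizer (S : Set X) := by
      refine mem_centralizer_iff.2 fun y _ => ?_
      exact (hRm y).1 (h1 ▸ mem_top y)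
    rwa [h.cen, mem_bot] at h2
  have hAR := h.low R hTR hRt
  -- `A ∩ S ≤ ⟨z'⟩`
  have hAS : ∀ b ∈ A, b ∈ S → b = 1 ∨ b = z' := by
    intro b hb hbS
    let c : S →* X := (MulAut.conj g).toMonoidHom.comp S.subtype
    have hc : ∀ s : S, c s = g * s * g⁻¹ := fun s => rfl
    have hci : Function.Injective c := (MulAut.conj g).injective.comp S.subtype_injective
    have hb' : g⁻¹ * b * g ∈ S := by
      have := hS g⁻¹ hbS
      rwa [inv_inv] at this
    have a1 : ∀ n ∈ (o2 R).comap c, n * z = z * n := by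
      intro n hn
      have h1 := (hRm _).1 (o2_le R hn)
      rw [hc, hz'] at h1
      apply Subtype.ext
      show (n : X) * z = z * n
      calc (n : X) * z = g⁻¹ * (g * n * g⁻¹ * (g * z * g⁻¹)) * g := by group
        _ = g⁻¹ * (g * z * g⁻¹ * (g * n * g⁻¹)) * g := by rw [h1]
        _ = z * n := by group
    have a2 : ∀ k, k * z = z * k → ∀ n ∈ (o2 R).comap c, k * n * k⁻¹ ∈ (o2 R).comap c := by
      intro k hk n hn
      show c (k * n * k⁻¹) ∈ o2 R
      have hk' : (k : X) * z = z * k := congrArg Subtype.val hk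
      have hkR : c k ∈ R := by
        rw [hRm, hc, hz']
        calc g * k * g⁻¹ * (g * z * g⁻¹) = g * (k * z) * g⁻¹ := by group
          _ = g * (z * k) * g⁻¹ := by rw [hk']
          _ = g * z * g⁻¹ * (g * k * g⁻¹) := by group
      have h1 := (mem_normalizer_iff.1 (le_normalizer_o2 R hkR) (c n)).1 hn
      rwa [map_mul, map_mul, map_inv]
    have a3 : (⟨g⁻¹ * b * g, hb'⟩ : S) ∈ (o2 R).comap c := by
      show g * (g⁻¹ * b * g) * g⁻¹ ∈ o2 R
      have : g * (g⁻¹ * b * g) * g⁻¹ = b := by group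
      rw [this]
      exact hAR hb
    have a4 : (⟨g⁻¹ * b * g, hb'⟩ : S) * ⟨g⁻¹ * b * g, hb'⟩ = 1 := by
      apply Subtype.ext
      show (g⁻¹ * b * g) * (g⁻¹ * b * g) = 1
      calc (g⁻¹ * b * g) * (g⁻¹ * b * g) = g⁻¹ * (b * b) * g := by group
        _ = 1 := by rw [h.el b hb]; group
    rcases L.oo ((o2 R).comap c) ((o2_isPGroup R).comap_of_injective _ hci) a1 a2 _ a3 a4 with h1 | h1
    · left
      have h2 : g⁻¹ * b * g = 1 := congrArg Subtype.val h1
      calc b = g * (g⁻¹ * b * g) * g⁻¹ := by group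
        _ = 1 := by rw [h2]; group
    · right
      have h2 : g⁻¹ * b * g = z := congrArg Subtype.val h1
      calc b = g * (g⁻¹ * b * g) * g⁻¹ := by group
        _ = z' := by rw [h2]
  -- counting
  have h1 : Nat.card (S.subgroupOf A) ≤ 2 := by
    have h2 : ((S.subgroupOf A : Subgroup A) : Set A) ⊆ Subtype.val ⁻¹' ({1, z'} : Set X) := by
      intro b hb
      rcases hAS b b.2 (mem_subgroupOf.1 hb) with e | e
      · left; exact e
      · right; exact e
    have h3 : Nat.card (S.subgroupOf A) = (((S.subgroupOf A : Subgroup A) : Set A)).ncard := rfl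
    rw [h3, ← Set.ncard_image_of_injective _ (Subtype.val_injective (p := fun x => x ∈ A))]
    refine (Set.ncard_le_ncard (t := ({1, z'} : Set X)) ?_ (Set.toFinite _)).trans ?_
    · rintro _ ⟨b, hb, rfl⟩
      exact h2 hb
    · exact (Set.ncard_insert_le _ _).trans (by rw [Set.ncard_singleton])
  have h4 : Nat.card (S.subgroupOf A) * (S.subgroupOf A).index = Nat.card A := card_mul_index _
  have h5 : (S.subgroupOf A).index ≤ 2 := by
    have h6 : S.relIndex A ∣ S.index := relIndex_dvd_index_of_normal _ _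
    have h7 : 0 < S.index := Nat.pos_of_ne_zero index_ne_zero_of_finite
    exact (Nat.le_of_dvd h7 h6).trans hi
  calc Nat.card A = Nat.card (S.subgroupOf A) * (S.subgroupOf A).index := h4.symm
    _ ≤ 2 * 2 := Nat.mul_le_mul h1 h5

end Cfsg.Agent.Omega.ML.RowLoc

end
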