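import Cfsg.Agent.Mrg.Omega.NOThree.NoOver
import Cfsg.Agent.Mrg.Omega.TwoF.SignLift
import Cfsg.Agent.GH.L2AutSyl
import Cfsg.Agent.GTwoFour.Tools
import Cfsg.Agent.HKS.PGammaInv
import Cfsg.Agent.SignalizersComponents.PCompCore


/-!
# (ML), K-list end: the row `PSL₂(q)`, `q` odd, `q ≠ 9`

`deadG` : `DeadG` for `PSL₂(F)`, `|F| > 3` odd, `|F| ≠ 9`.
If `q` is not a square, `Aut(PSL₂(q))` has 2-rank two (`RkPSL.rkAut_two_odd`).  If `q` is a square, `R = C_X(t)`, `t` an
involution of `S ∩ Z(T)`: `A ≤ O₂(R)` centralises an element of odd order of the torus of `C_S(t)`.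
-/

set_option autoImplicit false
set_option linter.unusedSectionVars false
set_option linter.unusedSimpArgs false

namespace Cfsg.Agent.Omega.ML.RowLTwoOdd

open Subgroup Cfsg Matrix Cfsg.Agent.GH.L2Aut Cfsg.Agent.Lib.SL2Mat Cfsg.Agent.Lib.AutSL2
  Cfsg.Agent.Lib.AutSL2Out Cfsg.Agent.Omega.ML.Rows
open Cfsg.Agent.MinSimple.VModule (o2_isPGroup o2_le le_o2 le_normalizer_o2)
open Cfsg.Agent.ZN (o2)

/-- a group in which all nontrivial elements are equal -/
theorem card_le_two {G : Type*} [Group G] (h : ∀ x y : G, x ≠ 1 → y ≠ 1 → x = y) : Nat.card G ≤ 2 := by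
  classical
  by_cases h1 : ∀ x : G, x = 1
  · have : Subsingleton G := ⟨fun x y => by rw [h1 x, h1 y]⟩
    rw [Nat.card_unique]
    norm_num
  · push Not at h1
    obtain ⟨g, hg⟩ := h1
    have h2 : (Set.univ : Set G) ⊆ {1, g} := by
      intro x _
      by_cases hx : x = 1
      · left; exact hx
      · right; exact h x g hx hg
    rw [← Set.ncard_univ]
    exact (Set.ncard_le_ncard h2 (Set.toFinite _)).trans ((Set.ncard_insert_le 1 {g}).trans (by rw [Set.ncard_singleton]))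

section sl

variable {F : Type*} [Field F]

local notation "SL2" => Matrix.SpecialLinearGroup (Fin 2) F
local notation "M2" => Matrix (Fin 2) (Fin 2) F

/-- diagonal elements -/
def dg (a : Fˣ) : SL2 := mk (a : F) 0 0 ((a⁻¹ : Fˣ) : F) (by simp)

theorem dg_mul (a b : Fˣ) : dg a * dg b = dg (a * b) := by
  refine ext_ent ?_ ?_ ?_ ?_ <;> rw [ent_mul] <;> simp [dg]
  rw [mul_comm]

theorem dg_one : dg (1 : Fˣ) = 1 := by
  refine ext_ent ?_ ?_ ?_ ?_ <;> simp [dg]

theorem dg_pow (a : Fˣ) (n : ℕ) : dg a ^ n = dg (a ^ n) := by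
  induction n with
  | zero => rw [pow_zero, pow_zero, dg_one]
  | succ n ih => rw [pow_succ, ih, dg_mul, pow_succ]

theorem dg_injective : Function.Injective (dg : Fˣ → SL2) := by
  intro a b h
  have := congrArg (fun x : SL2 => ent x 0 0) h
  exact Units.ext this

theorem dg_sq {i : Fˣ} (hi : (i : F) * i = -1) : dg i * dg i = -1 := by
  rw [dg_mul]
  have h1 : i * i = -1 := Units.ext (by rw [Units.val_mul, hi]; rfl)
  rw [h1]
  have h1e : ∀ a b : Fin 2, ent (-1 : SL2) a b = -ent (1 : SL2) a b := fun a b => rfl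
  refine ext_ent ?_ ?_ ?_ ?_ <;> rw [h1e] <;> simp [dg]

/-- elements commuting with `dg i` up to sign, `i² = -1` -/
theorem of_comm (h2 : (2 : F) ≠ 0) {i : Fˣ} (hi : (i : F) * i = -1) {x : SL2}
    (h : x * dg i = dg i * x ∨ x * dg i = -(dg i * x)) : (∃ a : Fˣ, x = dg a) ∨ x * x = -1 := by
  have hinv : ((i⁻¹ : Fˣ) : F) = -i := by
    have h3 : (i : F) * ((i⁻¹ : Fˣ) : F) = 1 := by simp
    have h4 : (i : F) ≠ 0 := i.ne_zero
    apply mul_left_cancel₀ h4
    rw [h3, mul_neg, hi, neg_neg]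
  have hi0 : (i : F) ≠ 0 := i.ne_zero
  have e00 := fun (y z : SL2) (h : y = z) => congrArg (fun x : SL2 => ent x 0 0) h
  have e01 := fun (y z : SL2) (h : y = z) => congrArg (fun x : SL2 => ent x 0 1) h
  have e10 := fun (y z : SL2) (h : y = z) => congrArg (fun x : SL2 => ent x 1 0) h
  have e11 := fun (y z : SL2) (h : y = z) => congrArg (fun x : SL2 => ent x 1 1) h
  rcases h with h | h
  · left
    have h01 : ent x 0 1 = 0 := by
      have := e01 _ _ h
      simp only [ent_mul, dg, mk_00, mk_01, mk_10, mk_11, mul_zero, zero_mul, zero_add, add_zero, hinv] at this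
      have h3 : 2 * ((i : F) * ent x 0 1) = 0 := by linear_combination -this
      exact (mul_eq_zero.1 ((mul_eq_zero.1 h3).resolve_left h2)).resolve_left hi0
    have h10 : ent x 1 0 = 0 := by
      have := e10 _ _ h
      simp only [ent_mul, dg, mk_00, mk_01, mk_10, mk_11, mul_zero, zero_mul, zero_add, add_zero, hinv] at this
      have h3 : 2 * ((i : F) * ent x 1 0) = 0 := by linear_combination this
      exact (mul_eq_zero.1 ((mul_eq_zero.1 h3).resolve_left h2)).resolve_left hi0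
    have hd := det_eq x
    rw [h01, zero_mul, sub_zero] at hd
    refine ⟨Units.mk (ent x 0 0) (ent x 1 1) hd (by rw [mul_comm]; exact hd), ?_⟩
    exact ext_ent rfl h01 h10 rfl
  · right
    have hneg : ∀ (y : SL2) (a b : Fin 2), ent (-y) a b = -ent y a b := fun y a b => rfl
    have h00 : ent x 0 0 = 0 := by
      have := e00 _ _ h
      simp only [hneg, ent_mul, dg, mk_00, mk_01, mk_10, mk_11, mul_zero, zero_mul, zero_add, add_zero, hinv] at this
      have h3 : 2 * ((i : F) * ent x 0 0) = 0 := by linear_combination this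
      exact (mul_eq_zero.1 ((mul_eq_zero.1 h3).resolve_left h2)).resolve_left hi0
    have h11 : ent x 1 1 = 0 := by
      have := e11 _ _ h
      simp only [hneg, ent_mul, dg, mk_00, mk_01, mk_10, mk_11, mul_zero, zero_mul, zero_add, add_zero, hinv] at this
      have h3 : 2 * ((i : F) * ent x 1 1) = 0 := by linear_combination -this
      exact (mul_eq_zero.1 ((mul_eq_zero.1 h3).resolve_left h2)).resolve_left hi0
    have hd := det_eq x
    rw [h00, zero_mul, zero_sub] at hd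
    have h1e : ∀ a b : Fin 2, ent (-1 : SL2) a b = -ent (1 : SL2) a b := fun a b => rfl
    refine ext_ent ?_ ?_ ?_ ?_ <;> rw [ent_mul, h1e]
    · rw [h00, ent_one_00]; linear_combination -hd
    · rw [h00, h11, ent_one_01]; ring
    · rw [h00, h11, ent_one_10]; ring
    · rw [h11, ent_one_11]; linear_combination -hd

end sl

section rep

variable {F : Type*} [Field F] {L : Type*} [Group L] (R : GH.L2Aut.Rep F L)

local notation "SL2" => Matrix.SpecialLinearGroup (Fin 2) F

theorem pi_dg_sq {i : Fˣ} (hi : (i : F) * i = -1) : R.π (dg i) * R.π (dg i) = 1 := by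
  rw [← map_mul, dg_sq hi, R.ker]
  exact Or.inr rfl

theorem pi_dg_ne {i : Fˣ} (hi : (i : F) * i = -1) : R.π (dg i) ≠ 1 := by
  intro h
  rcases (R.ker _).1 h with h1 | h1
  · have h3 := dg_sq hi
    rw [h1, one_mul] at h3
    exact R.neg_one_ne_one h3.symm
  · have h3 := dg_sq hi
    rw [h1, neg_mul_neg, one_mul] at h3
    exact R.neg_one_ne_one h3.symm

/-- elements of odd order commuting with the involution `π (dg i)` -/
theorem exists_dg {i : Fˣ} (hi : (i : F) * i = -1) {y : L} (hy : y * R.π (dg i) = R.π (dg i) * y) {r : ℕ}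
    (hr : Odd r) (hyr : y ^ r = 1) : ∃ a : Fˣ, y = R.π (dg a) := by
  obtain ⟨x, rfl⟩ := R.surj y
  rw [← map_mul, ← map_mul, R.π_eq_iff] at hy
  rcases of_comm R.two hi hy with ⟨a, rfl⟩ | h
  · exact ⟨a, rfl⟩
  · have h1 : R.π x * R.π x = 1 := by
      rw [← map_mul, h, R.ker]
      exact Or.inr rfl
    obtain ⟨k, rfl⟩ := hr
    rw [pow_succ, pow_mul, pow_two, h1, one_pow, one_mul] at hyr
    exact ⟨1, by rw [dg_one, map_one, hyr]⟩

theorem pi_dg_comm (a b : Fˣ) : R.π (dg a) * R.π (dg b) = R.π (dg b) * R.π (dg a) := by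
  rw [← map_mul, ← map_mul, dg_mul, dg_mul, mul_comm]

/-- an element of `GL₂` fixing a diagonal element of odd order is diagonal -/
theorem diag_of_fix [Finite F] {z : Fˣ} {r : ℕ} (hr : Odd r) (hzr : z ^ r = 1) (hz : z ≠ 1) {g : GL (Fin 2) F}
    (hg : R.gl g (R.π (dg z)) = R.π (dg z)) : g.1 0 1 = 0 ∧ g.1 1 0 = 0 := by
  rw [R.gl_apply, R.π_eq_iff] at hg
  have hx : dg z ^ r = 1 := by rw [dg_pow, hzr, dg_one]
  rcases hg with hg | hg
  · have h1 := of_conjGL_eq hg
    have hz2 : (z : F) - ((z⁻¹ : Fˣ) : F) ≠ 0 := by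
      intro h3
      apply hz
      have h4 : z = z⁻¹ := Units.ext (sub_eq_zero.1 h3)
      have h5 : z * z = 1 := by nth_rw 2 [h4]; exact mul_inv_cancel z
      obtain ⟨k, rfl⟩ := hr
      rw [pow_succ, pow_mul, pow_two, h5, one_pow, one_mul] at hzr
      exact hzr
    have e01 := congrArg (fun x : Matrix (Fin 2) (Fin 2) F => x 0 1) h1
    have e10 := congrArg (fun x : Matrix (Fin 2) (Fin 2) F => x 1 0) h1
    simp only [mat_mul] at e01 e10
    have d00 : (dg z : SL2).1 0 0 = (z : F) := rfl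
    have d01 : (dg z : SL2).1 0 1 = 0 := rfl
    have d10 : (dg z : SL2).1 1 0 = 0 := rfl
    have d11 : (dg z : SL2).1 1 1 = ((z⁻¹ : Fˣ) : F) := rfl
    rw [d00, d01, d11] at e01
    rw [d00, d10, d11] at e10
    constructor
    · have h3 : g.1 0 1 * ((z : F) - ((z⁻¹ : Fˣ) : F)) = 0 := by linear_combination -e01
      exact (mul_eq_zero.1 h3).resolve_right hz2
    · have h3 : g.1 1 0 * ((z : F) - ((z⁻¹ : Fˣ) : F)) = 0 := by linear_combination e10
      exact (mul_eq_zero.1 h3).resolve_right hz2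
  · exfalso
    have h1 : (-(dg z)) ^ r = (1 : SL2) := by rw [← hg, ← map_pow, hx, map_one]
    rw [Odd.neg_pow hr, hx] at h1
    exact R.neg_one_ne_one h1

/-- two involutory linear automorphisms fixing the same diagonal element are equal -/
theorem eq_of_fix [Finite F] {z : Fˣ} {r : ℕ} (hr : Odd r) (hzr : z ^ r = 1) (hz : z ≠ 1) {α β : MulAut L}
    (hα : α ∈ R.PGL) (hβ : β ∈ R.PGL) (hα2 : α * α = 1) (hβ2 : β * β = 1) (hα1 : α ≠ 1) (hβ1 : β ≠ 1)
    (hαz : α (R.π (dg z)) = R.π (dg z)) (hβz : β (R.π (dg z)) = R.π (dg z)) : α = β := by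
  obtain ⟨g, rfl⟩ := R.mem_PGL.1 hα
  obtain ⟨k, rfl⟩ := R.mem_PGL.1 hβ
  have key : ∀ g : GL (Fin 2) F, R.gl g * R.gl g = 1 → R.gl g ≠ 1 → R.gl g (R.π (dg z)) = R.π (dg z) →
      g.1 0 1 = 0 ∧ g.1 1 0 = 0 ∧ g.1 1 1 = -g.1 0 0 := by
    intro g h2 h1 hf
    obtain ⟨h01, h10⟩ := diag_of_fix R hr hzr hz hf
    refine ⟨h01, h10, ?_⟩
    rw [← map_mul, R.gl_eq_one_iff] at h2
    obtain ⟨c, hc⟩ := h2
    have hc' : g.1 * g.1 = c • (1 : Matrix (Fin 2) (Fin 2) F) := hc
    have e00 := congrArg (fun x : Matrix (Fin 2) (Fin 2) F => x 0 0) hc'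
    have e11 := congrArg (fun x : Matrix (Fin 2) (Fin 2) F => x 1 1) hc'
    simp only [mat_mul, h01, h10, Matrix.smul_apply, Matrix.one_apply_eq, smul_eq_mul, mul_one, mul_zero,
      zero_mul, add_zero, zero_add] at e00 e11
    have h3 : (g.1 1 1 - g.1 0 0) * (g.1 1 1 + g.1 0 0) = 0 := by linear_combination e11 - e00
    rcases mul_eq_zero.1 h3 with h4 | h4
    · exfalso
      apply h1
      rw [R.gl_eq_one_iff]
      refine ⟨g.1 0 0, mat_ext ?_ ?_ ?_ ?_⟩
      · simp
      · simp [h01]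
      · simp [h10]
      · simp [sub_eq_zero.1 h4]
    · linear_combination h4
  obtain ⟨a01, a10, a11⟩ := key g hα2 hα1 hαz
  obtain ⟨b01, b10, b11⟩ := key k hβ2 hβ1 hβz
  have h1 : R.gl g * R.gl k = 1 := by
    rw [← map_mul, R.gl_eq_one_iff]
    refine ⟨g.1 0 0 * k.1 0 0, ?_⟩
    change g.1 * k.1 = _
    refine mat_ext ?_ ?_ ?_ ?_
    · simp [mat_mul, a01]
    · simp [mat_mul, a01, b01]
    · simp [mat_mul, a10, b10]
    · simp [mat_mul, a10, a11, b11]
  calc R.gl g = R.gl g * (R.gl k * R.gl k) := by rw [hβ2, mul_one]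
    _ = R.gl k := by rw [← mul_assoc, h1, one_mul]

/-- elementary abelian groups of automorphisms fixing a diagonal element of odd order -/
theorem card_le_four [Finite F] [Finite L] {z : Fˣ} {r : ℕ} (hr : Odd r) (hzr : z ^ r = 1) (hz : z ≠ 1)
    (A : Subgroup (MulAut L)) (hA : ∀ α ∈ A, α * α = 1) (hf : ∀ α ∈ A, α (R.π (dg z)) = R.π (dg z)) :
    Nat.card A ≤ 4 := by
  have : Finite (MulAut L) := Finite.of_injective (fun f : MulAut L => (f : L → L)) DFunLike.coe_injective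
  let φ : A →* (F ≃+* F) := R.fld.comp A.subtype
  have h1 : Nat.card φ.ker ≤ 2 := by
    refine card_le_two fun x y hx hy => ?_
    have hx1 : ((x : A) : MulAut L) ≠ 1 := fun h => hx (Subtype.ext (Subtype.ext h))
    have hy1 : ((y : A) : MulAut L) ≠ 1 := fun h => hy (Subtype.ext (Subtype.ext h))
    have hxP : ((x : A) : MulAut L) ∈ R.PGL := R.mem_PGL_iff_fld.2 (MonoidHom.mem_ker.1 x.2)
    have hyP : ((y : A) : MulAut L) ∈ R.PGL := R.mem_PGL_iff_fld.2 (MonoidHom.mem_ker.1 y.2)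
    exact Subtype.ext (Subtype.ext (eq_of_fix R hr hzr hz hxP hyP (hA _ x.1.2) (hA _ y.1.2) hx1 hy1
      (hf _ x.1.2) (hf _ y.1.2)))
  have h2 : Nat.card φ.range ≤ 2 := by
    refine card_le_two fun x y hx hy => ?_
    obtain ⟨x, a, rfl⟩ := x
    obtain ⟨y, b, rfl⟩ := y
    have hx1 : φ a ≠ 1 := fun h => hx (Subtype.ext h)
    have hy1 : φ b ≠ 1 := fun h => hy (Subtype.ext h)
    have hsq : ∀ a : A, φ a * φ a = 1 := fun a => by
      rw [← map_mul]
      have : a * a = 1 := Subtype.ext (hA a a.2)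
      rw [this, map_one]
    exact Subtype.ext (TwoF.RkPSL.field_inv_unique (hsq a) (hsq b) hx1 hy1)
  have h3 : Nat.card φ.ker * Nat.card φ.range = Nat.card A := by
    rw [← Subgroup.index_ker]
    exact Subgroup.card_mul_index _
  calc Nat.card A = Nat.card φ.ker * Nat.card φ.range := h3.symm
    _ ≤ 2 * 2 := Nat.mul_le_mul h1 h2

/-- conjugate of a representation -/
noncomputable def conjRep (g : L) : GH.L2Aut.Rep F L where
  π := (MulAut.conj g).toMonoidHom.comp R.π
  surj := (MulAut.conj g).surjective.comp R.surj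
  two := R.two
  ker x := by
    rw [← R.ker]
    exact (MulAut.conj g).map_eq_one_iff

end rep

/-- **the group-theoretic core**: `S ≅ PSL₂(F)`, `-1` a square, `r` an odd divisor of `|F| - 1` -/
theorem card_le_four_of {X : Type*} [Group X] [Finite X] {S T A : Subgroup X} (h : AS S T A) {F : Type*} [Field F]
    [Finite F] (R : GH.L2Aut.Rep F S) {i : Fˣ} (hi : (i : F) * i = -1) {z : Fˣ} {r : ℕ} (hr : Odd r) (hzr : z ^ r = 1)
    (hz : z ≠ 1) : Nat.card A ≤ 4 := by
  have hS := h.norm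
  have : Fact (Nat.Prime 2) := ⟨Nat.prime_two⟩
  -- an involution of `S` central in `T`
  have hTS : (T ⊓ S : Subgroup X) ≠ ⊥ := by
    intro h0
    have h1 := SignalizersComponents.PCompCore.relIndex_dvd_index_of_normal_right T S
    rw [← inf_relIndex_right, h0, relIndex_bot_left] at h1
    apply h.syl
    refine dvd_trans ?_ h1
    have h2 : orderOf (R.π (dg i)) = 2 :=
      orderOf_eq_prime (by rw [pow_two]; exact pi_dg_sq R hi) (pi_dg_ne R hi)
    rw [← h2]
    exact orderOf_dvd_natCard _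
  have hn : ((T ⊓ S).subgroupOf T).Normal := by
    rw [inf_subgroupOf_left]
    exact hS.subgroupOf T
  have hne : (T ⊓ S).subgroupOf T ≠ ⊥ := by
    intro h0
    apply hTS
    rw [← map_subgroupOf_eq_of_le (inf_le_left : T ⊓ S ≤ T), h0, Subgroup.map_bot]
  obtain ⟨t', ht'⟩ : ∃ t' : X, t' ∈ T ⊓ S ∧ (∀ x ∈ T, x * t' = t' * x) ∧ t' ≠ 1 := by
    obtain ⟨v, hv1, hv2, hv3⟩ := GTwoFour.Tools.exists_mem_center_of_normal h.two _ hne
    refine ⟨v, hv1, fun x hx => ?_, fun h0 => hv3 (Subtype.ext h0)⟩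
    exact congrArg Subtype.val (mem_center_iff.1 hv2 ⟨x, hx⟩)
  obtain ⟨ht1, ht2, ht3⟩ := ht'
  obtain ⟨t, htT, htS, htc, htt, ht1'⟩ : ∃ t : X, t ∈ T ∧ t ∈ S ∧ (∀ x ∈ T, x * t = t * x) ∧ t * t = 1 ∧ t ≠ 1 := by
    obtain ⟨k, hk⟩ := h.two ⟨t', ht1.1⟩
    have hk' : t' ^ 2 ^ k = 1 := congrArg Subtype.val hk
    have hord : 2 ∣ orderOf t' := by
      obtain ⟨j, -, hj⟩ := (Nat.dvd_prime_pow Nat.prime_two).1 (orderOf_dvd_of_pow_eq_one hk')
      rcases Nat.eq_zero_or_pos j with rfl | hj0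
      · rw [pow_zero, orderOf_eq_one_iff] at hj
        exact absurd hj ht3
      · rw [hj]; exact dvd_pow_self 2 hj0.ne'
    obtain ⟨m, hm⟩ := hord
    have hpos : 0 < orderOf t' := orderOf_pos t'
    refine ⟨t' ^ m, pow_mem ht1.1 m, pow_mem ht1.2 m, fun x hx => ?_, ?_, ?_⟩
    · exact (show Commute x t' from ht2 x hx).pow_right m
    · rw [← pow_add, ← two_mul, ← hm, pow_orderOf_eq_one]
    · intro h0
      have := Nat.le_of_dvd (by omega) (orderOf_dvd_of_pow_eq_one h0)
      omega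
  -- a representation with `t = π (dg i)`
  obtain ⟨g, hg⟩ := R.inv_conj (pi_dg_sq R hi) (pi_dg_ne R hi) (t := (⟨t, htS⟩ : S))
    (Subtype.ext htt) (fun h0 => ht1' (congrArg Subtype.val h0))
  let R' : GH.L2Aut.Rep F S := conjRep R g
  have hRt : R'.π (dg i) = (⟨t, htS⟩ : S) := by
    change g * R.π (dg i) * g⁻¹ = _
    exact hg
  -- `R₁ = C_X(t)`
  have hTR : T ≤ centralizer ({t} : Set X) := fun x hx => mem_centralizer_singleton_iff.2 (htc x hx)
  have hRne : centralizer ({t} : Set X) ≠ ⊤ := by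
    intro h0
    apply ht1'
    have h1 : t ∈ centralizer (S : Set X) := by
      rw [mem_centralizer_iff]
      intro y _
      have : y ∈ centralizer ({t} : Set X) := by rw [h0]; exact mem_top y
      exact mem_centralizer_singleton_iff.1 this
    rwa [h.cen, mem_bot] at h1
  have hAR := h.low _ hTR hRne
  set Q := o2 (centralizer ({t} : Set X)) with hQ
  set c : S := R'.π (dg z) with hc
  have hct : (c : X) * t = t * c := by
    have h1 := pi_dg_comm R' z i
    rw [hRt] at h1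
    exact congrArg Subtype.val h1
  have hcR : (c : X) ∈ centralizer ({t} : Set X) := mem_centralizer_singleton_iff.2 hct
  have hcr : c ^ r = 1 := by rw [hc, ← map_pow, dg_pow, hzr, dg_one, map_one]
  -- `A` centralises `c`
  have hAc : ∀ a ∈ A, a * (c : X) * a⁻¹ = c := by
    intro a ha
    have haQ : a ∈ Q := hAR ha
    have haR : a ∈ centralizer ({t} : Set X) := o2_le _ haQ
    let k : S := ⟨a * (c : X) * a⁻¹, hS.conj_mem _ c.2 a⟩
    have hkt : k * R'.π (dg i) = R'.π (dg i) * k := by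
      rw [hRt]
      apply Subtype.ext
      change a * (c : X) * a⁻¹ * t = t * (a * (c : X) * a⁻¹)
      have h1 : a * t = t * a := mem_centralizer_singleton_iff.1 haR
      have h2 : a⁻¹ * t = t * a⁻¹ := by
        rw [inv_mul_eq_iff_eq_mul, ← mul_assoc, h1, mul_inv_cancel_right]
      calc a * (c : X) * a⁻¹ * t = a * (c : X) * (a⁻¹ * t) := by group
        _ = a * ((c : X) * t) * a⁻¹ := by rw [h2]; group
        _ = a * t * (c : X) * a⁻¹ := by rw [hct]; group
        _ = t * (a * (c : X) * a⁻¹) := by rw [h1]; group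
    have hkr : k ^ r = 1 := by
      apply Subtype.ext
      change (a * (c : X) * a⁻¹) ^ r = 1
      rw [conj_pow]
      have : (c : X) ^ r = 1 := congrArg Subtype.val hcr
      rw [this, mul_one, mul_inv_cancel]
    obtain ⟨μ, hμ⟩ := exists_dg R' hi hkt hr hkr
    have hkc : Commute k c := by
      rw [hμ]
      exact pi_dg_comm R' μ z
    have h1 : (k * c⁻¹) ^ r = 1 := by
      rw [(hkc.inv_right).mul_pow, hkr, inv_pow, hcr, inv_one, one_mul]
    have h2 : ((k * c⁻¹ : S) : X) ∈ Q := by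
      have h3 : ((k * c⁻¹ : S) : X) = a * ((c : X) * a⁻¹ * (c : X)⁻¹) := by
        change a * (c : X) * a⁻¹ * (c : X)⁻¹ = _
        group
      rw [h3]
      exact mul_mem haQ ((mem_normalizer_iff.1 (le_normalizer_o2 _ hcR) _).1 (inv_mem haQ))
    obtain ⟨m, hm⟩ := o2_isPGroup (centralizer ({t} : Set X)) ⟨_, h2⟩
    have hm' : ((k * c⁻¹ : S) : X) ^ 2 ^ m = 1 := congrArg Subtype.val hm
    have h4 : ((k * c⁻¹ : S) : X) ^ r = 1 := congrArg Subtype.val h1
    have h5 : orderOf ((k * c⁻¹ : S) : X) ∣ Nat.gcd (2 ^ m) r :=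
      Nat.dvd_gcd (orderOf_dvd_of_pow_eq_one hm') (orderOf_dvd_of_pow_eq_one h4)
    have h6 : Nat.gcd (2 ^ m) r = 1 := by
      apply Nat.Coprime.pow_left
      rw [Nat.coprime_two_left]
      exact hr
    rw [h6, Nat.dvd_one, orderOf_eq_one_iff] at h5
    have h7 : a * (c : X) * a⁻¹ * (c : X)⁻¹ = 1 := h5
    rwa [mul_inv_eq_one] at h7
  -- the action on `S`
  let f : X →* MulAut S := MulAut.conjNormal
  have hfi : Function.Injective f := by
    rw [injective_iff_map_eq_one]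
    intro x hx
    have h2 : x ∈ centralizer (S : Set X) := by
      rw [mem_centralizer_iff]
      intro y hy
      have h3 := congrArg (fun φ : MulAut S => ((φ ⟨y, hy⟩ : S) : X)) hx
      have h4 : x * y * x⁻¹ = y := h3
      calc y * x = (x * y * x⁻¹) * x := by rw [h4]
        _ = x * y := by group
    rw [h.cen, mem_bot] at h2
    exact h2
  rw [← card_map_of_injective hfi]
  refine card_le_four R' hr hzr hz (A.map f) ?_ ?_
  · rintro _ ⟨x, hx, rfl⟩
    rw [← map_mul, h.el x hx, map_one]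
  · rintro _ ⟨x, hx, rfl⟩
    exact Subtype.ext (hAc x hx)

/-- an odd prime divisor of `q² - 1` -/
theorem exists_odd_prime {q : ℕ} (hq : 1 < q) (h3 : q ≠ 3) (hodd : Odd q) :
    ∃ r : ℕ, r.Prime ∧ Odd r ∧ r ∣ q ^ 2 - 1 := by
  by_contra hcon
  push Not at hcon
  have h1 : ∀ p : ℕ, p.Prime → p ∣ q ^ 2 - 1 → p = 2 := by
    intro p hp hd
    by_contra hne
    exact hcon p hp (hp.odd_of_ne_two hne) hd
  have h0 : q ^ 2 - 1 = (q - 1) * (q + 1) := by
    obtain ⟨k, rfl⟩ : ∃ k, q = k + 1 := ⟨q - 1, by omega⟩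
    have : (k + 1) ^ 2 = k * (k + 1 + 1) + 1 := by ring
    rw [this, Nat.add_sub_cancel, Nat.add_sub_cancel]
  have key : ∀ n : ℕ, n ≠ 0 → n ∣ q ^ 2 - 1 → ∃ a, n = 2 ^ a := fun n hn hd =>
    ⟨_, Nat.eq_prime_pow_of_unique_prime_dvd hn fun {d} hdp hdn => h1 d hdp (hdn.trans hd)⟩
  obtain ⟨a, ha⟩ := key (q - 1) (by omega) (by rw [h0]; exact Dvd.intro _ rfl)
  obtain ⟨b, hb⟩ := key (q + 1) (by omega) (by rw [h0]; exact Dvd.intro_left _ rfl)
  have hab : 2 ^ b = 2 ^ a + 2 := by omega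
  obtain ⟨m, hm⟩ := hodd
  rcases Nat.lt_or_ge a 2 with h4 | h4
  · interval_cases a <;> omega
  · obtain ⟨a', rfl⟩ := Nat.exists_eq_add_of_le h4
    rcases Nat.lt_or_ge b 2 with h5 | h5
    · have h6 : 2 ^ b ≤ 2 := by interval_cases b <;> norm_num
      have h7 : 0 < 2 ^ (2 + a') := by positivity
      omega
    · obtain ⟨b', rfl⟩ := Nat.exists_eq_add_of_le h5
      rw [pow_add, pow_add] at hab
      omega

/-- **the row `PSL₂(q)`, `q` odd, `q ≠ 9`** -/
theorem deadG : DeadG fun S _ => ∃ (F : Type) (_ : Field F) (_ : Fintype F), Odd (Fintype.card F) ∧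
    3 < Fintype.card F ∧ Fintype.card F ≠ 9 ∧ Nonempty (S ≃* Matrix.ProjectiveSpecialLinearGroup (Fin 2) F) := by
  rintro X _ _ S T A h ⟨F, _, _, hodd, h3, h9, ⟨e⟩⟩
  have hS := h.norm
  have h2 : (2 : F) ≠ 0 := two_ne_zero_of_odd hodd
  by_cases hF : ∀ σ : F ≃+* F, σ * σ = 1 → σ = 1
  · exact (TwoF.RkPSL.rkAut_two_odd h2 hF).of_normal e h.cen A h.el
  · push Not at hF
    obtain ⟨σ, hσ, hσ1⟩ := hF
    have hs : ∀ x, σ (σ x) = x := fun x => DFunLike.congr_fun hσ x
    have hcard := HKS.PGammaInv.card_sq h2 hs hσ1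
    set q := Nat.card (HKS.PGammaInv.fixF σ) with hq
    have hqodd : Odd q := by
      by_contra hcon
      rw [Nat.not_odd_iff_even] at hcon
      rw [hcard] at hodd
      exact (Nat.not_even_iff_odd.2 hodd) (Nat.even_pow.2 ⟨hcon, two_ne_zero⟩)
    have hq1 : 1 < q := by
      by_contra hcon
      have h5 : q ≤ 1 := by omega
      have h6 : q ^ 2 ≤ 1 := by
        calc q ^ 2 ≤ 1 ^ 2 := Nat.pow_le_pow_left h5 2
          _ = 1 := one_pow 2
      omega
    have hq3 : q ≠ 3 := by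
      intro h0
      rw [h0] at hcard
      exact h9 hcard
    obtain ⟨r, hr, hro, hrd⟩ := exists_odd_prime hq1 hq3 hqodd
    have hu : Nat.card Fˣ = Fintype.card F - 1 := by
      rw [Nat.card_units, Nat.card_eq_fintype_card]
    -- an element of order `r`
    have : Fact r.Prime := ⟨hr⟩
    obtain ⟨z, hz⟩ := exists_prime_orderOf_dvd_card' (G := Fˣ) r (by rw [hu, hcard]; exact hrd)
    have hz1 : z ≠ 1 := by
      rintro rfl
      rw [orderOf_one] at hz
      exact hr.one_lt.ne hz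
    have hzr : z ^ r = 1 := by rw [← hz, pow_orderOf_eq_one]
    -- a square root of `-1`
    obtain ⟨i, hi⟩ : ∃ i : Fˣ, (i : F) * i = -1 := by
      have h4 : Fintype.card F % 4 ≠ 3 := by
        obtain ⟨m, hm⟩ := hqodd
        rw [hcard, hm]
        have : (2 * m + 1) ^ 2 = 4 * (m * m + m) + 1 := by ring
        omega
      obtain ⟨i, hi⟩ := FiniteField.isSquare_neg_one_iff.2 h4
      have hi0 : i ≠ 0 := by
        rintro rfl
        rw [mul_zero, neg_eq_zero] at hi
        exact one_ne_zero hi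
      exact ⟨Units.mk0 i hi0, hi.symm⟩
    exact card_le_four_of h (GH.L2Aut.Rep.ofEquiv h2 e) hi hro hzr hz1

end Cfsg.Agent.Omega.ML.RowLTwoOdd
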