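import Cfsg.Agent.Mrg.Omega.ML.RowOpp
import Cfsg.Agent.TitsK.OverK
import Cfsg.Agent.TitsK.AutT
import Cfsg.Agent.SmallSimple.S1000.TwoModule
import Cfsg.Agent.ClassTwoFusion.Quad
import Cfsg.Agent.Mrg.Omega.ML.Ex.Def
import Cfsg.Agent.GH.L2AutSyl
import Cfsg.Agent.ClassicalGeometry.PSL2Basic
import Cfsg.Agent.KFacts.RgdRigid
import Cfsg.Agent.KFacts.RgdVJ
import Cfsg.Agent.KFacts.RgdSyl
import Cfsg.Agent.Mrg.Omega.NOThree.NoOver
import Cfsg.Agent.KFacts.TwF4.Perf
import Cfsg.Agent.Mrg.Omega.ML.LieRow.Row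

section


/-!
# (ML), the K-list end: the row of the Tits group, in opposite form (helper625)

* `exists_embed` : a group `X` with a normal subgroup `S ≃* T`, `C_X(S) = 1`, embeds in `H = ²F₄(2)`;
* `opp_of` : the opposite form for an embedding `X → H`;
* **`deadOpp_tits`**, `dead_tits`.
-/

set_option autoImplicit false

namespace Cfsg.Agent.Omega.ML.RowTits

open Subgroup Cfsg Cfsg.Agent.ZN Cfsg.Agent.TitsK Cfsg.Agent.TitsK.Abs Cfsg.Agent.Omega.ML.Rows
open Cfsg.Agent.MinSimple.VModule (o2_isPGroup o2_le le_o2 le_normalizer_o2)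

universe u v

variable {X : Type u} [Group X] {G : Type v} [Group G] (D : TData G)

theorem cent_T {h : G} (hh : h ∈ D.H) (hc : ∀ t ∈ D.T, h * t * h⁻¹ = t) : h = 1 := by
  have hU := D.cent_V h hh (hc _ (D.V_le_T D.z_mem_V)) (hc _ (D.V_le_T D.z1_mem_V))
  rcases D.cent_S h hU (fun c hcc => mul_inv_eq_iff_eq_mul.1 (hc c hcc.2)) with h1 | h1
  · exact h1
  · exfalso
    obtain ⟨t, ht, ht'⟩ := D.z_not_central
    apply ht'
    have h2 := hc t ht
    rw [h1, mul_inv_eq_iff_eq_mul] at h2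
    rw [← h2]
    group

/-- **Embedding.** -/
theorem exists_embed [Finite G] {S : Subgroup X} (hS : S.Normal) (e : S ≃* D.T) (hC : centralizer (S : Set X) = ⊥) :
    ∃ φ : X →* G, Function.Injective φ ∧ (∀ s : S, φ s = e s) ∧ ∀ x, φ x ∈ D.H := by
  -- conjugation by `x`, transported to `T`
  have key : ∀ x : X, ∃ h ∈ D.H, ∀ s : S, ((e ⟨x * s * x⁻¹, hS.conj_mem s s.2 x⟩ : D.T) : G) = h * (e s : G) * h⁻¹ := by
    intro x
    let c : S →* S :=
      { toFun := fun s => ⟨x * s * x⁻¹, hS.conj_mem s s.2 x⟩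
        map_one' := Subtype.ext (by simp)
        map_mul' := fun a b => Subtype.ext (by
          change x * ((a : X) * b) * x⁻¹ = (x * a * x⁻¹) * (x * b * x⁻¹)
          group) }
    let f : D.T →* G := D.T.subtype.comp (e.toMonoidHom.comp (c.comp e.symm.toMonoidHom))
    have hf : D.Inj f := by
      refine ⟨?_, fun t => (e (c (e.symm t))).2⟩
      intro a b hab
      have h1 : e (c (e.symm a)) = e (c (e.symm b)) := Subtype.ext hab
      have h2 := congrArg Subtype.val (e.injective h1)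
      change x * ((e.symm a : S) : X) * x⁻¹ = x * ((e.symm b : S) : X) * x⁻¹ at h2
      have h3 : ((e.symm a : S) : X) = (e.symm b : S) := mul_left_cancel (mul_right_cancel h2)
      exact e.symm.injective (Subtype.ext h3)
    obtain ⟨h, hh, h1⟩ := TData.exists_conj hf
    refine ⟨h, hh, fun s => ?_⟩
    have h2 := h1 (e s)
    have h3 : f (e s) = ((e ⟨x * s * x⁻¹, hS.conj_mem s s.2 x⟩ : D.T) : G) := by
      change ((e (c (e.symm (e s))) : D.T) : G) = _
      rw [e.symm_apply_apply]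
      rfl
    rw [← h3, h2]
  choose f hfH hf using key
  have huniq : ∀ (x : X) (h : G), h ∈ D.H →
      (∀ s : S, ((e ⟨x * s * x⁻¹, hS.conj_mem s s.2 x⟩ : D.T) : G) = h * (e s : G) * h⁻¹) → h = f x := by
    intro x h hh hs
    have h1 : (f x)⁻¹ * h = 1 := by
      refine cent_T D (mul_mem (inv_mem (hfH x)) hh) fun t ht => ?_
      have h2 := hs (e.symm ⟨t, ht⟩)
      rw [hf x, e.apply_symm_apply] at h2
      change f x * t * (f x)⁻¹ = h * t * h⁻¹ at h2
      calc (f x)⁻¹ * h * t * ((f x)⁻¹ * h)⁻¹ = (f x)⁻¹ * (h * t * h⁻¹) * f x := by group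
        _ = (f x)⁻¹ * (f x * t * (f x)⁻¹) * f x := by rw [h2]
        _ = t := by group
    rw [inv_mul_eq_one] at h1
    exact h1.symm
  have hmul : ∀ x y, f (x * y) = f x * f y := by
    intro x y
    symm
    refine huniq _ _ (mul_mem (hfH x) (hfH y)) fun s => ?_
    have h1 := hf x ⟨y * s * y⁻¹, hS.conj_mem s s.2 y⟩
    rw [hf y] at h1
    have e1 : (⟨x * y * s * (x * y)⁻¹, hS.conj_mem s s.2 (x * y)⟩ : S) =
        ⟨x * ((⟨y * s * y⁻¹, hS.conj_mem s s.2 y⟩ : S) : X) * x⁻¹,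
          hS.conj_mem _ (⟨y * s * y⁻¹, hS.conj_mem s s.2 y⟩ : S).2 x⟩ := by
      apply Subtype.ext
      change x * y * (s : X) * (x * y)⁻¹ = x * (y * s * y⁻¹) * x⁻¹
      group
    rw [e1, h1]
    group
  let φ : X →* G := MonoidHom.mk' f hmul
  refine ⟨φ, ?_, ?_, hfH⟩
  · rw [injective_iff_map_eq_one]
    intro x hx
    have h1 : x ∈ centralizer (S : Set X) := by
      rw [mem_centralizer_iff]
      intro s hs
      have h2 := hf x ⟨s, hs⟩
      change f x = 1 at hx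
      rw [hx] at h2
      simp only [one_mul, inv_one, mul_one] at h2
      have h3 := congrArg Subtype.val (e.injective (Subtype.ext h2))
      change x * s * x⁻¹ = s at h3
      rw [mul_inv_eq_iff_eq_mul] at h3
      exact h3.symm
    rw [hC] at h1
    exact mem_bot.1 h1
  · intro s
    symm
    refine huniq s _ (D.T_le (e s).2) fun t => ?_
    have h1 : (⟨(s : X) * t * (s : X)⁻¹, hS.conj_mem t t.2 s⟩ : S) = s * t * s⁻¹ := rfl
    rw [h1, map_mul, map_mul, map_inv]
    rfl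

/-- the index of `U ⊓ L` in `L` is odd -/
theorem odd_L {L : Subgroup G} (hTL : D.T ≤ L) (hLH : L ≤ D.H) : ¬ 2 ∣ (D.U ⊓ L).relIndex L := by
  have h1 := relIndex_mul_relIndex D.T L D.H hTL hLH
  rw [D.relIndex_T] at h1
  have h2 : D.T.relIndex L = 1 ∨ D.T.relIndex L = 2 := (Nat.dvd_prime Nat.prime_two).1 ⟨_, h1.symm⟩
  rcases h2 with h2 | h2
  · have h3 : L = D.T := le_antisymm (relIndex_eq_one.1 h2) hTL
    rw [h3]
    exact D.odd_S
  · rw [h2] at h1
    have h3 : L.relIndex D.H = 1 := by omega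
    have h4 : L = D.H := le_antisymm hLH (relIndex_eq_one.1 h3)
    rw [h4, inf_eq_left.2 D.U_le]
    exact D.odd_U

/-- **The opposite form for an embedding.** -/
theorem opp_of [Finite X] [Finite G] (O : Over D) {φ : X →* G} (hφ : Function.Injective φ) (hT : D.T ≤ φ.range)
    (hH : φ.range ≤ D.H) {T A : Subgroup X} (two : IsPGroup 2 T) (syl : ¬ 2 ∣ T.index)
    (low : ∀ R : Subgroup X, T ≤ R → R ≠ ⊤ → A ≤ o2 R) :
    ∃ T' : Subgroup X, IsPGroup 2 T' ∧ ∀ R : Subgroup X, T' ≤ R → R ≠ ⊤ → A ⊓ R = ⊥ := by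
  have : Fact (Nat.Prime 2) := ⟨Nat.prime_two⟩
  have hodd := odd_L D hT hH
  set L := φ.range with hL
  -- the Sylow 2-subgroup `φ⁻¹(U)`
  have hP1 : IsPGroup 2 (D.U.comap φ) := D.isPGroup_U.comap_of_injective φ hφ
  have hP2 : ¬ 2 ∣ (D.U.comap φ).index := by
    rw [index_comap, ← hL]
    have : D.U.relIndex L = (D.U ⊓ L).relIndex L := by rw [inf_relIndex_right]
    rw [this]
    exact hodd
  obtain ⟨x, hx⟩ := MulAction.exists_smul_eq X (two.toSylow syl) (hP1.toSylow hP2)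
  have hxm : ∀ g : X, g ∈ T ↔ φ (x * g * x⁻¹) ∈ D.U := by
    intro g
    have h1 : x * g * x⁻¹ ∈ D.U.comap φ ↔ x * g * x⁻¹ ∈ x • (two.toSylow syl : Sylow 2 X) := by
      rw [hx]
      rfl
    have h2 : x * g * x⁻¹ ∈ x • (two.toSylow syl : Sylow 2 X) ↔ g ∈ T := by
      constructor
      · rintro ⟨y, hy, hy'⟩
        have h3 : x * y * x⁻¹ = x * g * x⁻¹ := hy'
        have h4 : y = g := mul_left_cancel (mul_right_cancel h3)
        rw [← h4]
        exact hy
      · intro hg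
        exact ⟨g, hg, rfl⟩
    rw [← h2, ← h1]
    rfl
  -- the embedding `ψ`
  let ψ : X →* G := φ.comp (MulAut.conj x).toMonoidHom
  have hψ : ∀ g, ψ g = φ (x * g * x⁻¹) := fun g => rfl
  have hinj : Function.Injective ψ := hφ.comp (MulAut.conj x).injective
  have hrange : ψ.range = L := by
    apply le_antisymm
    · rintro _ ⟨g, rfl⟩
      exact ⟨_, rfl⟩
    · rintro _ ⟨g, rfl⟩
      refine ⟨x⁻¹ * g * x, ?_⟩
      rw [hψ]
      congr 1
      group
  have hmT : ∀ g, g ∈ T ↔ ψ g ∈ D.U := hxm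
  have main := fun (R : Subgroup G) (hRL : R ≤ L) h1 h2 => O.inf_eq_bot (A := A.map ψ) hT hH hodd (by
    intro R hRL hUR hR
    have h1 : T ≤ R.comap ψ := fun t ht => hUR ⟨(hmT t).1 ht, hrange ▸ ⟨t, rfl⟩⟩
    have h2 : R.comap ψ ≠ ⊤ := by
      intro h3
      apply hR
      apply le_antisymm hRL
      rw [← hrange]
      rintro _ ⟨g, rfl⟩
      exact (h3 ▸ mem_top g : g ∈ R.comap ψ)
    have h3 := low _ h1 h2
    refine (map_mono h3).trans (le_o2 ?_ ((o2_isPGroup _).map ψ) ?_)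
    · rw [map_le_iff_le_comap]
      exact o2_le _
    · intro r hr
      obtain ⟨g, rfl⟩ : r ∈ ψ.range := hrange ▸ hRL hr
      have h5 := le_normalizer_o2 (R.comap ψ) (show g ∈ R.comap ψ from hr)
      refine Over.mem_normalizer_of_le ?_
      rintro _ ⟨y, hy, rfl⟩
      refine ⟨g * y * g⁻¹, (mem_normalizer_iff.1 h5 y).1 hy, ?_⟩
      rw [map_mul, map_mul, map_inv]) hRL h1 h2
  -- the opposite Sylow 2-subgroup
  have hw : D.w0⁻¹ = D.w0 := by rw [inv_eq_iff_mul_eq_one, D.w0_sq]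
  have hcj : IsPGroup 2 (cj D.w0 D.U) := by
    intro g
    obtain ⟨n, hn⟩ := D.isPGroup_U ⟨D.w0⁻¹ * g * D.w0, g.2⟩
    refine ⟨n, Subtype.ext ?_⟩
    have h1 : (D.w0⁻¹ * (g : G) * D.w0) ^ 2 ^ n = 1 := congrArg Subtype.val hn
    have h2 : (D.w0⁻¹ * (g : G) * (D.w0⁻¹)⁻¹) ^ 2 ^ n = 1 := by rw [inv_inv]; exact h1
    rw [conj_pow] at h2
    have h3 : (g : G) ^ 2 ^ n = D.w0 * (D.w0⁻¹ * (g : G) ^ 2 ^ n * (D.w0⁻¹)⁻¹) * D.w0⁻¹ := by group
    rw [h2] at h3
    change (g : G) ^ 2 ^ n = 1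
    rw [h3]
    group
  refine ⟨(cj D.w0 D.U).comap ψ, hcj.comap_of_injective ψ hinj, fun R hTR hR => ?_⟩
  have h1 := main (R.map ψ) (by rw [← hrange]; rintro _ ⟨g, -, rfl⟩; exact ⟨g, rfl⟩) (by
    intro s hs
    have h2 : D.w0 * s * D.w0 ∈ L := mul_mem (mul_mem (hT D.w0_mem) hs.2) (hT D.w0_mem)
    obtain ⟨g, hg⟩ : D.w0 * s * D.w0 ∈ ψ.range := hrange ▸ h2
    refine ⟨g, hTR ?_, hg⟩
    rw [mem_comap, mem_cj, hg, hw]
    have e : D.w0 * (D.w0 * s * D.w0) * D.w0 = (D.w0 * D.w0) * s * (D.w0 * D.w0) := by group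
    rw [e, D.w0_sq, one_mul, mul_one]
    exact hs.1) (by
    intro h2
    apply hR
    rw [eq_top_iff]
    intro g _
    have h3 : ψ g ∈ R.map ψ := by rw [h2, ← hrange]; exact ⟨g, rfl⟩
    obtain ⟨r, hr, hr'⟩ := h3
    rw [← hinj hr']
    exact hr)
  rw [eq_bot_iff]
  intro a ha
  have h2 : ψ a ∈ A.map ψ ⊓ R.map ψ := ⟨⟨a, ha.1, rfl⟩, ⟨a, ha.2, rfl⟩⟩
  rw [h1, mem_bot] at h2
  exact mem_bot.2 (hinj (h2.trans (map_one ψ).symm))

/-- **The row of the Tits group in opposite form.** -/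
theorem deadOpp_tits : DeadOpp.{u} (fun S _ => Lie.IsoTits S) := by
  intro X _ _ S T A h hS
  obtain ⟨e⟩ := hS
  obtain ⟨e'⟩ := exists_equiv
  have e₀ : ↥S ≃* ↥(tdata.T) := e.trans e'
  obtain ⟨φ, h1, h2, h3⟩ := exists_embed tdata h.norm e₀ h.cen
  refine opp_of tdata overD h1 ?_ ?_ h.two h.syl h.low
  · intro t ht
    exact ⟨e₀.symm ⟨t, ht⟩, (h2 _).trans (congrArg Subtype.val (e₀.apply_symm_apply ⟨t, ht⟩))⟩
  · rintro _ ⟨x, rfl⟩
    exact h3 x

theorem isoClosed_tits : IsoClosed.{u} (fun S _ => Lie.IsoTits S) := by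
  intro S S' _ _ e h
  obtain ⟨e'⟩ := h
  exact ⟨e.symm.trans e'⟩

theorem dead_tits : Dead.{u, v} (fun S _ => Lie.IsoTits S) := deadOpp_tits.dead isoClosed_tits

end Cfsg.Agent.Omega.ML.RowTits

end

section


/-!
# The exact K-list, `|A| = 4` (helper512): products of involutions with large fixed space

`X` finite, faithful on the elementary abelian 2-group `V`; `s`, `t` involutions of `X` with `|V : C_V(s)| ≤ 4`,
`|V : C_V(t)| ≤ 4`.

* `order_of` : **every odd power of `s t` has order 1, 3 or 5**;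
* `dvd_of` : every odd divisor of the order of `s t` is 1, 3 or 5;
* `dvd_of_smul` : the same for `MulDistribMulAction`, `cv`.
-/

set_option autoImplicit false

namespace Cfsg.Agent.Omega.ML.FourOrd

open Subgroup Cfsg.Agent.SmallSimple.S1000.TwoModule

variable {X V : Type*} [Group X] [CommGroup V] (φ : X →* MulAut V)

theorem D_mem_range (g : X) (v : V) : D φ g v ∈ (D φ g).range := ⟨v, rfl⟩

/-- `D` commutes with commuting elements -/
theorem map_D {y g : X} (h : y * g = g * y) (v : V) : φ y (D φ g v) = D φ g (φ y v) := by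
  rw [conj_D φ y g v, h, mul_inv_cancel_right]

section two

variable (hV : ∀ v : V, v * v = 1)
include hV

/-- an element of odd order has no fixed points on its commutator -/
theorem eq_one_of_odd {y : X} (hy : Odd (orderOf y)) {w : V} (hw : w ∈ (D φ y).range) (hf : φ y w = w) :
    w = 1 := by
  obtain ⟨v, rfl⟩ := hw
  have h1 : D φ y (D φ y v) = 1 := by
    rw [D_apply φ y (D φ y v), hf, hV]
  rw [D_D φ hV, ← pow_two, ← MonoidHom.mem_ker, ker_D φ hV, fe_pow_eq φ (Nat.coprime_two_left.mpr hy),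
    ← ker_D φ hV] at h1
  exact h1

/-- `z` acts freely on `[V, x]`, `x ∈ ⟨z⟩` of odd order, if `x` is a power of every nontrivial power of `z` -/
theorem orderOf_dvd [Finite X] [Finite V] {z x : X} (hx : Odd (orderOf x)) (hxz : x ∈ zpowers z)
    (hall : ∀ k : ℤ, z ^ k ≠ 1 → x ∈ zpowers (z ^ k)) : orderOf z ∣ (fe φ x).index - 1 := by
  rw [← card_range_D φ hV x]
  have hc : z * x = x * z := by
    obtain ⟨k, rfl⟩ := hxz
    exact (Commute.refl z).zpow_right k
  refine orderOf_dvd_card_sub_one φ z _ ?_ ?_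
  · rintro _ ⟨v, rfl⟩
    rw [map_D φ hc]
    exact D_mem_range φ x _
  · intro k hk v hv hfix
    exact eq_one_of_odd φ hV hx hv (fe_le_of_mem_zpowers φ (hall k hk) hfix)

theorem exists_two_pow [Finite V] (x : X) : ∃ n, (fe φ x).index = 2 ^ n := by
  obtain ⟨n, hn⟩ := card_eq_two_pow hV (D φ x).range
  exact ⟨n, by rw [← card_range_D φ hV, hn]⟩

omit hV in
/-- the powers of an element of order `m`: decidable form of `hall` -/
theorem mem_zpowers_of {z : X} {m c : ℕ} (hz : orderOf z = m) (hm : 0 < m)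
    (hdec : ∀ r < m, r ≠ 0 → ∃ j < m, (r * j) % m = c) (k : ℤ) (hk : z ^ k ≠ 1) : z ^ c ∈ zpowers (z ^ k) := by
  obtain ⟨r, hr⟩ : ∃ r : ℕ, (r : ℤ) = k % m := ⟨(k % m).toNat, Int.toNat_of_nonneg (Int.emod_nonneg _ (by omega))⟩
  have hrm : r < m := by
    have := Int.emod_lt_of_pos k (show (0 : ℤ) < m by exact_mod_cast hm)
    rw [← hr] at this
    exact_mod_cast this
  have h1 : z ^ k = z ^ r := by
    rw [← zpow_mod_orderOf, hz, ← hr, zpow_natCast]
  have hr0 : r ≠ 0 := by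
    rintro rfl
    exact hk (by rw [h1, pow_zero])
  obtain ⟨j, -, hj⟩ := hdec r hrm hr0
  refine ⟨j, ?_⟩
  show (z ^ k) ^ (j : ℤ) = z ^ c
  rw [h1, zpow_natCast, ← pow_mul, ← pow_mod_orderOf, hz, hj]

/-- **The transitive case**: `z` of order `m`, inverted by the involution `s`, transitive on `W \ 1`. -/
theorem transitive_false [Finite V] {z s : X} {m : ℕ} (hs : s * s = 1) (hsz : s * z * s⁻¹ = z⁻¹)
    (hm0 : 0 < m) (hm : ¬ m ∣ 3) {W : Subgroup V} (hW1 : Nat.card W = m + 1) (hWz : ∀ v ∈ W, φ z v ∈ W)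
    (hWs : ∀ v ∈ W, φ s v ∈ W)
    (hfree : ∀ k : ℕ, ∀ v ∈ W, v ≠ 1 → φ (z ^ k) v = v → m ∣ k) : False := by
  classical
  have mu : ∀ (a b : X) (v : V), φ (a * b) v = φ a (φ b v) := fun a b v => by rw [map_mul, MulAut.mul_apply]
  have inv' : ∀ (a : X) (v : V), φ a⁻¹ (φ a v) = v := fun a v => by
    rw [← mu, inv_mul_cancel, map_one, MulAut.one_apply]
  have inv'' : ∀ (a : X) (v : V), φ a (φ a⁻¹ v) = v := fun a v => by
    rw [← mu, mul_inv_cancel, map_one, MulAut.one_apply]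
  have hWzk : ∀ k : ℕ, ∀ v ∈ W, φ (z ^ k) v ∈ W := by
    intro k
    induction k with
    | zero => intro v hv; rw [pow_zero, map_one, MulAut.one_apply]; exact hv
    | succ k ih => intro v hv; rw [pow_succ, mu]; exact ih _ (hWz v hv)
  -- a vector fixed by `s`
  obtain ⟨v, hv, hv1, hsv⟩ : ∃ v ∈ W, v ≠ 1 ∧ φ s v = v := by
    have hne : W ≠ ⊥ := by
      intro h
      rw [← card_eq_one, hW1] at h
      omega
    obtain ⟨⟨w, hw⟩, hw1⟩ := W.ne_bot_iff_exists_ne_one.1 hne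
    have hw1 : w ≠ 1 := fun e => hw1 (Subtype.ext e)
    by_cases h1 : D φ s w = 1
    · refine ⟨w, hw, hw1, ?_⟩
      rw [D_apply] at h1
      exact (mul_eq_one_iff hV _ _).1 h1
    · refine ⟨D φ s w, ?_, h1, ?_⟩
      · rw [D_apply]
        exact mul_mem (hWs w hw) hw
      · have h2 : D φ s (D φ s w) = 1 := by
          rw [D_D φ hV, hs, D_apply, map_one, MulAut.one_apply, hV]
        rw [D_apply φ s (D φ s w)] at h2
        exact (mul_eq_one_iff hV _ _).1 h2
  -- transitivity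
  have htr : ∀ u ∈ W, u ≠ 1 → ∃ i : ℕ, φ (z ^ i) v = u := by
    let f : Fin m → {w : W // w ≠ 1} := fun i => ⟨⟨φ (z ^ (i : ℕ)) v, hWzk _ v hv⟩, fun h => hv1 (by
      have h1 : φ (z ^ (i : ℕ)) v = 1 := congrArg Subtype.val h
      exact (φ (z ^ (i : ℕ))).map_eq_one_iff.1 h1)⟩
    have hinj : Function.Injective f := by
      have key : ∀ i j : ℕ, i ≤ j → j < m → φ (z ^ i) v = φ (z ^ j) v → i = j := by
        intro i j hij hj h
        obtain ⟨d, rfl⟩ := Nat.exists_eq_add_of_le hij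
        have h1 : φ (z ^ d) v = v := by
          rw [pow_add, mu] at h
          exact ((φ (z ^ i)).injective h).symm
        have h2 := hfree d v hv hv1 h1
        have h3 : d = 0 := Nat.eq_zero_of_dvd_of_lt h2 (by omega)
        omega
      intro i j h
      have h1 : φ (z ^ (i : ℕ)) v = φ (z ^ (j : ℕ)) v := congrArg (fun x => ((x.1 : W) : V)) h
      rcases le_total (i : ℕ) j with h2 | h2
      · exact Fin.ext (key _ _ h2 j.2 h1)
      · exact Fin.ext (key _ _ h2 i.2 h1.symm).symm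
    have hcard : Nat.card {w : W // w ≠ 1} ≤ Nat.card (Fin m) := by
      have := Fintype.ofFinite W
      rw [Nat.card_eq_fintype_card, Fintype.card_subtype_compl, Fintype.card_subtype_eq,
        ← Nat.card_eq_fintype_card, hW1, Nat.card_eq_fintype_card, Fintype.card_fin]
      omega
    have hb := hinj.bijective_of_nat_card_le hcard
    intro u hu hu1
    obtain ⟨i, hi⟩ := hb.2 ⟨⟨u, hu⟩, fun h => hu1 (congrArg Subtype.val h)⟩
    exact ⟨i, congrArg (fun x => ((x.1 : W) : V)) hi⟩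
  have hD1 : D φ z v ≠ 1 := by
    intro h
    rw [D_apply] at h
    have h1 : φ (z ^ 1) v = v := by rw [pow_one]; exact (mul_eq_one_iff hV _ _).1 h
    have h2 := hfree 1 v hv hv1 h1
    exact hm (h2.trans (one_dvd _))
  obtain ⟨j, hj⟩ := htr (D φ z v) (by rw [D_apply]; exact mul_mem (hWz v hv) hv) hD1
  have hcz : z ^ j * z = z * z ^ j := (Commute.refl z).pow_left j
  -- apply `s`
  have hszj : s * z ^ j * s⁻¹ = (z ^ j)⁻¹ := by rw [← conj_pow, hsz, inv_pow]
  have e1 : φ (z ^ j)⁻¹ v = φ z⁻¹ (φ (z ^ j) v) := by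
    have h1 : φ s (φ (z ^ j) v) = φ (z ^ j)⁻¹ v := by
      rw [← hszj, mu, mu]
      have h2 : φ s⁻¹ v = v := by
        have : s⁻¹ = s := inv_eq_of_mul_eq_one_right hs
        rw [this, hsv]
      rw [h2]
    have h2 : φ s (D φ z v) = D φ z⁻¹ v := by rw [conj_D φ s z v, hsz, hsv]
    rw [← h1, hj, h2, D_apply, D_apply, map_mul, inv', mul_comm]
  have e2 : φ (z ^ (2 * j)) v = φ z v := by
    have h1 : φ z (φ (z ^ j)⁻¹ v) = φ (z ^ j) v := by rw [e1, inv'']
    have h2 : φ (z ^ j) (φ z (φ (z ^ j)⁻¹ v)) = φ z v := by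
      rw [← mu, hcz, mu, inv'']
    rw [two_mul, pow_add, mu, ← h1, h2]
  have e3 : φ (z * z) v * v = φ z v := by
    have h1 : D φ z (D φ z v) = φ (z ^ (2 * j)) v := by
      rw [← hj, ← map_D φ hcz, ← hj, ← mu, ← pow_add, ← two_mul]
    rw [← e2, ← h1, D_D φ hV, D_apply]
  have e5 : φ (z * z) v = φ z v * v := by
    calc φ (z * z) v = φ (z * z) v * (v * v) := by rw [hV, mul_one]
      _ = φ z v * v := by rw [← mul_assoc, e3]
  have e4 : φ (z ^ 3) v = v := by
    calc φ (z ^ 3) v = φ z (φ (z * z) v) := by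
          rw [← mu]; congr 2; rw [pow_succ', pow_two]
      _ = φ (z * z) v * φ z v := by rw [e5, map_mul, ← mu, e5]
      _ = φ z v * v * φ z v := by rw [e5]
      _ = v * (φ z v * φ z v) := by ac_rfl
      _ = v := by rw [hV, mul_one]
  exact hm (hfree 3 v hv hv1 e4)

omit hV in
/-- `[V, z⁻¹] ≤ [V, z]` -/
theorem D_inv_mem (z : X) (v : V) : D φ z⁻¹ v ∈ (D φ z).range := by
  refine ⟨φ z⁻¹ v, ?_⟩
  have h1 : φ z (φ z⁻¹ v) = v := by
    rw [← MulAut.mul_apply, ← map_mul, mul_inv_cancel, map_one, MulAut.one_apply]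
  rw [D_apply, D_apply, h1, mul_comm]

/-- **Every odd power of `s t` has order 1, 3 or 5.** -/
theorem order_of [Finite X] [Finite V] (hinj : ∀ x : X, φ x = 1 → x = 1) {s t : X} (hs : s * s = 1)
    (ht : t * t = 1) (h4s : (fe φ s).index ≤ 4) (h4t : (fe φ t).index ≤ 4) (k : ℕ)
    (ho : Odd (orderOf ((s * t) ^ k))) :
    orderOf ((s * t) ^ k) = 1 ∨ orderOf ((s * t) ^ k) = 3 ∨ orderOf ((s * t) ^ k) = 5 := by
  classical
  set y := (s * t) ^ k with hy
  have hinvy : s * y * s⁻¹ = y⁻¹ := by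
    have h1 : s⁻¹ = s := inv_eq_of_mul_eq_one_right hs
    have h2 : t⁻¹ = t := inv_eq_of_mul_eq_one_right ht
    rw [hy, ← conj_pow, ← inv_pow]
    congr 1
    rw [mul_inv_rev, h2, h1]
    calc s * (s * t) * s = (s * s) * (t * s) := by group
      _ = t * s := by rw [hs, one_mul]
  have hy16 : (fe φ y).index ≤ 16 := by
    have h1 : fe φ s ⊓ fe φ t ≤ fe φ y := (fe_mul φ s t).trans (fe_pow φ _ k)
    calc (fe φ y).index ≤ (fe φ s ⊓ fe φ t).index :=
          Nat.le_of_dvd (Nat.pos_of_ne_zero index_ne_zero_of_finite) (index_dvd_of_le h1)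
      _ ≤ (fe φ s).index * (fe φ t).index := index_inf_le
      _ ≤ 4 * 4 := Nat.mul_le_mul h4s h4t
      _ = 16 := by norm_num
  have hidx : ∀ x ∈ zpowers y, (fe φ x).index ≤ 16 := fun x hx =>
    (Nat.le_of_dvd (Nat.pos_of_ne_zero index_ne_zero_of_finite)
      (index_dvd_of_le (fe_le_of_mem_zpowers φ hx))).trans hy16
  have hne : ∀ x : X, x ≠ 1 → (fe φ x).index ≠ 1 := by
    intro x hx h1
    rw [index_eq_one] at h1
    apply hx
    apply hinj
    ext v
    have h2 : v ∈ fe φ x := h1 ▸ mem_top v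
    rw [MulAut.one_apply]
    exact h2
  have hodd : ∀ x ∈ zpowers y, Odd (orderOf x) := fun x hx =>
    ho.of_dvd_nat (orderOf_dvd_of_mem_zpowers hx)
  have hpow : ∀ x ∈ zpowers y, x ≠ 1 → ∃ e, 1 ≤ e ∧ e ≤ 4 ∧ (fe φ x).index = 2 ^ e := by
    intro x hx hx1
    obtain ⟨e, he⟩ := exists_two_pow φ hV x
    refine ⟨e, ?_, ?_, he⟩
    · rw [Nat.one_le_iff_ne_zero]
      rintro rfl
      exact hne x hx1 he
    · have h1 := hidx x hx
      rw [he, show 16 = 2 ^ 4 by norm_num] at h1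
      exact (Nat.pow_le_pow_iff_right (by norm_num)).1 h1
  -- prime orders
  have hprime : ∀ p : ℕ, p.Prime → p ∣ orderOf y → ∃ z ∈ zpowers y, orderOf z = p ∧
      (∀ k : ℤ, z ^ k ≠ 1 → z ∈ zpowers (z ^ k)) ∧ ∃ e, 1 ≤ e ∧ e ≤ 4 ∧ (fe φ z).index = 2 ^ e ∧ p ∣ 2 ^ e - 1 := by
    intro p hp hpn
    have hpos : 0 < orderOf y := orderOf_pos y
    obtain ⟨d, hd⟩ := hpn
    have hd0 : d ≠ 0 := by rintro rfl; omega
    have hz : orderOf (y ^ d) = p := by
      rw [orderOf_pow_of_dvd hd0 ⟨p, by rw [hd, mul_comm]⟩, hd, Nat.mul_div_cancel _ (Nat.pos_of_ne_zero hd0)]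
    have hzy : y ^ d ∈ zpowers y := ⟨d, zpow_natCast y d⟩
    have hall : ∀ k : ℤ, (y ^ d) ^ k ≠ 1 → y ^ d ∈ zpowers ((y ^ d) ^ k) := by
      intro k hk
      have h2 : orderOf ((y ^ d) ^ k) = p := by
        have h3 : orderOf ((y ^ d) ^ k) ∣ p := by
          rw [← hz]
          exact orderOf_dvd_of_mem_zpowers ⟨k, rfl⟩
        rcases (Nat.dvd_prime hp).mp h3 with h4 | h4
        · exact absurd (orderOf_eq_one_iff.mp h4) hk
        · exact h4
      have h3 : zpowers ((y ^ d) ^ k) = zpowers (y ^ d) := by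
        refine eq_of_le_of_card_ge ?_ ?_
        · rw [zpowers_le]; exact ⟨k, rfl⟩
        · rw [Nat.card_zpowers, Nat.card_zpowers, h2, hz]
      rw [h3]
      exact mem_zpowers _
    have hz1 : y ^ d ≠ 1 := by
      intro h
      rw [h, orderOf_one] at hz
      exact hp.one_lt.ne hz
    obtain ⟨e, h1, h2, h3⟩ := hpow _ hzy hz1
    refine ⟨_, hzy, hz, hall, e, h1, h2, h3, ?_⟩
    have h4 := orderOf_dvd φ hV (hodd _ hzy) (mem_zpowers _) hall
    rwa [hz, h3] at h4
  have hset : ∀ p : ℕ, p.Prime → p ∣ orderOf y → p = 3 ∨ p = 5 := by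
    intro p hp hpn
    obtain ⟨z, hzy, hz, hall, e, h1, h2, h3, h4⟩ := hprime p hp hpn
    have hcase : p = 3 ∨ p = 5 ∨ (p = 7 ∧ e = 3) := by
      have he : e = 1 ∨ e = 2 ∨ e = 3 ∨ e = 4 := by omega
      rcases he with rfl | rfl | rfl | rfl
      · exact absurd (Nat.dvd_one.1 (by simpa using h4)) hp.one_lt.ne'
      · left
        exact (Nat.prime_dvd_prime_iff_eq hp Nat.prime_three).1 (by simpa using h4)
      · right; right
        exact ⟨(Nat.prime_dvd_prime_iff_eq hp (by norm_num)).1 (by simpa using h4), rfl⟩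
      · have h5 : p ∣ 3 * 5 := by simpa using h4
        rcases (Nat.Prime.dvd_mul hp).1 h5 with h6 | h6
        · left; exact (Nat.prime_dvd_prime_iff_eq hp Nat.prime_three).1 h6
        · right; left; exact (Nat.prime_dvd_prime_iff_eq hp Nat.prime_five).1 h6
    rcases hcase with h | h | ⟨rfl, rfl⟩
    · exact Or.inl h
    · exact Or.inr h
    exfalso
    obtain ⟨i, rfl⟩ := hzy
    refine transitive_false φ hV (z := y ^ i) (m := 7) (W := (D φ (y ^ i)).range) hs ?_ (by norm_num)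
      (by norm_num) ?_ ?_ ?_ ?_
    · show s * y ^ i * s⁻¹ = (y ^ i)⁻¹
      rw [← conj_zpow, hinvy, inv_zpow]
    · rw [card_range_D φ hV]
      exact h3
    · rintro _ ⟨v, rfl⟩
      rw [map_D φ rfl]
      exact D_mem_range φ _ _
    · rintro _ ⟨v, rfl⟩
      rw [conj_D φ s _ v, ← conj_zpow, hinvy, inv_zpow]
      exact D_inv_mem φ _ _
    · intro k v hv hv1 hf
      rw [← hz]
      apply orderOf_dvd_of_pow_eq_one
      by_contra hk
      have h5 := hall k (by rw [zpow_natCast]; exact hk)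
      refine hv1 (eq_one_of_odd φ hV (hodd _ ⟨i, rfl⟩) hv (fe_le_of_mem_zpowers φ h5 ?_))
      rw [zpow_natCast]
      exact hf
  -- prime squares
  have hsquare : ∀ m c : ℕ, 1 < m → ¬ m ∣ c → (∀ r < m, r ≠ 0 → ∃ j < m, (r * j) % m = c) →
      (∀ e, 1 ≤ e → e ≤ 4 → ¬ m ∣ 2 ^ e - 1) → ¬ m ∣ orderOf y := by
    rintro m c hm hmc hdec he ⟨d, hd⟩
    have hpos : 0 < orderOf y := orderOf_pos y
    have hd0 : d ≠ 0 := by rintro rfl; omega
    have hz : orderOf (y ^ d) = m := by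
      rw [orderOf_pow_of_dvd hd0 ⟨m, by rw [hd, mul_comm]⟩, hd, Nat.mul_div_cancel _ (Nat.pos_of_ne_zero hd0)]
    have hzy : y ^ d ∈ zpowers y := ⟨d, zpow_natCast y d⟩
    have hxy : (y ^ d) ^ c ∈ zpowers y := pow_mem hzy c
    have hx1 : (y ^ d) ^ c ≠ 1 := by
      intro h
      exact hmc (hz ▸ orderOf_dvd_of_pow_eq_one h)
    obtain ⟨e, h1, h2, h3⟩ := hpow _ hxy hx1
    have h4 := orderOf_dvd φ hV (z := y ^ d) (hodd _ hxy) ⟨c, zpow_natCast _ c⟩
      (mem_zpowers_of hz (by omega) hdec)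
    rw [hz, h3] at h4
    exact he e h1 h2 h4
  have h9 : ¬ 9 ∣ orderOf y := by
    refine hsquare 9 3 (by norm_num) (by norm_num) (by decide) ?_
    intro e h1 h2
    interval_cases e <;> decide
  have h25 : ¬ 25 ∣ orderOf y := by
    refine hsquare 25 5 (by norm_num) (by norm_num) (by decide) ?_
    intro e h1 h2
    interval_cases e <;> decide
  -- order 15
  have h15 : ¬ 15 ∣ orderOf y := by
    rintro ⟨d, hd⟩
    have hpos : 0 < orderOf y := orderOf_pos y
    have hd0 : d ≠ 0 := by rintro rfl; omega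
    set z := y ^ d with hzd
    have hz : orderOf z = 15 := by
      rw [hzd, orderOf_pow_of_dvd hd0 ⟨15, by rw [hd, mul_comm]⟩, hd, Nat.mul_div_cancel _ (Nat.pos_of_ne_zero hd0)]
    have hzy : z ∈ zpowers y := ⟨d, zpow_natCast y d⟩
    have hx5 : orderOf (z ^ 3) = 5 := by
      rw [orderOf_pow_of_dvd (by norm_num) (by rw [hz]; norm_num), hz]
    have hx3 : orderOf (z ^ 5) = 3 := by
      rw [orderOf_pow_of_dvd (by norm_num) (by rw [hz]; norm_num), hz]
    have hx5y : z ^ 3 ∈ zpowers y := pow_mem hzy 3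
    have hx3y : z ^ 5 ∈ zpowers y := pow_mem hzy 5
    -- `[V, z ^ 3]` has order 16
    have hall5 : ∀ k : ℤ, (z ^ 3) ^ k ≠ 1 → z ^ 3 ∈ zpowers ((z ^ 3) ^ k) := by
      intro k hk
      have := mem_zpowers_of (c := 1) hx5 (by norm_num) (by decide) k hk
      rwa [pow_one] at this
    have hW16 : (fe φ (z ^ 3)).index = 16 := by
      obtain ⟨e, h1, h2, h3⟩ := hpow _ hx5y (by intro h; rw [h, orderOf_one] at hx5; omega)
      have h4 := orderOf_dvd φ hV (hodd _ hx5y) (mem_zpowers _) hall5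
      rw [hx5, h3] at h4
      have he : e = 1 ∨ e = 2 ∨ e = 3 ∨ e = 4 := by omega
      rcases he with rfl | rfl | rfl | rfl
      · exact absurd h4 (by decide)
      · exact absurd h4 (by decide)
      · exact absurd h4 (by decide)
      · rw [h3]; norm_num
    have hfe : fe φ y = fe φ (z ^ 3) := by
      have hle : fe φ y ≤ fe φ (z ^ 3) := fe_le_of_mem_zpowers φ hx5y
      refine eq_of_le_of_card_ge hle ?_
      have h1 := (fe φ y).card_mul_index
      have h2 := (fe φ (z ^ 3)).card_mul_index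
      rw [hW16] at h2
      have h3 : Nat.card (fe φ y) * (fe φ y).index ≤ Nat.card (fe φ y) * 16 := Nat.mul_le_mul_left _ hy16
      omega
    set W := (D φ (z ^ 3)).range with hW
    have hWz : ∀ v ∈ W, φ z v ∈ W := by
      rintro _ ⟨v, rfl⟩
      rw [map_D φ ((Commute.refl z).pow_right 3)]
      exact D_mem_range φ _ _
    have hWx3 : ∀ v ∈ W, φ (z ^ 5) v ∈ W := by
      rintro _ ⟨v, rfl⟩
      rw [map_D φ (((Commute.refl z).pow_right 3).pow_left 5)]
      exact D_mem_range φ _ _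
    have hcardW : Nat.card W = 16 := by rw [hW, card_range_D φ hV, hW16]
    -- `z ^ 5` is fixed-point-free on `W`
    have hfree3 : ∀ v ∈ W, φ (z ^ 5) v = v → v = 1 := by
      set U : Subgroup V := W ⊓ fe φ (z ^ 5) with hU
      have hUx : ∀ v ∈ U, φ (z ^ 3) v ∈ U := by
        rintro v ⟨hv1, hv2⟩
        refine ⟨?_, ?_⟩
        · have h1 : φ (z ^ 3) v = φ z (φ z (φ z v)) := by
            rw [pow_succ, pow_two, map_mul, map_mul, MulAut.mul_apply, MulAut.mul_apply]
          rw [h1]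
          exact hWz _ (hWz _ (hWz _ hv1))
        · have hv2 : φ (z ^ 5) v = v := hv2
          show φ (z ^ 5) (φ (z ^ 3) v) = φ (z ^ 3) v
          rw [← MulAut.mul_apply, ← map_mul, ((Commute.refl z).pow_pow 5 3).eq, map_mul, MulAut.mul_apply, hv2]
      have hd := orderOf_dvd_card_sub_one φ (z ^ 3) U hUx (fun k hk v hv hf =>
        eq_one_of_odd φ hV (hodd _ hx5y) hv.1 (fe_le_of_mem_zpowers φ (hall5 k hk) hf))
      rw [hx5] at hd
      obtain ⟨n, hn⟩ := card_eq_two_pow hV U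
      have hn4 : n ≤ 4 := by
        have h1 := card_le_of_le (show U ≤ W from inf_le_left)
        rw [hn, hcardW, show 16 = 2 ^ 4 by norm_num] at h1
        exact (Nat.pow_le_pow_iff_right (by norm_num)).1 h1
      rw [hn] at hd
      have hn' : n = 0 ∨ n = 4 := by
        interval_cases n
        · left; rfl
        · revert hd; decide
        · revert hd; decide
        · revert hd; decide
        · right; rfl
      rcases hn' with rfl | rfl
      · intro v hv hf
        have h1 : v ∈ U := ⟨hv, hf⟩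
        have h2 : U = ⊥ := by rw [← card_eq_one, hn, pow_zero]
        rw [h2] at h1
        exact mem_bot.1 h1
      · exfalso
        have hUW : U = W := eq_of_le_of_card_ge inf_le_left (by rw [hn, hcardW]; norm_num)
        have hfix : ∀ v ∈ W, φ (z ^ 5) v = v := fun v hv => by
          rw [← hUW] at hv
          exact hv.2
        have hall : ∀ v : V, v ∈ fe φ (z ^ 5) := by
          intro v
          have h1 : D φ (z ^ 5) (D φ (z ^ 3) v) = 1 := by
            rw [D_apply φ (z ^ 5), hfix _ (D_mem_range φ _ v), hV]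
          have h2 : D φ (z ^ 3) (D φ (z ^ 5) v) = 1 := by
            rw [D_apply φ (z ^ 5) v, map_mul, ← map_D φ (((Commute.refl z).pow_right 3).pow_left 5), ← D_apply, h1]
          rw [← MonoidHom.mem_ker, ker_D φ hV, ← hfe] at h2
          have h3 : φ (z ^ 5) (D φ (z ^ 5) v) = D φ (z ^ 5) v := fe_le_of_mem_zpowers φ hx3y h2
          have h4 := eq_one_of_odd φ hV (hodd _ hx3y) (D_mem_range φ _ v) h3
          rw [← MonoidHom.mem_ker, ker_D φ hV] at h4
          exact h4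
        refine hne (z ^ 5) (by intro h; rw [h, orderOf_one] at hx3; omega) ?_
        rw [index_eq_one, eq_top_iff]
        exact fun v _ => hall v
    obtain ⟨i, hi⟩ := hzy
    have hi' : y ^ i = z := hi
    have hsz : s * z * s⁻¹ = z⁻¹ := by rw [← hi', ← conj_zpow, hinvy, inv_zpow]
    refine transitive_false φ hV (z := z) (m := 15) (W := W) hs hsz (by norm_num)
      (by norm_num) (by rw [hcardW]) hWz ?_ ?_
    · rintro _ ⟨v, rfl⟩
      rw [conj_D φ s _ v, ← conj_pow, hsz, inv_pow]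
      exact D_inv_mem φ _ _
    · intro k v hv hv1 hf
      rw [← hz]
      apply orderOf_dvd_of_pow_eq_one
      by_contra hk
      have hk' : z ^ (k : ℤ) ≠ 1 := by rw [zpow_natCast]; exact hk
      have hf' : v ∈ fe φ (z ^ (k : ℤ)) := by rw [zpow_natCast]; exact hf
      -- `z ^ 3` or `z ^ 5` is a power of `z ^ k`
      have key : z ^ 3 ∈ zpowers (z ^ (k : ℤ)) ∨ z ^ 5 ∈ zpowers (z ^ (k : ℤ)) := by
        have hdec : ∀ r < 15, r ≠ 0 → (∃ j < 15, (r * j) % 15 = 3) ∨ (∃ j < 15, (r * j) % 15 = 5) := by decide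
        have hr0 : k % 15 ≠ 0 := by
          intro h
          apply hk
          rw [← pow_mod_orderOf, hz, h, pow_zero]
        have h1 : z ^ k = z ^ (k % 15) := by rw [← pow_mod_orderOf, hz]
        rcases hdec (k % 15) (Nat.mod_lt _ (by norm_num)) hr0 with ⟨j, -, hj⟩ | ⟨j, -, hj⟩
        · left
          refine ⟨j, ?_⟩
          show (z ^ (k : ℤ)) ^ (j : ℤ) = z ^ 3
          rw [zpow_natCast, zpow_natCast, h1, ← pow_mul, ← pow_mod_orderOf, hz, hj]
        · right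
          refine ⟨j, ?_⟩
          show (z ^ (k : ℤ)) ^ (j : ℤ) = z ^ 5
          rw [zpow_natCast, zpow_natCast, h1, ← pow_mul, ← pow_mod_orderOf, hz, hj]
      rcases key with h1 | h1
      · exact hv1 (eq_one_of_odd φ hV (hodd _ hx5y) hv (fe_le_of_mem_zpowers φ h1 hf'))
      · exact hv1 (hfree3 v hv (fe_le_of_mem_zpowers φ h1 hf'))
  -- the end
  have hp3 : ∀ m : ℕ, orderOf y = 3 * m → m = 1 := by
    intro m hm
    by_contra h1
    obtain ⟨p, hp, hpm⟩ := Nat.exists_prime_and_dvd h1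
    rcases hset p hp (hm ▸ (hpm.mul_left 3)) with rfl | rfl
    · exact h9 (hm ▸ (Nat.mul_dvd_mul_left 3 hpm))
    · exact h15 (hm ▸ (Nat.mul_dvd_mul_left 3 hpm))
  have hp5 : ∀ m : ℕ, orderOf y = 5 * m → m = 1 := by
    intro m hm
    by_contra h1
    obtain ⟨p, hp, hpm⟩ := Nat.exists_prime_and_dvd h1
    rcases hset p hp (hm ▸ (hpm.mul_left 5)) with rfl | rfl
    · exact h15 (hm ▸ (Nat.mul_dvd_mul_left 5 hpm))
    · exact h25 (hm ▸ (Nat.mul_dvd_mul_left 5 hpm))
  by_cases h1 : orderOf y = 1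
  · exact Or.inl h1
  obtain ⟨p, hp, m, hm⟩ := Nat.exists_prime_and_dvd h1
  rcases hset p hp ⟨m, hm⟩ with rfl | rfl
  · right; left
    rw [hm, hp3 m hm]
  · right; right
    rw [hm, hp5 m hm]

/-- **Every odd divisor of the order of `s t` is 1, 3 or 5.** -/
theorem dvd_of [Finite X] [Finite V] (hinj : ∀ x : X, φ x = 1 → x = 1) {s t : X} (hs : s * s = 1)
    (ht : t * t = 1) (h4s : (fe φ s).index ≤ 4) (h4t : (fe φ t).index ≤ 4) {n : ℕ}
    (hn : n ∣ orderOf (s * t)) (ho : Odd n) : n = 1 ∨ n = 3 ∨ n = 5 := by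
  obtain ⟨d, hd⟩ := hn
  have hpos : 0 < orderOf (s * t) := orderOf_pos _
  have hd0 : d ≠ 0 := by rintro rfl; omega
  have h1 : orderOf ((s * t) ^ d) = n := by
    rw [orderOf_pow_of_dvd hd0 ⟨n, by rw [hd, mul_comm]⟩, hd, Nat.mul_div_cancel _ (Nat.pos_of_ne_zero hd0)]
  rw [← h1] at ho ⊢
  exact order_of φ hV hinj hs ht h4s h4t d ho

end two

end Cfsg.Agent.Omega.ML.FourOrd

namespace Cfsg.Agent.Omega.ML.FourOrd

open Subgroup Cfsg.Agent.SmallSimple.S1000.TwoModule Cfsg.Agent.ClassTwoFusion.Quad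

/-- **LEMMA 35** for `MulDistribMulAction`: every odd divisor of the order of `s t` is 1, 3 or 5. -/
theorem dvd_of_smul {H M : Type*} [Group H] [Group M] [MulDistribMulAction H M] [Finite H] [Finite M]
    (sq : ∀ m : M, m * m = 1) (faith : ∀ h : H, (∀ m : M, h • m = m) → h = 1) {s t : H} (hs : s * s = 1)
    (ht : t * t = 1) (h4s : (cv M ({s} : Set H)).index ≤ 4) (h4t : (cv M ({t} : Set H)).index ≤ 4) {n : ℕ}
    (hn : n ∣ orderOf (s * t)) (ho : Odd n) : n = 1 ∨ n = 3 ∨ n = 5 := by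
  have hcomm : ∀ x y : M, x * y = y * x := by
    intro x y
    have h1 : ∀ z : M, z⁻¹ = z := fun z => inv_eq_of_mul_eq_one_right (sq z)
    calc x * y = (x * y)⁻¹ := (h1 _).symm
      _ = y⁻¹ * x⁻¹ := mul_inv_rev _ _
      _ = y * x := by rw [h1, h1]
  let _ : CommGroup M := { (inferInstance : Group M) with mul_comm := hcomm }
  let φ : H →* MulAut M := MulDistribMulAction.toMulAut H M
  have key : ∀ g : H, fe φ g = cv M ({g} : Set H) := by
    intro g
    ext v
    rw [mem_fe, mem_cv_singleton]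
    rfl
  refine dvd_of φ sq ?_ hs ht (by rw [key]; exact h4s) (by rw [key]; exact h4t) hn ho
  intro x hx
  apply faith
  intro m
  have h1 : φ x m = m := by rw [hx]; rfl
  exact h1

end Cfsg.Agent.Omega.ML.FourOrd

end

section


/-!
# The exact K-list, `|A| = 4` (helper512)

* **`InX.dvd_of_four`** : `|A| = 4`, `a`, `b ∈ A`, `g ∈ H`: every odd divisor of the order of `a · gbg⁻¹` is 1, 3 or 5;
* `InX.order_mul` : the same for two conjugates.  (`A` need not be an atom of `M`: `InX.index_le_four` of Def.lean.)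
-/

set_option autoImplicit false

namespace Cfsg.Agent.Omega.ML.Ex

open Subgroup Cfsg.Agent.ClassTwoFusion.Quad

universe u v

variable {H : Type u} [Group H] {M : Type v} [Group M] [MulDistribMulAction H M] {K T A : Subgroup H}

theorem cv_conj_index (g a : H) : (cv M ({g * a * g⁻¹} : Set H)).index = (cv M ({a} : Set H)).index := by
  let e : M ≃* M := MulDistribMulAction.toMulEquiv M g
  have h1 : cv M ({g * a * g⁻¹} : Set H) = (cv M ({a} : Set H)).map e.toMonoidHom := by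
    ext v
    rw [mem_map_equiv, mem_cv_singleton, mem_cv_singleton]
    have h2 : e.symm v = g⁻¹ • v := rfl
    rw [h2]
    constructor
    · intro h
      have h3 := congrArg (fun x => g⁻¹ • x) h
      simp only [mul_smul, inv_smul_smul] at h3
      exact h3
    · intro h
      rw [mul_smul, mul_smul, h, smul_inv_smul]
  rw [h1]
  exact index_map_equiv (cv M ({a} : Set H)) e

/-- **LEMMA 35** in (EXL): conjugates `xax⁻¹`, `yby⁻¹` of elements of `A`. -/
theorem InX.order_mul (h : InX H M K T A) [Finite H] [Finite M] (h4 : Nat.card A = 4) {a b : H} (ha : a ∈ A)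
    (hb : b ∈ A) (x y : H) {n : ℕ} (hn : n ∣ orderOf ((x * a * x⁻¹) * (y * b * y⁻¹))) (ho : Odd n) :
    n = 1 ∨ n = 3 ∨ n = 5 := by
  have h1 : ∀ g c : H, c ∈ A → (g * c * g⁻¹) * (g * c * g⁻¹) = 1 := by
    intro g c hc
    calc (g * c * g⁻¹) * (g * c * g⁻¹) = g * (c * c) * g⁻¹ := by group
      _ = 1 := by rw [h.el c hc]; group
  exact FourOrd.dvd_of_smul h.sq h.faith (h1 x a ha) (h1 y b hb) (by rw [cv_conj_index]; exact h.index_le_four h4 ha)
    (by rw [cv_conj_index]; exact h.index_le_four h4 hb) hn ho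

/-- **LEMMA 35** in (EXL): `a`, `b ∈ A`, `g ∈ H`. -/
theorem InX.dvd_of_four (h : InX H M K T A) [Finite H] [Finite M] (h4 : Nat.card A = 4) {a b : H} (ha : a ∈ A)
    (hb : b ∈ A) (g : H) {n : ℕ} (hn : n ∣ orderOf (a * (g * b * g⁻¹))) (ho : Odd n) :
    n = 1 ∨ n = 3 ∨ n = 5 :=
  h.order_mul h4 ha hb 1 g (by rwa [one_mul, inv_one, mul_one]) ho

end Cfsg.Agent.Omega.ML.Ex

end

section


/-!
# `PSL₂(q)`, `q` odd: products of two involutions with given trace (helper786)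

`R : Rep F L` (`L = SL₂(F) / ±1`), `F` finite, `2 ≠ 0`.

* `exists_wh` : for `τ² ≠ 4`, and for all `τ` if `-1` is a square: there are `w₁`, `w₂` in `SL₂(F)` with
  `w₁² = w₂² = -1`, `tr (w₁ w₂) = τ`, and `w₁ w₂` is not scalar;
* `orderOf_dvd` : `tr x = tr y`, `x` not scalar : the order of `π(y)` divides the order of `π(x)`;
* `orderOf_dg` : the order of `π(diag(a, a⁻¹))` for a generator `a` of `Fˣ`;
* `exists_prime_seven` : `q` a power of 3 or 5, `q ≡ 1 (4)`, `q > 9`: a prime `r ≥ 7` divides `q + 1`;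
* **`exists_order`** : `q ≥ 13`: there are `w₁`, `w₂` with `w₁² = w₂² = -1` and an odd divisor `n ≥ 7` of the order of
  `π(w₁) π(w₂)`;
* `exists_four` : a unipotent element is a product of four `π(w)`, `w² = -1`.
-/

set_option autoImplicit false
set_option linter.unusedSectionVars false
set_option linter.unusedSimpArgs false

namespace Cfsg.Agent.Omega.ML.Ex.LTwoMat

open Subgroup Cfsg Matrix Cfsg.Agent.GH.L2Aut Cfsg.Agent.Lib.SL2Mat

section sl

variable {F : Type*} [Field F]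

local notation "SL2" => Matrix.SpecialLinearGroup (Fin 2) F

/-- trace -/
def tr (x : SL2) : F := ent x 0 0 + ent x 1 1

/-- not a scalar matrix -/
def NS (x : SL2) : Prop := ent x 0 1 ≠ 0 ∨ ent x 1 0 ≠ 0 ∨ ent x 0 0 ≠ ent x 1 1

theorem ent_neg (x : SL2) (i j : Fin 2) : ent (-x) i j = -ent x i j := rfl

theorem ns_of_tr {x : SL2} (h : tr x ^ 2 ≠ 4) : NS x := by
  by_contra hc
  simp only [NS, not_or, not_not] at hc
  obtain ⟨h01, h10, h00⟩ := hc
  apply h
  have := det_eq x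
  rw [h01, zero_mul, sub_zero, h00] at this
  rw [tr, h00]
  linear_combination 4 * this

/-- **products of two involutions with given trace** -/
theorem exists_wh [Finite F] (h2 : (2 : F) ≠ 0) (τ : F) (h : τ ^ 2 ≠ 4 ∨ ∃ i : F, i * i = -1) :
    ∃ w v : SL2, w * w = -1 ∧ v * v = -1 ∧ tr (w * v) = τ ∧ NS (w * v) := by
  have main : ∀ x y : F, x ^ 2 + y ^ 2 = τ / 2 * (τ / 2) - 1 → ∃ w v : SL2, w * w = -1 ∧ v * v = -1 ∧
      tr (w * v) = τ ∧ ent (w * v) 0 1 = -x := by
    intro x y hxy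
    have h4 : τ / 2 + τ / 2 = τ := by field_simp; ring
    have hab : x * x + (y - τ / 2) * (y + τ / 2) = -1 := by linear_combination hxy
    refine ⟨mk 0 1 (-1) 0 (by ring), mk x (y - τ / 2) (y + τ / 2) (-x) (by linear_combination -hab), ?_, ?_, ?_, ?_⟩
    · refine ext_ent ?_ ?_ ?_ ?_ <;> simp [ent_mul, ent_neg]
    · refine ext_ent ?_ ?_ ?_ ?_ <;> simp only [ent_mul, ent_neg, mk_00, mk_01, mk_10, mk_11, ent_one_00, ent_one_01,
        ent_one_10, ent_one_11]
      · linear_combination hab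
      · ring
      · ring
      · linear_combination hab
    · simp only [tr, ent_mul, mk_00, mk_01, mk_10, mk_11]
      linear_combination h4
    · simp [ent_mul]
  by_cases hτ : τ ^ 2 = 4
  · obtain ⟨i, hi⟩ := h.resolve_left (fun h3 => h3 hτ)
    obtain ⟨w, v, h3, h4, h5, h6⟩ := main 1 i (by
      have : τ / 2 * (τ / 2) = 1 := by
        field_simp
        linear_combination hτ
      rw [this]
      linear_combination hi)
    refine ⟨w, v, h3, h4, h5, Or.inl ?_⟩
    rw [h6]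
    exact neg_ne_zero.2 one_ne_zero
  · obtain ⟨x, y, hxy⟩ := exists_sq_add_sq h2 (τ / 2 * (τ / 2) - 1)
    obtain ⟨w, v, h3, h4, h5, -⟩ := main x y hxy
    exact ⟨w, v, h3, h4, h5, ns_of_tr (by rwa [h5])⟩

/-- coefficients of the powers of a matrix of determinant 1 -/
def co (τ : F) : ℕ → F × F
  | 0 => (0, 1)
  | n + 1 => ((co τ n).1 * τ + (co τ n).2, -(co τ n).1)

theorem pow_ent (x : SL2) (n : ℕ) (i j : Fin 2) :
    ent (x ^ n) i j = (co (tr x) n).1 * ent x i j + (co (tr x) n).2 * ent (1 : SL2) i j := by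
  induction n generalizing i j with
  | zero => simp [co]
  | succ n ih =>
    have hd := det_eq x
    rw [pow_succ, ent_mul, ih i 0, ih i 1, co]
    fin_cases i <;> fin_cases j <;> simp only [Fin.zero_eta, Fin.mk_one, Fin.isValue, ent_one_00, ent_one_01,
      ent_one_10, ent_one_11, tr] <;>
      first
        | ring1
        | linear_combination (-(co (ent x 0 0 + ent x 1 1) n).1) * hd

theorem pow_eq {x y : SL2} (hx : NS x) (h : tr x = tr y) {n : ℕ} (hn : x ^ n = 1 ∨ x ^ n = -1) :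
    y ^ n = 1 ∨ y ^ n = -1 := by
  have key : ∀ c : F, (∀ i j, ent (x ^ n) i j = c * ent (1 : SL2) i j) → ∀ i j, ent (y ^ n) i j = c * ent (1 : SL2) i j := by
    intro c hc
    have h01 := hc 0 1
    have h10 := hc 1 0
    have h00 := hc 0 0
    have h11 := hc 1 1
    simp only [pow_ent, ent_one_00, ent_one_01, ent_one_10, ent_one_11, mul_zero, add_zero, mul_one] at h01 h10 h00 h11
    have h1 : (co (tr x) n).1 = 0 := by
      rcases hx with h | h | h
      · exact (mul_eq_zero.1 h01).resolve_right h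
      · exact (mul_eq_zero.1 h10).resolve_right h
      · have h3 : (co (tr x) n).1 * (ent x 0 0 - ent x 1 1) = 0 := by linear_combination h00 - h11
        exact (mul_eq_zero.1 h3).resolve_right (sub_ne_zero.2 h)
    have h2 : (co (tr x) n).2 = c := by
      rw [h1, zero_mul, zero_add] at h00
      exact h00
    intro i j
    rw [pow_ent, ← h, h1, h2, zero_mul, zero_add]
  rcases hn with hn | hn
  · left
    have h1 := key 1 fun i j => by rw [hn, one_mul]
    exact ext_ent (by rw [h1, one_mul]) (by rw [h1, one_mul]) (by rw [h1, one_mul]) (by rw [h1, one_mul])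
  · right
    have h1 := key (-1) fun i j => by rw [hn, ent_neg, neg_one_mul]
    exact ext_ent (by rw [h1, ent_neg, neg_one_mul]) (by rw [h1, ent_neg, neg_one_mul])
      (by rw [h1, ent_neg, neg_one_mul]) (by rw [h1, ent_neg, neg_one_mul])

variable {L : Type*} [Group L] (R : GH.L2Aut.Rep F L)

theorem orderOf_dvd {x y : SL2} (hx : NS x) (h : tr x = tr y) : orderOf (R.π y) ∣ orderOf (R.π x) := by
  rw [orderOf_dvd_iff_pow_eq_one, ← map_pow, R.ker]
  refine pow_eq hx h ?_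
  rw [← R.ker, map_pow, pow_orderOf_eq_one]

/-- the order of `π(y)` is divisible by an odd prime power divisor of the order of `y` -/
theorem dvd_orderOf_pi {y : SL2} {r : ℕ} (hr : r.Prime) (h2 : r ≠ 2) (hy : orderOf y = r) : r ∣ orderOf (R.π y) := by
  have h1 : R.π y ^ orderOf (R.π y) = 1 := pow_orderOf_eq_one _
  rw [← map_pow, R.ker] at h1
  have h3 : y ^ (orderOf (R.π y) * 2) = 1 := by
    rw [pow_mul, pow_two]
    rcases h1 with h1 | h1 <;> rw [h1] <;> simp
  have h4 : r ∣ orderOf (R.π y) * 2 := hy ▸ orderOf_dvd_of_pow_eq_one h3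
  refine (hr.dvd_mul.1 h4).resolve_right fun h5 => h2 ?_
  exact (Nat.prime_dvd_prime_iff_eq hr Nat.prime_two).1 h5

end sl

section num

/-- `q` a power of 5 -/
theorem five {f N : ℕ} (h : 5 ^ f + 1 = 2 * N) (h9 : 9 ∣ N) : 7 ∣ N := by
  have h1 : 5 ^ f % 63 = 5 ^ (f % 6) % 63 := by
    conv_lhs => rw [← Nat.div_add_mod f 6, pow_add, pow_mul, Nat.mul_mod, Nat.pow_mod]
    norm_num
  have h2 : f % 6 < 6 := Nat.mod_lt _ (by norm_num)
  generalize f % 6 = s at h1 h2
  interval_cases s <;> norm_num at h1 <;> omega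

/-- `q` a power of 3 -/
theorem three {f N : ℕ} (h : 3 ^ f + 1 = 2 * N) (h9 : 25 ∣ N) : 1181 ∣ N := by
  have h1 : 3 ^ f % 29525 = 3 ^ (f % 20) % 29525 := by
    conv_lhs => rw [← Nat.div_add_mod f 20, pow_add, pow_mul, Nat.mul_mod, Nat.pow_mod]
    norm_num
  have h2 : f % 20 < 20 := Nat.mod_lt _ (by norm_num)
  generalize f % 20 = s at h1 h2
  interval_cases s <;> norm_num at h1 <;> omega

/-- `q = p^f ≡ 1 (4)`, `p ∈ {3, 5}`, `q > 9` -/
theorem exists_prime_seven {p f : ℕ} (hp : p = 3 ∨ p = 5) (h4 : p ^ f % 4 = 1) (h9 : 9 < p ^ f) :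
    ∃ r : ℕ, r.Prime ∧ 7 ≤ r ∧ r ∣ p ^ f + 1 := by
  by_contra hcon
  push Not at hcon
  obtain ⟨N, hN⟩ : ∃ N, p ^ f + 1 = 2 * N := ⟨(p ^ f + 1) / 2, by omega⟩
  have hf : f ≠ 0 := by rintro rfl; simp at h9
  have hpd : p ∣ p ^ f := dvd_pow_self p hf
  have hodd : N % 2 = 1 := by omega
  have h1 : ∀ d : ℕ, d.Prime → d ∣ N → d = 8 - p := by
    intro d hd hdN
    have h2 : d ∣ p ^ f + 1 := by rw [hN]; exact Dvd.dvd.mul_left hdN 2
    have h3 : d < 7 := by
      by_contra h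
      exact hcon d hd (by omega) h2
    have h5 : d ≠ 2 := by rintro rfl; omega
    have h6 : d ≠ p := by
      rintro rfl
      have : d ∣ 1 := (Nat.dvd_add_right hpd).1 h2
      exact hd.one_lt.ne' (Nat.dvd_one.1 this)
    have h7 := hd.two_le
    interval_cases d
    · exact absurd rfl h5
    · omega
    · exact absurd hd (by norm_num)
    · omega
    · exact absurd hd (by norm_num)
  obtain ⟨a, ha⟩ : ∃ a, N = (8 - p) ^ a :=
    ⟨_, Nat.eq_prime_pow_of_unique_prime_dvd (by omega) fun {d} hdp hdn => h1 d hdp hdn⟩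
  rcases hp with rfl | rfl
  · have ha2 : 2 ≤ a := by
      by_contra h
      have : a = 0 ∨ a = 1 := by omega
      rcases this with rfl | rfl <;> norm_num at ha <;> omega
    have h5 : 25 ∣ N := by
      rw [ha]
      exact pow_dvd_pow 5 ha2
    have h6 := h1 1181 (by norm_num) (three hN h5)
    omega
  · have ha2 : 2 ≤ a := by
      by_contra h
      have : a = 0 ∨ a = 1 := by omega
      rcases this with rfl | rfl <;> norm_num at ha <;> omega
    have h5 : 9 ∣ N := by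
      rw [ha]
      exact pow_dvd_pow 3 ha2
    have h6 := h1 7 (by norm_num) (five hN h5)
    omega

end num

section order

variable {F : Type*} [Field F] [Fintype F] {L : Type*} [Group L] (R : GH.L2Aut.Rep F L)

local notation "SL2" => Matrix.SpecialLinearGroup (Fin 2) F

theorem dg_mul (a b : F) (ha : a ≠ 0) (hb : b ≠ 0) : dg a ha * dg b hb = dg (a * b) (mul_ne_zero ha hb) := by
  refine ext_ent ?_ ?_ ?_ ?_ <;> simp [ent_mul]
  field_simp

theorem dg_pow (a : F) (ha : a ≠ 0) (n : ℕ) : dg a ha ^ n = dg (a ^ n) (pow_ne_zero n ha) := by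
  induction n with
  | zero => refine ext_ent ?_ ?_ ?_ ?_ <;> simp
  | succ n ih =>
    rw [pow_succ, ih, dg_mul]
    refine ext_ent ?_ ?_ ?_ ?_ <;> simp [pow_succ]

theorem up_pow (b : F) (n : ℕ) : up b ^ n = up (n * b) := by
  induction n with
  | zero => simp [up_zero]
  | succ n ih =>
    rw [pow_succ, ih, up_mul]
    congr 1
    push_cast
    ring

/-- **`π(w) π(v)` of an order with a large odd divisor** -/
theorem exists_order (hodd : Odd (Fintype.card F)) (h13 : 13 ≤ Fintype.card F) :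
    ∃ w v : SL2, w * w = -1 ∧ v * v = -1 ∧ ∃ n : ℕ, Odd n ∧ 7 ≤ n ∧ n ∣ orderOf (R.π w * R.π v) := by
  have h2 : (2 : F) ≠ 0 := two_ne_zero_of_odd hodd
  have fin : ∀ (y : SL2) (n : ℕ), (tr y ^ 2 ≠ 4 ∨ ∃ i : F, i * i = -1) → Odd n → 7 ≤ n → n ∣ orderOf (R.π y) →
      ∃ w v : SL2, w * w = -1 ∧ v * v = -1 ∧ ∃ n : ℕ, Odd n ∧ 7 ≤ n ∧ n ∣ orderOf (R.π w * R.π v) := by
    intro y n h hn h7 hd
    obtain ⟨w, v, h3, h4, h5, h6⟩ := exists_wh h2 (tr y) h
    refine ⟨w, v, h3, h4, n, hn, h7, ?_⟩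
    rw [← map_mul]
    exact hd.trans (orderOf_dvd R h6 h5)
  by_cases hq : Fintype.card F % 4 = 3
  · -- the torus of order `q - 1`
    obtain ⟨a, ha⟩ := IsCyclic.exists_generator (α := Fˣ)
    have ho : orderOf a = Fintype.card F - 1 := by
      rw [orderOf_eq_card_of_forall_mem_zpowers ha, Nat.card_units, Nat.card_eq_fintype_card]
    have ha0 : (a : F) ≠ 0 := a.ne_zero
    have key : ∀ k : ℕ, (a : F) ^ k = 1 ∨ (a : F) ^ k = -1 → Fintype.card F - 1 ∣ k * 2 := by
      intro k hk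
      rw [← ho, orderOf_dvd_iff_pow_eq_one]
      apply Units.ext
      rw [Units.val_pow_eq_pow_val, pow_mul, Units.val_one]
      rcases hk with hk | hk <;> rw [hk] <;> ring
    refine fin (dg (a : F) ha0) ((Fintype.card F - 1) / 2) (Or.inl ?_) ?_ (by omega) ?_
    · intro h4
      have h5 : ((a : F) - (a : F)⁻¹) ^ 2 = 0 := by
        have h6 : (a : F) * (a : F)⁻¹ = 1 := mul_inv_cancel₀ ha0
        have h7 : ((a : F) + (a : F)⁻¹) ^ 2 = 4 := h4
        linear_combination h7 - 4 * h6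
      have h6 : (a : F) = (a : F)⁻¹ := sub_eq_zero.1 (pow_eq_zero_iff (by norm_num) |>.1 h5)
      have h7 : (a : F) ^ 2 = 1 := by
        rw [pow_two]
        nth_rw 2 [h6]
        exact mul_inv_cancel₀ ha0
      have h8 := Nat.le_of_dvd (by norm_num) (key 2 (Or.inl h7))
      omega
    · rw [Nat.odd_iff]
      omega
    · have h5 : R.π (dg (a : F) ha0) ^ orderOf (R.π (dg (a : F) ha0)) = 1 := pow_orderOf_eq_one _
      rw [← map_pow, R.ker, dg_pow] at h5
      have h6 : (a : F) ^ orderOf (R.π (dg (a : F) ha0)) = 1 ∨ (a : F) ^ orderOf (R.π (dg (a : F) ha0)) = -1 := by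
        rcases h5 with h5 | h5
        · left
          exact congrArg (fun x => ent x 0 0) h5
        · right
          exact congrArg (fun x => ent x 0 0) h5
      have h7 := key _ h6
      have h8 : (Fintype.card F - 1) / 2 * 2 ∣ orderOf (R.π (dg (a : F) ha0)) * 2 := by
        rwa [show (Fintype.card F - 1) / 2 * 2 = Fintype.card F - 1 by
          obtain ⟨m, hm⟩ := hodd
          omega]
      exact Nat.dvd_of_mul_dvd_mul_right (by norm_num) h8
  · have hi : ∃ i : F, i * i = -1 := by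
      obtain ⟨i, hi⟩ := FiniteField.isSquare_neg_one_iff.2 hq
      exact ⟨i, hi.symm⟩
    obtain ⟨p, hp⟩ := CharP.exists F
    have : Fact p.Prime := ⟨CharP.char_is_prime F p⟩
    obtain ⟨f, hpp, hf⟩ := FiniteField.card F p
    have hp2 : p ≠ 2 := by
      rintro rfl
      apply h2
      exact_mod_cast CharP.cast_eq_zero F 2
    have hp1 := hpp.two_le
    by_cases h7 : 7 ≤ p
    · refine fin (up 1) p (Or.inr hi) (hpp.odd_of_ne_two hp2) h7 (dvd_orderOf_pi R hpp hp2 ?_)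
      refine orderOf_eq_prime ?_ ?_
      · rw [up_pow, CharP.cast_eq_zero, zero_mul, up_zero]
      · intro h
        exact one_ne_zero (up_inj (h.trans up_zero.symm))
    · have h35 : p = 3 ∨ p = 5 := by
        interval_cases p
        · exact absurd rfl hp2
        · left; rfl
        · exact absurd hpp (by norm_num)
        · right; rfl
        · exact absurd hpp (by norm_num)
      have hmod : p ^ (f : ℕ) % 4 = 1 := by
        rw [← hf]
        obtain ⟨m, hm⟩ := hodd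
        omega
      obtain ⟨r, hr, hr7, hrd⟩ := exists_prime_seven h35 hmod (by rw [← hf]; omega)
      rw [← hf] at hrd
      have hr2 : r ≠ 2 := by omega
      have : Fact r.Prime := ⟨hr⟩
      have hc : r ∣ Nat.card SL2 := by
        rw [Cfsg.Agent.ClassicalGeometry.PSL2Basic.card_SL2]
        refine Dvd.dvd.mul_left ?_ _
        have : Fintype.card F ^ 2 - 1 = (Fintype.card F + 1) * (Fintype.card F - 1) := by
          have := Nat.sq_sub_sq (Fintype.card F) 1
          rwa [one_pow] at this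
        rw [this]
        exact Dvd.dvd.mul_right hrd _
      obtain ⟨y, hy⟩ := exists_prime_orderOf_dvd_card' (G := SL2) r hc
      exact fin y r (Or.inr hi) (hr.odd_of_ne_two hr2) hr7 (dvd_orderOf_pi R hr hr2 hy)

end order

section eleven

variable {F : Type*} [Field F] [Fintype F] {L : Type*} [Group L] (R : GH.L2Aut.Rep F L)

local notation "SL2" => Matrix.SpecialLinearGroup (Fin 2) F

theorem conj_sq {w x : SL2} (h : w * w = -1) : (x * w * x⁻¹) * (x * w * x⁻¹) = -1 := by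
  calc (x * w * x⁻¹) * (x * w * x⁻¹) = x * (w * w) * x⁻¹ := by group
    _ = -1 := by rw [h, mul_neg, mul_one, neg_mul, mul_inv_cancel]

/-- **a unipotent element is a product of four involutions**, `|F| > 3` -/
theorem exists_four (h3 : 3 < Fintype.card F) : ∃ w : Fin 4 → SL2, (∀ i, w i * w i = -1) ∧ ∃ c : F, c ≠ 0 ∧
    R.π (up c) = R.π (w 0) * R.π (w 1) * R.π (w 2) * R.π (w 3) := by
  classical
  -- an element `a`, `a² ≠ 1`
  obtain ⟨a, ha, ha1⟩ : ∃ a : F, a ≠ 0 ∧ a ^ 2 ≠ 1 := by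
    by_contra hc
    push Not at hc
    have h4 : (Finset.univ : Finset F) ⊆ {0, 1, -1} := by
      intro x _
      by_cases hx : x = 0
      · simp [hx]
      · have h5 : (x - 1) * (x + 1) = 0 := by linear_combination hc x hx
        rcases mul_eq_zero.1 h5 with h6 | h6
        · simp [sub_eq_zero.1 h6]
        · simp [eq_neg_of_add_eq_zero_left h6]
    have h5 := (Finset.card_le_card h4).trans Finset.card_le_three
    rw [Finset.card_univ] at h5
    omega
  have hw : ∀ (b : F) (hb : b ≠ 0), wm b hb * wm b hb = -1 := by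
    intro b hb
    refine ext_ent ?_ ?_ ?_ ?_ <;> simp [ent_mul, ent_neg, hb]
  refine ⟨![wm a ha, wm 1 one_ne_zero, up 1 * wm 1 one_ne_zero * (up 1)⁻¹, up 1 * wm a ha * (up 1)⁻¹], ?_,
    a ^ 2 - 1, sub_ne_zero.2 ha1, ?_⟩
  · intro i
    fin_cases i
    · exact hw a ha
    · exact hw 1 one_ne_zero
    · exact conj_sq (hw 1 one_ne_zero)
    · exact conj_sq (hw a ha)
  · have h1 : wm a ha * wm 1 one_ne_zero = -dg a ha := by
      refine ext_ent ?_ ?_ ?_ ?_ <;> simp [ent_mul, ent_neg]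
    have h2 : wm 1 one_ne_zero * wm a ha = -(dg a ha)⁻¹ := by
      rw [ent_inv]
      refine ext_ent ?_ ?_ ?_ ?_ <;> simp [ent_mul, ent_neg]
    have h3 : up (a ^ 2 - 1) = wm a ha * wm 1 one_ne_zero * (up 1 * wm 1 one_ne_zero * (up 1)⁻¹) *
        (up 1 * wm a ha * (up 1)⁻¹) := by
      calc up (a ^ 2 - 1) = dg a ha * up 1 * (dg a ha)⁻¹ * (up 1)⁻¹ := by
            rw [eq_mul_inv_iff_mul_eq, eq_mul_inv_iff_mul_eq, up_mul, dg_up]
            congr 2
            ring
        _ = -dg a ha * (up 1 * -(dg a ha)⁻¹) * (up 1)⁻¹ := by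
            simp only [mul_neg, neg_mul, neg_neg, mul_assoc]
        _ = wm a ha * wm 1 one_ne_zero * (up 1 * (wm 1 one_ne_zero * wm a ha)) * (up 1)⁻¹ := by rw [h1, h2]
        _ = _ := by group
    rw [h3, map_mul, map_mul, map_mul]
    rfl

end eleven

end Cfsg.Agent.Omega.ML.Ex.LTwoMat

end

section


/-!
# (ML), K-side, groups with a root group datum (OMEGA; helper949)

`Y` a finite group with a root group datum of characteristic `p` and trivial centre, generated by the root groups,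
`Inn Y ≤ 𝔾 ≤ Aut Y`, `D` a `p`-subgroup with `𝔾 = Inn(Y) D` and `Inn(U) ≤ D`; `A ≤ D` lies in a normal `p`-subgroup of
every proper overgroup of `D` in `𝔾`.

* `mem_WJ_of_U`, `le_PJ_of_U`, `eq_top_of_U` : **Tits' lemma**, the overgroups of `U`;
* `fix_PJ` : diagram automorphisms and parabolic subgroups;  `le_VJ` : `O_p(P_J) ≤ V_J`;
* `kopp` : either the proper overgroups of `D` are in one proper subgroup, or there is a `p`-subgroup `D'` of `𝔾` such
  that `A ⊓ R' = ⊥` for all proper overgroups `R'` of `D'` in `𝔾`.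
-/

set_option autoImplicit false
set_option linter.unusedSectionVars false

namespace Cfsg.Agent.Omega.ML.LieRgd

open Subgroup CoxeterSystem Cfsg.Agent.ChevalleyStructure.CoxeterGeom Cfsg.Agent.Tits.Roots Cfsg.Agent.Tits.Core
  Cfsg.Agent.Tits.Exchange Cfsg.Agent.Nodes.Reps Cfsg.Agent.Nodes.BNOf Cfsg.Agent.Nodes.StabComb
  Cfsg.Agent.Nodes.Bruhat Cfsg.Agent.Nodes.OppDec Cfsg.Agent.Nodes.LeviDec Cfsg.Agent.Nodes.NormalForm
  Cfsg.Agent.KFacts.RgdOpp Cfsg.Agent.KFacts.RgdAut Cfsg.Agent.KFacts.RgdDiag Cfsg.Agent.KFacts.RgdRigid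
  Cfsg.Agent.KFacts.RgdVJ Cfsg.Agent.KFacts.RgdSyl

variable {I W Y : Type*} [Fintype I] [DecidableEq I] [Group W] [Group Y] {M : CoxeterMatrix I}
  {cs : CoxeterSystem M W} {A : I → I → ℤ} {h : IsCartan M A} {p : ℕ} {T : Subgroup Y} {n : I → Y}
  {X : (I → ℤ) → Subgroup Y}

section tits

variable (R : RGD cs h p T n X)

include R

/-- **Tits' lemma**, elements of `N` -/
theorem mem_WJ_of_U [Finite W] {P : Subgroup Y} (hP : RGD.Sup X (RGD.Pos cs h) ≤ P) : ∀ {w : W} {k : Y},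
    Rp cs R.nsys w k → k ∈ P → w ∈ WJ cs {i | X (-sr i) ≤ P} := by
  intro w
  induction hn : cs.length w using Nat.strong_induction_on generalizing w with
  | _ N ih =>
  intro k hk hkP
  by_cases hw1 : w = 1
  · rw [hw1]; exact one_mem _
  obtain ⟨i, hi⟩ := cs.exists_leftDescent_of_ne_one hw1
  have hi' : cs.length (cs.simple i * w) < cs.length w := hi
  have hneg : rep cs h w⁻¹ (sr i) ≤ 0 := by
    refine nonpos_of_lt cs h w⁻¹ i ?_
    rw [← cs.length_inv w, ← cs.length_inv (cs.simple i * w), mul_inv_rev, inv_simple] at hi'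
    exact hi'
  have hX : X (-sr i) ≤ P := by
    intro x hx
    have h3 : k⁻¹ * x * k ∈ X (-rep cs h w⁻¹ (sr i)) := by
      have := R.conj_mem' hk (isRoot_sr cs h i).neg hx
      rwa [map_neg] at this
    have h4 : k⁻¹ * x * k ∈ P :=
      hP (RGD.le_Sup (S := RGD.Pos cs h) ⟨((isRoot_sr cs h i).act w⁻¹).neg, neg_nonneg.2 hneg⟩ h3)
    have e : x = k * (k⁻¹ * x * k) * k⁻¹ := by group
    rw [e]
    exact mul_mem (mul_mem hkP h4) (inv_mem hkP)
  obtain ⟨u, hu, hu1⟩ := exists_ne_one R i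
  have h1 : n i * u * (n i)⁻¹ ∈ X (-sr i) := by
    have := R.conj_mem (rp_simple cs R.nsys i) (isRoot_sr cs h i) hu
    rwa [rep_simple_sr] at this
  have h2 : n i * u * (n i)⁻¹ ≠ 1 := fun h3 => hu1 (mul_eq_left.1 (mul_inv_eq_one.1 h3))
  obtain ⟨a, ha, t, ht, b, hb, e⟩ := R.rk1 i _ h1 h2
  have hXi : X (sr i) ≤ P := le_trans (RGD.le_Sup (S := RGD.Pos cs h) ⟨isRoot_sr cs h i, sr_nonneg i⟩) hP
  have h6 : t * n i ∈ P := by
    have h3 : t * n i = a⁻¹ * (n i * u * (n i)⁻¹) * b⁻¹ := by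
      conv_rhs => rw [e]
      group
    rw [h3]
    exact mul_mem (mul_mem (inv_mem (hXi ha)) (hX h1)) (inv_mem (hXi hb))
  have hk1 : Rp cs R.nsys (cs.simple i) (t * n i) := by
    have := (rp_of_mem (cs := cs) (hN := R.nsys) ht).mul (rp_simple cs R.nsys i)
    rwa [one_mul] at this
  have hk2 : Rp cs R.nsys (cs.simple i * w) ((t * n i)⁻¹ * k) := by
    have := hk1.inv.mul hk
    rwa [inv_simple] at this
  have h7 := ih (cs.length (cs.simple i * w)) (by omega) rfl hk2 (mul_mem (inv_mem h6) hkP)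
  have h8 : w = cs.simple i * (cs.simple i * w) := by rw [← mul_assoc, simple_mul_simple_self, one_mul]
  rw [h8]
  exact mul_mem (simple_mem_WJ cs hX) h7

/-- **Tits' lemma**: an overgroup of `U` is in the parabolic subgroup of its nodes. -/
theorem le_PJ_of_U [Finite W] (hG : GG cs h T X = ⊤) {P : Subgroup Y} (hP : RGD.Sup X (RGD.Pos cs h) ≤ P) :
    P ≤ PJ cs h T X {i | X (-sr i) ≤ P} := by
  intro g hg
  obtain ⟨w, hw⟩ := (mem_GG R).1 (show g ∈ GG cs h T X by rw [hG]; exact mem_top g)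
  rw [cell_mem_PJ_iff R hw]
  obtain ⟨b₁, hb₁, k, hk, b₂, hb₂, e⟩ := hw
  obtain ⟨t₁, ht₁, u₁, hu₁, e₁⟩ := R.mem_B.1 (inv_mem hb₁)
  obtain ⟨t₂, ht₂, u₂, hu₂, e₂⟩ := R.mem_B.1 hb₂
  have hk' : Rp cs R.nsys w (t₁⁻¹ * k * t₂) := by
    have := ((rp_of_mem (cs := cs) (hN := R.nsys) (inv_mem ht₁)).mul hk).mul_mem_right ht₂
    rwa [one_mul] at this
  refine mem_WJ_of_U R hP hk' ?_
  have e3 : t₁⁻¹ * k * t₂ = u₁ * g * u₂⁻¹ := by
    have e4 : b₁ = u₁⁻¹ * t₁⁻¹ := by rw [← inv_inv b₁, e₁, mul_inv_rev]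
    rw [e, e4, e₂]
    group
  rw [e3]
  exact mul_mem (mul_mem (hP hu₁) hg) (inv_mem (hP hu₂))

theorem eq_top_of_U [Finite W] (hG1 : RGD.Sup X {x | IsRoot cs h x} = ⊤) {P : Subgroup Y}
    (hP : RGD.Sup X (RGD.Pos cs h) ≤ P) (hJ : ∀ i, X (-sr i) ≤ P) : P = ⊤ := by
  rw [eq_top_iff, ← hG1]
  exact Sup_le_of_simple R (fun i => le_trans (RGD.le_Sup (S := RGD.Pos cs h) ⟨isRoot_sr cs h i, sr_nonneg i⟩) hP) hJ

/-- the opposite form of `le_PJ_of_U` -/
theorem le_PNJ_of_UN [Finite W] (hG : GG cs h T X = ⊤) {P : Subgroup Y} (hP : UN cs h X ≤ P) :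
    P ≤ PNJ cs h T X {i | X (sr i) ≤ P} := by
  have h1 := le_PJ_of_U (opp R) (P := P) (by rw [GG_opp, hG]) (by rw [U_opp]; exact hP)
  rw [PJ_opp] at h1
  simpa only [neg_neg] using h1

theorem eq_top_of_UN [Finite W] (hG1 : RGD.Sup X {x | IsRoot cs h x} = ⊤) {P : Subgroup Y}
    (hP : UN cs h X ≤ P) (hJ : ∀ i, X (sr i) ≤ P) : P = ⊤ := by
  rw [eq_top_iff, ← hG1]
  exact Sup_le_of_simple R hJ (fun i => le_trans (X_le_UN (isRoot_sr cs h i).neg (by
    rw [neg_nonpos]; exact sr_nonneg i)) hP)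

/-- `U⁻ = (U⁻ ∩ L_J) V_J⁻` -/
theorem exists_UN {J : Set I} {x : Y} (hx : x ∈ UN cs h X) :
    ∃ a ∈ UN cs h X, ∃ v ∈ VNJ cs h X J, a ∈ LJ cs h T X J ∧ x = a * v := by
  have h2 : UN cs h X ≤ (LJ cs h T X J ⊓ UN cs h X) ⊔ VNJ cs h X J := by
    refine RGD.Sup_le fun z hz => ?_
    have hz0 : 0 ≤ -z := neg_nonneg.2 hz.2
    rcases mem_PosJ_or_NotJ J hz.1.neg hz0 with h1 | h1
    · refine le_trans (le_inf ?_ (X_le_UN hz.1 hz.2)) le_sup_left
      have h3 := RootsJ.neg (PosJ_subset J h1)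
      rw [neg_neg] at h3
      exact X_le_LJ h3
    · exact le_trans (RGD.le_Sup (S := NotNJ cs h J) h1) le_sup_right
  have h1 : x ∈ (((LJ cs h T X J ⊓ UN cs h X) ⊔ VNJ cs h X J : Subgroup Y) : Set Y) := h2 hx
  rw [Subgroup.coe_mul_of_left_le_normalizer_right _ _ (le_trans inf_le_left (LJ_le_normalizer_VNJ R J)),
    Set.mem_mul] at h1
  obtain ⟨a, ha, v, hv, e⟩ := h1
  exact ⟨a, ha.2, v, hv, ha.1, e.symm⟩

/-- a diagram automorphism and an invariant set of nodes -/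
theorem fix_PJ [Finite W] {β : MulAut Y} {σ : Equiv.Perm I} (hB : Fix β (RGD.B cs h T X)) (D : Diag T X β σ)
    {J : Set I} (hJ : ∀ i, σ i ∈ J ↔ i ∈ J) : Fix β (PJ cs h T X J) := by
  have key : ∀ (β : MulAut Y) (σ : Equiv.Perm I), Fix β (RGD.B cs h T X) → Diag T X β σ → (∀ i, σ i ∈ J ↔ i ∈ J) →
      ∀ x ∈ PJ cs h T X J, β x ∈ PJ cs h T X J := by
    intro β σ hB D hJ x hx
    obtain ⟨P, hP⟩ : ∃ P : Subgroup Y, ∀ x, x ∈ P ↔ β x ∈ PJ cs h T X J :=
      ⟨(PJ cs h T X J).comap β.toMonoidHom, fun x => Iff.rfl⟩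
    have hPB : RGD.B cs h T X ≤ P := fun x hx => (hP x).2 (B_le_PJ ((hB x).2 hx))
    obtain ⟨w, hw, hc⟩ := (mem_PJ_iff_cell R).1 hx
    rw [← hP, cell_mem_iff R hPB hc]
    refine WJ_mono cs ?_ hw
    intro i hi
    show n i ∈ P
    rw [hP]
    exact (cell_mem_PJ_iff R (cell_of_rp (D.rp (R := R) i))).2 (simple_mem_WJ cs ((hJ i).2 hi))
  intro x
  refine ⟨fun hx => ?_, key β σ hB D hJ x⟩
  have h1 := key β⁻¹ σ⁻¹ hB.inv D.inv (fun i => by
    rw [← hJ (σ⁻¹ i)]
    have : σ (σ⁻¹ i) = i := σ.apply_symm_apply i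
    rw [this]) _ hx
  rwa [MulAut.inv_apply_self] at h1

end tits

section core

variable [Finite Y] [hp : Fact p.Prime] (R : RGD cs h p T n X)

include R hp

/-- a `p`-group containing `U` is `U` -/
theorem le_U_of_isPGroup [Finite W] (hG : GG cs h T X = ⊤) {Q : Subgroup Y} (hQ : IsPGroup p Q)
    (hU : RGD.Sup X (RGD.Pos cs h) ≤ Q) : Q ≤ RGD.Sup X (RGD.Pos cs h) := by
  rw [← relIndex_eq_one]
  have h1 := not_dvd_relIndex R
  rw [hG, relIndex_top_right] at h1
  have h2 : (RGD.Sup X (RGD.Pos cs h)).relIndex Q ∣ (RGD.Sup X (RGD.Pos cs h)).index :=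
    ⟨Q.index, (relIndex_mul_index hU).symm⟩
  obtain ⟨k, hk⟩ := hQ.index (H := (RGD.Sup X (RGD.Pos cs h)).subgroupOf Q) |>.imp fun _ h => h
  have h3 : (RGD.Sup X (RGD.Pos cs h)).relIndex Q = p ^ k := hk
  rcases Nat.eq_zero_or_pos k with h0 | h0
  · rw [h3, h0, pow_zero]
  · exfalso
    apply h1
    rw [h3] at h2
    exact (dvd_pow_self p h0.ne').trans h2

/-- `O_p(P_J) ≤ V_J` -/
theorem le_VJ [Finite W] (hG : GG cs h T X = ⊤) {J : Set I} {N : Subgroup Y} (hN : IsPGroup p N)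
    (hn : ∀ g ∈ PJ cs h T X J, ∀ x ∈ N, g * x * g⁻¹ ∈ N) : N ≤ VJ cs h X J := by
  have hNU : N ≤ RGD.Sup X (RGD.Pos cs h) := by
    have h1 : RGD.Sup X (RGD.Pos cs h) ≤ normalizer (N : Set Y) := by
      intro u hu
      have hu' : u ∈ PJ cs h T X J := B_le_PJ (RGD.U_le_B hu)
      rw [mem_normalizer_iff]
      intro x
      refine ⟨hn u hu' x, fun hx => ?_⟩
      have := hn u⁻¹ (inv_mem hu') _ hx
      rwa [show u⁻¹ * (u * x * u⁻¹) * u⁻¹⁻¹ = x by group] at this
    have h2 : IsPGroup p ↥(RGD.Sup X (RGD.Pos cs h) ⊔ N) := R.isPGroup_Upos.to_sup_of_normal_right' hN h1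
    exact le_trans le_sup_right (le_U_of_isPGroup R hG h2 le_sup_left)
  intro x hx
  obtain ⟨t, ht, v, hv, e⟩ := mem_TV R (J := J) (c := x) fun g hg => RGD.U_le_B (hNU (hn g hg x hx))
  have h1 : t ∈ RGD.Sup X (RGD.Pos cs h) := by
    have : t = x * v⁻¹ := by rw [e]; group
    rw [this]
    exact mul_mem (hNU hx) (inv_mem (VJ_le_U J hv))
  have h2 := U_inf_T R
  rw [Subgroup.eq_bot_iff_forall] at h2
  rw [e, h2 t ⟨h1, ht⟩, one_mul]
  exact hv

theorem PJ_ne_top [Finite W] {J : Set I} (hJ : J ≠ Set.univ) : PJ cs h T X J ≠ ⊤ := by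
  intro h1
  obtain ⟨i, hi⟩ := (Set.ne_univ_iff_exists_notMem J).1 hJ
  apply X_ne_bot R (isRoot_sr cs h i).neg
  have h2 : X (-sr i) ≤ VNJ cs h X J := RGD.le_Sup (S := NotNJ cs h J) (by
    show - -sr i ∈ NotJ cs h J
    rw [neg_neg]
    exact sr_mem_NotJ hi)
  have h3 := VNJ_inf_PJ R J
  rw [h1, inf_top_eq] at h3
  rw [eq_bot_iff, ← h3]
  exact h2

end core

end Cfsg.Agent.Omega.ML.LieRgd

end

section


/-!
# Equality in the Chermak-Delgado inequality, atoms (OMEGA, (ML); #15357 (1), (2) of helper24, #15918 of helper93,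
#16220 LEMMA EQ, (R1) of helper34); K-free

`H` acts on the finite group `M`, `f B = fab M a b B = |B|^a |C_M(B)|^b` (`a / b = t`).

* `Flat f R` : `f ≤ f(1)` on the subgroups of `R`;  `Tight f B` : `f B = f(1)`;  `Atom f B` : `B` is minimal among the
  nontrivial tight subgroups;
* `Flat.eqs`, `Flat.set_mul`, `Flat.cv_mul` : for tight `B, D` in a flat group: `⟨B, D⟩ = B D`, `C_M(B ∩ D) = C_M(B) C_M(D)`;
* `Atom.comm` : **two distinct atoms in a flat 2-group commute**;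
* `Atom.eq` : **LEMMA EQ** `[M, B] ≤ C_M(B')` for distinct atoms `B`, `B'` in a flat 2-group;
* `jo f Q`, `br M X` : the join of the atoms of `Q`, the group `[M, X]`.
-/

set_option autoImplicit false

namespace Cfsg.Agent.Omega.ML.Ratio

open Subgroup Cfsg.Agent.ClassTwoFusion.Quad Cfsg.Agent.Omega.NOThree.NoOver Cfsg.Agent.Omega.ML.CD
open scoped Pointwise

variable {H : Type*} [Group H]

/-- `f ≤ f(1)` on the subgroups of `R` -/
def Flat (f : Subgroup H → ℕ) (R : Subgroup H) : Prop := ∀ D ≤ R, f D ≤ f ⊥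

/-- `f B = f(1)` -/
def Tight (f : Subgroup H → ℕ) (B : Subgroup H) : Prop := f B = f ⊥

/-- a minimal nontrivial tight subgroup -/
structure Atom (f : Subgroup H → ℕ) (B : Subgroup H) : Prop where
  ne_bot : B ≠ ⊥
  tight : Tight f B
  min : ∀ D ≤ B, Tight f D → D = ⊥ ∨ D = B

variable {f : Subgroup H → ℕ}

theorem Flat.mono {R R' : Subgroup H} (h : Flat f R) (hR : R' ≤ R) : Flat f R' := fun D hD => h D (hD.trans hR)

theorem Flat.best {R B : Subgroup H} (h : Flat f R) (hB : B ≤ R) (ht : Tight f B) : Best f R B :=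
  ⟨hB, fun D hD => (h D hD).trans ht.ge⟩

theorem Flat.tight {R B : Subgroup H} (h : Flat f R) (hB : Best f R B) : Tight f B :=
  le_antisymm (h B hB.1) (hB.2 ⊥ bot_le)

theorem Flat.sup_inf (hf : LS f) {R B D : Subgroup H} (h : Flat f R) (hB : B ≤ R) (hD : D ≤ R)
    (tB : Tight f B) (tD : Tight f D) : Tight f (B ⊔ D) ∧ Tight f (B ⊓ D) := by
  obtain ⟨h1, h2⟩ := hf.best_sup_inf (h.best hB tB) (h.best hD tD)
  exact ⟨h.tight h1, h.tight h2⟩

theorem cj_bot (g : H) : cj g (⊥ : Subgroup H) = ⊥ := Subgroup.map_bot _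

theorem card_cj [Finite H] (g : H) (B : Subgroup H) : Nat.card (cj g B) = Nat.card B :=
  (Nat.card_congr (B.equivMapOfInjective _ (MulAut.conj g).injective).toEquiv).symm

theorem tight_cj (hf : LS f) {B : Subgroup H} (h : Tight f B) (g : H) : Tight f (cj g B) := by
  unfold Tight
  rw [hf.conj]
  exact h

theorem Atom.conj (hf : LS f) {B : Subgroup H} (h : Atom f B) (g : H) : Atom f (cj g B) where
  ne_bot := fun h1 => h.ne_bot (by rw [cj_eq_iff, cj_bot] at h1; exact h1)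
  tight := tight_cj hf h.tight g
  min := by
    intro D hD hD'
    have h1 := h.min (cj g⁻¹ D) (by rwa [cj_le_iff, inv_inv]) (tight_cj hf hD' g⁻¹)
    rcases h1 with h1 | h1
    · left
      rw [cj_eq_iff, inv_inv, cj_bot] at h1
      exact h1
    · right
      rwa [cj_eq_iff, inv_inv] at h1

theorem Flat.conj (hf : LS f) {R : Subgroup H} (h : Flat f R) (g : H) : Flat f (cj g R) := by
  intro D hD
  have h1 := h (cj g⁻¹ D) (by rwa [cj_le_iff, inv_inv])
  rwa [hf.conj] at h1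

/-- every nontrivial tight group contains an atom -/
theorem exists_atom [Finite H] {B : Subgroup H} (h : Tight f B) (hB : B ≠ ⊥) : ∃ A ≤ B, Atom f A := by
  obtain ⟨A, ⟨hA1, hA2, hA3⟩, hmin⟩ := Set.exists_min_image {A : Subgroup H | A ≤ B ∧ Tight f A ∧ A ≠ ⊥}
    (fun A => Nat.card A) (Set.toFinite _) ⟨B, le_rfl, h, hB⟩
  refine ⟨A, hA1, hA3, hA2, fun D hD hD' => ?_⟩
  by_cases h1 : D = ⊥
  · exact Or.inl h1
  · exact Or.inr (eq_of_le_of_card_ge hD (hmin D ⟨hD.trans hA1, hD', h1⟩))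

theorem Atom.inf_eq_bot (hf : LS f) {R B D : Subgroup H} (hR : Flat f R) (hB : Atom f B) (hD : Atom f D)
    (hBR : B ≤ R) (hDR : D ≤ R) (hne : B ≠ D) : B ⊓ D = ⊥ := by
  have h1 := (hR.sup_inf hf hBR hDR hB.tight hD.tight).2
  rcases hB.min _ inf_le_left h1 with h2 | h2
  · exact h2
  · rcases hD.min _ inf_le_right h1 with h3 | h3
    · exact h3
    · exact absurd (h2.symm.trans h3) hne

/-! ### The join of the atoms -/

/-- the join of the atoms of `Q` -/
def jo (f : Subgroup H → ℕ) (Q : Subgroup H) : Subgroup H := sSup {B : Subgroup H | Atom f B ∧ B ≤ Q}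

theorem jo_le (f : Subgroup H → ℕ) (Q : Subgroup H) : jo f Q ≤ Q := sSup_le fun _ hB => hB.2

theorem Atom.le_jo {B Q : Subgroup H} (h : Atom f B) (hB : B ≤ Q) : B ≤ jo f Q := le_sSup ⟨h, hB⟩

theorem jo_mono {Q Q' : Subgroup H} (h : Q ≤ Q') : jo f Q ≤ jo f Q' :=
  sSup_le fun _ hB => hB.1.le_jo (hB.2.trans h)

theorem cj_jo_le (hf : LS f) (g : H) (Q : Subgroup H) : cj g (jo f Q) ≤ jo f (cj g Q) := by
  rw [cj_le_iff]
  refine sSup_le fun B hB => ?_
  rw [← cj_le_iff]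
  exact (hB.1.conj hf g).le_jo (cj_mono hB.2)

theorem jo_cj (hf : LS f) (g : H) (Q : Subgroup H) : jo f (cj g Q) = cj g (jo f Q) := by
  refine le_antisymm ?_ (cj_jo_le hf g Q)
  have h1 := cj_jo_le hf g⁻¹ (cj g Q)
  rwa [cj_cj, inv_mul_cancel, cj_one, cj_le_iff, inv_inv] at h1

theorem normalizer_le_jo (hf : LS f) (Q : Subgroup H) : normalizer (Q : Set H) ≤ normalizer (jo f Q : Set H) := by
  intro g hg
  rw [Subgroup.mem_normalizer_iff_map_conj_eq] at hg ⊢
  change cj g Q = Q at hg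
  change cj g (jo f Q) = jo f Q
  rw [← jo_cj hf, hg]

/-! ### Equality -/

/-- `x ≤ X`, `y ≤ Y`, `X^a Y^b ≤ x^a y^b` imply equality -/
theorem eq_of_pow_le {a b x y X Y : ℕ} (ha : a ≠ 0) (hb : b ≠ 0) (hx : x ≤ X) (hy : y ≤ Y) (hx0 : 0 < x) (hy0 : 0 < y)
    (h : X ^ a * Y ^ b ≤ x ^ a * y ^ b) : x = X ∧ y = Y := by
  constructor
  · by_contra hne
    have h1 := Nat.pow_lt_pow_left (lt_of_le_of_ne hx hne) ha
    have h2 := Nat.pow_le_pow_left hy b
    have h3 : x ^ a * y ^ b < X ^ a * Y ^ b := Nat.mul_lt_mul_of_lt_of_le h1 h2 (Nat.pow_pos (hy0.trans_le hy))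
    omega
  · by_contra hne
    have h1 := Nat.pow_le_pow_left hx a
    have h2 := Nat.pow_lt_pow_left (lt_of_le_of_ne hy hne) hb
    have h3 : x ^ a * y ^ b < X ^ a * Y ^ b := Nat.mul_lt_mul_of_le_of_lt h1 h2 (Nat.pow_pos (hx0.trans_le hx))
    omega

variable {M : Type*} [Group M] [MulDistribMulAction H M] [Finite H] [Finite M] {a b : ℕ}

/-- both factors of the Chermak-Delgado inequality are equalities -/
theorem Flat.eqs (ha : a ≠ 0) (hb : b ≠ 0) {R B D : Subgroup H} (h : Flat (fab M a b) R) (hB : B ≤ R) (hD : D ≤ R)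
    (tB : Tight (fab M a b) B) (tD : Tight (fab M a b) D) :
    Nat.card B * Nat.card D = Nat.card (B ⊔ D : Subgroup H) * Nat.card (B ⊓ D : Subgroup H) ∧
      Nat.card (cv M (B : Set H)) * Nat.card (cv M (D : Set H)) =
      Nat.card (cv M ((B ⊔ D : Subgroup H) : Set H)) * Nat.card (cv M ((B ⊓ D : Subgroup H) : Set H)) := by
  obtain ⟨h1, h2⟩ := h.sup_inf (ls_fab M a b) hB hD tB tD
  apply eq_of_pow_le ha hb (card_mul_card_le B D) (card_cv_le (M := M) B D) (Nat.mul_pos Nat.card_pos Nat.card_pos)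
    (Nat.mul_pos Nat.card_pos Nat.card_pos)
  have h3 : fab M a b (B ⊔ D) * fab M a b (B ⊓ D) = fab M a b B * fab M a b D := by rw [h1, h2, tB, tD]
  unfold fab at h3
  rw [mul_pow, mul_pow, mul_pow, mul_pow]
  refine le_of_eq ?_
  calc _ = _ := by ring
    _ = _ := h3
    _ = _ := by ring

/-- `X Y = Z` if `|X||Y| = |Z||X ∩ Y|` -/
theorem set_mul_eq {G : Type*} [Group G] [Finite G] {X Y Z : Subgroup G} (hX : X ≤ Z) (hY : Y ≤ Z)
    (h : Nat.card X * Nat.card Y = Nat.card Z * Nat.card (X ⊓ Y : Subgroup G)) :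
    ((X : Set G) * (Y : Set G) : Set G) = (Z : Set G) := by
  have h1 : ((X : Set G) * (Y : Set G) : Set G) ⊆ (Z : Set G) := by
    rintro _ ⟨x, hx, y, hy, rfl⟩
    exact Z.mul_mem (hX hx) (hY hy)
  have h2 := Cfsg.Agent.Lib.ProductSet.card_mul_card_inf X Y
  rw [h] at h2
  have h3 := Nat.eq_of_mul_eq_mul_right Nat.card_pos h2
  refine Set.eq_of_subset_of_ncard_le h1 ?_ (Set.toFinite _)
  exact h3.ge

/-- tight subgroups of a flat group permute -/
theorem Flat.set_mul (ha : a ≠ 0) (hb : b ≠ 0) {R B D : Subgroup H} (h : Flat (fab M a b) R) (hB : B ≤ R) (hD : D ≤ R)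
    (tB : Tight (fab M a b) B) (tD : Tight (fab M a b) D) :
    ((B : Set H) * (D : Set H) : Set H) = ((B ⊔ D : Subgroup H) : Set H) :=
  set_mul_eq le_sup_left le_sup_right (h.eqs ha hb hB hD tB tD).1

/-- `C_M(B ∩ D) = C_M(B) C_M(D)` -/
theorem Flat.cv_mul (ha : a ≠ 0) (hb : b ≠ 0) {R B D : Subgroup H} (h : Flat (fab M a b) R) (hB : B ≤ R) (hD : D ≤ R)
    (tB : Tight (fab M a b) B) (tD : Tight (fab M a b) D) :
    ((cv M (B : Set H) : Set M) * (cv M (D : Set H) : Set M) : Set M) =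
      (cv M ((B ⊓ D : Subgroup H) : Set H) : Set M) := by
  apply set_mul_eq (cv_anti (SetLike.coe_subset_coe.2 inf_le_left)) (cv_anti (SetLike.coe_subset_coe.2 inf_le_right))
  rw [(h.eqs ha hb hB hD tB tD).2, cv_sup, mul_comm]

omit [Finite H] in
/-- if two distinct atoms normalise each other they commute -/
theorem Atom.comm_of_normalizer {R B D : Subgroup H} (hf : LS f) (hR : Flat f R) (hB : Atom f B) (hD : Atom f D)
    (hBR : B ≤ R) (hDR : D ≤ R) (hne : B ≠ D) (h1 : B ≤ normalizer (D : Set H)) (h2 : D ≤ normalizer (B : Set H)) :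
    ∀ x ∈ B, ∀ y ∈ D, x * y = y * x := by
  intro x hx y hy
  have h3 : x * y * x⁻¹ * y⁻¹ ∈ B ⊓ D := by
    constructor
    · have h4 := (mem_normalizer_iff.1 (h2 hy) x⁻¹).1 (inv_mem hx)
      have h5 : x * y * x⁻¹ * y⁻¹ = x * (y * x⁻¹ * y⁻¹) := by group
      rw [h5]
      exact B.mul_mem hx h4
    · exact D.mul_mem ((mem_normalizer_iff.1 (h1 hx) y).1 hy) (inv_mem hy)
  rw [hB.inf_eq_bot hf hR hD hBR hDR hne, mem_bot] at h3
  calc x * y = x * y * x⁻¹ * y⁻¹ * (y * x) := by group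
    _ = y * x := by rw [h3, one_mul]

/-- **(1) of #15357**: two distinct atoms in a flat 2-group commute. -/
theorem Atom.comm (ha : a ≠ 0) (hb : b ≠ 0) {R B D : Subgroup H} (hR : Flat (fab M a b) R) (h2 : IsPGroup 2 R)
    (hB : Atom (fab M a b) B) (hD : Atom (fab M a b) D) (hBR : B ≤ R) (hDR : D ≤ R) (hne : B ≠ D) :
    ∀ x ∈ B, ∀ y ∈ D, x * y = y * x := by
  have hf := ls_fab (H := H) M a b
  set S : Subgroup H := B ⊔ D with hS
  have hSR : S ≤ R := sup_le hBR hDR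
  have hBD := hB.inf_eq_bot hf hR hD hBR hDR hne
  have hcard : Nat.card S = Nat.card B * Nat.card D := by
    have h3 := (hR.eqs ha hb hBR hDR hB.tight hD.tight).1
    rw [hBD, card_bot, mul_one] at h3
    exact h3.symm
  -- each of two atoms generating `S` with the other one is normal in `S`
  have key : ∀ B D : Subgroup H, Atom (fab M a b) B → Atom (fab M a b) D → B ≤ S → D ≤ S → S ≤ B ⊔ D →
      Nat.card S = Nat.card B * Nat.card D → S ≤ normalizer (B : Set H) := by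
    intro B D hB hD hBS hDS hgen hcard
    by_contra hcon
    set N : Subgroup H := normalizer (B : Set H) ⊓ S with hN
    have hNS : N < S := lt_of_le_of_ne inf_le_right fun h3 => hcon (by rw [← h3]; exact inf_le_left)
    -- normalisers grow
    have hgrow : ∃ r ∈ S, r ∈ normalizer (N : Set H) ∧ r ∉ N := by
      have hSp : IsPGroup 2 S := h2.to_le hSR
      have : Fact (Nat.Prime 2) := ⟨Nat.prime_two⟩
      have hnil : Group.IsNilpotent S := hSp.isNilpotent
      have h4 : (N.subgroupOf S) < ⊤ := by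
        rw [lt_top_iff_ne_top]
        intro h5
        exact hNS.not_ge (subgroupOf_eq_top.1 h5)
      have h5 := Group.normalizerCondition_of_isNilpotent (N.subgroupOf S) h4
      obtain ⟨r, hr1, hr2⟩ := SetLike.exists_of_lt h5
      refine ⟨r, r.2, ?_, fun h6 => hr2 (mem_subgroupOf.2 h6)⟩
      rw [mem_normalizer_iff]
      intro y
      rw [mem_normalizer_iff] at hr1
      constructor
      · intro hy
        exact (hr1 ⟨y, hNS.le hy⟩).1 hy
      · intro hy
        have h6 : y ∈ S := by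
          have h7 : y = (r : H)⁻¹ * (r * y * (r : H)⁻¹) * r := by group
          rw [h7]
          exact S.mul_mem (S.mul_mem (S.inv_mem r.2) (hNS.le hy)) r.2
        exact (hr1 ⟨y, h6⟩).2 hy
    obtain ⟨r, hrS, hrN, hr⟩ := hgrow
    have hBN : B ≤ N := le_inf le_normalizer hBS
    have hBr : cj r B ≤ N := by
      rintro _ ⟨x, hx, rfl⟩
      exact (mem_normalizer_iff.1 hrN x).1 (hBN hx)
    have hne' : B ≠ cj r B := by
      intro h3
      apply hr
      have h4 : r ∈ normalizer (B : Set H) := by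
        rw [Subgroup.mem_normalizer_iff_map_conj_eq]
        exact h3.symm
      exact ⟨h4, hrS⟩
    have hBr' := hB.conj hf r
    have hR' : Flat (fab M a b) S := hR.mono hSR
    have hBrS : cj r B ≤ S := hBr.trans hNS.le
    have h3 := hB.inf_eq_bot hf hR' hBr' hBS hBrS hne'
    -- `D₁ = B B^r`
    set D₁ : Subgroup H := B ⊔ cj r B with hD₁
    have hD₁N : D₁ ≤ N := sup_le hBN hBr
    have t1 := (hR'.sup_inf hf hBS hBrS hB.tight hBr'.tight).1
    have hcard1 : Nat.card D₁ = Nat.card B * Nat.card B := by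
      have h4 := (hR'.eqs ha hb hBS hBrS hB.tight hBr'.tight).1
      rw [h3, card_bot, mul_one, card_cj] at h4
      exact h4.symm
    have t2 := (hR'.sup_inf hf (hD₁N.trans hNS.le) hDS t1 hD.tight).2
    rcases hD.min _ inf_le_right t2 with h4 | h4
    · -- too many elements
      have h5 := card_mul_card_le D₁ D
      rw [h4, card_bot, mul_one] at h5
      have h6 : Nat.card (D₁ ⊔ D : Subgroup H) ≤ Nat.card S :=
        card_le_of_le (sup_le (hD₁N.trans hNS.le) hDS)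
      have h7 : 1 < Nat.card B := (one_lt_card_iff_ne_bot B).2 hB.ne_bot
      have h8 : 0 < Nat.card D := Nat.card_pos
      rw [hcard1] at h5
      rw [hcard] at h6
      have h9 : Nat.card B * Nat.card B * Nat.card D ≤ Nat.card B * Nat.card D := h5.trans h6
      have h10 : Nat.card B * Nat.card D * 1 < Nat.card B * Nat.card D * Nat.card B :=
        Nat.mul_lt_mul_of_pos_left h7 (Nat.mul_pos Nat.card_pos h8)
      have h11 : Nat.card B * Nat.card B * Nat.card D = Nat.card B * Nat.card D * Nat.card B := by ring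
      omega
    · -- `S = ⟨B, D⟩ ≤ D₁ ≤ N(B)`
      have h5 : D ≤ D₁ := by rw [← h4]; exact inf_le_left
      have h6 : S ≤ D₁ := hgen.trans (sup_le le_sup_left h5)
      exact hcon (h6.trans (hD₁N.trans inf_le_left))
  have k1 := key B D hB hD le_sup_left le_sup_right le_rfl hcard
  have k2 := key D B hD hB le_sup_right le_sup_left (sup_comm B D).le (by rw [hcard, mul_comm])
  exact hB.comm_of_normalizer hf hR hD hBR hDR hne (le_sup_left.trans k2) (le_sup_right.trans k1)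

/-! ### LEMMA EQ -/

variable (M) in
/-- `[M, X]` -/
def br (X : Subgroup H) : Subgroup M := closure {w | ∃ x ∈ X, ∃ m : M, w = (x • m) * m⁻¹}

omit [Finite H] [Finite M] in
theorem mem_br {X : Subgroup H} {x : H} (hx : x ∈ X) (m : M) : (x • m) * m⁻¹ ∈ br M X :=
  subset_closure ⟨x, hx, m, rfl⟩

omit [Finite H] [Finite M] in
theorem br_mono {X Y : Subgroup H} (h : X ≤ Y) : br M X ≤ br M Y := by
  rw [br, closure_le]
  rintro _ ⟨x, hx, m, rfl⟩
  exact mem_br (h hx) m

omit [Finite H] [Finite M] in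
theorem smul_mem_br {X : Subgroup H} {g : H} {m : M} (h : m ∈ br M X) : g • m ∈ br M (cj g X) := by
  have h1 : br M X ≤ (br M (cj g X)).comap (MulDistribMulAction.toMonoidHom M g) := by
    rw [br, closure_le]
    rintro _ ⟨x, hx, m', rfl⟩
    change g • ((x • m') * m'⁻¹) ∈ br M (cj g X)
    have h3 : g * x * g⁻¹ ∈ cj g X := ⟨x, hx, rfl⟩
    have h2 := mem_br h3 (g • m')
    rw [smul_mul', smul_inv']
    rwa [← mul_smul, inv_mul_cancel_right, mul_smul] at h2
  exact h1 h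

/-- `M = C_M(B) C_M(D)` -/
theorem Atom.exists_mul (ha : a ≠ 0) (hb : b ≠ 0) {R B D : Subgroup H} (hR : Flat (fab M a b) R)
    (hB : Atom (fab M a b) B) (hD : Atom (fab M a b) D) (hBR : B ≤ R) (hDR : D ≤ R) (hne : B ≠ D) (m : M) :
    ∃ c ∈ cv M (D : Set H), ∃ d ∈ cv M (B : Set H), m = c * d := by
  have h1 := hR.cv_mul ha hb hDR hBR hD.tight hB.tight
  rw [hD.inf_eq_bot (ls_fab M a b) hR hB hDR hBR hne.symm, cv_bot] at h1
  have h2 : m ∈ ((⊤ : Subgroup M) : Set M) := mem_top m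
  rw [← h1] at h2
  obtain ⟨c, hc, d, hd, h3⟩ := h2
  exact ⟨c, hc, d, hd, h3.symm⟩

/-- **LEMMA EQ**: `[M, B] ≤ C_M(D)` for distinct atoms `B`, `D` of a flat 2-group. -/
theorem Atom.eq (ha : a ≠ 0) (hb : b ≠ 0) {R B D : Subgroup H} (hR : Flat (fab M a b) R) (h2 : IsPGroup 2 R)
    (hB : Atom (fab M a b) B) (hD : Atom (fab M a b) D) (hBR : B ≤ R) (hDR : D ≤ R) (hne : B ≠ D) :
    br M B ≤ cv M (D : Set H) := by
  rw [br, closure_le]
  rintro _ ⟨x, hx, m, rfl⟩ y hy
  obtain ⟨c, hc, d, hd, rfl⟩ := hB.exists_mul ha hb hR hD hBR hDR hne m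
  have h3 : x • d = d := hd x hx
  have h4 : y • c = c := hc y hy
  have h5 : y • x • c = x • c := by
    rw [← mul_smul, ← hB.comm ha hb hR h2 hD hBR hDR hne x hx y hy, mul_smul, h4]
  have h6 : x • (c * d) * (c * d)⁻¹ = x • c * c⁻¹ := by
    rw [smul_mul', h3]
    group
  rw [h6, smul_mul', smul_inv', h5, h4]

end Cfsg.Agent.Omega.ML.Ratio

end

section


/-!
# Overgroups of a Sylow 2-subgroup of a group of type `²F₄(q)` ((ML), K-list end)

Over `S : Full σ G`, `G` simple: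

* `inf_opp` : `X_k ∩ ⟨X_(k+1), …, X_(k+m)⟩ = 1` in every `ZSys m X`;
* `parab` : a proper subgroup containing `U = J 1 8` lies in the normaliser of `J 2 8` or of `J 1 7`;
* `opp` : an element of `J 2 8 ∩ J 1 7` in a proper subgroup containing `U⁻ = J 9 16` is trivial.
-/

set_option autoImplicit false
set_option linter.unusedSectionVars false

namespace Cfsg.Agent.Omega.ML.TwF4Opp

open Cfsg.Agent.SplitTwo Cfsg.Agent.SplitTwo.ZS Cfsg.Agent.TitsThree.RankTwoZ Cfsg.Agent.SplitTwo.RootSysZ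
open Cfsg.Agent.KFacts.TwF4 Cfsg.Agent.KFacts.TwF4.Arc Cfsg.Agent.KFacts.TwF4.Inv Cfsg.Agent.KFacts.TwF4.SylU
open Cfsg.Agent.KFacts.TwF4.Perf
open scoped commutatorElement

universe u

section abs

variable {G : Type u} [Group G] {X : ℤ → Subgroup G} {m : ℤ} (Z : ZSys m X)
include Z

theorem per_m (k : ℤ) : X (k - m) = X (k + m) := by
  have := Z.per (k - m)
  rw [show k - m + 2 * m = k + m by ring] at this
  exact this.symm

/-- `X_k ∩ ⟨X_(k+1), …, X_(k+m)⟩ = 1` -/
theorem inf_opp {k : ℤ} {x : G} (hx : x ∈ X k) (hU : x ∈ J X (k + 1) (k + m)) : x = 1 := by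
  have hm := Z.two_lt
  by_contra hx1
  obtain ⟨v, hv, v', hv', hn⟩ := Z.mu k x hx hx1
  rw [per_m Z] at hv hv'
  have hnU : v * x * v' ∈ J X (k + 1) (k + m) :=
    mul_mem (mul_mem (mem_J hv (by omega) le_rfl) hU) (mem_J hv' (by omega) le_rfl)
  obtain ⟨y, hy, hy1⟩ := Z.exists_ne (k + 1)
  have h3 := hn.mem hy
  rw [show 2 * k - m - (k + 1) = (k + m - 1) - 2 * m by ring, Z.per'] at h3
  obtain ⟨a, ha, b, hb, e⟩ := Z.split_ll (a := k + 1) (b := k + m) (by omega) (by omega) hnU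
  -- `[b, y]`
  have h4 : ⁅b, y⁆ ∈ J X (k + 1 + 1) (k + m - 1) := by
    have := Z.comm_J_left' (a := k + 1 + 1) (b := k + m) (c := k + 1) (by omega) (by omega) hb hy
    exact this
  rw [commutatorElement_def] at h4
  have h5 : a * (b * y * b⁻¹ * y⁻¹) * a⁻¹ ∈ J X (k + 1 + 1) (k + m - 1) :=
    Z.conj_X (a := k + 1 + 1) (b := k + m - 1) (k := k + 1) (by omega) (by omega) (by omega) ha h4
  have h6 : a * y * a⁻¹ ∈ X (k + 1) := mul_mem (mul_mem ha hy) (inv_mem ha)
  have h7 : a * y * a⁻¹ ∈ J X (k + 1 + 1) (k + 1 + m - 1) := by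
    have e1 : a * y * a⁻¹ = (a * (b * y * b⁻¹ * y⁻¹) * a⁻¹)⁻¹ * (v * x * v' * y * (v * x * v')⁻¹) := by
      rw [e]; group
    rw [e1]
    exact J_mono le_rfl (by omega) (mul_mem (inv_mem h5) (mem_J h3 (by omega) le_rfl))
  have h8 := Z.inter (k + 1) _ h6 h7
  apply hy1
  have e2 : y = a⁻¹ * (a * y * a⁻¹) * a := by group
  rw [e2, h8]; group

/-- `X_k ∩ ⟨X_(k-m), …, X_(k-1)⟩ = 1` -/
theorem inf_opp' {k : ℤ} {x : G} (hx : x ∈ X k) (hU : x ∈ J X (k - m) (k - 1)) : x = 1 := by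
  refine inf_opp (Z.rev 0) (k := -k) (by simpa using hx) ?_
  rw [ZSys.J_rev]
  exact J_mono (by omega) (by omega) hU

end abs

section abs2

variable {G : Type u} [Group G] {X : ℤ → Subgroup G} {m : ℤ} (Z : ZSys m X) (h2 : ∀ k, IsPGroup 2 (X k)) (a : ℤ)
  (hmax : ∀ V : Subgroup G, IsPGroup 2 V → J X a (a + m - 1) ≤ V → V ≤ J X a (a + m - 1))

include Z h2 in
theorem two_arc {a b : ℤ} (hb : b < a + m) : IsPGroup 2 (J X a b) :=
  isPGroup_J Z h2 (b + 1 - a).toNat a b (by omega) hb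

theorem two_sup' {G : Type*} [Group G] {A N : Subgroup G} (hA : IsPGroup 2 A) (hN : IsPGroup 2 N)
    (hn : A ≤ Subgroup.normalizer (N : Set G)) : IsPGroup 2 (A ⊔ N : Subgroup G) :=
  IsPGroup.to_sup_of_normal_right' hA hN hn

include Z in
/-- `X_k`, `a ≤ k ≤ a + m`, normalises `J (a+1) (a+m-1)` -/
theorem le_norm {k : ℤ} (h1 : a ≤ k) (h2 : k ≤ a + m) :
    X k ≤ Subgroup.normalizer (J X (a + 1) (a + m - 1) : Set G) :=
  (X_le_J (by omega) (by omega)).trans (Z.le_normalizer (a := a + 1) (b := a + m - 1) (by omega))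

include Z h2 hmax in
/-- a subgroup `W` containing `J (a+1) (a+m-1)`, `X_(a+m)` and an element `y q`, `1 ≠ y ∈ X_a`, is not a 2-group -/
theorem not_two {W : Subgroup G} (hW : IsPGroup 2 W) (hV : J X (a + 1) (a + m - 1) ≤ W) (ho : X (a + m) ≤ W)
    {y : G} (hy : y ∈ X a) (hy1 : y ≠ 1) (hyW : y ∈ W) : False := by
  have hm := Z.two_lt
  obtain ⟨v, hv, v', hv', hn⟩ := Z.mu a y hy hy1
  rw [per_m Z] at hv hv'
  have hnW : v * y * v' ∈ W := mul_mem (mul_mem (ho hv) hyW) (ho hv')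
  have hXa : X a ≤ W := by
    intro w hw
    have h1 : (v * y * v') * w * (v * y * v')⁻¹ ∈ X (2 * a - m - a) := hn.mem hw
    rw [show 2 * a - m - a = a - m by ring, per_m Z] at h1
    have e : w = (v * y * v')⁻¹ * ((v * y * v') * w * (v * y * v')⁻¹) * (v * y * v') := by group
    rw [e]
    exact mul_mem (mul_mem (inv_mem hnW) (ho h1)) hnW
  have hU : J X a (a + m - 1) ≤ W := by
    refine J_le fun k h1 h2 w hw => ?_
    rcases eq_or_lt_of_le h1 with h3 | h3
    · rw [← h3] at hw; exact hXa hw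
    · exact hV (mem_J hw (by omega) h2)
  obtain ⟨x, hx, hx1⟩ := Z.exists_ne (a + m)
  refine hx1 (inf_opp' Z hx (J_mono (by omega) (by omega) (hmax W hW hU (ho hx))))

include Z h2 hmax in
/-- **`O_2` of a parabolic subgroup** -/
theorem le_arc_of_norm {O : Subgroup G} (hO : IsPGroup 2 O)
    (hn : ∀ k, a ≤ k → k ≤ a + m → X k ≤ Subgroup.normalizer (O : Set G)) : O ≤ J X (a + 1) (a + m - 1) := by
  have hm := Z.two_lt
  have hU : O ≤ J X a (a + m - 1) := by
    have h1 : J X a (a + m - 1) ≤ Subgroup.normalizer (O : Set G) := J_le fun k h3 h4 => hn k h3 (by omega)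
    exact le_sup_right.trans (hmax _ (two_sup' (two_arc Z h2 (by omega)) hO h1) le_sup_left)
  intro x hx
  obtain ⟨y, hy, q, hq, e⟩ := Z.split_ll (a := a) (b := a + m - 1) (by omega) (by omega) (hU hx)
  by_cases hy1 : y = 1
  · rw [e, hy1, one_mul]; exact hq
  exfalso
  have h1 : J X (a + 1) (a + m) ≤ Subgroup.normalizer (O : Set G) := J_le fun k h3 h4 => hn k (by omega) h4
  have hW : IsPGroup 2 (J X (a + 1) (a + m) ⊔ O : Subgroup G) :=
    two_sup' (two_arc Z h2 (by omega)) hO h1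
  refine not_two Z h2 a hmax hW ((J_mono le_rfl (by omega)).trans le_sup_left)
    ((X_le_J (by omega) le_rfl).trans le_sup_left) hy hy1 ?_
  have e1 : y = x * q⁻¹ := by rw [e]; group
  rw [e1]
  exact mul_mem (Subgroup.mem_sup_right hx)
    (inv_mem (Subgroup.mem_sup_left (J_mono le_rfl (by omega) hq)))

include Z h2 hmax in
/-- `U ∩ U⁻ ≤ J (a+1) (a+m-1)` -/
theorem inf_le_arc {x : G} (hx : x ∈ J X a (a + m - 1)) (hx' : x ∈ J X (a + m) (a + 2 * m - 1)) :
    x ∈ J X (a + 1) (a + m - 1) := by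
  have hm := Z.two_lt
  obtain ⟨y, hy, q, hq, e⟩ := Z.split_ll (a := a) (b := a + m - 1) (by omega) (by omega) hx
  by_cases hy1 : y = 1
  · rw [e, hy1, one_mul]; exact hq
  exfalso
  have hA : IsPGroup 2 (J X (a + m) (a + 2 * m - 1) : Subgroup G) := two_arc Z h2 (by omega)
  set A : Subgroup G := J X (a + m) (a + 2 * m - 1) ⊓ Subgroup.normalizer (J X (a + 1) (a + m - 1) : Set G) with hAd
  have hW : IsPGroup 2 (A ⊔ J X (a + 1) (a + m - 1) : Subgroup G) :=
    two_sup' (hA.to_le inf_le_left) (two_arc Z h2 (by omega)) inf_le_right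
  have hVle : J X (a + 1) (a + m - 1) ≤ Subgroup.normalizer (J X (a + 1) (a + m - 1) : Set G) := Subgroup.le_normalizer
  have ho : X (a + m) ≤ A := le_inf (X_le_J le_rfl (by omega)) (le_norm Z a (by omega) le_rfl)
  have hyn : y ∈ Subgroup.normalizer (J X (a + 1) (a + m - 1) : Set G) := le_norm Z a le_rfl (by omega) hy
  refine not_two Z h2 a hmax hW le_sup_right (ho.trans le_sup_left) hy hy1 ?_
  have hxA : x ∈ A := ⟨hx', by rw [e]; exact mul_mem hyn (hVle hq)⟩
  have e1 : y = x * q⁻¹ := by rw [e]; group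
  rw [e1]
  exact mul_mem (Subgroup.mem_sup_left hxA) (inv_mem (Subgroup.mem_sup_right hq))

end abs2

section full

variable {F : Type*} [Field F] {σ : F →+* F} {G : Type u} [Group G] (S : Full σ G)

theorem XZ_congr {a b : ℤ} (h : (16 : ℤ) ∣ a - b) : S.XZ a = S.XZ b := by
  show S.R.X ((a : ℤ) : ZMod (2 * 8)) = S.R.X ((b : ℤ) : ZMod (2 * 8))
  have e : ((a : ℤ) : ZMod (2 * 8)) = ((b : ℤ) : ZMod (2 * 8)) := by
    rw [ZMod.intCast_eq_intCast_iff]
    show a % ((2 * 8 : ℕ) : ℤ) = b % ((2 * 8 : ℕ) : ℤ)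
    push_cast
    omega
  rw [e]

variable {S}

theorem cl_rot {R : Subgroup G} {w : G} (hw : w ∈ R) {c : ℤ}
    (h : Maps S.R.X w (fun k => ((c : ℤ) : ZMod (2 * 8)) + k)) {k : ℤ} (hk : S.XZ k ≤ R) : S.XZ (c + k) ≤ R := by
  intro x hx
  have h1 := h (k : ZMod (2 * 8)) (w⁻¹ * x * w)
  have e1 : w * (w⁻¹ * x * w) * w⁻¹ = x := by group
  rw [e1] at h1
  have h2 : x ∈ S.R.X (((c : ℤ) : ZMod (2 * 8)) + ((k : ℤ) : ZMod (2 * 8))) := by
    rw [← Int.cast_add]; exact hx
  have h3 := hk (h1.1 h2)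
  rw [← e1]
  exact mul_mem (mul_mem hw h3) (inv_mem hw)

theorem cl_ref {R : Subgroup G} {w : G} (hw : w ∈ R) {c : ℤ}
    (h : Maps S.R.X w (fun k => ((c : ℤ) : ZMod (2 * 8)) - k)) {k : ℤ} (hk : S.XZ k ≤ R) : S.XZ (c - k) ≤ R := by
  intro x hx
  have h1 := h (k : ZMod (2 * 8)) (w⁻¹ * x * w)
  have e1 : w * (w⁻¹ * x * w) * w⁻¹ = x := by group
  rw [e1] at h1
  have h2 : x ∈ S.R.X (((c : ℤ) : ZMod (2 * 8)) - ((k : ℤ) : ZMod (2 * 8))) := by
    rw [← Int.cast_sub]; exact hx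
  have h3 := hk (h1.1 h2)
  rw [← e1]
  exact mul_mem (mul_mem hw h3) (inv_mem hw)

theorem top_of_rot {R : Subgroup G} (hU : J S.XZ 1 8 ≤ R) {w : G} (hw : w ∈ R) {c : ℤ} (hc : ¬ (8 : ℤ) ∣ c)
    (h : Maps S.R.X w (fun k => ((2 * c : ℤ) : ZMod (2 * 8)) + k)) : R = ⊤ := by
  have base : ∀ k : ℤ, 1 ≤ k → k ≤ 8 → S.XZ k ≤ R := fun k h1 h2 => (X_le_J h1 h2).trans hU
  have st : ∀ (n : ℕ) (k : ℤ), S.XZ k ≤ R → S.XZ (2 * c * n + k) ≤ R := by
    intro n
    induction n with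
    | zero => intro k hk; simpa using hk
    | succ n ih =>
      intro k hk
      have h1 := cl_rot hw h (ih k hk)
      have e : 2 * c + (2 * c * (n : ℤ) + k) = 2 * c * ((n + 1 : ℕ) : ℤ) + k := by push_cast; ring
      rwa [e] at h1
  have fin : ∀ (n : ℕ) (k t : ℤ), 1 ≤ k → k ≤ 8 → (16 : ℤ) ∣ 2 * c * n + k - t → S.XZ t ≤ R := by
    intro n k t h1 h2 h3
    rw [← XZ_congr S h3]
    exact st n k (base k h1 h2)
  have h7 : c % 8 = 1 ∨ c % 8 = 2 ∨ c % 8 = 3 ∨ c % 8 = 4 ∨ c % 8 = 5 ∨ c % 8 = 6 ∨ c % 8 = 7 := by omega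
  refine eq_top_of S ?_ (base 1 le_rfl (by norm_num)) (base 8 (by norm_num) le_rfl) ?_
  · rcases h7 with h7 | h7 | h7 | h7 | h7 | h7 | h7
    · exact fin 4 8 0 (by norm_num) (by norm_num) (by push_cast; omega)
    · exact fin 2 8 0 (by norm_num) (by norm_num) (by push_cast; omega)
    · exact fin 2 4 0 (by norm_num) (by norm_num) (by push_cast; omega)
    · exact fin 1 8 0 (by norm_num) (by norm_num) (by push_cast; omega)
    · exact fin 1 6 0 (by norm_num) (by norm_num) (by push_cast; omega)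
    · exact fin 1 4 0 (by norm_num) (by norm_num) (by push_cast; omega)
    · exact fin 1 2 0 (by norm_num) (by norm_num) (by push_cast; omega)
  · rcases h7 with h7 | h7 | h7 | h7 | h7 | h7 | h7
    · exact fin 1 7 9 (by norm_num) (by norm_num) (by push_cast; omega)
    · exact fin 1 5 9 (by norm_num) (by norm_num) (by push_cast; omega)
    · exact fin 1 3 9 (by norm_num) (by norm_num) (by push_cast; omega)
    · exact fin 1 1 9 (by norm_num) (by norm_num) (by push_cast; omega)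
    · exact fin 2 5 9 (by norm_num) (by norm_num) (by push_cast; omega)
    · exact fin 2 1 9 (by norm_num) (by norm_num) (by push_cast; omega)
    · exact fin 4 1 9 (by norm_num) (by norm_num) (by push_cast; omega)

theorem top_of_ref {R : Subgroup G} (hU : J S.XZ 1 8 ≤ R) {w : G} (hw : w ∈ R) {c : ℤ} (hc : c % 8 ≠ 4) (hc' : c % 8 ≠ 5)
    (h : Maps S.R.X w (fun k => ((2 * c : ℤ) : ZMod (2 * 8)) - k)) : R = ⊤ := by
  have base : ∀ k : ℤ, 1 ≤ k → k ≤ 8 → S.XZ k ≤ R := fun k h1 h2 => (X_le_J h1 h2).trans hU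
  have fin : ∀ k t : ℤ, 1 ≤ k → k ≤ 8 → (16 : ℤ) ∣ 2 * c - k - t → S.XZ t ≤ R := by
    intro k t h1 h2 h3
    rw [← XZ_congr S h3]
    exact cl_ref hw h (base k h1 h2)
  have hn1 : S.XZ 9 ≤ R → R = ⊤ := by
    intro h9
    have hn : S.n1 ∈ R := n1_mem_of S (base 1 le_rfl (by norm_num)) h9
    refine top_of_rot hU (w := w * S.n1) (mul_mem hw hn) (c := c - 5) (by omega) ?_
    refine (h.mul S.n1_maps).congr fun k => ?_
    show ((2 * c : ℤ) : ZMod (2 * 8)) - (10 - k) = ((2 * (c - 5) : ℤ) : ZMod (2 * 8)) + k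
    push_cast
    ring
  have hn2 : S.XZ 0 ≤ R → R = ⊤ := by
    intro h0
    have hn : S.n2 ∈ R := n2_mem_of S h0 (base 8 (by norm_num) le_rfl)
    refine top_of_rot hU (w := w * S.n2) (mul_mem hw hn) (c := c - 4) (by omega) ?_
    refine (h.mul S.n2_maps).congr fun k => ?_
    show ((2 * c : ℤ) : ZMod (2 * 8)) - (8 - k) = ((2 * (c - 4) : ℤ) : ZMod (2 * 8)) + k
    push_cast
    ring
  have h7 : c % 8 = 0 ∨ c % 8 = 1 ∨ c % 8 = 2 ∨ c % 8 = 3 ∨ c % 8 = 6 ∨ c % 8 = 7 := by omega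
  rcases h7 with h7 | h7 | h7 | h7 | h7 | h7
  · exact hn1 (fin 7 9 (by norm_num) (by norm_num) (by omega))
  · exact hn2 (fin 2 0 (by norm_num) (by norm_num) (by omega))
  · exact hn2 (fin 4 0 (by norm_num) (by norm_num) (by omega))
  · exact hn2 (fin 6 0 (by norm_num) (by norm_num) (by omega))
  · exact hn1 (fin 3 9 (by norm_num) (by norm_num) (by omega))
  · exact hn1 (fin 5 9 (by norm_num) (by norm_num) (by omega))

/-- a reflection normalises an arc -/
theorem ref_norm {w : G} {c a b : ℤ} (h : Maps S.R.X w (fun k => ((2 * c : ℤ) : ZMod (2 * 8)) - k))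
    (hab : (16 : ℤ) ∣ 2 * c - a - b) : w ∈ Subgroup.normalizer (J S.XZ a b : Set G) := by
  have key : ∀ v : G, Maps S.R.X v (fun k => ((2 * c : ℤ) : ZMod (2 * 8)) - k) → ∀ x ∈ J S.XZ a b,
      v * x * v⁻¹ ∈ J S.XZ a b := by
    intro v hv x hx
    have : J S.XZ a b ≤ (J S.XZ a b).comap (MulAut.conj v).toMonoidHom := by
      refine J_le fun k h1 h2 y hy => ?_
      have h3 := (hv (k : ZMod (2 * 8)) y).2 hy
      have h4 : v * y * v⁻¹ ∈ S.XZ (2 * c - k) := by
        show _ ∈ S.R.X _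
        rw [Int.cast_sub]; exact h3
      have h5 : S.XZ (2 * c - k) = S.XZ (a + b - k) := XZ_congr S (by omega)
      rw [h5] at h4
      exact mem_J h4 (by omega) (by omega)
    exact this hx
  have hinv : Maps S.R.X w⁻¹ (fun k => ((2 * c : ℤ) : ZMod (2 * 8)) - k) := h.inv (fun k => by ring)
  rw [Subgroup.mem_normalizer_iff]
  intro x
  refine ⟨fun hx => key w h x hx, fun hx => ?_⟩
  have h1 := key w⁻¹ hinv _ hx
  have e : w⁻¹ * (w * x * w⁻¹) * w⁻¹⁻¹ = x := by group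
  rwa [e] at h1

theorem T_norm {t : G} (ht : t ∈ S.T) {a b : ℤ} : t ∈ Subgroup.normalizer (J S.XZ a b : Set G) := by
  rw [Subgroup.mem_normalizer_iff]
  intro x
  refine ⟨fun hx => S.T_conj_J ht hx, fun hx => ?_⟩
  have h1 := S.T_conj_J (inv_mem ht) hx
  have e : t⁻¹ * (t * x * t⁻¹) * t⁻¹⁻¹ = x := by group
  rwa [e] at h1

/-- **a proper overgroup of `U` lies in a parabolic subgroup** -/
theorem parab {R : Subgroup G} (hU : J S.XZ 1 8 ≤ R) (hne : R ≠ ⊤) :
    R ≤ Subgroup.normalizer (J S.XZ 2 8 : Set G) ∨ R ≤ Subgroup.normalizer (J S.XZ 1 7 : Set G) := by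
  have Z := S.zsys8
  have hU1 : J S.XZ 1 8 ≤ Subgroup.normalizer (J S.XZ 2 8 : Set G) :=
    (J_mono (by norm_num) (by norm_num)).trans (Z.le_normalizer (a := 2) (b := 8) (by norm_num))
  have hU2 : J S.XZ 1 8 ≤ Subgroup.normalizer (J S.XZ 1 7 : Set G) :=
    (J_mono (by norm_num) (by norm_num)).trans (Z.le_normalizer (a := 1) (b := 7) (by norm_num))
  -- the classes of elements of `R`
  have cls : ∀ g ∈ R, ∃ b ∈ J S.XZ 1 8, ∃ t ∈ S.T, ∃ w, ∃ b' ∈ J S.XZ 1 8, g = b * t * w * b' ∧ t * w ∈ R ∧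
      (w ∈ S.T ∨ Maps S.R.X (t * w) (fun k => ((2 * 5 : ℤ) : ZMod (2 * 8)) - k) ∨
        Maps S.R.X (t * w) (fun k => ((2 * 4 : ℤ) : ZMod (2 * 8)) - k)) := by
    intro g hg
    obtain ⟨b, hb, t, ht, w, ⟨c, hc⟩, b', hb', e⟩ := S.bruhatE g
    have htw : t * w ∈ R := by
      have e1 : t * w = b⁻¹ * g * b'⁻¹ := by rw [e]; group
      rw [e1]
      exact mul_mem (mul_mem (inv_mem (hU hb)) hg) (inv_mem (hU hb'))
    refine ⟨b, hb, t, ht, w, b', hb', e, htw, ?_⟩
    have ht1 : Maps S.R.X t id := ht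
    rcases hc with hc | hc
    · left
      have h1 : Maps S.R.X (t * w) (fun k => ((2 * c : ℤ) : ZMod (2 * 8)) + k) := (ht1.mul hc).congr fun k => rfl
      have h2 : (8 : ℤ) ∣ c := by
        by_contra h3
        exact hne (top_of_rot hU htw h3 h1)
      show Maps S.R.X w id
      refine hc.congr fun k => ?_
      have h3 : ((2 * c : ℤ) : ZMod (2 * 8)) = 0 := by
        rw [ZMod.intCast_zmod_eq_zero_iff_dvd]
        push_cast
        omega
      rw [h3, zero_add]; rfl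
    · right
      have h1 : Maps S.R.X (t * w) (fun k => ((2 * c : ℤ) : ZMod (2 * 8)) - k) := (ht1.mul hc).congr fun k => rfl
      have red : ∀ d : ℤ, c % 8 = d % 8 → ((2 * c : ℤ) : ZMod (2 * 8)) = ((2 * d : ℤ) : ZMod (2 * 8)) := by
        intro d hd
        rw [ZMod.intCast_eq_intCast_iff]
        show (2 * c) % ((2 * 8 : ℕ) : ℤ) = (2 * d) % ((2 * 8 : ℕ) : ℤ)
        push_cast
        omega
      by_cases h4 : c % 8 = 4
      · right
        rw [red 4 (by omega)] at h1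
        exact h1
      by_cases h5 : c % 8 = 5
      · left
        rw [red 5 (by omega)] at h1
        exact h1
      exact absurd (top_of_ref hU htw h4 h5 h1) hne
  by_contra hcon
  rw [not_or, SetLike.not_le_iff_exists, SetLike.not_le_iff_exists] at hcon
  obtain ⟨⟨g, hg, hgn⟩, ⟨g', hg', hgn'⟩⟩ := hcon
  obtain ⟨b, hb, t, ht, w, b', hb', e, htw, hc⟩ := cls g hg
  obtain ⟨c, hc1, s, hs, v, c', hc1', e', hsv, hd⟩ := cls g' hg'
  -- `t w` induces `8 - k`, `s v` induces `10 - k`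
  have h1 : Maps S.R.X (t * w) (fun k => ((2 * 4 : ℤ) : ZMod (2 * 8)) - k) := by
    rcases hc with hc | hc | hc
    · exfalso
      apply hgn
      rw [e]
      exact mul_mem (mul_mem (mul_mem (hU1 hb) (T_norm ht)) (T_norm hc)) (hU1 hb')
    · exfalso
      apply hgn
      have e1 : g = b * (t * w) * b' := by rw [e]; group
      rw [e1]
      exact mul_mem (mul_mem (hU1 hb) (ref_norm hc (by norm_num))) (hU1 hb')
    · exact hc
  have h2 : Maps S.R.X (s * v) (fun k => ((2 * 5 : ℤ) : ZMod (2 * 8)) - k) := by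
    rcases hd with hd | hd | hd
    · exfalso
      apply hgn'
      rw [e']
      exact mul_mem (mul_mem (mul_mem (hU2 hc1) (T_norm hs)) (T_norm hd)) (hU2 hc1')
    · exact hd
    · exfalso
      apply hgn'
      have e1 : g' = c * (s * v) * c' := by rw [e']; group
      rw [e1]
      exact mul_mem (mul_mem (hU2 hc1) (ref_norm hd (by norm_num))) (hU2 hc1')
  refine hne (top_of_rot hU (w := (s * v) * (t * w)) (mul_mem hsv htw) (c := 1) (by norm_num) ?_)
  refine (h2.mul h1).congr fun k => ?_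
  show ((2 * 5 : ℤ) : ZMod (2 * 8)) - (((2 * 4 : ℤ) : ZMod (2 * 8)) - k) = ((2 * 1 : ℤ) : ZMod (2 * 8)) + k
  push_cast
  ring

end full

section fin

variable {F : Type*} [Field F] {σ : F →+* F} {G : Type u} [Group G] (S : Full σ G) [Finite F] [Finite G]

/-- every arc of length 8 is a maximal 2-subgroup -/
theorem arc_max (hF : ∃ c : Fˣ, c ≠ 1) (hR : S.R.p = 2) (c : ℤ) (V : Subgroup G) (hV : IsPGroup 2 V)
    (h : J S.XZ (1 + 2 * c) (8 + 2 * c) ≤ V) : V ≤ J S.XZ (1 + 2 * c) (8 + 2 * c) := by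
  have h1 : J S.XZ 1 8 ≤ V.map (S.ck (-c)).toMonoidHom := by
    have h2 := Subgroup.map_mono (f := (S.ck (-c)).toMonoidHom) h
    rw [S.map_J] at h2
    rwa [show 1 + 2 * c + 2 * -c = 1 by ring, show 8 + 2 * c + 2 * -c = 8 by ring] at h2
  have h3 := le_U_of_two S hF hR (hV.map (S.ck (-c)).toMonoidHom) h1
  have h4 := Subgroup.map_mono (f := (S.ck c).toMonoidHom) h3
  rw [S.map_J] at h4
  refine le_trans ?_ h4
  intro x hx
  rw [Subgroup.map_map]
  refine ⟨x, hx, ?_⟩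
  show S.ck c (S.ck (-c) x) = x
  rw [S.ck_apply, S.ck_apply, zpow_neg]
  group

/-- the reversed system `k ↦ X_(9 - k)` -/
theorem rev_max (hF : ∃ c : Fˣ, c ≠ 1) (hR : S.R.p = 2) (c : ℤ) (V : Subgroup G) (hV : IsPGroup 2 V)
    (h : J (fun k => S.XZ (9 - k)) (1 + 2 * c) (1 + 2 * c + 8 - 1) ≤ V) :
    V ≤ J (fun k => S.XZ (9 - k)) (1 + 2 * c) (1 + 2 * c + 8 - 1) := by
  rw [ZSys.J_rev] at h ⊢
  have e1 : (9 : ℤ) - (1 + 2 * c + 8 - 1) = 1 + 2 * -c := by ring
  have e2 : (9 : ℤ) - (1 + 2 * c) = 8 + 2 * -c := by ring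
  rw [e1, e2] at h ⊢
  exact arc_max S hF hR (-c) V hV h

theorem two_rev (hR : S.R.p = 2) (k : ℤ) : IsPGroup 2 ((fun k => S.XZ (9 - k)) k) := two_X S hR _

/-- **`U ∩ U⁻ = 1`** -/
theorem inf_eq_one [IsSimpleGroup G] (hF : ∃ c : Fˣ, c ≠ 1) (hR : S.R.p = 2) {x : G} (hx : x ∈ J S.XZ 1 8)
    (hx' : x ∈ J S.XZ 9 16) : x = 1 := by
  have Z := S.zsys8
  have h2 := two_X S hR
  have per : ∀ a b, J S.XZ (a + 16) (b + 16) = J S.XZ a b := by
    intro a b
    apply le_antisymm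
    · refine J_le fun k h1 h2 => ?_
      rw [XZ_congr S (a := k) (b := k - 16) (by norm_num)]
      exact X_le_J (by omega) (by omega)
    · refine J_le fun k h1 h2 => ?_
      rw [XZ_congr S (a := k) (b := k + 16) (by norm_num)]
      exact X_le_J (by omega) (by omega)
  -- the four inclusions
  have i1 : ∀ x ∈ J S.XZ 1 8, x ∈ J S.XZ 9 16 → x ∈ J S.XZ 2 8 := by
    intro x h3 h4
    have := inf_le_arc Z h2 (1 + 2 * 0) (fun V hV h => by
      have e : (1 : ℤ) + 2 * 0 + 8 - 1 = 8 + 2 * 0 := by norm_num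
      rw [e] at h ⊢
      exact arc_max S hF hR 0 V hV h) (x := x) (by norm_num; exact h3) (by norm_num; exact h4)
    norm_num at this
    exact this
  have i2 : ∀ x ∈ J S.XZ 1 8, x ∈ J S.XZ 9 16 → x ∈ J S.XZ 1 7 := by
    intro x h3 h4
    have h5 : x ∈ J S.XZ (-7) 0 := by
      have := per (-7) 0
      norm_num at this
      rw [← this]; exact h4
    have := inf_le_arc (Z.rev 9) (two_rev S hR) (1 + 2 * 0) (rev_max S hF hR 0) (x := x)
      (by rw [ZSys.J_rev]; norm_num; exact h3) (by rw [ZSys.J_rev]; norm_num; exact h5)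
    rw [ZSys.J_rev] at this
    norm_num at this
    exact this
  have i3 : ∀ x ∈ J S.XZ 1 8, x ∈ J S.XZ 9 16 → x ∈ J S.XZ 10 16 := by
    intro x h3 h4
    have h5 : x ∈ J S.XZ 17 24 := by
      have := per 1 8
      norm_num at this
      rw [this]; exact h3
    have := inf_le_arc Z h2 (1 + 2 * 4) (fun V hV h => by
      have e : (1 : ℤ) + 2 * 4 + 8 - 1 = 8 + 2 * 4 := by norm_num
      rw [e] at h ⊢
      exact arc_max S hF hR 4 V hV h) (x := x) (by norm_num; exact h4) (by norm_num; exact h5)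
    norm_num at this
    exact this
  have i4 : ∀ x ∈ J S.XZ 1 8, x ∈ J S.XZ 9 16 → x ∈ J S.XZ 9 15 := by
    intro x h3 h4
    have h5 : x ∈ J S.XZ (1 : ℤ) 8 := h3
    have := inf_le_arc (Z.rev 9) (two_rev S hR) (1 + 2 * (-4)) (rev_max S hF hR (-4)) (x := x)
      (by rw [ZSys.J_rev]; norm_num; exact h4) (by rw [ZSys.J_rev]; norm_num; exact h5)
    rw [ZSys.J_rev] at this
    norm_num at this
    exact this
  -- `D = U ∩ U⁻` is normal
  set D : Subgroup G := J S.XZ 1 8 ⊓ J S.XZ 9 16 with hD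
  have d1 : ∀ y, y ∈ D ↔ y ∈ J S.XZ 2 8 ∧ y ∈ J S.XZ 10 16 := fun y =>
    ⟨fun h => ⟨i1 y h.1 h.2, i3 y h.1 h.2⟩, fun h => ⟨J_mono (by norm_num) le_rfl h.1, J_mono (by norm_num) le_rfl h.2⟩⟩
  have d2 : ∀ y, y ∈ D ↔ y ∈ J S.XZ 1 7 ∧ y ∈ J S.XZ 9 15 := fun y =>
    ⟨fun h => ⟨i2 y h.1 h.2, i4 y h.1 h.2⟩, fun h => ⟨J_mono le_rfl (by norm_num) h.1, J_mono le_rfl (by norm_num) h.2⟩⟩
  have nm : ∀ {k a b : ℤ}, a - 1 ≤ k → k ≤ b + 1 → b < a + 7 →
      S.XZ k ≤ Subgroup.normalizer (J S.XZ a b : Set G) := fun {k a b} h1 h2 h3 =>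
    (X_le_J h1 h2).trans (Z.le_normalizer (a := a) (b := b) (by omega))
  have inf_norm : ∀ {k : ℤ} {A B : Subgroup G}, (∀ y, y ∈ D ↔ y ∈ A ∧ y ∈ B) →
      S.XZ k ≤ Subgroup.normalizer (A : Set G) → S.XZ k ≤ Subgroup.normalizer (B : Set G) →
      S.XZ k ≤ Subgroup.normalizer (D : Set G) := by
    intro k A B hAB hA hB g hg
    rw [Subgroup.mem_normalizer_iff]
    intro y
    rw [hAB, hAB]
    exact and_congr ((Subgroup.mem_normalizer_iff.1 (hA hg)) y) ((Subgroup.mem_normalizer_iff.1 (hB hg)) y)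
  have n17 : S.XZ 1 = S.XZ 17 := XZ_congr S (by norm_num)
  have n16 : S.XZ 0 = S.XZ 16 := XZ_congr S (by norm_num)
  have htop : Subgroup.normalizer (D : Set G) = ⊤ := by
    refine eq_top_of S ?_ ?_ ?_ ?_
    · exact inf_norm d2 (nm (by norm_num) (by norm_num) (by norm_num))
        (by rw [n16]; exact nm (by norm_num) (by norm_num) (by norm_num))
    · exact inf_norm d1 (nm (by norm_num) (by norm_num) (by norm_num))
        (by rw [n17]; exact nm (by norm_num) (by norm_num) (by norm_num))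
    · exact inf_norm d2 (nm (by norm_num) (by norm_num) (by norm_num)) (nm (by norm_num) (by norm_num) (by norm_num))
    · exact inf_norm d1 (nm (by norm_num) (by norm_num) (by norm_num)) (nm (by norm_num) (by norm_num) (by norm_num))
  have hDn : D.Normal := Subgroup.normalizer_eq_top_iff.1 htop
  rcases hDn.eq_bot_or_eq_top with h | h
  · have : x ∈ D := ⟨hx, hx'⟩
    rw [h] at this
    exact Subgroup.mem_bot.1 this
  · exfalso
    obtain ⟨y, hy, hy1⟩ := Z.exists_ne 1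
    have h3 : y ∈ D := by rw [h]; exact Subgroup.mem_top _
    exact hy1 (Z.inter 1 y hy (J_mono (by norm_num) (by norm_num) ((d1 y).1 h3).1))

end fin

section fin2

variable {F : Type*} [Field F] {σ : F →+* F} {G : Type u} [Group G] (S : Full σ G) [Finite F] [Finite G]
  [IsSimpleGroup G]

/-- `V ∩ N(V⁻) = 1`, abstract form -/
theorem inf_norm_aux (hF : ∃ c : Fˣ, c ≠ 1) (hR : S.R.p = 2) {V V' Y : Subgroup G} (hV : V ≤ J S.XZ 1 8)
    (hV' : V' ≤ J S.XZ 9 16) (hY : IsPGroup 2 Y) (hYV : Y ≤ Subgroup.normalizer (V : Set G))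
    (hYV' : Y ≤ Subgroup.normalizer (V' : Set G)) (hsup : J S.XZ 9 16 ≤ Y ⊔ V') {x : G} (hx : x ∈ V)
    (hn : x ∈ Subgroup.normalizer (V' : Set G)) : x = 1 := by
  have hU : IsPGroup 2 (J S.XZ 1 8) := two_J S hR (by norm_num)
  have hU' : IsPGroup 2 (J S.XZ 9 16) := two_J S hR (by norm_num)
  set E : Subgroup G := V ⊓ Subgroup.normalizer (V' : Set G) with hE
  have hEV : IsPGroup 2 (E ⊔ V' : Subgroup G) :=
    two_sup' (hU.to_le (inf_le_left.trans hV)) (hU'.to_le hV') inf_le_right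
  have hYE : ∀ y ∈ Y, ∀ e ∈ E, y * e * y⁻¹ ∈ E := by
    intro y hy e he
    refine ⟨(Subgroup.mem_normalizer_iff.1 (hYV hy) e).1 he.1, ?_⟩
    exact (Subgroup.normalizer (V' : Set G)).mul_mem ((Subgroup.normalizer (V' : Set G)).mul_mem (hYV' hy) he.2)
      ((Subgroup.normalizer (V' : Set G)).inv_mem (hYV' hy))
  have hYEn : Y ≤ Subgroup.normalizer (E : Set G) := by
    intro y hy
    rw [Subgroup.mem_normalizer_iff]
    intro e
    refine ⟨fun he => hYE y hy e he, fun he => ?_⟩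
    have h1 := hYE y⁻¹ (inv_mem hy) _ he
    have e1 : y⁻¹ * (y * e * y⁻¹) * y⁻¹⁻¹ = e := by group
    rwa [e1] at h1
  have hYn : Y ≤ Subgroup.normalizer ((E ⊔ V' : Subgroup G) : Set G) := by
    intro y hy
    have h1 : ∀ y ∈ Y, E ⊔ V' ≤ (E ⊔ V').comap (MulAut.conj y).toMonoidHom := fun y hy => sup_le
      (fun e he => Subgroup.mem_sup_left (hYE y hy e he))
      (fun e he => Subgroup.mem_sup_right ((Subgroup.mem_normalizer_iff.1 (hYV' hy) e).1 he))
    rw [Subgroup.mem_normalizer_iff]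
    intro e
    refine ⟨fun he => h1 y hy he, fun he => ?_⟩
    have h3 : y⁻¹ * (y * e * y⁻¹) * y⁻¹⁻¹ ∈ E ⊔ V' := h1 y⁻¹ (Y.inv_mem hy) he
    have e1 : y⁻¹ * (y * e * y⁻¹) * y⁻¹⁻¹ = e := by group
    rwa [e1] at h3
  have hW : IsPGroup 2 (Y ⊔ (E ⊔ V') : Subgroup G) := two_sup' hY hEV hYn
  have hle := arc_max S hF hR 4 _ hW (by
    norm_num
    exact hsup.trans (sup_le_sup_left le_sup_right _))
  norm_num at hle
  exact inf_eq_one S hF hR (hV hx) (hle.2.1 ⟨hx, hn⟩)

theorem inf_norm_one (hF : ∃ c : Fˣ, c ≠ 1) (hR : S.R.p = 2) {x : G} (hx : x ∈ J S.XZ 2 8)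
    (hn : x ∈ Subgroup.normalizer (J S.XZ 10 16 : Set G)) : x = 1 := by
  have Z := S.zsys8
  refine inf_norm_aux S hF hR (J_mono (by norm_num) le_rfl) (J_mono (by norm_num) le_rfl) (two_X S hR 9)
    ((X_le_J (by norm_num) (by norm_num)).trans (Z.le_normalizer (a := 2) (b := 8) (by norm_num)))
    ((X_le_J (by norm_num) (by norm_num)).trans (Z.le_normalizer (a := 10) (b := 16) (by norm_num))) ?_ hx hn
  refine J_le fun k h1 h2 => ?_
  rcases eq_or_lt_of_le h1 with h3 | h3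
  · rw [← h3]; exact le_sup_left
  · exact (X_le_J (by omega) h2).trans le_sup_right

theorem inf_norm_two (hF : ∃ c : Fˣ, c ≠ 1) (hR : S.R.p = 2) {x : G} (hx : x ∈ J S.XZ 1 7)
    (hn : x ∈ Subgroup.normalizer (J S.XZ 9 15 : Set G)) : x = 1 := by
  have Z := S.zsys8
  have n16 : S.XZ 16 = S.XZ 0 := XZ_congr S (by norm_num)
  refine inf_norm_aux S hF hR (J_mono le_rfl (by norm_num)) (J_mono le_rfl (by norm_num)) (two_X S hR 16)
    (by rw [n16]; exact (X_le_J (by norm_num) (by norm_num)).trans (Z.le_normalizer (a := 1) (b := 7) (by norm_num)))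
    ((X_le_J (by norm_num) (by norm_num)).trans (Z.le_normalizer (a := 9) (b := 15) (by norm_num))) ?_ hx hn
  refine J_le fun k h1 h2 => ?_
  rcases eq_or_lt_of_le h2 with h3 | h3
  · rw [h3]; exact le_sup_left
  · exact (X_le_J h1 (by omega)).trans le_sup_right

omit [Finite F] [Finite G] [IsSimpleGroup G] in
theorem ck_mem {a b : ℤ} {x : G} : S.ck (-4) x ∈ J S.XZ a b ↔ x ∈ J S.XZ (a + 8) (b + 8) := by
  have h1 := S.map_J (-4) (a + 8) (b + 8)
  rw [show a + 8 + 2 * -4 = a by ring, show b + 8 + 2 * -4 = b by ring] at h1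
  rw [← h1]
  constructor
  · rintro ⟨y, hy, e⟩
    have e1 : y = x := (S.ck (-4)).injective e
    rwa [← e1]
  · intro hx
    exact ⟨x, hx, rfl⟩

omit [Finite F] [Finite G] [IsSimpleGroup G] in
theorem parab' {R : Subgroup G} (hU : J S.XZ 9 16 ≤ R) (hne : R ≠ ⊤) :
    R ≤ Subgroup.normalizer (J S.XZ 10 16 : Set G) ∨ R ≤ Subgroup.normalizer (J S.XZ 9 15 : Set G) := by
  have h1 : J S.XZ 1 8 ≤ R.map (S.ck (-4)).toMonoidHom := by
    have h2 := Subgroup.map_mono (f := (S.ck (-4)).toMonoidHom) hU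
    rw [S.map_J] at h2
    norm_num at h2
    exact h2
  have h2 : R.map (S.ck (-4)).toMonoidHom ≠ ⊤ := by
    intro h3
    apply hne
    rw [eq_top_iff]
    intro x _
    have h4 : S.ck (-4) x ∈ R.map (S.ck (-4)).toMonoidHom := by rw [h3]; exact Subgroup.mem_top _
    obtain ⟨y, hy, e⟩ := h4
    have e1 : y = x := (S.ck (-4)).injective e
    rwa [← e1]
  have key : ∀ a b : ℤ, R.map (S.ck (-4)).toMonoidHom ≤ Subgroup.normalizer (J S.XZ a b : Set G) →
      R ≤ Subgroup.normalizer (J S.XZ (a + 8) (b + 8) : Set G) := by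
    intro a b h3 r hr
    have h4 := h3 (Subgroup.mem_map_of_mem _ hr)
    rw [Subgroup.mem_normalizer_iff] at h4 ⊢
    intro x
    have h5 := h4 (S.ck (-4) x)
    rw [← ck_mem S, ← ck_mem S, h5]
    show _ ↔ S.ck (-4) (r * x * r⁻¹) ∈ J S.XZ a b
    rw [map_mul, map_mul, map_inv]
    rfl
  rcases parab h1 h2 with h3 | h3
  · left
    have := key 2 8 h3
    norm_num at this
    exact this
  · right
    have := key 1 7 h3
    norm_num at this
    exact this

/-- **the opposite Sylow group** -/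
theorem opp (hF : ∃ c : Fˣ, c ≠ 1) (hR : S.R.p = 2) {R : Subgroup G} (hU : J S.XZ 9 16 ≤ R) (hne : R ≠ ⊤)
    {x : G} (h1 : x ∈ J S.XZ 2 8) (h2 : x ∈ J S.XZ 1 7) (hx : x ∈ R) : x = 1 := by
  rcases parab' S hU hne with h | h
  · exact inf_norm_one S hF hR h1 (h hx)
  · exact inf_norm_two S hF hR h2 (h hx)

/-- `O_2` of the first parabolic subgroup -/
theorem two_le_one (hF : ∃ c : Fˣ, c ≠ 1) (hR : S.R.p = 2) {O : Subgroup G} (hO : IsPGroup 2 O)
    (hn : Subgroup.normalizer (J S.XZ 2 8 : Set G) ≤ Subgroup.normalizer (O : Set G)) : O ≤ J S.XZ 2 8 := by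
  have Z := S.zsys8
  have := le_arc_of_norm Z (two_X S hR) (1 + 2 * 0) (fun V hV h => by
      have e : (1 : ℤ) + 2 * 0 + 8 - 1 = 8 + 2 * 0 := by norm_num
      rw [e] at h ⊢
      exact arc_max S hF hR 0 V hV h) hO (fun k h1 h2 => by
    refine le_trans ?_ hn
    exact (X_le_J (by omega) (by omega)).trans (Z.le_normalizer (a := 2) (b := 8) (by norm_num)))
  norm_num at this
  exact this

/-- `O_2` of the second parabolic subgroup -/
theorem two_le_two (hF : ∃ c : Fˣ, c ≠ 1) (hR : S.R.p = 2) {O : Subgroup G} (hO : IsPGroup 2 O)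
    (hn : Subgroup.normalizer (J S.XZ 1 7 : Set G) ≤ Subgroup.normalizer (O : Set G)) : O ≤ J S.XZ 1 7 := by
  have Z := S.zsys8
  have := le_arc_of_norm (Z.rev 9) (two_rev S hR) (1 + 2 * 0) (rev_max S hF hR 0) hO (fun k h1 h2 => by
    refine le_trans ?_ hn
    show S.XZ (9 - k) ≤ _
    exact (X_le_J (by omega) (by omega)).trans (Z.le_normalizer (a := 1) (b := 7) (by norm_num)))
  rw [ZSys.J_rev] at this
  norm_num at this
  exact this

omit [Finite F] [Finite G] in
/-- the parabolic subgroups are proper -/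
theorem norm_ne_top {a b : ℤ} (hab : a ≤ b) (hb : b < a + 7) :
    Subgroup.normalizer (J S.XZ a b : Set G) ≠ ⊤ := by
  have Z := S.zsys8
  intro h
  have hn : (J S.XZ a b).Normal := Subgroup.normalizer_eq_top_iff.1 h
  rcases hn.eq_bot_or_eq_top with h1 | h1
  · obtain ⟨y, hy, hy1⟩ := Z.exists_ne a
    have h2 : y ∈ J S.XZ a b := mem_J hy le_rfl hab
    rw [h1] at h2
    exact hy1 (Subgroup.mem_bot.1 h2)
  · obtain ⟨y, hy, hy1⟩ := Z.exists_ne (a - 1)
    have h2 : y ∈ J S.XZ a b := by rw [h1]; exact Subgroup.mem_top _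
    exact hy1 (Z.inter (a - 1) y hy (J_mono (by omega) (by omega) h2))

end fin2

end Cfsg.Agent.Omega.ML.TwF4Opp

end

section


/-!
# Exact groups in rank two: the walk around an apartment (helper333)

`Hyp m X` : `Z : ZSys m X` (root groups of a Moufang `m`-gon), all `X k` 2-groups, all minimal parabolics
`J X k (k + m)` perfect, the involutions of `X k` central in `X k`.  `G` acts on the elementary abelian 2-group `M`
such that NO minimal parabolic fixes a nontrivial vector.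

**`false_of`** : then there is no `B ≠ 1`, `B ≤ J X 2 m`, `B ≤ J X 1 (m - 1)`, elementary abelian, with
`|M : C_M(B)| ≤ |B|` and `|C| < |M : C_M(C)|` for `1 < C < B`.

Proof: let `B ≤ U` (a chamber), `P` a minimal parabolic over `U` with radical `Q`, `B` not in `Q`.  `N := [C_M(Q), P]`;
the dual count (`no`) gives `|B : C_B(N)| ≤ |N : C_N(B)|`, so (`sup_eq_top`) `C_B(N) = 1` and `M = N C_M(B)`:
`E := [M, B] = [N, B] ≤ C_M(Q)` is `U`-invariant (`bad`), but not invariant under `P` or the other minimal parabolic `P'`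
over `U` (`bad'`).  Walking around the apartment from the chamber 1 in both directions, two different chambers with this
property are found; the two chambers generate `P` or `P'` of one of them.
-/

set_option autoImplicit false
set_option linter.unusedSectionVars false
set_option linter.unusedVariables false

namespace Cfsg.Agent.Omega.ML.Ex.ZWalk

open Subgroup Cfsg.Agent.ClassTwoFusion.Quad Cfsg.Agent.Omega.ML.Dual
  Cfsg.Agent.Omega.NOThree.NoOver
open Cfsg.Agent.SplitTwo Cfsg.Agent.SplitTwo.ZS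
open scoped commutatorElement

section par

variable {G : Type*} [Group G]

/-- chamber `U`, minimal parabolic `P`, radical `Q`, opposite chamber `V` of `P` -/
structure Par (U P Q V : Subgroup G) : Prop where
  QU : Q ≤ U
  UP : U ≤ P
  QV : Q ≤ V
  VP : V ≤ P
  norm : ∀ p ∈ P, ∀ q ∈ Q, p * q * p⁻¹ ∈ Q
  two : IsPGroup 2 U
  twoV : IsPGroup 2 V
  perf : ⁅P, P⁆ = P
  gen : ∀ u ∈ U, u ∉ Q → ∀ R : Subgroup G, V ≤ R → u ∈ R → P ≤ R
  nc : ∀ u ∈ U, u ∉ Q → ∀ N : Subgroup G, N ≤ P → (∀ p ∈ P, ∀ n ∈ N, p * n * p⁻¹ ∈ N) → Q ≤ N → u ∈ N → P ≤ N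
  comm : ∀ b ∈ U, b * b = 1 → ∀ u ∈ U, u * b * u⁻¹ * b⁻¹ ∈ Q

end par

section mod

variable {G : Type*} [Group G] {M : Type*} [Group M] [MulDistribMulAction G M]

/-- `[W, P]` -/
def cmt (P : Subgroup G) (W : Subgroup M) : Subgroup M := closure {x | ∃ p ∈ P, ∃ v ∈ W, x = (p • v) * v⁻¹}

theorem mem_cmt {P : Subgroup G} {W : Subgroup M} {p : G} (hp : p ∈ P) {v : M} (hv : v ∈ W) :
    (p • v) * v⁻¹ ∈ cmt P W := subset_closure ⟨p, hp, v, hv, rfl⟩

theorem cmt_le {P : Subgroup G} {W K : Subgroup M} (h : ∀ p ∈ P, ∀ v ∈ W, (p • v) * v⁻¹ ∈ K) : cmt P W ≤ K := by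
  refine (closure_le _).2 ?_
  rintro x ⟨p, hp, v, hv, rfl⟩
  exact h p hp v hv

theorem cmt_le_self {P : Subgroup G} {W : Subgroup M} (hW : ∀ p ∈ P, ∀ v ∈ W, p • v ∈ W) : cmt P W ≤ W :=
  cmt_le fun p hp v hv => mul_mem (hW p hp v hv) (inv_mem hv)

/-- invariance of `[W, P]` under an element normalising `P` and `W` -/
theorem smul_cmt {P : Subgroup G} {W : Subgroup M} {g : G} (hg : ∀ p ∈ P, g * p * g⁻¹ ∈ P) (hgW : ∀ v ∈ W, g • v ∈ W)
    {x : M} (hx : x ∈ cmt P W) : g • x ∈ cmt P W := by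
  have h1 : cmt P W ≤ (cmt P W).comap (MulDistribMulAction.toMonoidHom M g) := by
    refine cmt_le fun p hp v hv => ?_
    show g • ((p • v) * v⁻¹) ∈ cmt P W
    have e : g • ((p • v) * v⁻¹) = ((g * p * g⁻¹) • (g • v)) * (g • v)⁻¹ := by
      rw [smul_mul', smul_inv', mul_smul, mul_smul, inv_smul_smul]
    rw [e]
    exact mem_cmt (hg p hp) (hgW v hv)
  exact h1 hx

theorem cmt_inv {P : Subgroup G} {W : Subgroup M} (hW : ∀ p ∈ P, ∀ v ∈ W, p • v ∈ W) :
    ∀ p ∈ P, ∀ v ∈ cmt P W, p • v ∈ cmt P W := fun p hp v hv =>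
  smul_cmt (fun x hx => mul_mem (mul_mem hp hx) (inv_mem hp)) (hW p hp) hv

/-- `[W, P] ≤ [[W, P], P]` for perfect `P` -/
theorem cmt_cmt (hc : ∀ x y : M, x * y = y * x) {P : Subgroup G} (hp : ⁅P, P⁆ = P) {W : Subgroup M}
    (hW : ∀ p ∈ P, ∀ v ∈ W, p • v ∈ W) : cmt P W ≤ cmt P (cmt P W) := by
  refine cmt_le fun p hp0 v hv => ?_
  set K := cmt P (cmt P W) with hK
  let D : G → M := fun p => (p • v) * v⁻¹
  have hD : ∀ p ∈ P, D p ∈ cmt P W := fun p hp => mem_cmt hp hv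
  have hmul : ∀ p ∈ P, ∀ q ∈ P, D (p * q) * (D p * D q)⁻¹ ∈ K := by
    intro p hp q hq
    have e : D (p * q) * (D p * D q)⁻¹ = (p • D q) * (D q)⁻¹ := by
      have e1 : D (p * q) = (p • D q) * D p := by
        show ((p * q) • v) * v⁻¹ = (p • ((q • v) * v⁻¹)) * ((p • v) * v⁻¹)
        rw [smul_mul', smul_inv', mul_smul]; group
      rw [e1, mul_inv_rev, hc (D q)⁻¹ (D p)⁻¹]; group
    rw [e]
    exact mem_cmt hp (hD q hq)
  have key : ∀ x ∈ ⁅P, P⁆, D x ∈ K := by
    let T : Subgroup G :=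
      { carrier := {x | x ∈ P ∧ D x ∈ K}
        one_mem' := ⟨one_mem _, by show ((1 : G) • v) * v⁻¹ ∈ K; rw [one_smul, mul_inv_cancel]; exact one_mem _⟩
        mul_mem' := by
          rintro a b ⟨ha, ha'⟩ ⟨hb, hb'⟩
          refine ⟨mul_mem ha hb, ?_⟩
          have e : D (a * b) = (D (a * b) * (D a * D b)⁻¹) * (D a * D b) := by group
          rw [e]
          exact mul_mem (hmul a ha b hb) (mul_mem ha' hb')
        inv_mem' := by
          rintro a ⟨ha, ha'⟩
          refine ⟨inv_mem ha, ?_⟩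
          have h1 := hmul a ha a⁻¹ (inv_mem ha)
          have h2 : D (a * a⁻¹) = 1 := by
            show ((a * a⁻¹) • v) * v⁻¹ = 1
            rw [mul_inv_cancel, one_smul, mul_inv_cancel]
          rw [h2, one_mul, inv_mem_iff] at h1
          have e : D a⁻¹ = (D a)⁻¹ * (D a * D a⁻¹) := by group
          rw [e]
          exact mul_mem (inv_mem ha') h1 }
    have h1 : ⁅P, P⁆ ≤ T := by
      rw [Subgroup.commutator_le]
      intro a ha b hb
      have hcm : ⁅a, b⁆ ∈ P := by rw [← hp]; exact Subgroup.commutator_mem_commutator ha hb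
      refine ⟨hcm, ?_⟩
      have k1 := hmul _ hcm _ (mul_mem hb ha)
      have k2 := hmul b hb a ha
      have k3 := hmul a ha b hb
      rw [show ⁅a, b⁆ * (b * a) = a * b by rw [commutatorElement_def]; group] at k1
      rw [hc (D b) (D a)] at k2
      have e : D ⁅a, b⁆ = (D (a * b) * (D ⁅a, b⁆ * D (b * a))⁻¹)⁻¹ * (D (a * b) * (D a * D b)⁻¹) *
          (D (b * a) * (D a * D b)⁻¹)⁻¹ := by group
      rw [e]
      exact mul_mem (mul_mem (inv_mem k1) k3) (inv_mem k2)
    exact fun x hx => (h1 hx).2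
  exact key p (by rw [hp]; exact hp0)

/-- `C_M(Q)` is invariant under an element normalising `Q` -/
theorem smul_cv {Q : Subgroup G} {g : G} (hg : ∀ q ∈ Q, g⁻¹ * q * g ∈ Q) {v : M} (hv : v ∈ cv M (Q : Set G)) :
    g • v ∈ cv M (Q : Set G) := by
  intro q hq
  have h1 := hv _ (hg q hq)
  have e : q • g • v = g • ((g⁻¹ * q * g) • v) := by
    rw [← mul_smul, ← mul_smul]; congr 1; group
  rw [e, h1]

variable [Finite G] [Finite M]

/-- a 2-group fixes a functional of an invariant subgroup -/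
theorem exists_fn (sq : ∀ m : M, m * m = 1) {P : Subgroup G} {N : Subgroup M} (hN : ∀ p ∈ P, ∀ n ∈ N, p • n ∈ N)
    (hne : N ≠ ⊥) {T : Subgroup G} (hT : IsPGroup 2 T) (hTP : T ≤ P) :
    ∃ u : M → ℤˣ, Fn N u ∧ (∃ w ∈ N, u w ≠ 1) ∧ ∀ t ∈ T, ∀ w ∈ N, u (t • w) = u w := by
  classical
  let _ : MulDistribMulAction P N :=
    { smul := fun p n => ⟨(p : G) • (n : M), hN p p.2 n n.2⟩
      one_smul := fun n => Subtype.ext (one_smul G (n : M))
      mul_smul := fun p q n => Subtype.ext (mul_smul (p : G) (q : G) (n : M))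
      smul_mul := fun p n n' => Subtype.ext (smul_mul' (p : G) (n : M) (n' : M))
      smul_one := fun p => Subtype.ext (smul_one (p : G)) }
  have hnt : Nontrivial N := N.nontrivial_iff_ne_bot.2 hne
  obtain ⟨u, h1, ⟨w, hw⟩, h2⟩ := LieRow.exists_functional (H := P) (M := N) (fun n => Subtype.ext (sq n)) hnt
    (T := T.subgroupOf P) (hT.comap_of_injective P.subtype P.subtype_injective)
  have e : ∀ (n : M) (hn : n ∈ N), (if h : n ∈ N then u ⟨n, h⟩ else 1) = u ⟨n, hn⟩ := fun n hn => dif_pos hn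
  refine ⟨fun m => if h : m ∈ N then u ⟨m, h⟩ else 1, ?_, ⟨w, w.2, ?_⟩, ?_⟩
  · intro a ha b hb
    simp only
    rw [e _ (mul_mem ha hb), e _ ha, e _ hb, ← h1]
    rfl
  · simp only
    rw [e _ w.2]
    exact hw
  · intro t ht w hw
    simp only
    rw [e _ hw, e _ (hN t (hTP ht) w hw)]
    exact h2 ⟨t, hTP ht⟩ (mem_subgroupOf.2 ht) ⟨w, hw⟩

/-- a functional of `N` fixed by `P` is trivial on `[N, P]` -/
theorem fn_cmt {P : Subgroup G} {N : Subgroup M} (hN : ∀ p ∈ P, ∀ n ∈ N, p • n ∈ N) {u : M → ℤˣ} (hu : Fn N u)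
    (h : ∀ p ∈ P, ∀ w ∈ N, u (p • w) = u w) : ∀ w ∈ cmt P N, u w = 1 := by
  let K : Subgroup M :=
    { carrier := {w | w ∈ N ∧ u w = 1}
      one_mem' := ⟨one_mem _, hu.one⟩
      mul_mem' := fun {a b} ha hb => ⟨mul_mem ha.1 hb.1, by rw [hu a ha.1 b hb.1, ha.2, hb.2, one_mul]⟩
      inv_mem' := fun {a} ha => ⟨inv_mem ha.1, by rw [hu.inv ha.1, ha.2]⟩ }
  have h1 : cmt P N ≤ K := by
    refine cmt_le fun p hp v hv => ⟨mul_mem (hN p hp v hv) (inv_mem hv), ?_⟩
    rw [hu _ (hN p hp v hv) _ (inv_mem hv), hu.inv hv, h p hp v hv]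
    exact Int.units_mul_self _
  exact fun w hw => (h1 hw).2

/-- **the dual count** -/
theorem no {U P Q V : Subgroup G} (hP : Par U P Q V) (sq : ∀ m : M, m * m = 1) {N : Subgroup M}
    (hN : ∀ p ∈ P, ∀ n ∈ N, p • n ∈ N) (hQ : ∀ q ∈ Q, ∀ n ∈ N, q • n = n) (hpN : N ≤ cmt P N) (hne : N ≠ ⊥)
    {B : Subgroup G} (hBU : B ≤ U) :
    (cw B N).relIndex B ≤ (cv M (B : Set G)).relIndex N := by
  obtain ⟨u, hu, ⟨w, hw, hw1⟩, hfix⟩ := exists_fn sq hN hne hP.twoV hP.VP
  have hBI : Iv B N := fun b hb w hw => hN b (hP.UP (hBU hb)) w hw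
  have hPI : Iv P N := hN
  refine le_trans ?_ (dc hBI hu)
  refine relIndex_le_of_le_left ?_ (relIndex_ne _ _)
  intro b hb
  have hb' := (mem_st hBI).1 hb
  refine ⟨hb'.1, ?_⟩
  by_cases hbQ : b ∈ Q
  · exact hQ b hbQ
  exfalso
  have h1 : P ≤ st P N u := by
    refine hP.gen b (hBU hb'.1) hbQ _ (fun v hv => ?_) ?_
    · exact (mem_st hPI).2 ⟨hP.VP hv, hfix v hv⟩
    · exact (mem_st hPI).2 ⟨hP.UP (hBU hb'.1), hb'.2⟩
  exact hw1 (fn_cmt hN hu (fun p hp => ((mem_st hPI).1 (h1 hp)).2) w (hpN hw))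

/-- **minimal exact groups** -/
theorem sup_eq_top (hc : ∀ x y : M, x * y = y * x) {B : Subgroup G} (hB : (cv M (B : Set G)).index ≤ Nat.card B)
    (hmin : ∀ C : Subgroup G, C ≤ B → C ≠ ⊥ → C ≠ B → Nat.card C < (cv M (C : Set G)).index) {W : Subgroup M}
    (hNO : (cw B W).relIndex B ≤ (cv M (B : Set G)).relIndex W) (hmv : cw B W ≠ B) :
    cv M (B : Set G) ⊔ W = ⊤ := by
  have hnorm : ∀ K : Subgroup M, K.Normal := fun K => ⟨fun n hn g => by rw [hc g n, mul_inv_cancel_right]; exact hn⟩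
  have := hnorm (cv M (B : Set G))
  have h1 : (cv M (B : Set G)).relIndex (cv M (B : Set G) ⊔ W) * (cv M (B : Set G) ⊔ W).index =
      (cv M (B : Set G)).index := relIndex_mul_index le_sup_left
  have h2 : (cv M (B : Set G)).relIndex (cv M (B : Set G) ⊔ W) = (cv M (B : Set G)).relIndex W := by
    rw [sup_comm, relIndex_sup_right]
  rw [h2] at h1
  have h3 : Nat.card (cw B W) * (cw B W).relIndex B = Nat.card B := by
    have h4 : (cw B W).relIndex B * Nat.card (cw B W) = Nat.card B := by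
      have h5 := Subgroup.relIndex_mul_relIndex ⊥ (cw B W) B bot_le (cw_le B W)
      rw [relIndex_bot_left, relIndex_bot_left] at h5
      rw [mul_comm]; exact h5
    rw [mul_comm]; exact h4
  have hpos : 0 < Nat.card (cw B W) := Nat.card_pos
  have hposj : 0 < (cv M (B : Set G) ⊔ W).index := Nat.pos_of_ne_zero index_ne_zero_of_finite
  have hposi : 0 < (cv M (B : Set G)).relIndex W := Nat.pos_of_ne_zero (relIndex_ne _ _)
  by_cases hC : cw B W = ⊥
  · have h4 : Nat.card (cw B W) = 1 := by rw [hC]; exact card_bot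
    rw [h4, one_mul] at h3
    have h5 : (cv M (B : Set G)).relIndex W * (cv M (B : Set G) ⊔ W).index ≤ (cv M (B : Set G)).relIndex W * 1 := by
      rw [h1, mul_one]
      exact (hB.trans_eq h3.symm).trans hNO
    have h6 := Nat.le_of_mul_le_mul_left h5 hposi
    exact index_eq_one.1 (le_antisymm h6 hposj)
  · exfalso
    have h4 := hmin _ (cw_le B W) hC hmv
    have h5 : (cv M ((cw B W : Subgroup G) : Set G)).index ≤ (cv M (B : Set G) ⊔ W).index := by
      refine Nat.le_of_dvd hposj (index_dvd_of_le (sup_le ?_ ?_))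
      · exact cv_anti (cw_le B W)
      · intro w hw a ha
        exact ha.2 w hw
    have h6 : Nat.card (cw B W) * (cw B W).relIndex B < (cv M (B : Set G) ⊔ W).index * (cv M (B : Set G)).relIndex W :=
      calc _ ≤ Nat.card (cw B W) * (cv M (B : Set G)).relIndex W := Nat.mul_le_mul_left _ hNO
        _ < _ := Nat.mul_lt_mul_of_pos_right (lt_of_lt_of_le h4 h5) hposi
    rw [h3, mul_comm, h1] at h6
    omega

/-- a 2-group acting on a nontrivial subgroup has a nontrivial fixed vector -/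
theorem exists_fixed (sq : ∀ m : M, m * m = 1) {U : Subgroup G} (hU : IsPGroup 2 U) {E : Subgroup M}
    (hE : ∀ u ∈ U, ∀ e ∈ E, u • e ∈ E) (hne : E ≠ ⊥) : ∃ f ∈ E, f ≠ 1 ∧ ∀ u ∈ U, u • f = f := by
  classical
  have hp : Fact (Nat.Prime 2) := ⟨Nat.prime_two⟩
  let _ : MulAction U E :=
    { smul := fun p n => ⟨(p : G) • (n : M), hE p p.2 n n.2⟩
      one_smul := fun n => Subtype.ext (one_smul G (n : M))
      mul_smul := fun p q n => Subtype.ext (mul_smul (p : G) (q : G) (n : M)) }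
  have hsm : ∀ (u : U) (e : E), ((u • e : E) : M) = (u : G) • (e : M) := fun _ _ => rfl
  have hE2 : IsPGroup 2 E := fun m => ⟨1, by rw [pow_one, pow_two]; exact Subtype.ext (sq m)⟩
  have hnt : Nontrivial E := E.nontrivial_iff_ne_bot.2 hne
  have hd : 2 ∣ Nat.card E := by
    obtain ⟨n, hn⟩ := IsPGroup.iff_card.1 hE2
    rcases Nat.eq_zero_or_pos n with h0 | h0
    · rw [h0, pow_zero] at hn
      exact absurd hn (Finite.one_lt_card (α := E)).ne'
    · rw [hn]; exact dvd_pow_self 2 h0.ne'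
  have h1 : (1 : E) ∈ MulAction.fixedPoints U E := fun u => Subtype.ext (smul_one (u : G))
  obtain ⟨f, hf, hne⟩ := hU.exists_fixed_point_of_prime_dvd_card_of_fixed_point E hd h1
  refine ⟨f, f.2, fun h => hne (Subtype.ext h.symm), fun u hu => ?_⟩
  have := congrArg Subtype.val (hf ⟨u, hu⟩)
  exact this

/-- `[M, B]` at a chamber `U` where `B` is not in the radical `Q` of a minimal parabolic `P` -/
theorem bad {U P Q V : Subgroup G} (hP : Par U P Q V) (sq : ∀ m : M, m * m = 1) (hc : ∀ x y : M, x * y = y * x)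
    (hmov : ∀ f : M, f ≠ 1 → (∀ u ∈ U, u • f = f) → ∃ p ∈ P, p • f ≠ f)
    {B : Subgroup G} (hel : ∀ b ∈ B, b * b = 1) (hB : (cv M (B : Set G)).index ≤ Nat.card B)
    (hmin : ∀ C : Subgroup G, C ≤ B → C ≠ ⊥ → C ≠ B → Nat.card C < (cv M (C : Set G)).index)
    (hBU : B ≤ U) (hBQ : ¬ B ≤ Q) (hM : Nontrivial M) :
    cmt B (⊤ : Subgroup M) ≤ cv M (Q : Set G) ∧ (∀ u ∈ U, ∀ e ∈ cmt B (⊤ : Subgroup M), u • e ∈ cmt B (⊤ : Subgroup M)) ∧
      cmt B (⊤ : Subgroup M) ≠ ⊥ ∧
        ¬ ∀ p ∈ P, ∀ e ∈ cmt B (⊤ : Subgroup M), p • e ∈ cmt B (⊤ : Subgroup M) := by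
  obtain ⟨b₀, hb₀, hb₀Q⟩ := SetLike.not_le_iff_exists.1 hBQ
  have hBP : B ≤ P := hBU.trans hP.UP
  -- the module `N`
  have hCinv : ∀ p ∈ P, ∀ v ∈ cv M (Q : Set G), p • v ∈ cv M (Q : Set G) := fun p hp v hv =>
    smul_cv (fun q hq => by
      have := hP.norm p⁻¹ (inv_mem hp) q hq
      rwa [inv_inv] at this) hv
  set N : Subgroup M := cmt P (cv M (Q : Set G)) with hN
  have hNinv : ∀ p ∈ P, ∀ n ∈ N, p • n ∈ N := cmt_inv hCinv
  have hNC : N ≤ cv M (Q : Set G) := cmt_le_self hCinv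
  have hQN : ∀ q ∈ Q, ∀ n ∈ N, q • n = n := fun q hq n hn => hNC hn q hq
  have hpN : N ≤ cmt P N := cmt_cmt hc hP.perf hCinv
  obtain ⟨f, -, hf1, hfU⟩ := exists_fixed (G := G) (U := U) sq hP.two (E := (⊤ : Subgroup M))
    (fun _ _ _ _ => mem_top _) (by
      intro h
      obtain ⟨x, hx⟩ := exists_ne (1 : M)
      exact hx (mem_bot.1 (h ▸ mem_top x)))
  have hNne : N ≠ ⊥ := by
    intro h
    obtain ⟨p, hp, hpf⟩ := hmov f hf1 hfU
    apply hpf
    have h1 : (p • f) * f⁻¹ ∈ N := mem_cmt hp fun q hq => hfU q (hP.QU hq)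
    rw [h, mem_bot] at h1
    exact mul_inv_eq_one.1 h1
  -- `B` moves `N`
  have hmvN : cw B N ≠ B := by
    intro h
    let K : Subgroup G :=
      { carrier := {p | p ∈ P ∧ ∀ n ∈ N, p • n = n}
        one_mem' := ⟨one_mem _, fun n _ => one_smul G n⟩
        mul_mem' := fun {a b} ha hb => ⟨mul_mem ha.1 hb.1, fun n hn => by rw [mul_smul, hb.2 n hn, ha.2 n hn]⟩
        inv_mem' := fun {a} ha => ⟨inv_mem ha.1, fun n hn => by
          have := ha.2 n hn
          rw [inv_smul_eq_iff, this]⟩ }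
    have h1 : P ≤ K := by
      refine hP.nc b₀ (hBU hb₀) hb₀Q K (fun x hx => hx.1) (fun p hp k hk => ?_) (fun q hq => ?_) ?_
      · refine ⟨mul_mem (mul_mem hp hk.1) (inv_mem hp), fun n hn => ?_⟩
        rw [mul_smul, mul_smul, hk.2 _ (hNinv _ (inv_mem hp) n hn), smul_inv_smul]
      · exact ⟨hP.UP (hP.QU hq), hQN q hq⟩
      · refine ⟨hBP hb₀, ?_⟩
        have : b₀ ∈ cw B N := by rw [h]; exact hb₀
        exact this.2
    apply hNne
    rw [eq_bot_iff]
    refine hpN.trans (cmt_le fun p hp v hv => ?_)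
    rw [(h1 hp).2 v hv, mul_inv_cancel]
    exact one_mem _
  have hNO := no hP sq hNinv hQN hpN hNne hBU
  have htop := sup_eq_top hc hB hmin hNO hmvN
  -- `E = [N, B]`
  set E : Subgroup M := cmt B (⊤ : Subgroup M) with hE
  have hEN : E ≤ cmt B N := by
    refine cmt_le fun b hb m _ => ?_
    have h1 : m ∈ cv M (B : Set G) ⊔ N := by rw [htop]; exact mem_top _
    have hnormal : (cv M (B : Set G)).Normal :=
      ⟨fun n hn g => by rw [hc g n, mul_inv_cancel_right]; exact hn⟩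
    obtain ⟨c, hc', n, hn, rfl⟩ := Subgroup.mem_sup_of_normal_left.1 h1
    have e : (b • (c * n)) * (c * n)⁻¹ = (b • n) * n⁻¹ := by
      rw [smul_mul', hc' b hb, mul_inv_rev, hc c (b • n)]
      rw [mul_assoc, hc n⁻¹ c⁻¹, ← mul_assoc c, mul_inv_cancel, one_mul]
    rw [e]
    exact mem_cmt hb hn
  have hEN' : E ≤ N := hEN.trans (cmt_le_self fun b hb n hn => hNinv b (hBP hb) n hn)
  have hsub : cmt B N ≤ E := cmt_le fun b hb n _ => mem_cmt hb (mem_top n)
  refine ⟨hEN'.trans hNC, ?_, ?_, ?_⟩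
  · -- `U`-invariance
    intro u hu e he
    have h1 : E ≤ E.comap (MulDistribMulAction.toMonoidHom M u) := by
      refine hEN.trans (cmt_le fun b hb n hn => ?_)
      show u • ((b • n) * n⁻¹) ∈ E
      have hun := hNinv u (hP.UP hu) n hn
      have hq := hP.comm b (hBU hb) (hel b hb) u hu
      have e1 : u • ((b • n) * n⁻¹) = (b • (u • n)) * (u • n)⁻¹ := by
        rw [smul_mul', smul_inv']
        congr 1
        have e2 : u • b • n = (u * b * u⁻¹ * b⁻¹) • (b • (u • n)) := by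
          rw [← mul_smul, ← mul_smul, ← mul_smul]; congr 1; group
        rw [e2, hQN _ hq _ (hNinv b (hBP hb) _ hun)]
      rw [e1]
      exact mem_cmt hb (mem_top _)
    exact h1 he
  · -- `E ≠ 1`
    intro h
    apply hmvN
    refine le_antisymm (cw_le B N) fun b hb => ⟨hb, fun n hn => ?_⟩
    have h1 : (b • n) * n⁻¹ ∈ E := mem_cmt hb (mem_top n)
    rw [h, mem_bot] at h1
    exact mul_inv_eq_one.1 h1
  · -- `E` is not `P`-invariant
    intro hinv
    let K : Subgroup G :=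
      { carrier := {p | p ∈ P ∧ ∀ n ∈ N, (p • n) * n⁻¹ ∈ E}
        one_mem' := ⟨one_mem _, fun n _ => by rw [one_smul, mul_inv_cancel]; exact one_mem _⟩
        mul_mem' := by
          rintro a b ⟨ha, ha'⟩ ⟨hb, hb'⟩
          refine ⟨mul_mem ha hb, fun n hn => ?_⟩
          have e : ((a * b) • n) * n⁻¹ = ((a • (b • n)) * (b • n)⁻¹) * ((b • n) * n⁻¹) := by
            rw [mul_smul]; group
          rw [e]
          exact mul_mem (ha' _ (hNinv b hb n hn)) (hb' n hn)
        inv_mem' := by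
          rintro a ⟨ha, ha'⟩
          refine ⟨inv_mem ha, fun n hn => ?_⟩
          have h1 := ha' _ (hNinv a⁻¹ (inv_mem ha) n hn)
          rw [smul_inv_smul] at h1
          have e : (a⁻¹ • n) * n⁻¹ = (n * (a⁻¹ • n)⁻¹)⁻¹ := by group
          rw [e]
          exact inv_mem h1 }
    have h1 : P ≤ K := by
      refine hP.nc b₀ (hBU hb₀) hb₀Q K (fun x hx => hx.1) (fun p hp k hk => ?_) (fun q hq => ?_) ?_
      · refine ⟨mul_mem (mul_mem hp hk.1) (inv_mem hp), fun n hn => ?_⟩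
        have h2 := hk.2 _ (hNinv p⁻¹ (inv_mem hp) n hn)
        have e : ((p * k * p⁻¹) • n) * n⁻¹ = p • ((k • (p⁻¹ • n)) * (p⁻¹ • n)⁻¹) := by
          rw [smul_mul', smul_inv', smul_inv_smul, mul_smul, mul_smul]
        rw [e]
        exact hinv p hp _ h2
      · refine ⟨hP.UP (hP.QU hq), fun n hn => ?_⟩
        rw [hQN q hq n hn, mul_inv_cancel]; exact one_mem _
      · exact ⟨hBP hb₀, fun n _ => mem_cmt hb₀ (mem_top n)⟩
    have h2 : N ≤ E := hpN.trans (cmt_le fun p hp v hv => (h1 hp).2 v hv)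
    obtain ⟨u, hu, ⟨w, hw, hw1⟩, hfix⟩ := exists_fn sq hNinv hNne hP.two hP.UP
    apply hw1
    exact fn_cmt (P := B) (N := N) (fun b hb n hn => hNinv b (hBP hb) n hn) hu (fun b hb n hn => hfix b (hBU hb) n hn) w
      (hEN (h2 hw))

/-- the second minimal parabolic -/
theorem bad' {U P' Q' V' : Subgroup G} (hP : Par U P' Q' V') (sq : ∀ m : M, m * m = 1)
    (hmov : ∀ f : M, f ≠ 1 → (∀ u ∈ U, u • f = f) → ∃ p ∈ P', p • f ≠ f) {E : Subgroup M} {Q : Subgroup G}
    (hEQ : E ≤ cv M (Q : Set G)) (hEU : ∀ u ∈ U, ∀ e ∈ E, u • e ∈ E) (hne : E ≠ ⊥) {x : G} (hxU : x ∈ U) (hx : x ∈ Q)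
    (hx' : x ∉ Q') (hinv : ∀ p ∈ P', ∀ e ∈ E, p • e ∈ E) : False := by
  obtain ⟨f, hfE, hf1, hfU⟩ := exists_fixed sq hP.two hEU hne
  obtain ⟨p, hp, hpf⟩ := hmov f hf1 hfU
  -- the elements of `P'` centralising `E`
  let C : Subgroup G :=
    { carrier := {p | p ∈ P' ∧ ∀ n ∈ E, p • n = n}
      one_mem' := ⟨one_mem _, fun n _ => one_smul G n⟩
      mul_mem' := fun {a b} ha hb => ⟨mul_mem ha.1 hb.1, fun n hn => by rw [mul_smul, hb.2 n hn, ha.2 n hn]⟩
      inv_mem' := fun {a} ha => ⟨inv_mem ha.1, fun n hn => by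
        have := ha.2 n hn
        rw [inv_smul_eq_iff, this]⟩ }
  have hCn : ∀ p ∈ P', ∀ k ∈ C, p * k * p⁻¹ ∈ C := fun p hp k hk => by
    refine ⟨mul_mem (mul_mem hp hk.1) (inv_mem hp), fun n hn => ?_⟩
    rw [mul_smul, mul_smul, hk.2 _ (hinv _ (inv_mem hp) n hn), smul_inv_smul]
  have hn : ∀ p ∈ P', ∀ n ∈ C ⊔ Q', p * n * p⁻¹ ∈ C ⊔ Q' := by
    intro p hp n hn
    have h1 : C ⊔ Q' ≤ (C ⊔ Q').comap (MulAut.conj p).toMonoidHom := sup_le
      (fun k hk => mem_sup_left (hCn p hp k hk)) (fun k hk => mem_sup_right (hP.norm p hp k hk))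
    exact h1 hn
  have h1 : P' ≤ C ⊔ Q' := hP.nc x hxU hx' (C ⊔ Q') (sup_le (fun k hk => hk.1) (hP.QU.trans hP.UP)) hn le_sup_right
    (mem_sup_left ⟨hP.UP hxU, fun n hn => hEQ hn x hx⟩)
  have h2 : C ⊔ Q' ≤ MulAction.stabilizer G f := sup_le (fun k hk => hk.2 f hfE) fun q hq => hfU q (hP.QU hq)
  exact hpf (h2 (h1 hp))

end mod

section zsys

variable {G : Type*} [Group G]

/-- a perfect group is not covered by a proper normal subgroup and a solvable subgroup -/
theorem perfect_le {H A N : Subgroup G} (hp : ⁅H, H⁆ = H) (hA : Group.IsSolvable A) (hAH : A ≤ H) (hNH : N ≤ H)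
    (hn : ∀ h ∈ H, ∀ n ∈ N, h * n * h⁻¹ ∈ N) (hH : H ≤ A ⊔ N) : H ≤ N := by
  let N' : Subgroup H := N.subgroupOf H
  have hN' : N'.Normal := ⟨fun x hx g => hn g g.2 x hx⟩
  let f : A →* H ⧸ N' := (QuotientGroup.mk' N').comp (Subgroup.inclusion hAH)
  have hf : Function.Surjective f := by
    intro q
    obtain ⟨g, rfl⟩ := QuotientGroup.mk'_surjective N' q
    obtain ⟨a, ha, b, hb, h⟩ := mem_sup_of_norm (fun a ha b hb => hn a (hAH ha) b hb) (hH g.2)
    refine ⟨⟨a, ha⟩, ?_⟩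
    show (QuotientGroup.mk' N') ⟨a, hAH ha⟩ = QuotientGroup.mk' N' g
    rw [QuotientGroup.mk'_eq_mk']
    exact ⟨⟨b, hNH hb⟩, hb, Subtype.ext h.symm⟩
  have : Group.IsSolvable (H ⧸ N') := Group.isSolvable_of_surjective hf
  by_contra hne
  have hNt : N' ≠ ⊤ := by
    intro hN
    rw [Subgroup.subgroupOf_eq_top] at hN
    exact hne hN
  have : Nontrivial (H ⧸ N') := QuotientGroup.nontrivial_iff.2 hNt
  have h1 : commutator (H ⧸ N') < ⊤ := Group.IsSolvable.commutator_lt_top_of_nontrivial _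
  apply h1.ne
  have h2 : commutator H = ⊤ := by
    have h3 : (commutator H).map H.subtype = (⊤ : Subgroup H).map H.subtype := by
      rw [Subgroup.map_subtype_commutator, hp, ← MonoidHom.range_eq_map, Subgroup.range_subtype]
    exact Subgroup.map_injective H.subtype_injective h3
  have h4 : Subgroup.map (QuotientGroup.mk' N') (commutator H) = commutator (H ⧸ N') := by
    rw [commutator_def, commutator_def, Subgroup.map_commutator, Subgroup.map_top_of_surjective _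
      (QuotientGroup.mk'_surjective N')]
  rw [← h4, h2, Subgroup.map_top_of_surjective _ (QuotientGroup.mk'_surjective N')]

/-- the hypotheses on the root groups -/
structure Hyp (m : ℤ) (X : ℤ → Subgroup G) : Prop where
  Z : ZSys m X
  h2 : ∀ k, IsPGroup 2 (X k)
  perf : ∀ k, ⁅J X k (k + m), J X k (k + m)⁆ = J X k (k + m)
  cin : ∀ k, ∀ y ∈ X k, y * y = 1 → ∀ x ∈ X k, x * y = y * x

variable {X : ℤ → Subgroup G} {m : ℤ}

theorem Hyp.rev (H : Hyp m X) (s : ℤ) : Hyp m (fun k => X (s - k)) := by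
  refine ⟨H.Z.rev s, fun k => H.h2 _, fun k => ?_, fun k => H.cin _⟩
  rw [ZSys.J_rev]
  have := H.perf (s - (k + m))
  rw [show s - (k + m) + m = s - k by ring] at this
  exact this

variable [Finite G]

theorem par_plus (H : Hyp m X) (k : ℤ) :
    Par (J X k (k + m - 1)) (J X k (k + m)) (J X (k + 1) (k + m - 1)) (J X (k + 1) (k + m)) := by
  have hm := H.Z.two_lt
  have hnorm : ∀ p ∈ J X k (k + m), ∀ q ∈ J X (k + 1) (k + m - 1), p * q * p⁻¹ ∈ J X (k + 1) (k + m - 1) :=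
    fun p hp q hq => H.Z.conj_J (a := k + 1) (b := k + m - 1) (by omega) (by omega) (by omega) hp hq
  have hgen : ∀ u ∈ J X k (k + m - 1), u ∉ J X (k + 1) (k + m - 1) → ∀ R : Subgroup G, J X (k + 1) (k + m) ≤ R →
      u ∈ R → J X k (k + m) ≤ R := by
    intro u hu huQ R hV huR
    obtain ⟨y, hy, q, hq, e⟩ := H.Z.split_ll (a := k) (b := k + m - 1) (by omega) (by omega) hu
    have hy1 : y ≠ 1 := by
      rintro rfl
      rw [one_mul] at e
      exact huQ (e ▸ hq)
    have hyR : y ∈ R := by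
      have e1 : y = u * q⁻¹ := by rw [e]; group
      rw [e1]
      exact mul_mem huR (inv_mem (hV (J_mono le_rfl (by omega) hq)))
    have ho : X (k + m) ≤ R := (X_le_J (by omega) le_rfl).trans hV
    obtain ⟨v, hv, v', hv', hn⟩ := H.Z.mu k y hy hy1
    rw [TwF4Opp.per_m H.Z] at hv hv'
    have hnR : v * y * v' ∈ R := mul_mem (mul_mem (ho hv) hyR) (ho hv')
    refine J_le fun j h1 h2 w hw => ?_
    rcases eq_or_lt_of_le h1 with h3 | h3
    · rw [← h3] at hw
      have h4 : (v * y * v') * w * (v * y * v')⁻¹ ∈ X (2 * k - m - k) := hn.mem hw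
      rw [show 2 * k - m - k = k - m by ring, TwF4Opp.per_m H.Z] at h4
      have e1 : w = (v * y * v')⁻¹ * ((v * y * v') * w * (v * y * v')⁻¹) * (v * y * v') := by group
      rw [e1]
      exact mul_mem (mul_mem (inv_mem hnR) (ho h4)) hnR
    · exact hV (mem_J hw (by omega) h2)
  refine ⟨J_mono (by omega) le_rfl, J_mono le_rfl (by omega), J_mono le_rfl (by omega), J_mono (by omega) le_rfl,
    hnorm, TwF4Opp.two_arc H.Z H.h2 (by omega), TwF4Opp.two_arc H.Z H.h2 (by omega), H.perf k, hgen, ?_, ?_⟩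
  · intro u hu huQ N hNP hn hQN huN
    have hXP : X (k + m) ≤ J X k (k + m) := X_le_J (by omega) le_rfl
    have hsol : Group.IsSolvable (X (k + m)) := by
      have : Group.IsNilpotent (X (k + m)) := (H.h2 (k + m)).isNilpotent
      infer_instance
    refine perfect_le (H.perf k) hsol hXP hNP hn ?_
    refine hgen u hu huQ _ (J_le fun j h1 h2 => ?_) (mem_sup_right huN)
    rcases eq_or_lt_of_le h2 with h3 | h3
    · rw [h3]; exact le_sup_left
    · exact ((X_le_J h1 (by omega)).trans hQN).trans le_sup_right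
  · intro b hb hbb u hu
    obtain ⟨y, hy, q, hq, rfl⟩ := H.Z.split_ll (a := k) (b := k + m - 1) (by omega) (by omega) hb
    obtain ⟨z, hz, r, hr, rfl⟩ := H.Z.split_ll (a := k) (b := k + m - 1) (by omega) (by omega) hu
    have hyP : y ∈ J X k (k + m) := mem_J hy le_rfl (by omega)
    have hzP : z ∈ J X k (k + m) := mem_J hz le_rfl (by omega)
    have hn' : ∀ p ∈ J X k (k + m), ∀ q ∈ J X (k + 1) (k + m - 1), p⁻¹ * q * p ∈ J X (k + 1) (k + m - 1) := by
      intro p hp q hq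
      have := hnorm p⁻¹ (inv_mem hp) q hq
      rwa [inv_inv] at this
    have hyy : y * y = 1 := by
      refine H.Z.inter k _ (mul_mem hy hy) ?_
      have e : y * y = ((y⁻¹ * q * y) * q)⁻¹ := by
        have e1 : y * y * ((y⁻¹ * q * y) * q) = (y * q) * (y * q) := by group
        rw [eq_inv_iff_mul_eq_one, e1, hbb]
      rw [e]
      exact inv_mem (mul_mem (hn' y hyP q hq) hq)
    have hyz : z * y = y * z := H.cin k y hy hyy z hz
    have e : z * r * (y * q) * (z * r)⁻¹ * (y * q)⁻¹ =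
        (z * y) * (((y⁻¹ * r * y) * q * r⁻¹) * (z⁻¹ * q⁻¹ * z)) * (z * y)⁻¹ := by
      have e1 : (z * y)⁻¹ = z⁻¹ * y⁻¹ := by rw [hyz]; group
      rw [e1]; group
    rw [e]
    exact hnorm _ (mul_mem hzP hyP) _
      (mul_mem (mul_mem (mul_mem (hn' y hyP r hr) hq) (inv_mem hr)) (hn' z hzP _ (inv_mem hq)))

theorem par_minus (H : Hyp m X) (k : ℤ) :
    Par (J X k (k + m - 1)) (J X (k - 1) (k + m - 1)) (J X k (k + m - 2)) (J X (k - 1) (k + m - 2)) := by
  have h := par_plus (H.rev (2 * k + m - 1)) k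
  rw [ZSys.J_rev, ZSys.J_rev, ZSys.J_rev, ZSys.J_rev, show 2 * k + m - 1 - (k + m - 1) = k by ring,
    show 2 * k + m - 1 - k = k + m - 1 by ring, show 2 * k + m - 1 - (k + m) = k - 1 by ring,
    show 2 * k + m - 1 - (k + 1) = k + m - 2 by ring] at h
  exact h

variable {M : Type*} [Group M] [MulDistribMulAction G M]

/-- the elements leaving `E` invariant -/
def inv (E : Subgroup M) : Subgroup G where
  carrier := {g | ∀ e, e ∈ E ↔ g • e ∈ E}
  one_mem' := fun e => by rw [one_smul]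
  mul_mem' := fun {a b} ha hb e => by rw [mul_smul, hb e, ha]
  inv_mem' := fun {a} ha e => by
    have := ha (a⁻¹ • e)
    rw [smul_inv_smul] at this
    exact this.symm

theorem le_inv {E : Subgroup M} {K : Subgroup G} (h : ∀ k ∈ K, ∀ e ∈ E, k • e ∈ E) : K ≤ inv E := by
  intro k hk e
  refine ⟨h k hk e, fun he => ?_⟩
  have := h k⁻¹ (inv_mem hk) _ he
  rwa [inv_smul_smul] at this

variable [Finite M]

/-- **the walk around the apartment** -/
theorem false_of (H : Hyp m X) (hopp : ∀ x ∈ J X 1 m, x ∈ J X (m + 1) (2 * m) → x = 1)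
    (sq : ∀ m : M, m * m = 1) (hc : ∀ x y : M, x * y = y * x) (hM : Nontrivial M)
    (hp : ∀ k, ∀ f : M, (∀ p ∈ J X k (k + m), p • f = f) → f = 1)
    {B : Subgroup G} (hB0 : B ≠ ⊥) (hel : ∀ b ∈ B, b * b = 1) (hB1 : B ≤ J X 2 m) (hB2 : B ≤ J X 1 (m - 1))
    (hB : (cv M (B : Set G)).index ≤ Nat.card B)
    (hmin : ∀ C : Subgroup G, C ≤ B → C ≠ ⊥ → C ≠ B → Nat.card C < (cv M (C : Set G)).index) : False := by
  have hm := H.Z.two_lt
  have mov : ∀ k, ∀ f : M, f ≠ 1 → (∀ u ∈ J X k (k + m - 1), u • f = f) → ∃ p ∈ J X k (k + m), p • f ≠ f := by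
    intro k f hf hU
    by_contra hcon
    push Not at hcon
    exact hf (hp k f hcon)
  have mov' : ∀ k, ∀ f : M, f ≠ 1 → (∀ u ∈ J X k (k + m - 1), u • f = f) →
      ∃ p ∈ J X (k - 1) (k + m - 1), p • f ≠ f := by
    intro k f hf hU
    by_contra hcon
    push Not at hcon
    refine hf (hp (k - 1) f ?_)
    rw [show k - 1 + m = k + m - 1 by ring]
    exact hcon
  -- up
  have up : ∃ k : ℤ, 2 ≤ k ∧ k ≤ m ∧ B ≤ J X k (k + m - 1) ∧ ¬ B ≤ J X (k + 1) (k + m - 1) := by
    by_contra hcon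
    push Not at hcon
    have key : ∀ n : ℕ, (n : ℤ) ≤ m → B ≤ J X (n + 1) (n + m) := by
      intro n
      induction n with
      | zero => intro _; exact hB2.trans (J_mono (by simp) (by simp))
      | succ n ih =>
        intro hn
        push_cast at hn ⊢
        have h1 := ih (by omega)
        rcases Nat.eq_zero_or_pos n with h0 | h0
        · subst h0
          exact hB1.trans (J_mono (by simp) (by push_cast; omega))
        · have h2 := hcon (n + 1) (by omega) (by omega) (h1.trans (J_mono le_rfl (by omega)))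
          exact h2.trans (J_mono le_rfl (by omega))
    have h1 := key m.toNat (by omega)
    rw [Int.toNat_of_nonneg (by omega)] at h1
    apply hB0
    rw [eq_bot_iff]
    intro x hx
    rw [mem_bot]
    exact hopp x (J_mono le_rfl (by omega) (hB2 hx)) (J_mono le_rfl (by omega) (h1 hx))
  -- down
  have dn : ∃ k : ℤ, 2 - m ≤ k ∧ k ≤ 0 ∧ B ≤ J X k (k + m - 1) ∧ ¬ B ≤ J X k (k + m - 2) := by
    by_contra hcon
    push Not at hcon
    have key : ∀ n : ℕ, (n : ℤ) ≤ m → B ≤ J X (1 - n) (m - n) := by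
      intro n
      induction n with
      | zero => intro _; exact hB2.trans (J_mono (by simp) (by simp))
      | succ n ih =>
        intro hn
        push_cast at hn ⊢
        have h1 := ih (by omega)
        rcases Nat.eq_zero_or_pos n with h0 | h0
        · subst h0
          exact hB2.trans (J_mono (by simp) (by simp))
        · have h2 := hcon (1 - n) (by omega) (by omega) (h1.trans (J_mono le_rfl (by omega)))
          exact h2.trans (J_mono (by omega) (by omega))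
    have h1 := key m.toNat (by omega)
    rw [Int.toNat_of_nonneg (by omega)] at h1
    apply hB0
    rw [eq_bot_iff]
    intro x hx
    rw [mem_bot]
    refine hopp x (J_mono le_rfl (by omega) (hB2 hx)) ?_
    have h2 := h1 hx
    have h3 : J X (1 - m) (m - m) ≤ J X (m + 1) (2 * m) := J_le fun j h4 h5 => by
      have e : X j = X (j + 2 * m) := (H.Z.per j).symm
      rw [e]
      exact X_le_J (by omega) (by omega)
    exact h3 h2
  obtain ⟨k, hk1, hk2, hkU, hkQ⟩ := up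
  obtain ⟨l, hl1, hl2, hlU, hlQ⟩ := dn
  obtain ⟨hEQ, hEU, hE0, hEP⟩ := bad (par_plus H k) sq hc (mov k) hel hB hmin hkU hkQ hM
  obtain ⟨-, hEU', -, -⟩ := bad (par_minus H l) sq hc (mov' l) hel hB hmin hlU hlQ hM
  have i1 := le_inv hEU
  have i2 := le_inv hEU'
  rcases le_or_gt (k - l) m with h | h
  · -- `X (k - 1)` leaves `E` invariant
    obtain ⟨x, hx, hx1⟩ := H.Z.exists_ne (k + m - 1)
    refine bad' (par_minus H k) sq (mov' k) hEQ hEU hE0 (x := x) (mem_J hx (by omega) le_rfl)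
      (mem_J hx (by omega) le_rfl) (fun hx' => ?_) ?_
    · exact hx1 (H.Z.inter' hx (J_mono (by omega) (by omega) hx'))
    · have h1 : J X (k - 1) (k + m - 1) ≤ inv (cmt B (⊤ : Subgroup M)) := J_le fun j h2 h3 => by
        rcases eq_or_lt_of_le h2 with h4 | h4
        · exact (X_le_J (by omega) (by omega)).trans i2
        · exact (X_le_J (by omega) h3).trans i1
      exact fun p hp e he => (h1 hp e).1 he
  · -- `X (k + m) = X (k - m)`
    refine hEP ?_
    have h1 : J X k (k + m) ≤ inv (cmt B (⊤ : Subgroup M)) := J_le fun j h2 h3 => by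
      rcases eq_or_lt_of_le h3 with h4 | h4
      · have e : X j = X (k - m) := by rw [h4, TwF4Opp.per_m H.Z]
        rw [e]
        exact (X_le_J (by omega) (by omega)).trans i2
      · exact (X_le_J h2 (by omega)).trans i1
    exact fun p hp e he => (h1 hp e).1 he

end zsys

end Cfsg.Agent.Omega.ML.Ex.ZWalk

end
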