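import Cfsg.Agent.Mrg.Omega.TwoF.RowPSp
import Cfsg.Agent.Omega.ML.InvGTwoThree
import Cfsg.Agent.Mrg.Omega.TwoF.GTwoOut
import Cfsg.Agent.OddHalf.D6.QThree.G23Out
import Cfsg.Agent.Mrg.Omega.Lie.HeisF
import Cfsg.Agent.Mrg.Omega.TwoF.RowExc
import Cfsg.Agent.Mrg.Omega.TwoF.RowTwD4
import Cfsg.Agent.Mrg.Omega.TwoF.RowTwE6
import Cfsg.Agent.Mrg.Omega.TwoF.RowM
import Cfsg.Agent.S1067

section


/-!
# (ML), the K-list end: the row `G₂(3)` (helper285)

Every involution of `G₂(3)` inverts an element of order 13, `2 ^ 12` is the order of the smallest nontrivial module for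
it, `RK 4` and `|Out| ≤ 2` (#17288 of helper763).
-/

set_option autoImplicit false

namespace Cfsg.Agent.Omega.ML.RowGTwoThree

open Subgroup Cfsg Cfsg.Lie
open Cfsg.Agent.Omega.ML.Rows Cfsg.Agent.Omega.ML.InvChain Cfsg.Agent.Omega.TwoF

universe u v

/-- `G₂(3)` -/
def IsGTwoThree (S : Type u) [Group S] : Prop :=
  ∃ (F : Type) (_ : Field F) (_ : Fintype F), Fintype.card F = 3 ∧ Nonempty (S ≃* ↥(chevG2.group F))

/-- `|Out(S)| ≤ 2` is invariant under isomorphisms. -/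
theorem out_congr {S S' : Type*} [Group S] [Group S'] (e : S ≃* S') :
    (MulAut.conj : S →* MulAut S).range.index = (MulAut.conj : S' →* MulAut S').range.index := by
  have h1 : ((MulAut.conj : S →* MulAut S).range).map (MulAut.congr e).toMonoidHom =
      (MulAut.conj : S' →* MulAut S').range := by
    ext φ
    constructor
    · rintro ⟨_, ⟨s, rfl⟩, rfl⟩
      refine ⟨e s, ?_⟩
      ext x
      show e s * x * (e s)⁻¹ = e (s * e.symm x * s⁻¹)
      rw [map_mul, map_mul, map_inv, MulEquiv.apply_symm_apply]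
    · rintro ⟨s, rfl⟩
      refine ⟨_, ⟨e.symm s, rfl⟩, ?_⟩
      ext x
      show e (e.symm s * e.symm x * (e.symm s)⁻¹) = s * x * s⁻¹
      rw [map_mul, map_mul, map_inv, MulEquiv.apply_symm_apply, MulEquiv.apply_symm_apply]
  rw [← h1]
  exact (Subgroup.index_map_equiv _ (MulAut.congr e)).symm

theorem out {S : Type*} [Group S] {F : Type} [Field F] [Fintype F] (hF : Fintype.card F = 3)
    (e : S ≃* ↥(chevG2.group F)) : (MulAut.conj : S →* MulAut S).range.index < 8 := by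
  have h3 : Fintype.card (ZMod 3) = Fintype.card F := by rw [hF]; rfl
  let φ : ZMod 3 ≃+* F := FiniteField.ringEquivOfCardEq h3
  let f : S ≃* ↥(chevG2.group (ZMod 3)) := e.trans (ChevalleyStructure.FieldIso.groupEquiv chevG2 φ).symm
  rw [out_congr f]
  have h1 := OddHalf.D6.QThree.G23Out.out OddHalf.D6.QThree.G23Out.words2
  exact lt_of_le_of_lt (Nat.le_of_dvd two_pos h1) (by norm_num)

theorem invAt {S : Type*} [Group S] {F : Type} [Field F] [Fintype F] (hF : Fintype.card F = 3)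
    (e : S ≃* ↥(chevG2.group F)) (x : S) (hx : x * x = 1) (hx1 : x ≠ 1) : InvAt x 4 := by
  have h2 : orderOf x = 2 := orderOf_eq_prime (by rw [pow_two]; exact hx) hx1
  obtain ⟨g, hg⟩ := InvGTwoThree.exists_thirteen' F hF e x h2
  have hxi : x⁻¹ = x := inv_eq_of_mul_eq_one_right hx
  refine ⟨x * (g * x * g⁻¹), 12, Chain.base _ 12 (by rw [hg]; norm_num) (by rw [hg]; norm_num) ?_, ?_, by norm_num⟩
  · rw [hg]
    intro n hn hn'
    by_contra hlt
    have := InvFrob.ord_13 n hn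
    interval_cases n <;> omega
  · rw [mul_inv_rev, mul_inv_rev, mul_inv_rev, inv_inv, hxi]
    calc x * (x * (g * x * g⁻¹)) * x = (x * x) * (g * x * g⁻¹) * x := by group
      _ = _ := by rw [hx]; group

/-- **The row `G₂(3)`.** -/
theorem dead : Dead.{u, v} @IsGTwoThree.{u} := by
  refine InvRow.dead fun S _ _ hS => ⟨4, ?_⟩
  obtain ⟨F, _, _, hF, ⟨e⟩⟩ := hS
  have h3 : CharP F 3 := by
    obtain ⟨p, hpF⟩ := CharP.exists F
    obtain ⟨n, hp, hn⟩ := FiniteField.card F p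
    rw [hF] at hn
    have h4 : p ∣ 3 := hn ▸ dvd_pow_self p n.pos.ne'
    rwa [← (Nat.prime_dvd_prime_iff_eq hp Nat.prime_three).1 h4]
  refine ⟨?_, out hF e, invAt hF e⟩
  have hr := (RowGTwo.rk (F := F) (p := 3) Nat.prime_three (by norm_num)).2 fun σ => by
    apply Out.ringAut_eq_one
    rw [Nat.card_eq_fintype_card, hF]
    norm_num
  exact hr.equiv e

end Cfsg.Agent.Omega.ML.RowGTwoThree

end

section


/-!
# The Heisenberg bound with a torus

`X : F → E` additive (`F` a finite field of characteristic `p ≠ 2`), every nonzero functional `f` on `F` has dual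
elements `x i, y i` (`i < n`) modulo `X (ker f)` (`Dual`), `T i ∈ E` (`i ∈ ι`) with `T i * X t * (T i)⁻¹ = X (c i * t)`,
`c` injective with values in `F ∖ {0}`. Then `2 ^ (|ι| * p ^ n) ≤ |V|` for every finite abelian `2`-group `V` on
which `X F` acts nontrivially (`two_pow_le_dual`). For a configuration `FH` or `FHeis` with `h` pairs and the full
torus: `2 ^ ((|F| - 1) * |F| ^ h) ≤ |V|` (`FH.two_pow_le_torus`, `two_pow_le_torus`).

Method: `K = 𝔽_{2^d}` with `p`-th roots of unity, `W = K ⊗ V`, the weight spaces of `X F` in `W`.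
-/

set_option autoImplicit false
set_option linter.dupNamespace false
set_option linter.unusedSectionVars false
set_option linter.style.haveILetI false

universe u v w

namespace Cfsg.Agent.Omega.ML.TorusLB

open Finset Cfsg.Agent.Omega.Lie.Heis Cfsg.Agent.Omega.Lie.HeisF

variable {E : Type u} [Group E] {F : Type w} [Field F] {p : ℕ} [Fact p.Prime] [Algebra (ZMod p) F]

/-- Dual elements for the functional `f`. -/
def Dual (X : F → E) (n : ℕ) (f : F →ₗ[ZMod p] ZMod p) : Prop :=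
  ∃ (x y : Fin n → E) (w : Fin n → Fin n → F),
    (∀ i, x i ^ p = 1) ∧ (∀ i t, X t * x i = x i * X t) ∧ (∀ i t, X t * y i = y i * X t) ∧
    (∀ i j, x i * x j = x j * x i) ∧ (∀ i j, y i * x j * (y i)⁻¹ = x j * X (w i j)) ∧
    ∀ i j, f (w i j) = if i = j then 1 else 0

section weights

variable {K : Type*} [Field K] {W : Type*} [AddCommGroup W] [Module K W] (ρ : E →* (W →ₗ[K] W)) (X : F → E)
  (ψ : AddChar (ZMod p) K)

/-- The weight space of the functional `f`. -/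
def Wt (f : F →ₗ[ZMod p] ZMod p) : Submodule K W where
  carrier := {v | ∀ t, ρ (X t) v = ψ (f t) • v}
  zero_mem' := fun t => by rw [map_zero, smul_zero]
  add_mem' := fun {a b} ha hb t => by rw [map_add, ha t, hb t, smul_add]
  smul_mem' := fun c v hv t => by rw [map_smul, hv t, smul_comm]

variable {ρ X ψ}

theorem mem_Wt {f : F →ₗ[ZMod p] ZMod p} {v : W} : v ∈ Wt ρ X ψ f ↔ ∀ t, ρ (X t) v = ψ (f t) • v := Iff.rfl

variable (hX : ∀ t u, X (t + u) = X t * X u)

/-- Existence of a nontrivial weight. -/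
theorem exists_wt [Finite F] (hX : ∀ t u, X (t + u) = X t * X u) (hψ : ψ.IsPrimitive) (hp : (p : K) ≠ 0)
    (hne : ∃ t, ρ (X t) ≠ 1) : ∃ f : F →ₗ[ZMod p] ZMod p, f ≠ 0 ∧ Wt ρ X ψ f ≠ ⊥ := by
  classical
  letI : DistribMulAction E W :=
    { smul := fun g v => ρ g v
      one_smul := fun v => by
        show ρ 1 v = v
        rw [map_one]; rfl
      mul_smul := fun g k v => by
        show ρ (g * k) v = ρ g (ρ k v)
        rw [map_mul]; rfl
      smul_zero := fun g => map_zero (ρ g)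
      smul_add := fun g v w => map_add (ρ g) v w }
  have hs : ∀ (g : E) (v : W), g • v = ρ g v := fun _ _ => rfl
  have ht : ∀ v : W, p • v = 0 → v = 0 := by
    intro v hv
    rw [← Nat.cast_smul_eq_nsmul K] at hv
    exact (smul_eq_zero.1 hv).resolve_left hp
  have hne' : ∃ (t : F) (v : W), X t • v ≠ v := by
    obtain ⟨t, ht⟩ := hne
    by_contra hcon
    push Not at hcon
    apply ht
    ext v
    exact hcon t v
  obtain ⟨f, hf, v, hv, t₁, ht₁⟩ := exists_functional hX ht hne'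
  obtain ⟨s, hs1⟩ : ∃ s, f s = 1 := by
    obtain ⟨s, hs⟩ : ∃ s, f s ≠ 0 := by
      by_contra hcon
      push Not at hcon
      exact hf (LinearMap.ext hcon)
    exact ⟨(f s)⁻¹ • s, by rw [map_smul, smul_eq_mul, inv_mul_cancel₀ hs]⟩
  let P : ZMod p → W → W := fun a v => ∑ b : ZMod p, ψ (-(a * b)) • ρ (X (b • s)) v
  have hmulρ : ∀ (g k : E) (v : W), ρ g (ρ k v) = ρ (g * k) v := fun g k v => by rw [map_mul]; rfl
  have hP : ∀ a b' v, ρ (X (b' • s)) (P a v) = ψ (a * b') • P a v := by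
    intro a b' v
    show ρ (X (b' • s)) (∑ b : ZMod p, ψ (-(a * b)) • ρ (X (b • s)) v) =
      ψ (a * b') • ∑ b : ZMod p, ψ (-(a * b)) • ρ (X (b • s)) v
    rw [map_sum, smul_sum]
    refine Fintype.sum_equiv (Equiv.addLeft b') _ _ fun b => ?_
    rw [Equiv.coe_addLeft, map_smul, hmulρ, ← hX, ← add_smul, smul_smul, ← AddChar.map_add_eq_mul]
    congr 2
    ring
  have hsum : ∀ v, ∑ a : ZMod p, P a v = (p : K) • v := by
    intro v
    show ∑ a : ZMod p, ∑ b : ZMod p, ψ (-(a * b)) • ρ (X (b • s)) v = _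
    rw [sum_comm]
    have h1 : ∀ b : ZMod p, ∑ a : ZMod p, ψ (-(a * b)) • ρ (X (b • s)) v = if b = 0 then (p : K) • v else 0 := by
      intro b
      rw [← sum_smul]
      have h2 : ∑ a : ZMod p, ψ (-(a * b)) = if b = 0 then (p : K) else 0 := by
        have h3 := AddChar.sum_mulShift (-b) hψ
        simp only [neg_eq_zero, ZMod.card, Nat.cast_ite, Nat.cast_zero] at h3
        rw [← h3]
        exact sum_congr rfl fun a _ => by rw [mul_neg]
      rw [h2]
      split_ifs with hb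
      · subst hb
        rw [zero_smul, X_zero hX, map_one]
        rfl
      · rw [zero_smul]
    rw [sum_congr rfl fun b _ => h1 b, sum_ite_eq' univ 0]
    simp
  obtain ⟨a, ha, haP⟩ : ∃ a, a ≠ 0 ∧ P a v ≠ 0 := by
    by_contra hcon
    push Not at hcon
    have h1 : P 0 v = (p : K) • v := by
      rw [← hsum v, sum_eq_single 0 (fun b _ hb => hcon b hb) (fun h => absurd (mem_univ _) h)]
    have h2 : ∀ b' : ZMod p, ρ (X (b' • s)) v = v := by
      intro b'
      have h3 := hP 0 b' v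
      rw [h1, map_smul, zero_mul, AddChar.map_zero_eq_one, one_smul] at h3
      exact smul_right_injective W hp h3
    apply ht₁
    have h4 : t₁ = f t₁ • s + (t₁ - f t₁ • s) := by abel
    rw [h4, hX, mul_smul, hv (t₁ - f t₁ • s) (by rw [map_sub, map_smul, hs1, smul_eq_mul, mul_one, sub_self]), hs, h2]
  refine ⟨a • f, smul_ne_zero ha hf, ?_⟩
  intro hbot
  apply haP
  have hker : ∀ t, f t = 0 → ρ (X t) (P a v) = P a v := by
    intro t htf
    show ρ (X t) (∑ b : ZMod p, ψ (-(a * b)) • ρ (X (b • s)) v) = _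
    rw [map_sum]
    refine sum_congr rfl fun b _ => ?_
    rw [map_smul, hmulρ, X_comm hX, ← hmulρ]
    congr 2
    exact hv t htf
  have hmem : P a v ∈ Wt ρ X ψ (a • f) := by
    intro t
    have h4 : t = f t • s + (t - f t • s) := by abel
    have h5 : ρ (X t) (P a v) = ρ (X (f t • s)) (ρ (X (t - f t • s)) (P a v)) := by
      rw [hmulρ, ← hX, ← h4]
    rw [h5, hker _ (by rw [map_sub, map_smul, hs1, smul_eq_mul, mul_one, sub_self]), hP]
    rfl
  rw [hbot] at hmem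
  exact (Submodule.mem_bot K).1 hmem

/-- Translation of weights by the torus. -/
theorem Wt_torus {f : F →ₗ[ZMod p] ZMod p} {c : F} {T : E} (hT : ∀ t, T * X t * T⁻¹ = X (c * t))
    (hf : Wt ρ X ψ f ≠ ⊥) : Wt ρ X ψ (f ∘ₗ LinearMap.mulLeft (ZMod p) c) ≠ ⊥ := by
  obtain ⟨v, hv, hv0⟩ := (Submodule.ne_bot_iff _).1 hf
  intro hbot
  have hmulρ : ∀ (g k : E) (v : W), ρ g (ρ k v) = ρ (g * k) v := fun g k v => by rw [map_mul]; rfl
  have h1 : ρ T⁻¹ v ∈ Wt ρ X ψ (f ∘ₗ LinearMap.mulLeft (ZMod p) c) := by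
    intro t
    have h2 : X t * T⁻¹ = T⁻¹ * X (c * t) := by rw [← hT]; group
    rw [hmulρ, h2, ← hmulρ, hv (c * t), map_smul]
    rfl
  rw [hbot, Submodule.mem_bot] at h1
  apply hv0
  have h3 : ρ T (ρ T⁻¹ v) = v := by rw [hmulρ, mul_inv_cancel, map_one]; rfl
  rw [← h3, h1, map_zero]

/-- Different functionals of the form `f (c t)`. -/
theorem comp_inj {f : F →ₗ[ZMod p] ZMod p} (hf : f ≠ 0) {c c' : F}
    (h : f ∘ₗ LinearMap.mulLeft (ZMod p) c = f ∘ₗ LinearMap.mulLeft (ZMod p) c') : c = c' := by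
  by_contra hcc
  apply hf
  ext t
  have h1 := DFunLike.congr_fun h ((c - c')⁻¹ * t)
  have h2 : f (c * ((c - c')⁻¹ * t)) = f (c' * ((c - c')⁻¹ * t)) := h1
  have h3 : c * ((c - c')⁻¹ * t) - c' * ((c - c')⁻¹ * t) = t := by
    rw [← sub_mul, ← mul_assoc, mul_inv_cancel₀ (sub_ne_zero.2 hcc), one_mul]
  rw [← h3, map_sub, h2, sub_self]
  rfl

/-- Weight vectors of different weights are independent. -/
theorem sum_injective [Finite F] (hψ : ψ.IsPrimitive) (hp : (Nat.card F : K) ≠ 0) {ι : Type*} [Fintype ι]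
    {f : ι → F →ₗ[ZMod p] ZMod p} (hf : Function.Injective f) :
    Function.Injective fun w : (∀ i, Wt ρ X ψ (f i)) => ∑ i, (w i : W) := by
  classical
  letI : Fintype F := Fintype.ofFinite F
  intro w w' hww
  funext j
  have key : ∀ w : (∀ i, Wt ρ X ψ (f i)), ∑ t : F, ψ (-(f j t)) • ρ (X t) (∑ i, (w i : W)) =
      (Nat.card F : K) • (w j : W) := by
    intro w
    have h1 : ∀ i, ∑ t : F, ψ (-(f j t)) • ρ (X t) (w i : W) =
        if i = j then (Nat.card F : K) • (w j : W) else 0 := by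
      intro i
      have h2 : ∀ t, ψ (-(f j t)) • ρ (X t) (w i : W) = ψ ((f i - f j) t) • (w i : W) := by
        intro t
        rw [mem_Wt.1 (w i).2 t, smul_smul, ← AddChar.map_add_eq_mul]
        congr 2
        rw [LinearMap.sub_apply]; abel
      rw [sum_congr rfl fun t _ => h2 t, ← sum_smul]
      split_ifs with hij
      · subst hij
        simp [Nat.card_eq_fintype_card]
      · have h3 : f i - f j ≠ 0 := sub_ne_zero.2 fun h => hij (hf h)
        have h4 : (ψ.compAddMonoidHom (f i - f j).toAddMonoidHom) ≠ 1 := by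
          intro h5
          obtain ⟨s, hs⟩ : ∃ s, (f i - f j) s ≠ 0 := by
            by_contra hcon
            push Not at hcon
            exact h3 (LinearMap.ext hcon)
          have h6 : ∀ a : ZMod p, ψ a = 1 := by
            intro a
            have h7 := DFunLike.congr_fun h5 ((a * ((f i - f j) s)⁻¹) • s)
            have h8 : ψ ((f i - f j) ((a * ((f i - f j) s)⁻¹) • s)) = 1 := h7
            rwa [map_smul, smul_eq_mul, mul_assoc, inv_mul_cancel₀ hs, mul_one] at h8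
          have h9 := hψ (a := 1) one_ne_zero
          apply h9
          ext a
          simpa using h6 a
        have h5 : ∑ t, ψ ((f i - f j) t) = 0 := AddChar.sum_eq_zero_of_ne_one h4
        rw [h5, zero_smul]
    have h2 : ∑ t : F, ψ (-(f j t)) • ρ (X t) (∑ i, (w i : W)) =
        ∑ i, ∑ t : F, ψ (-(f j t)) • ρ (X t) (w i : W) := by
      rw [sum_comm]
      refine sum_congr rfl fun t _ => ?_
      rw [map_sum, smul_sum]
    rw [h2, sum_congr rfl fun i _ => h1 i, sum_ite_eq' univ j]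
    simp
  have h1 := key w
  have hww' : ∑ i, (w i : W) = ∑ i, (w' i : W) := hww
  rw [hww', key w'] at h1
  exact (Subtype.ext (smul_right_injective W hp h1)).symm

/-- **The Heisenberg bound in a weight space.** -/
theorem le_finrank_Wt [Finite K] [Finite W] (hψ : ψ.IsPrimitive) (hp : (p : K) ≠ 0) (hK : (Nat.card K : ZMod p) ≠ 0)
    (hX : ∀ t u, X (t + u) = X t * X u)
    {n : ℕ} {f : F →ₗ[ZMod p] ZMod p} (hf : f ≠ 0) (hD : Dual X n f) (hW : Wt ρ X ψ f ≠ ⊥) :
    p ^ n ≤ Module.finrank K (Wt ρ X ψ f) := by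
  classical
  obtain ⟨x, y, w, hxr, hXx, hXy, hxx, hyx, hfw⟩ := hD
  have hmulρ : ∀ (g k : E) (v : W), ρ g (ρ k v) = ρ (g * k) v := fun g k v => by rw [map_mul]; rfl
  let N : Subgroup E := Subgroup.centralizer (Set.range X)
  have hmem : ∀ g : E, (∀ t, X t * g = g * X t) → g ∈ N := by
    intro g hg
    rw [Subgroup.mem_centralizer_iff]
    rintro _ ⟨t, rfl⟩
    exact hg t
  have hN : ∀ g ∈ N, ∀ v ∈ Wt ρ X ψ f, ρ g v ∈ Wt ρ X ψ f := by
    intro g hg v hv t
    have h1 := Subgroup.mem_centralizer_iff.1 hg (X t) ⟨t, rfl⟩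
    rw [hmulρ, h1, ← hmulρ, mem_Wt.1 hv t, map_smul]
  let σ : N →* (Wt ρ X ψ f →ₗ[K] Wt ρ X ψ f) :=
    { toFun := fun g => (ρ g).restrict (hN g g.2)
      map_one' := by
        ext v
        show ρ 1 (v : W) = v
        rw [map_one]; rfl
      map_mul' := fun g k => by
        ext v
        show ρ ((g : E) * k) (v : W) = ρ g (ρ k v)
        rw [hmulρ] }
  have hσ : ∀ (g : E) (hg : g ∈ N) (v : Wt ρ X ψ f), ((σ ⟨g, hg⟩ v : Wt ρ X ψ f) : W) = ρ g v := fun _ _ _ => rfl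
  let τ : N →* (Wt ρ X ψ f →ₗ[K] Wt ρ X ψ f)ˣ := σ.toHomUnits
  have hτ : ∀ g, ((τ g : (Wt ρ X ψ f →ₗ[K] Wt ρ X ψ f)ˣ) : Wt ρ X ψ f →ₗ[K] Wt ρ X ψ f) = σ g := fun g => rfl
  have hXN : ∀ t, X t ∈ N := fun t => hmem _ fun t' => X_comm hX t' t
  have hXt : ∀ t u, f t = f u → τ ⟨X t, hXN t⟩ = τ ⟨X u, hXN u⟩ := by
    intro t u htu
    apply Units.ext
    rw [hτ, hτ]
    ext v
    rw [hσ, hσ, mem_Wt.1 v.2 t, mem_Wt.1 v.2 u, htu]
  obtain ⟨s, hs⟩ : ∃ s, f s = 1 := by
    obtain ⟨s, hs⟩ : ∃ s, f s ≠ 0 := by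
      by_contra hcon
      push Not at hcon
      exact hf (LinearMap.ext hcon)
    exact ⟨(f s)⁻¹ • s, by rw [map_smul, smul_eq_mul, inv_mul_cancel₀ hs]⟩
  have hX0 : ∀ t, f t = 0 → τ ⟨X t, hXN t⟩ = 1 := by
    intro t ht
    rw [hXt t 0 (by rw [ht, map_zero]), ← map_one τ]
    congr 1
    exact Subtype.ext (X_zero hX)
  have hH : Heis p n (τ ⟨X s, hXN s⟩) (fun i => τ ⟨x i, hmem _ (hXx i)⟩) (fun i => τ ⟨y i, hmem _ (hXy i)⟩) := by
    refine ⟨Fact.out, ?_, fun i => ?_, fun i => ?_, fun i => ?_, fun i j => ?_, fun i j hij => ?_, fun i => ?_⟩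
    · rw [← map_pow, ← map_one τ]
      congr 1
      exact Subtype.ext (X_pow hX s)
    · rw [← map_pow, ← map_one τ]
      congr 1
      exact Subtype.ext (hxr i)
    · rw [← map_mul, ← map_mul]
      congr 1
      exact Subtype.ext (hXx i s)
    · rw [← map_mul, ← map_mul]
      congr 1
      exact Subtype.ext (hXy i s)
    · rw [← map_mul, ← map_mul]
      congr 1
      exact Subtype.ext (hxx i j)
    · have h5 : (⟨y i, hmem _ (hXy i)⟩ : N) * ⟨x j, hmem _ (hXx j)⟩ =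
          ⟨x j, hmem _ (hXx j)⟩ * ⟨X (w i j), hXN (w i j)⟩ * ⟨y i, hmem _ (hXy i)⟩ := by
        apply Subtype.ext
        show y i * x j = x j * X (w i j) * y i
        rw [← hyx]; group
      rw [← map_mul, h5, map_mul, map_mul, hX0 _ (by rw [hfw, if_neg hij]), mul_one]
    · have h5 : (⟨y i, hmem _ (hXy i)⟩ : N) * ⟨x i, hmem _ (hXx i)⟩ * (⟨y i, hmem _ (hXy i)⟩ : N)⁻¹ =
          ⟨x i, hmem _ (hXx i)⟩ * ⟨X (w i i), hXN (w i i)⟩ := by
        apply Subtype.ext
        show y i * x i * (y i)⁻¹ = x i * X (w i i)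
        exact hyx i i
      rw [← map_inv, ← map_mul, ← map_mul, h5, map_mul, hXt (w i i) s (by rw [hfw, if_pos rfl, hs])]
  have hz : (Units.coeHom (Wt ρ X ψ f →ₗ[K] Wt ρ X ψ f)) (τ ⟨X s, hXN s⟩) ≠ 1 := by
    intro h1
    obtain ⟨v, hv, hv0⟩ := (Submodule.ne_bot_iff _).1 hW
    have h2 : ((σ ⟨X s, hXN s⟩ ⟨v, hv⟩ : Wt ρ X ψ f) : W) = v := by
      have h3 : σ ⟨X s, hXN s⟩ = 1 := h1
      rw [h3]; rfl
    rw [hσ, mem_Wt.1 hv s, hs] at h2
    have h4 : (ψ 1 - 1) • v = 0 := by rw [sub_smul, h2, one_smul, sub_self]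
    have h5 : ψ 1 = 1 := sub_eq_zero.1 ((smul_eq_zero.1 h4).resolve_right hv0)
    have h9 := hψ (a := 1) one_ne_zero
    apply h9
    ext a
    have h6 : ∀ k : ℕ, ψ (k : ZMod p) = 1 := by
      intro k
      induction k with
      | zero => simp
      | succ k ih => rw [Nat.cast_succ, AddChar.map_add_eq_mul, ih, h5, one_mul]
    have h7 := h6 a.val
    rw [ZMod.natCast_zmod_val] at h7
    simpa using h7
  have h10 := hH.finrank_le (Units.coeHom (Wt ρ X ψ f →ₗ[K] Wt ρ X ψ f)) hp hz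
  refine le_trans ?_ h10
  refine Nat.le_mul_of_pos_left _ ?_
  rw [orderOf_pos_iff, isOfFinOrder_iff_pow_eq_one]
  exact ⟨p - 1, Nat.sub_pos_of_lt (Fact.out : p.Prime).one_lt, ZMod.pow_card_sub_one_eq_one hK⟩

/-- **The count** over `K`. -/
theorem card_le [Finite F] [Finite K] [Finite W] (hψ : ψ.IsPrimitive) (hp : (p : K) ≠ 0)
    (hpF : (Nat.card F : K) ≠ 0) (hK : (Nat.card K : ZMod p) ≠ 0)
    (hX : ∀ t u, X (t + u) = X t * X u) (hne : ∃ t, ρ (X t) ≠ 1) {n : ℕ}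
    (hD : ∀ f : F →ₗ[ZMod p] ZMod p, f ≠ 0 → Dual X n f) {ι : Type*} [Finite ι] {c : ι → F} {T : ι → E}
    (hc : Function.Injective c) (hc0 : ∀ i, c i ≠ 0) (hT : ∀ i t, T i * X t * (T i)⁻¹ = X (c i * t)) :
    (Nat.card K) ^ (Nat.card ι * p ^ n) ≤ Nat.card W := by
  classical
  letI : Fintype ι := Fintype.ofFinite ι
  obtain ⟨f, hf, hW⟩ := exists_wt hX hψ hp hne
  let g : ι → F →ₗ[ZMod p] ZMod p := fun i => f ∘ₗ LinearMap.mulLeft (ZMod p) (c i)
  have hg : Function.Injective g := fun i j hij => hc (comp_inj hf hij)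
  have hg0 : ∀ i, g i ≠ 0 := by
    intro i h
    apply hf
    ext t
    have h1 := DFunLike.congr_fun h ((c i)⁻¹ * t)
    have h2 : f (c i * ((c i)⁻¹ * t)) = 0 := h1
    rw [← mul_assoc, mul_inv_cancel₀ (hc0 i), one_mul] at h2
    exact h2
  have hgW : ∀ i, Wt ρ X ψ (g i) ≠ ⊥ := fun i => Wt_torus (hT i) hW
  have h1 : ∀ i, (Nat.card K) ^ (p ^ n) ≤ Nat.card (Wt ρ X ψ (g i)) := by
    intro i
    rw [Module.natCard_eq_pow_finrank (K := K) (V := Wt ρ X ψ (g i))]
    exact Nat.pow_le_pow_right Nat.card_pos (le_finrank_Wt hψ hp hK hX (hg0 i) (hD _ (hg0 i)) (hgW i))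
  have h2 := Nat.card_le_card_of_injective _ (sum_injective (ρ := ρ) (X := X) hψ hpF hg)
  rw [Nat.card_pi] at h2
  refine le_trans ?_ h2
  calc (Nat.card K) ^ (Nat.card ι * p ^ n) = ∏ _i : ι, (Nat.card K) ^ (p ^ n) := by
        rw [prod_const, card_univ, ← pow_mul, ← Nat.card_eq_fintype_card (α := ι), mul_comm]
    _ ≤ _ := prod_le_prod' fun i _ => h1 i

end weights

/-! ### Actions on `2`-groups -/

section two

variable {X : F → E}

theorem two_ne_zero' (hp2 : p ≠ 2) : (2 : ZMod p) ≠ 0 := by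
  intro h
  have h1 : ((2 : ℕ) : ZMod p) = 0 := by exact_mod_cast h
  rw [ZMod.natCast_eq_zero_iff] at h1
  exact hp2 ((Nat.prime_dvd_prime_iff_eq Fact.out Nat.prime_two).1 h1)

/-- A finite field of characteristic `2` with `p`-th roots of unity. -/
theorem exists_field (hp2 : p ≠ 2) : ∃ (K : Type) (_ : Field K) (_ : Finite K) (_ : Algebra (ZMod 2) K)
    (ψ : AddChar (ZMod p) K), ψ.IsPrimitive := by
  haveI : Fact (Nat.Prime 2) := ⟨Nat.prime_two⟩
  let d := orderOf (2 : ZMod p)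
  have hp : p.Prime := Fact.out
  have hd : d ≠ 0 := by
    have h1 : 0 < d := by
      show 0 < orderOf (2 : ZMod p)
      rw [orderOf_pos_iff, isOfFinOrder_iff_pow_eq_one]
      exact ⟨p - 1, Nat.sub_pos_of_lt hp.one_lt, ZMod.pow_card_sub_one_eq_one (two_ne_zero' hp2)⟩
    omega
  let K := GaloisField 2 d
  have hcard : Nat.card K = 2 ^ d := GaloisField.card 2 d hd
  haveI : Finite K := Nat.finite_of_card_ne_zero (by rw [hcard]; positivity)
  have hdvd : p ∣ Nat.card Kˣ := by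
    rw [Nat.card_units, hcard]
    have h1 : ((1 : ℕ) : ZMod p) = ((2 ^ d : ℕ) : ZMod p) := by
      push_cast
      exact (pow_orderOf_eq_one _).symm
    exact (Nat.modEq_iff_dvd' Nat.one_le_two_pow).1 ((ZMod.natCast_eq_natCast_iff _ _ _).1 h1)
  obtain ⟨ζ, hζ⟩ := exists_prime_orderOf_dvd_card' p hdvd
  have h3 : IsPrimitiveRoot (ζ : K) p := by
    rw [IsPrimitiveRoot.coe_units_iff, ← hζ]
    exact IsPrimitiveRoot.orderOf ζ
  exact ⟨K, inferInstance, inferInstance, inferInstance, _, AddChar.zmodChar_primitive_of_primitive_root p h3⟩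

/-- Linear actions over `𝔽₂`. -/
theorem two_pow_le_linear [Finite F] (hp2 : p ≠ 2) (hX : ∀ t u, X (t + u) = X t * X u) {A : Type v}
    [AddCommGroup A] [Module (ZMod 2) A] [Finite A] (ρ : E →* Module.End (ZMod 2) A) (hne : ∃ t, ρ (X t) ≠ 1)
    {n : ℕ} (hD : ∀ f : F →ₗ[ZMod p] ZMod p, f ≠ 0 → Dual X n f) {ι : Type*} [Finite ι] {c : ι → F} {T : ι → E}
    (hc : Function.Injective c) (hc0 : ∀ i, c i ≠ 0) (hT : ∀ i t, T i * X t * (T i)⁻¹ = X (c i * t)) :
    2 ^ (Nat.card ι * p ^ n) ≤ Nat.card A := by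
  haveI : Fact (Nat.Prime 2) := ⟨Nat.prime_two⟩
  obtain ⟨K, i1, i2, i3, ψ, hψ⟩ := exists_field (p := p) hp2
  have hchar : CharP K 2 := charP_of_injective_algebraMap (algebraMap (ZMod 2) K).injective 2
  have hp : p.Prime := Fact.out
  have hodd : ∀ m : ℕ, Odd m → (m : K) ≠ 0 := by
    intro m hm h
    rw [CharP.cast_eq_zero_iff K 2] at h
    exact (Nat.not_even_iff_odd.2 hm) (even_iff_two_dvd.2 h)
  have hpodd : Odd p := hp.odd_of_ne_two hp2
  have hFodd : Odd (Nat.card F) := by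
    haveI : Module.Finite (ZMod p) F := Module.Finite.of_finite
    rw [Module.natCard_eq_pow_finrank (K := ZMod p) (V := F), Nat.card_zmod]
    exact hpodd.pow
  haveI : Module.Finite (ZMod 2) A := Module.Finite.of_finite
  haveI : Module.Finite (ZMod 2) K := Module.Finite.of_finite
  haveI : Finite (TensorProduct (ZMod 2) K A) := Module.finite_of_finite K
  have hKne : (Nat.card K : ZMod p) ≠ 0 := by
    rw [Module.natCard_eq_pow_finrank (K := ZMod 2) (V := K), Nat.card_zmod]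
    push_cast
    exact pow_ne_zero _ (two_ne_zero' hp2)
  let β : Module.End (ZMod 2) A →* Module.End K (TensorProduct (ZMod 2) K A) :=
    (Module.End.baseChangeHom (ZMod 2) K A).toMonoidHom
  have hβ : Function.Injective β := by
    intro f g h
    exact LinearMap.baseChangeHom_injective (ZMod 2) A K h
  have h1 := card_le (ρ := β.comp ρ) (X := X) (ψ := ψ) hψ (hodd p hpodd) (hodd _ hFodd) hKne hX
    (by
      obtain ⟨t, ht⟩ := hne
      exact ⟨t, fun h => ht (hβ (h.trans (map_one β).symm))⟩) hD hc hc0 hT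
  rw [Module.natCard_eq_pow_finrank (K := K) (V := TensorProduct (ZMod 2) K A), Module.finrank_baseChange,
    Nat.pow_le_pow_iff_right (Finite.one_lt_card)] at h1
  rw [Module.natCard_eq_pow_finrank (K := ZMod 2) (V := A), Nat.card_zmod]
  exact Nat.pow_le_pow_right (by norm_num) h1

/-- A `2`-group of exponent `2`. -/
theorem two_pow_le_elem [Finite F] (hp2 : p ≠ 2) (hX : ∀ t u, X (t + u) = X t * X u) {V : Type v}
    [CommGroup V] [Finite V] (hV : ∀ v : V, v ^ 2 = 1) (φ : E →* MulAut V) (hne : ∃ t, φ (X t) ≠ 1)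
    {n : ℕ} (hD : ∀ f : F →ₗ[ZMod p] ZMod p, f ≠ 0 → Dual X n f) {ι : Type*} [Finite ι] {c : ι → F} {T : ι → E}
    (hc : Function.Injective c) (hc0 : ∀ i, c i ≠ 0) (hT : ∀ i t, T i * X t * (T i)⁻¹ = X (c i * t)) :
    2 ^ (Nat.card ι * p ^ n) ≤ Nat.card V := by
  letI : Module (ZMod 2) (Additive V) := AddCommGroup.zmodModule fun v => hV v.toMul
  haveI : Finite (Additive V) := inferInstanceAs (Finite V)
  let ρ : E →* Module.End (ZMod 2) (Additive V) :=
    { toFun := fun g => (MonoidHom.toAdditive (φ g).toMonoidHom).toZModLinearMap 2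
      map_one' := by
        ext v
        show Additive.ofMul (φ 1 v.toMul) = v
        rw [map_one]; rfl
      map_mul' := fun g h => by
        ext v
        show Additive.ofMul (φ (g * h) v.toMul) = Additive.ofMul (φ g (φ h v.toMul))
        rw [map_mul]; rfl }
  have h1 := two_pow_le_linear hp2 hX ρ (by
    obtain ⟨t, ht⟩ := hne
    refine ⟨t, fun h => ht ?_⟩
    ext v
    exact congrArg Additive.toMul (DFunLike.congr_fun h (Additive.ofMul v))) hD hc hc0 hT
  exact h1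

/-- **The Heisenberg bound with a torus**, all functionals. -/
theorem two_pow_le_dual [Finite F] (hp2 : p ≠ 2) (hX : ∀ t u, X (t + u) = X t * X u) {V : Type v}
    [CommGroup V] [Finite V] (h2 : IsPGroup 2 V) (φ : E →* MulAut V) (hne : ∃ t, φ (X t) ≠ 1)
    {n : ℕ} (hD : ∀ f : F →ₗ[ZMod p] ZMod p, f ≠ 0 → Dual X n f) {ι : Type*} [Finite ι] {c : ι → F} {T : ι → E}
    (hc : Function.Injective c) (hc0 : ∀ i, c i ≠ 0) (hT : ∀ i t, T i * X t * (T i)⁻¹ = X (c i * t)) :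
    2 ^ (Nat.card ι * p ^ n) ≤ Nat.card V := by
  classical
  let U : Subgroup V :=
    { carrier := {v | v ^ 2 = 1}
      one_mem' := one_pow 2
      mul_mem' := fun {a b} ha hb => by
        show (a * b) ^ 2 = 1
        rw [mul_pow, show a ^ 2 = 1 from ha, show b ^ 2 = 1 from hb, one_mul]
      inv_mem' := fun {a} ha => by
        show a⁻¹ ^ 2 = 1
        rw [inv_pow, show a ^ 2 = 1 from ha, inv_one] }
  have hU : ∀ g, ∀ x ∈ U, φ g x ∈ U := by
    intro g x hx
    show (φ g x) ^ 2 = 1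
    rw [← map_pow, show x ^ 2 = 1 from hx, map_one]
  have h1 : ∃ t, resAct φ U hU (X t) ≠ 1 := by
    obtain ⟨t, ht⟩ := hne
    refine ⟨t, fun h => ht ?_⟩
    letI := addAct φ
    haveI : Finite (Additive V) := inferInstanceAs (Finite V)
    have h4 : IsPGroup 2 (Multiplicative (Additive V)) := by
      intro g
      obtain ⟨k, hk⟩ := h2 (Additive.toMul (Multiplicative.toAdd g))
      exact ⟨k, hk⟩
    have htor := tors_of_two (A := Additive V) (Fact.out : p.Prime) h4 hp2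
    have hbot : Heis.comm (Additive V) (X t) = ⊥ := by
      by_contra hb
      obtain ⟨v, hv0⟩ := AddSubgroup.ne_bot_iff_exists_ne_zero.1 hb
      have hv : (v : Additive V) ∈ Heis.comm (Additive V) (X t) := v.2
      -- an element of order `2`
      obtain ⟨k, hk⟩ := h2 (Additive.toMul (v : Additive V))
      have hk' : (2 ^ k) • (v : Additive V) = 0 := hk
      have hex : ∃ m : ℕ, (2 ^ m) • (v : Additive V) = 0 := ⟨k, hk'⟩
      have hm := Nat.find_spec hex
      have hm0 : Nat.find hex ≠ 0 := by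
        intro h0
        rw [h0, pow_zero, one_smul] at hm
        exact hv0 (Subtype.ext hm)
      obtain ⟨m, hmm⟩ := Nat.exists_eq_succ_of_ne_zero hm0
      have hm1 : (2 ^ m) • (v : Additive V) ≠ 0 := Nat.find_min hex (by omega)
      apply hm1
      have hw : (2 ^ m) • (v : Additive V) ∈ Heis.comm (Additive V) (X t) :=
        AddSubgroup.nsmul_mem _ hv _
      refine Heis.comm_free (X_pow hX t) htor hw ?_
      have hwU : Additive.toMul ((2 ^ m) • (v : Additive V)) ∈ U := by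
        show (Additive.toMul ((2 ^ m) • (v : Additive V))) ^ 2 = 1
        have h5 : 2 • ((2 ^ m) • (v : Additive V)) = 0 := by
          rw [hmm, Nat.succ_eq_add_one, pow_succ] at hm
          rw [smul_smul, mul_comm]
          exact hm
        exact congrArg Additive.toMul h5
      have h6 := congrArg Subtype.val (DFunLike.congr_fun h ⟨_, hwU⟩)
      exact congrArg Additive.ofMul h6
    ext v
    have h5 : X t • (Additive.ofMul v) - Additive.ofMul v ∈ Heis.comm (Additive V) (X t) := ⟨_, rfl⟩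
    rw [hbot] at h5
    exact congrArg Additive.toMul (sub_eq_zero.1 h5)
  have h3 := two_pow_le_elem hp2 hX (V := U) (fun v => Subtype.ext v.2) (resAct φ U hU) h1 hD hc hc0 hT
  exact h3.trans (Nat.card_le_card_of_injective _ Subtype.val_injective)

end two

/-! ### Heisenberg configurations over fields -/

section field

variable {X : F → E} {h : ℕ} {A B : Fin h → F → E} {c : Fin h → F}

/-- Dual elements from a configuration. -/
theorem FH.dual [Finite F] (hH : FH p h X A B c) {f : F →ₗ[ZMod p] ZMod p} (hf : f ≠ 0) :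
    Dual X (h * Module.finrank (ZMod p) F) f := by
  classical
  haveI : Module.Finite (ZMod p) F := Module.Finite.of_finite
  let e := Module.finrank (ZMod p) F
  let Bf : LinearMap.BilinForm (ZMod p) F := LinearMap.mk₂ (ZMod p) (fun t u => f (t * u))
    (fun t t' u => by rw [add_mul, map_add]) (fun a t u => by rw [smul_mul_assoc, map_smul])
    (fun t u u' => by rw [mul_add, map_add]) (fun a t u => by rw [mul_smul_comm, map_smul])
  have hBf : ∀ t u, Bf t u = f (t * u) := fun t u => rfl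
  have hnd : Bf.Nondegenerate := by
    obtain ⟨s, hs⟩ : ∃ s, f s ≠ 0 := by
      by_contra hcon
      push Not at hcon
      exact hf (LinearMap.ext hcon)
    constructor
    · intro t ht
      by_contra ht0
      apply hs
      have := ht (t⁻¹ * s)
      rwa [hBf, ← mul_assoc, mul_inv_cancel₀ ht0, one_mul] at this
    · intro t ht
      by_contra ht0
      apply hs
      have := ht (s * t⁻¹)
      rwa [hBf, mul_assoc, inv_mul_cancel₀ ht0, mul_one] at this
  let b : Module.Basis (Fin e) (ZMod p) F := Module.finBasis (ZMod p) F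
  let b' : Fin e → F := fun i => Bf.dualBasis hnd b i
  have hbb : ∀ i j, f (b' i * b j) = if i = j then 1 else 0 := by
    intro i j
    have := LinearMap.BilinForm.apply_dualBasis_left hnd b i j
    rw [hBf] at this
    rw [this]
    simp only [eq_comm]
  let ε : Fin (h * e) ≃ Fin h × Fin e := finProdFinEquiv.symm
  refine ⟨fun i => A (ε i).1 (b (ε i).2), fun i => B (ε i).1 ((c (ε i).1)⁻¹ * b' (ε i).2),
    fun i j => if (ε i).1 = (ε j).1 then b' (ε i).2 * b (ε j).2 else 0, fun i => hH.A_pow _ _, fun i t => hH.XA _ _ _,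
    fun i t => hH.XB _ _ _, fun i j => hH.AA _ _ _ _, fun i j => ?_, fun i j => ?_⟩
  · by_cases hij : (ε i).1 = (ε j).1
    · simp only
      rw [if_pos hij, hij, hH.conj, ← mul_assoc, mul_inv_cancel₀ (hH.c_ne _), one_mul]
    · simp only
      rw [if_neg hij, X_zero hH.add, mul_one, hH.BA _ _ hij]
      group
  · by_cases hij : (ε i).1 = (ε j).1
    · simp only
      rw [if_pos hij, hbb]
      by_cases hij2 : (ε i).2 = (ε j).2
      · have : i = j := ε.injective (Prod.ext hij hij2)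
        rw [if_pos hij2, if_pos this]
      · rw [if_neg hij2, if_neg (fun h => hij2 (by rw [h]))]
    · simp only
      rw [if_neg hij, map_zero, if_neg (fun h => hij (by rw [h]))]

end field

end Cfsg.Agent.Omega.ML.TorusLB

namespace Cfsg.Agent.Omega.ML.TorusLB

open Finset Cfsg.Agent.Omega.Lie.Heis Cfsg.Agent.Omega.Lie.HeisF Cfsg.Agent.Omega.Lie.FHeis

variable {E : Type u} [Group E] {F : Type w} [Field F] [Finite F] {p : ℕ} [Fact p.Prime] [CharP F p]

/-- **The Heisenberg bound over a field with a torus**: multipliers `c i`, `i ∈ ι`. -/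
theorem FH.two_pow_le {X : F → E} {h : ℕ} {A B : Fin h → F → E} {c : Fin h → F} (hH : FH p h X A B c)
    (hp2 : p ≠ 2) {V : Type v} [CommGroup V] [Finite V] (h2 : IsPGroup 2 V) (φ : E →* MulAut V)
    (hne : ∃ t, φ (X t) ≠ 1) {ι : Type*} [Finite ι] {d : ι → F} {T : ι → E}
    (hd : Function.Injective d) (hd0 : ∀ i, d i ≠ 0) (hT : ∀ i t, T i * X t * (T i)⁻¹ = X (d i * t)) :
    2 ^ (Nat.card ι * Nat.card F ^ h) ≤ Nat.card V := by
  letI : Algebra (ZMod p) F := ZMod.algebra F p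
  haveI : Module.Finite (ZMod p) F := Module.Finite.of_finite
  have h1 := two_pow_le_dual hp2 hH.add h2 φ hne (fun f hf => FH.dual hH hf) hd hd0 hT
  have h3 : Nat.card F = p ^ Module.finrank (ZMod p) F := by
    rw [Module.natCard_eq_pow_finrank (K := ZMod p) (V := F), Nat.card_zmod]
  rwa [mul_comm h, pow_mul p, ← h3] at h1

/-- The full torus. -/
theorem FH.two_pow_le_torus {X : F → E} {h : ℕ} {A B : Fin h → F → E} {c : Fin h → F} (hH : FH p h X A B c)
    (hp2 : p ≠ 2) {V : Type v} [CommGroup V] [Finite V] (h2 : IsPGroup 2 V) (φ : E →* MulAut V)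
    (hne : ∃ t, φ (X t) ≠ 1) {T : F → E} (hT : ∀ c, c ≠ 0 → ∀ t, T c * X t * (T c)⁻¹ = X (c * t)) :
    2 ^ ((Nat.card F - 1) * Nat.card F ^ h) ≤ Nat.card V := by
  have h1 := FH.two_pow_le hH hp2 h2 φ hne (ι := Fˣ) (d := fun c => (c : F)) (T := fun c => T c)
    Units.val_injective (fun c => c.ne_zero) (fun c t => hT c c.ne_zero t)
  rwa [Nat.card_units] at h1

variable {ι : Type*} {z : F → E} {x y : ι → F → E}

theorem fh_of_fheis [Finite ι] (h : FHeis z x y) : ∃ e : Fin (Nat.card ι) ≃ ι,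
    FH p (Nat.card ι) z (fun j => x (e j)) (fun j => y (e j)) (fun _ => 1) := by
  let e : Fin (Nat.card ι) ≃ ι := (Finite.equivFin ι).symm
  refine ⟨e, h.z_add, fun j t => add_pow_char (h.x_add _) t, fun j t u => h.zx _ _ _, fun j t u => h.zy _ _ _,
      fun i j t u => ?_, fun i j hij t u => h.yx _ _ _ _ fun h' => hij (e.injective h'), fun j t u => ?_,
      fun j => one_ne_zero⟩
  · by_cases hij : i = j
    · subst hij
      exact add_comm' (h.x_add _) t u
    · exact h.xx _ _ _ _ fun h' => hij (e.injective h')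
  · show y (e j) t * x (e j) u * (y (e j) t)⁻¹ = x (e j) u * z (1 * t * u)
    rw [h.conj, one_mul, mul_comm t u]

/-- **The Heisenberg bound with a torus for `FHeis`**: multipliers `d j`, `j ∈ κ`. -/
theorem two_pow_le [Finite ι] (hp2 : p ≠ 2) (h : FHeis z x y) {V : Type v} [CommGroup V] [Finite V]
    (φ : E →* MulAut V) (h2 : IsPGroup 2 V) (hne : ∃ t, φ (z t) ≠ 1) {κ : Type*} [Finite κ] {d : κ → F}
    {T : κ → E} (hd : Function.Injective d) (hd0 : ∀ i, d i ≠ 0) (hT : ∀ i t, T i * z t * (T i)⁻¹ = z (d i * t)) :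
    2 ^ (Nat.card κ * Nat.card F ^ Nat.card ι) ≤ Nat.card V := by
  obtain ⟨e, hH⟩ := fh_of_fheis (p := p) h
  exact FH.two_pow_le hH hp2 h2 φ hne hd hd0 hT

/-- **The Heisenberg bound with the full torus for `FHeis`.** -/
theorem two_pow_le_torus [Finite ι] (hp2 : p ≠ 2) (h : FHeis z x y) {V : Type v} [CommGroup V] [Finite V]
    (φ : E →* MulAut V) (h2 : IsPGroup 2 V) (hne : ∃ t, φ (z t) ≠ 1) {T : F → E}
    (hT : ∀ c, c ≠ 0 → ∀ t, T c * z t * (T c)⁻¹ = z (c * t)) :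
    2 ^ ((Nat.card F - 1) * Nat.card F ^ Nat.card ι) ≤ Nat.card V := by
  obtain ⟨e, hH⟩ := fh_of_fheis (p := p) h
  exact FH.two_pow_le_torus hH hp2 h2 φ hne hT

end Cfsg.Agent.Omega.ML.TorusLB

end

section


/-!
# The Heisenberg bound with a torus in odd covers

`HeisF.LB.fh` together with elements `T c ∈ K` (`c ≠ 0`) which commute with the inverting element `s` and satisfy
`T c * X t * (T c)⁻¹ = X (c * t)`: the bound `LB K ((|F| - 1) * |F| ^ h)`.
-/

set_option autoImplicit false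
set_option linter.unusedSectionVars false
set_option linter.style.haveILetI false

universe u v w w'

namespace Cfsg.Agent.Omega.ML.TorusLift

open Cfsg.Agent.Omega.Lie.Heis Cfsg.Agent.Omega.Lie.HeisF

/-- `HeisF.lift_FH` with the inverting element. -/
theorem lift_FH {K : Type u} [Group K] {F : Type w} [Field F] {r h : ℕ} {X : F → K} {A B : Fin h → F → K}
    {c : Fin h → F} (hH : FH r h X A B c) {s : K} (sX : ∀ t, s * X t * s⁻¹ = (X t)⁻¹)
    (sA : ∀ j t, s * A j t * s⁻¹ = (A j t)⁻¹) (sB : ∀ j t, s * B j t * s⁻¹ = B j t)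
    (XX : ∀ t u, LC.{u, v} (X t) (X u)) (XA : ∀ j t u, LC.{u, v} (X t) (A j u))
    (AA : ∀ i j t u, LC.{u, v} (A i t) (A j u)) {L : Type v} [Group L] {π : L →* K} (hπ : Cov π) :
    ∃ (σ : L) (X' : F → L) (A' B' : Fin h → F → L), π σ = s ∧ FH r h X' A' B' c ∧ (∀ t, π (X' t) = X t) ∧
      ∀ t, σ * X' t * σ⁻¹ = (X' t)⁻¹ := by
  obtain ⟨σ, hσ⟩ := hπ.surj s
  have hXl : ∀ t, ∃ a, π a = X t ∧ σ * a * σ⁻¹ = a⁻¹ := fun t => hπ.exists_inv_lift (by rw [hσ, sX])
  have hAl : ∀ j t, ∃ a, π a = A j t ∧ σ * a * σ⁻¹ = a⁻¹ := fun j t => hπ.exists_inv_lift (by rw [hσ, sA])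
  have hBl : ∀ j t, ∃ a, π a = B j t := fun j t => hπ.surj _
  choose X' hX' hsX using hXl
  choose A' hA' hsA using hAl
  choose B' hB' using hBl
  have cXX : ∀ t u, X' t * X' u = X' u * X' t := fun t u => XX t u L π hπ _ _ (hX' t) (hX' u)
  have cXA : ∀ j t u, X' t * A' j u = A' j u * X' t := fun j t u => XA j t u L π hπ _ _ (hX' t) (hA' j u)
  have cXB : ∀ j t u, X' t * B' j u = B' j u * X' t := fun j t u =>
    LC.of_inv (hH.XB j t u) (sX t) (sB j u) L π hπ _ _ (hX' t) (hB' j u)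
  refine ⟨σ, X', A', B', hσ, ⟨?_, ?_, cXA, cXB, ?_, ?_, ?_, hH.c_ne⟩, hX', hsX⟩
  · intro t u
    apply hπ.inv_lift_unique (σ := σ)
    · rw [map_mul, hX', hX', hX', hH.add]
    · exact hsX _
    · calc σ * (X' t * X' u) * σ⁻¹ = (σ * X' t * σ⁻¹) * (σ * X' u * σ⁻¹) := by group
        _ = (X' t)⁻¹ * (X' u)⁻¹ := by rw [hsX, hsX]
        _ = (X' u * X' t)⁻¹ := by rw [mul_inv_rev]
        _ = (X' t * X' u)⁻¹ := by rw [cXX]
  · intro j t
    apply hπ.eq_one
    · rw [map_pow, hA', hH.A_pow]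
    · have h1 : π (A' j t ^ r) = 1 := by rw [map_pow, hA', hH.A_pow]
      have h2 : σ * A' j t ^ r * σ⁻¹ = (A' j t ^ r)⁻¹ := by
        rw [← conj_pow, hsA, inv_pow]
      rw [hπ.comm h1, mul_inv_cancel_right] at h2
      rw [eq_inv_iff_mul_eq_one] at h2
      exact h2
  · intro i j t u
    exact AA i j t u L π hπ _ _ (hA' i t) (hA' j u)
  · intro i j hij t u
    exact (LC.of_inv (hH.BA i j hij t u).symm (sA j u) (sB i t)).symm L π hπ _ _ (hB' i t) (hA' j u)
  · intro j t u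
    -- `w := [B', A']` is inverted by `σ`
    set w := B' j t * A' j u * (B' j t)⁻¹ * (A' j u)⁻¹ with hw
    have hπw : π w = X (c j * t * u) := by
      rw [hw, map_mul, map_mul, map_mul, map_inv, map_inv, hB', hA', hH.conj, hH.XA j (c j * t * u) u |>.symm]
      group
    have hwA : w * A' j u = A' j u * w := XA j _ u L π hπ _ _ hπw (hA' j u)
    have hBA : B' j t * A' j u * (B' j t)⁻¹ = w * A' j u := by rw [hw]; group
    have hζ : π ((B' j t)⁻¹ * (σ * B' j t * σ⁻¹)) = 1 := by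
      rw [map_mul, map_mul, map_mul, map_inv, map_inv, hB', hσ, sB, inv_mul_cancel]
    set ζ := (B' j t)⁻¹ * (σ * B' j t * σ⁻¹) with hζd
    have h1 : σ * B' j t * σ⁻¹ = B' j t * ζ := by rw [hζd]; group
    have h2 : σ * w * σ⁻¹ = w⁻¹ := by
      have h3 : σ * w * σ⁻¹ = (σ * B' j t * σ⁻¹) * (σ * A' j u * σ⁻¹) * (σ * B' j t * σ⁻¹)⁻¹ *
          (σ * A' j u * σ⁻¹)⁻¹ := by rw [hw]; group
      rw [h3, h1, hsA]
      calc B' j t * ζ * (A' j u)⁻¹ * (B' j t * ζ)⁻¹ * ((A' j u)⁻¹)⁻¹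
          = B' j t * (ζ * (A' j u)⁻¹) * (ζ⁻¹ * (B' j t)⁻¹) * A' j u := by group
        _ = B' j t * ((A' j u)⁻¹ * ζ) * (ζ⁻¹ * (B' j t)⁻¹) * A' j u := by rw [hπ.comm hζ]
        _ = (B' j t * A' j u * (B' j t)⁻¹)⁻¹ * A' j u := by group
        _ = (w * A' j u)⁻¹ * A' j u := by rw [hBA]
        _ = (A' j u * w)⁻¹ * A' j u := by rw [hwA]
        _ = w⁻¹ := by group
    have h3 : w = X' (c j * t * u) := hπ.inv_lift_unique (by rw [hπw, hX']) h2 (hsX _)
    rw [hBA, h3, cXA]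

/-- An element commuting with the inverting element moves inverted lifts to inverted lifts. -/
theorem conj_lift {K : Type u} [Group K] {F : Type w} {X : F → K} {s : K} {L : Type v} [Group L]
    {π : L →* K} (hπ : Cov π) {σ : L} (hσ : π σ = s) {X' : F → L} (hX' : ∀ t, π (X' t) = X t)
    (hsX : ∀ t, σ * X' t * σ⁻¹ = (X' t)⁻¹) {g : L} (hg : π g * s = s * π g) {t t' : F}
    (hgt : π g * X t * (π g)⁻¹ = X t') : g * X' t * g⁻¹ = X' t' := by
  refine hπ.inv_lift_unique (σ := σ) (by rw [map_mul, map_mul, map_inv, hX', hX', hgt]) ?_ (hsX _)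
  -- `σ g = g σ k`
  have hk : π (σ⁻¹ * (g⁻¹ * (σ * g))) = 1 := by
    rw [map_mul, map_mul, map_mul, map_inv, map_inv, hσ, ← hg, inv_mul_cancel_left, inv_mul_cancel]
  set k := σ⁻¹ * (g⁻¹ * (σ * g)) with hkd
  have h1 : σ * g = g * σ * k := by rw [hkd]; group
  calc σ * (g * X' t * g⁻¹) * σ⁻¹ = (σ * g) * X' t * (σ * g)⁻¹ := by group
    _ = g * σ * (k * X' t) * k⁻¹ * σ⁻¹ * g⁻¹ := by rw [h1]; group
    _ = g * σ * (X' t * k) * k⁻¹ * σ⁻¹ * g⁻¹ := by rw [hπ.comm hk]
    _ = g * (σ * X' t * σ⁻¹) * g⁻¹ := by group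
    _ = g * (X' t)⁻¹ * g⁻¹ := by rw [hsX]
    _ = (g * X' t * g⁻¹)⁻¹ := by group

/-- **The Heisenberg bound with a torus for all perfect central extensions with kernel of odd order**:
multipliers `d i`, `i ∈ ι`. -/
theorem LB.fh {K : Type u} [Group K] [IsSimpleGroup K] {F : Type w'} [Field F] [Finite F] {r h : ℕ}
    [Fact r.Prime] [CharP F r] (hr2 : r ≠ 2) {X : F → K} {A B : Fin h → F → K}
    {c : Fin h → F} (hH : FH r h X A B c) {s : K} (sX : ∀ t, s * X t * s⁻¹ = (X t)⁻¹)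
    (sA : ∀ j t, s * A j t * s⁻¹ = (A j t)⁻¹) (sB : ∀ j t, s * B j t * s⁻¹ = B j t)
    (XX : ∀ t u, LC.{u, v} (X t) (X u)) (XA : ∀ j t u, LC.{u, v} (X t) (A j u))
    (AA : ∀ i j t u, LC.{u, v} (A i t) (A j u)) (hX1 : ∃ t, X t ≠ 1) {ι : Type*} [Finite ι] {d : ι → F}
    {T : ι → K} (hd : Function.Injective d) (hd0 : ∀ i, d i ≠ 0) (hTs : ∀ i, T i * s = s * T i)
    (hT : ∀ i t, T i * X t * (T i)⁻¹ = X (d i * t)) :
    LB.{u, v, w} K (Nat.card ι * Nat.card F ^ h) := by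
  intro L _ _ π hπ hc ho hL V _ _ h2 φ hφ
  have hcov : Cov π := ⟨hπ, hc, ho⟩
  obtain ⟨σ, X', A', B', hσ, hH', hX', hsX⟩ := lift_FH hH sX sA sB XX XA AA hcov
  obtain ⟨t, ht⟩ := hX1
  choose T' hT' using fun i => hπ (T i)
  refine TorusLB.FH.two_pow_le hH' hr2 h2 φ ⟨t, fun h => ht ?_⟩ (T := T') hd hd0 fun i t => ?_
  · have h1 : X' t ∈ π.ker := ker_le_ker hπ hc hL hφ (MonoidHom.mem_ker.2 h)
    rw [← hX', MonoidHom.mem_ker.1 h1]
  · exact conj_lift hcov hσ hX' hsX (by rw [hT', hTs]) (by rw [hT', hT])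

/-- **The full torus.** -/
theorem LB.fh_torus {K : Type u} [Group K] [IsSimpleGroup K] {F : Type w'} [Field F] [Finite F] {r h : ℕ}
    [Fact r.Prime] [CharP F r] (hr2 : r ≠ 2) {X : F → K} {A B : Fin h → F → K}
    {c : Fin h → F} (hH : FH r h X A B c) {s : K} (sX : ∀ t, s * X t * s⁻¹ = (X t)⁻¹)
    (sA : ∀ j t, s * A j t * s⁻¹ = (A j t)⁻¹) (sB : ∀ j t, s * B j t * s⁻¹ = B j t)
    (XX : ∀ t u, LC.{u, v} (X t) (X u)) (XA : ∀ j t u, LC.{u, v} (X t) (A j u))
    (AA : ∀ i j t u, LC.{u, v} (A i t) (A j u)) (hX1 : ∃ t, X t ≠ 1) {T : F → K}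
    (hTs : ∀ c, c ≠ 0 → T c * s = s * T c) (hT : ∀ c, c ≠ 0 → ∀ t, T c * X t * (T c)⁻¹ = X (c * t)) :
    LB.{u, v, w} K ((Nat.card F - 1) * Nat.card F ^ h) := by
  have h1 := LB.fh.{u, v, w, w'} hr2 hH sX sA sB XX XA AA hX1 (ι := Fˣ) (d := fun c => (c : F))
    (T := fun c => T c) Units.val_injective (fun c => c.ne_zero) (fun c => hTs c c.ne_zero)
    (fun c t => hT c c.ne_zero t)
  rwa [Nat.card_units] at h1

end Cfsg.Agent.Omega.ML.TorusLift

end

section


/-!
# (ML), the K-list end: the numbers of `F₄(q)`, `E₆(q)`, `E₇(q)`, `E₈(q)`, `²E₆(q)`, `³D₄(q)`, `q` odd (helper944)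

`NumX S` : `LB S n`, `RK S a`, `|S| ≤ 2 ^ N` and `(a - 1) (N + 2 a - 1) < a n`.
-/

set_option autoImplicit false

universe u v w

namespace Cfsg.Agent.Omega.ML.OddExcNum

open Cfsg Cfsg.Lie Subgroup Cfsg.Agent.Omega.TwoF

/-- `(RK K a)` of `TwoF.Defs` gives `(RK K a)` of `TwoF.Rk`. -/
theorem rk_of_rk {K : Type v} [Group K] {a : ℕ} (h : TwoF.RK K a) : Rk.RK.{u} K a := by
  intro X _ _ N _ ⟨f⟩ hc A hA
  have hinj : Function.Injective (MulAut.conjNormal : X →* MulAut N) := by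
    rw [← MonoidHom.ker_eq_bot_iff, eq_bot_iff, ← hc]
    intro g hg
    rw [mem_centralizer_iff]
    intro n hn
    have h1 := congrArg (fun φ : MulAut N => (φ ⟨n, hn⟩ : X)) (MonoidHom.mem_ker.1 hg)
    simp only [MulAut.conjNormal_apply, MulAut.one_apply] at h1
    exact (mul_inv_eq_iff_eq_mul.1 h1).symm
  let j : X →* MulAut K := (MulAut.congr f).toMonoidHom.comp MulAut.conjNormal
  have hj : Function.Injective j := (MulAut.congr f).injective.comp hinj
  have h1 := h (A.map j) (by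
    rintro _ ⟨a, ha, rfl⟩
    rw [← map_pow, pow_two, hA a ha, map_one])
  rwa [card_map_of_injective hj] at h1

/-- The numerical criterion. -/
def NumX (S : Type u) [Group S] : Prop :=
  ∃ n a N : ℕ, Lie.Heis.LB.{u, u, v} S n ∧ Rk.RK.{u} S a ∧ Nat.card S ≤ 2 ^ N ∧ (a - 1) * (N + 2 * a - 1) < a * n

theorem NumX.congr {S : Type w} [Group S] {S' : Type u} [Group S']
    (h : ∃ n a N : ℕ, Lie.Heis.LB.{w, u, v} S n ∧ Rk.RK.{u} S a ∧ Nat.card S ≤ 2 ^ N ∧
      (a - 1) * (N + 2 * a - 1) < a * n) (e : S ≃* S') : NumX.{u, v} S' := by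
  obtain ⟨n, a, N, h1, h2, h3, h4⟩ := h
  exact ⟨n, a, N, h1.congr e, h2.of_equiv e, by rwa [← Nat.card_congr e.toEquiv], h4⟩

theorem le_two_pow {q : ℕ} (hq : 1 ≤ q) : q ≤ 2 ^ (q - 1) := by
  obtain ⟨m, rfl⟩ : ∃ m, q = m + 1 := ⟨q - 1, by omega⟩
  rw [Nat.add_sub_cancel]
  exact Nat.lt_two_pow_self

theorem pow_le_two_pow {q c : ℕ} (hq : 1 ≤ q) : q ^ c ≤ 2 ^ (c * (q - 1)) := by
  rw [mul_comm, pow_mul]
  exact Nat.pow_le_pow_left (le_two_pow hq) c

/-- the inequality for the bounds `q ^ c` and `2 q ^ (k + 1)` -/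
theorem num {q c a k : ℕ} (hq : 3 ≤ q) (ha : 1 ≤ a) (hc : c + 2 * a ≤ 2 * 3 ^ k) :
    (a - 1) * (c * (q - 1) + 2 * a - 1) < a * (2 * q ^ (k + 1)) := by
  obtain ⟨m, rfl⟩ : ∃ m, q = m + 3 := ⟨q - 3, by omega⟩
  obtain ⟨b, rfl⟩ : ∃ b, a = b + 1 := ⟨a - 1, by omega⟩
  have h0 : m + 3 - 1 = m + 2 := by omega
  have h1 : (3 : ℕ) ^ k ≤ (m + 3) ^ k := Nat.pow_le_pow_left (by omega) k
  rw [h0, Nat.add_sub_cancel, pow_succ]
  have h2 : c * (m + 2) + 2 * (b + 1) - 1 ≤ (c + 2 * (b + 1)) * (m + 2) := by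
    have : 2 * (b + 1) ≤ 2 * (b + 1) * (m + 2) := Nat.le_mul_of_pos_right _ (by omega)
    rw [add_mul]
    omega
  have h3 : (c + 2 * (b + 1)) * (m + 2) ≤ 2 * (m + 3) ^ k * (m + 2) := Nat.mul_le_mul_right _ (by omega)
  have h4 : 2 * (m + 3) ^ k * (m + 2) ≤ 2 * ((m + 3) ^ k * (m + 3)) := by
    rw [mul_assoc]
    exact Nat.mul_le_mul_left _ (Nat.mul_le_mul_left _ (by omega))
  have h5 : 0 < 2 * ((m + 3) ^ k * (m + 3)) := by positivity
  calc b * (c * (m + 2) + 2 * (b + 1) - 1) ≤ b * (2 * ((m + 3) ^ k * (m + 3))) :=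
        Nat.mul_le_mul_left _ (h2.trans (h3.trans h4))
    _ < (b + 1) * (2 * ((m + 3) ^ k * (m + 3))) := Nat.mul_lt_mul_of_pos_right (by omega) h5

section chev

variable {F : Type w} [Field F] [Finite F] (h2 : (2 : F) ≠ 0)

include h2

/-- from `LB (2 q ^ (k + 1))`, `RK a`, `|S| ≤ q ^ c` -/
theorem num_of {S : Type w} [Group S] {c a k : ℕ} (hn : Nat.card S ≤ Nat.card F ^ c)
    (hlb : Lie.Heis.LB.{w, u, v} S (2 * Nat.card F ^ (k + 1))) (hrk : TwoF.RK S a) (ha : 1 ≤ a)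
    (hc : c + 2 * a ≤ 2 * 3 ^ k) {S' : Type u} [Group S'] (e : S ≃* S') : NumX.{u, v} S' :=
  NumX.congr ⟨_, a, c * (Nat.card F - 1), hlb, rk_of_rk hrk,
    hn.trans (pow_le_two_pow (by have := RowExc.three_le h2; omega)), num (RowExc.three_le h2) ha hc⟩ e

theorem f4 {S : Type u} [Group S] (e : chevF4.group F ≃* S) : NumX.{u, v} S :=
  have := (Cfsg.Agent.S1054.result (F := F) chevF4 (by simp)).1
  num_of h2 (RowExc.card_F4 F) (F4Odd.lb F h2) (RkChev.rk_f4 F h2) (by norm_num) (by norm_num) e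

theorem e6 {S : Type u} [Group S] (e : chevE6.group F ≃* S) : NumX.{u, v} S :=
  have := (Cfsg.Agent.S1054.result (F := F) chevE6 (by simp)).1
  num_of h2 (RowExc.card_E6 F) (E6Odd.lb F h2) (RkChev.rk_e6 F h2) (by norm_num) (by norm_num) e

theorem e7 {S : Type u} [Group S] (e : chevE7.group F ≃* S) : NumX.{u, v} S :=
  have := (Cfsg.Agent.S1054.result (F := F) chevE7 (by simp)).1
  num_of h2 (RowExc.card_E7 F) (E7Odd.lb F h2) (RkChev.rk_e7 F h2) (by norm_num) (by norm_num) e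

theorem e8 {S : Type u} [Group S] (e : chevE8.group F ≃* S) : NumX.{u, v} S :=
  have := (Cfsg.Agent.S1054.result (F := F) chevE8 (by simp)).1
  num_of h2 (RowExc.card_E8 F) (E8Odd.lb F h2) (RkChev.rk_e8 F h2) (by norm_num) (by norm_num) e

end chev

section twisted

variable {F : Type w} [Field F] [Fintype F] {q : ℕ} (hq : IsPrimePow q) (h2 : (2 : F) ≠ 0)

include hq h2

theorem three_le {k : ℕ} (hF : Fintype.card F = q ^ k) : 3 ≤ q := by
  have hq1 := hq.two_le
  by_contra hcon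
  have h3 : q = 2 := by omega
  subst h3
  have h4 : ((Fintype.card F : ℕ) : F) = 0 := Nat.cast_card_eq_zero F
  rw [hF] at h4
  push_cast at h4
  exact pow_ne_zero k h2 h4

theorem twE6 (hF : Fintype.card F = q ^ 2) {S : Type u} [Group S] (e : twistedE6 F q ≃* S) : NumX.{u, v} S :=
  NumX.congr ⟨_, 88, 78 * (q - 1), TwE6Odd.lb.{w, u, v} hq hF h2, rk_of_rk (RkTwE6.rk_88 hq hF h2),
    (RowTwE6.card_le hq hF).trans (pow_le_two_pow (by have := hq.two_le; omega)),
    num (k := 6) (three_le hq h2 hF) (by norm_num) (by norm_num)⟩ e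

/-- `|³D₄(q)| ≤ q ^ 29` -/
theorem card_D4 (hF : Fintype.card F = q ^ 3) : Nat.card (twistedD4 F q) ≤ q ^ 29 := by
  have h3 := three_le hq h2 hF
  rw [Cfsg.Agent.S1067.result hq hF]
  have h4 : q ^ 8 + q ^ 4 + 1 ≤ q ^ 9 := by
    have h5 : q ^ 4 + 1 ≤ 2 * q ^ 8 := by
      have h6 : q ^ 4 ≤ q ^ 8 := Nat.pow_le_pow_right (by omega) (by norm_num)
      have h7 : 1 ≤ q ^ 8 := Nat.one_le_pow _ _ (by omega)
      omega
    have h6 : 3 * q ^ 8 ≤ q ^ 9 := by
      rw [pow_succ q 8, mul_comm]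
      exact Nat.mul_le_mul_left _ h3
    omega
  calc q ^ 12 * (q ^ 2 - 1) * (q ^ 6 - 1) * (q ^ 8 + q ^ 4 + 1) ≤ q ^ 12 * q ^ 2 * q ^ 6 * q ^ 9 := by
        gcongr <;> exact Nat.sub_le _ _
    _ = q ^ 29 := by ring

/-- **LB of `³D₄(q)`**: `2 q ^ 4` -/
theorem lb_D4 (hF : Fintype.card F = q ^ 3) : Lie.Heis.LB.{w, u, v} ↥(twistedD4 F q) (2 * q ^ 4) := by
  have hs := (Cfsg.Agent.S1071.result (K := F) hq hF).1
  obtain ⟨φ, hφ⟩ := ChevalleyStructure.D4Fixed.exists_frob hq hF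
  have H : TwD4LB.Fr φ q := ⟨hq.one_lt, hF, h2, ChevalleyStructure.D4U.phi3 hF hφ, hφ,
    ChevalleyStructure.D4Fixed.twisted_le_fix hF hφ⟩
  obtain ⟨p, hp⟩ := CharP.exists F
  have hpp := CharP.char_is_prime F p
  have hp2 : p ≠ 2 := by
    rintro rfl
    apply h2
    exact_mod_cast CharP.cast_eq_zero F 2
  refine (TwD4LB.lb_aux H hpp hp2 hs).mono ?_
  rw [TwD4LB.card_fq H.one_lt H.card H.pow]
  exact Nat.mul_le_mul_right _ (TwD4LB.two_le_orderOf hpp hp2)

omit [Field F] [Fintype F] hq h2 in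
theorem num_D4 (h3 : 3 ≤ q) : (32 - 1) * (29 * (q - 1) + 2 * 32 - 1) < 32 * (2 * q ^ 4) := by
  obtain ⟨m, rfl⟩ : ∃ m, q = m + 3 := ⟨q - 3, by omega⟩
  have h0 : m + 3 - 1 = m + 2 := by omega
  have h1 : 29 * (m + 2) + 2 * 32 - 1 = 29 * m + 121 := by omega
  rw [h0, h1]
  nlinarith [Nat.zero_le (m ^ 4), Nat.zero_le (m ^ 3), Nat.zero_le (m ^ 2)]

theorem twD4 (hF : Fintype.card F = q ^ 3) {S : Type u} [Group S] (e : twistedD4 F q ≃* S) : NumX.{u, v} S :=
  NumX.congr (S := ↥(twistedD4 F q)) ⟨_, 32, 29 * (q - 1), lb_D4 hq h2 hF,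
    rk_of_rk (TwD4Rk.rk (K := F) hq hF h2 inferInstance (Cfsg.Agent.S1071.result (K := F) hq hF).1),
    (card_D4 hq h2 hF).trans (pow_le_two_pow (by have := hq.two_le; omega)),
    num_D4 (three_le hq h2 hF)⟩ e

end twisted

/-! ### The rows -/

/-- **`F₄`, `E₆`, `E₇`, `E₈` over fields of odd order** -/
theorem exceptional {K : Type u} [Group K] (h : KFacts.OddChar @IsExceptionalChevChar K) :
    (∃ p : ℕ, p.Prime ∧ p ≠ 2 ∧ ∃ (F : Type) (_ : Field F) (_ : Fintype F) (_ : CharP F p),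
      3 ≤ Fintype.card F ∧ Nonempty (K ≃* chevG2.group F)) ∨ NumX.{u, v} K := by
  obtain ⟨p, hp, hp2, F, _, _, _, h⟩ := h
  have h2 : (2 : F) ≠ 0 := RowExc.two_ne hp hp2 F
  rcases h with h | ⟨⟨e⟩⟩ | ⟨⟨e⟩⟩ | ⟨⟨e⟩⟩ | ⟨⟨e⟩⟩
  · exact Or.inl ⟨p, hp, hp2, F, inferInstance, inferInstance, inferInstance, h⟩
  · exact Or.inr (f4 h2 e.symm)
  · exact Or.inr (e6 h2 e.symm)
  · exact Or.inr (e7 h2 e.symm)
  · exact Or.inr (e8 h2 e.symm)

/-- **`²E₆`, `³D₄` over fields of odd order** -/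
theorem twisted {K : Type u} [Group K] (h : KFacts.OddChar @IsTwistedE6D4Char K) : NumX.{u, v} K := by
  obtain ⟨p, hp, hp2, F, _, _, _, q, hq, h⟩ := h
  have h2 : (2 : F) ≠ 0 := RowExc.two_ne hp hp2 F
  rcases h with ⟨hF, ⟨e⟩⟩ | ⟨hF, ⟨e⟩⟩
  · exact twE6 hq h2 hF e.symm
  · exact twD4 hq h2 hF e.symm

end Cfsg.Agent.Omega.ML.OddExcNum

end
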