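import Cfsg.Agent.Mrg.Omega.ML.RowPsp
import Cfsg.Agent.Mrg.Omega.ML.RowsList
import Cfsg.Agent.S0822
import Cfsg.Agent.OddHalf.NI.FrameSp
import Cfsg.Agent.ClassicalGeometry.SympAutRecog
import Cfsg.Agent.ClassicalGeometry.SympAutExists
import Cfsg.Agent.ClassicalGeometry.SympGamma
import Cfsg.Agent.SignalizersComponents.SLQuasisimple
import Cfsg.Agent.SignalizersComponents.Components
import Cfsg.Agent.Involutions.NormalFour
import Cfsg.Agent.OddHalf.Clean
import Cfsg.Agent.SignalizersComponents.EvenComponent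
import Cfsg.Agent.Lib.ComponentSolvable

section


/-!
# (ML), the K-list end: the field `psp` of `RowsML` from `PSp_4(7)`, `PSp_4(9)`, `PSp_6(3)` (helper532)
-/

set_option autoImplicit false

namespace Cfsg.Agent.Omega.ML.RowPsp

open Cfsg Cfsg.Agent.Omega.ML.Rows Cfsg.Agent.Omega.ML.LocRow Cfsg.Agent.Omega.ML.Num

universe u v

/-- `PSp_4(7)`, `PSp_4(9)`. -/
def IsPSpFour (K : Type u) [Group K] : Prop :=
  ∃ (F : Type) (_ : Field F) (_ : Fintype F), (Fintype.card F = 7 ∨ Fintype.card F = 9) ∧ Nonempty (K ≃* PSp 2 F)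

/-- `PSp_6(3)`. -/
def IsPSpSixThree (K : Type u) [Group K] : Prop :=
  ∃ (F : Type) (_ : Field F) (_ : Fintype F), Fintype.card F = 3 ∧ Nonempty (K ≃* PSp 3 F)

theorem lie_of_three {F : Type} [Field F] [Fintype F] (hF : Fintype.card F = 3) {K : Type u} [Group K]
    (e : K ≃* PSp 2 F) : IsLieTypeChar 2 K := by
  have : Fact (Nat.Prime 2) := ⟨Nat.prime_two⟩
  let _ : Fintype (GaloisField 2 2) := Fintype.ofFinite _
  have hc : Fintype.card (GaloisField 2 2) = 2 ^ 2 := by
    rw [← Nat.card_eq_fintype_card, GaloisField.card 2 2 (by norm_num)]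
  obtain ⟨f⟩ := S0822.result (F := GaloisField 2 2) (K := F) (by rw [hc]; norm_num) hF
  exact Or.inr (Or.inr (Or.inl ⟨GaloisField 2 2, inferInstance, inferInstance, inferInstance, 4, 2, hc,
    by norm_num, by omega, ⟨e.trans f.symm⟩⟩))

/-- **The field `psp` of `RowsML`** from the two small rows. -/
theorem psp_of (h4 : DeadZ.{u, v} @IsPSpFour) (h6 : DeadZ.{u, v} @IsPSpSixThree) :
    DeadZ.{u, v} fun S _ => KFacts.OddChar @IsPSpChar S ∧ ¬ IsLieTypeChar 2 S := by
  intro H _ _ M _ _ _ K T Q A z hI h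
  rcases row.{u, v} _ h.1 with h1 | ⟨F, _, _, ⟨h1, ⟨e⟩⟩ | ⟨h1, ⟨e⟩⟩⟩
  · exact Dead.deadZ Num.dead H M K T Q A z hI h1
  · rcases h1 with h1 | h1
    · exact h.2 (lie_of_three h1 e)
    · exact h4 H M K T Q A z hI ⟨F, _, _, h1, ⟨e⟩⟩
  · exact h6 H M K T Q A z hI ⟨F, _, _, h1, ⟨e⟩⟩

end Cfsg.Agent.Omega.ML.RowPsp

end

section


/-!
# `PSp₄(q)`, `q > 3` odd: the centralizer of the involution `z₀ = ±(-1, 1)`

`D` is the image of `SL₂(q) × SL₂(q)`.

* `eq_of_comm` : a nontrivial element which commutes with (the image of) `Q₈ × Q₈` is `z₀`;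
* `exists_conj` : a nontrivial element whose centralizer has odd index is conjugate to `z₀`;
* `le_of_normal` : a 2-subgroup of `C(z₀)` normalized by `D` is contained in `{1, z₀}`;
* `aut` : an automorphism centralizing `D` is `1` or conjugation by `z₀`.
-/

set_option autoImplicit false
set_option linter.unusedSectionVars false

namespace Cfsg.Agent.Omega.ML.PspFourK

open Matrix Subgroup Cfsg
open Cfsg.Agent.OddHalf.NI.Blocks (negOne coe_negOne negOne_mul negOne_ne_one two_ne_zero_of_odd)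
open Cfsg.Agent.OddHalf.NI.FrameSp
open Cfsg.Agent.ClassicalGeometry.SympBasic
open Cfsg.Agent.ClassicalGeometry.SympAutSemi
open Cfsg.Agent.ClassicalGeometry.SympAutExists
open Cfsg.Agent.ClassicalGeometry.SympGamma

variable {F : Type} [Field F]

local notation "SL" => Matrix.SpecialLinearGroup (Fin 2) F
local notation "Sp" => Matrix.symplecticGroup (Fin 2) F

/-- the projection -/
def π (F : Type) [Field F] : Matrix.symplecticGroup (Fin 2) F →* PSp 2 F := QuotientGroup.mk' _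

theorem π_surj : Function.Surjective (π F) := QuotientGroup.mk'_surjective _

theorem π_eq_one {x : Sp} : π F x = 1 ↔ x ∈ center Sp := QuotientGroup.eq_one_iff x

theorem π_neg : π F (neg 2 F) = 1 := by
  rw [π_eq_one, LieClassical.SympCenter.mem_center_iff]
  exact ⟨-1, by rw [neg_coe]; simp⟩

theorem neg_comm (x : Sp) : x * neg 2 F = neg 2 F * x := mem_center_iff.1 (π_eq_one.1 π_neg) x

theorem neg_mul_neg : neg 2 F * neg 2 F = 1 := by
  apply Subtype.ext
  rw [Submonoid.coe_mul, neg_coe]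
  simp

/-- the involution `z₀` -/
def z₀ (F : Type) [Field F] : PSp 2 F := π F (e 0 (negOne F))

theorem bd_eq (A : Fin 2 → SL) : bd 2 F A = e 0 (A 0) * e 1 (A 1) := by
  rw [e_apply, e_apply, ← map_mul]
  congr 1
  funext k
  fin_cases k <;> simp

theorem e_inj {i : Fin 2} {a b : SL} (h : e i a = (e i b : Sp)) : a = b := by
  apply Subtype.ext
  ext x y
  obtain ⟨p, hp, rfl⟩ : ∃ p : Fin 2 ⊕ Fin 2, ix p = i ∧ sd p = x := by
    fin_cases x
    · exact ⟨Sum.inl i, rfl, rfl⟩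
    · exact ⟨Sum.inr i, rfl, rfl⟩
  obtain ⟨q, hq, rfl⟩ : ∃ q : Fin 2 ⊕ Fin 2, ix q = i ∧ sd q = y := by
    fin_cases y
    · exact ⟨Sum.inl i, rfl, rfl⟩
    · exact ⟨Sum.inr i, rfl, rfl⟩
  have h1 := congrArg (fun A : Sp => (A : Matrix (Fin 2 ⊕ Fin 2) (Fin 2 ⊕ Fin 2) F) p q) h
  simpa only [e_coe, hp, hq, if_true] using h1

/-- Elements commuting with `(-1, 1)` are block diagonal. -/
theorem mem_bd (h2 : (2 : F) ≠ 0) {g : Sp} (hg : g * e 0 (negOne F) = e 0 (negOne F) * g) :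
    ∃ A : Fin 2 → SL, g = bd 2 F A := by
  set G : Matrix (Fin 2 ⊕ Fin 2) (Fin 2 ⊕ Fin 2) F := ↑g with hG
  have hg' : G * (diagonal fun p => if ix p = 0 then -1 else 1) =
      (diagonal fun p => if ix p = 0 then -1 else 1) * G := by
    have := congrArg (fun A : Sp => (A : Matrix (Fin 2 ⊕ Fin 2) (Fin 2 ⊕ Fin 2) F)) hg
    simpa only [Submonoid.coe_mul, e_negOne] using this
  have hz : ∀ p q, ix p ≠ ix q → G p q = 0 := by
    intro p q hpq
    have h1 := congrFun (congrFun hg' p) q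
    rw [mul_diagonal, diagonal_mul] at h1
    by_cases hp : ix p = 0
    · have hq : ix q ≠ 0 := fun h => hpq (hp.trans h.symm)
      rw [if_pos hp, if_neg hq] at h1
      have h3 : 2 * G p q = 0 := by linear_combination h1
      exact (mul_eq_zero.mp h3).resolve_left h2
    · have hq : ix q = 0 := by
        by_contra hq
        apply hpq
        have h4 : ∀ i : Fin 2, i ≠ 0 → i = 1 := by decide
        rw [h4 _ hp, h4 _ hq]
      rw [if_neg hp, if_pos hq] at h1
      have h3 : 2 * G p q = 0 := by linear_combination (-1 : F) * h1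
      exact (mul_eq_zero.mp h3).resolve_left h2
  let mk : Fin 2 → Fin 2 → Fin 2 ⊕ Fin 2 := fun k x => if x = 0 then Sum.inl k else Sum.inr k
  have hmk : ∀ p, mk (ix p) (sd p) = p := by
    intro p
    rcases p with p | p <;> simp [mk, ix, sd]
  let b : Fin 2 → Matrix (Fin 2) (Fin 2) F := fun k x y => G (mk k x) (mk k y)
  have hGb : G = mat b := by
    ext p q
    rw [mat_apply]
    by_cases hpq : ix p = ix q
    · rw [if_pos hpq]
      show G p q = G (mk (ix p) (sd p)) (mk (ix p) (sd q))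
      rw [hmk, hpq, hmk]
    · rw [if_neg hpq, hz p q hpq]
  have hb : ∀ k, (b k).det = 1 := by
    intro k
    have h1 := g.2
    rw [← hG, hGb] at h1
    exact det_of_mem h1 k
  refine ⟨fun k => ⟨b k, hb k⟩, Subtype.ext ?_⟩
  rw [← hG, hGb]
  rfl

/-- The commutator with a block. -/
theorem comm_bd (A : Fin 2 → SL) (i : Fin 2) (a : SL) :
    bd 2 F A * e i a * (bd 2 F A)⁻¹ * (e i a)⁻¹ = e i (A i * a * (A i)⁻¹ * a⁻¹) := by
  rw [e_apply, e_apply, ← map_mul, ← map_inv, ← map_inv, ← map_mul, ← map_mul]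
  congr 1
  funext k
  by_cases hk : k = i
  · subst hk
    simp
  · simp [hk]

theorem one (h2 : (2 : F) ≠ 0) (i : Fin 2) {a : SL} (h : e i a ∈ center Sp) : a = 1 :=
  (blocks h2 le_rfl).one i a h

/-- commuting modulo the centre -/
theorem comm_of_π (h2 : (2 : F) ≠ 0) {A : Fin 2 → SL} {i : Fin 2} {a : SL}
    (h : π F (bd 2 F A) * π F (e i a) = π F (e i a) * π F (bd 2 F A)) : A i * a = a * A i := by
  have h1 : bd 2 F A * e i a * (bd 2 F A)⁻¹ * (e i a)⁻¹ ∈ center Sp := by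
    rw [← π_eq_one, map_mul, map_mul, map_mul, map_inv, map_inv, h]
    group
  rw [comm_bd] at h1
  have h3 := one h2 i h1
  calc A i * a = (A i * a * (A i)⁻¹ * a⁻¹) * (a * A i) := by group
    _ = a * A i := by rw [h3, one_mul]

/-- elements commuting modulo the centre with an element of order 4 of a block -/
theorem lift_comm {h : Sp} {x : SL} (hx : x * x = negOne F)
    (hc : π F h * π F (e 0 x) = π F (e 0 x) * π F h) : h * e 0 (negOne F) = e 0 (negOne F) * h := by
  have h1 : h * e 0 x * h⁻¹ * (e 0 x)⁻¹ ∈ center Sp := by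
    rw [← π_eq_one, map_mul, map_mul, map_mul, map_inv, map_inv, hc]
    group
  have h3 : h * e 0 x * h⁻¹ = e 0 x ∨ h * e 0 x * h⁻¹ = neg 2 F * e 0 x := by
    rcases center_cases (by norm_num) h1 with h4 | h4
    · left
      calc h * e 0 x * h⁻¹ = (h * e 0 x * h⁻¹ * (e 0 x)⁻¹) * e 0 x := by group
        _ = e 0 x := by rw [h4, one_mul]
    · right
      calc h * e 0 x * h⁻¹ = (h * e 0 x * h⁻¹ * (e 0 x)⁻¹) * e 0 x := by group
        _ = _ := by rw [h4]
  have h5 : h * e 0 (negOne F) * h⁻¹ = e 0 (negOne F) := by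
    rw [← hx, map_mul]
    have h6 : h * (e 0 x * e 0 x) * h⁻¹ = (h * e 0 x * h⁻¹) * (h * e 0 x * h⁻¹) := by group
    rw [h6]
    rcases h3 with h4 | h4
    · rw [h4]
    · rw [h4]
      calc neg 2 F * e 0 x * (neg 2 F * e 0 x) = neg 2 F * (e 0 x * neg 2 F) * e 0 x := by group
        _ = neg 2 F * (neg 2 F * e 0 x) * e 0 x := by rw [neg_comm]
        _ = (neg 2 F * neg 2 F) * (e 0 x * e 0 x) := by group
        _ = _ := by rw [neg_mul_neg, one_mul]
  calc h * e 0 (negOne F) = (h * e 0 (negOne F) * h⁻¹) * h := by group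
    _ = _ := by rw [h5]

/-- the elements of order 4 -/
def xx (F : Type) [Field F] : Matrix.SpecialLinearGroup (Fin 2) F := ⟨!![0, 1; -1, 0], by simp [det_fin_two]⟩

def yy {a b : F} (h : a * a + b * b = -1) : Matrix.SpecialLinearGroup (Fin 2) F :=
  ⟨!![a, b; b, -a], by rw [det_fin_two_of]; linear_combination -h⟩

theorem xx_coe : (xx F : Matrix (Fin 2) (Fin 2) F) = !![0, 1; -1, 0] := rfl

theorem yy_coe {a b : F} (h : a * a + b * b = -1) : (yy h : Matrix (Fin 2) (Fin 2) F) = !![a, b; b, -a] := rfl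

theorem xx_sq : xx F * xx F = negOne F := by
  apply Subtype.ext
  show (xx F : Matrix (Fin 2) (Fin 2) F) * (xx F : Matrix (Fin 2) (Fin 2) F) = -1
  rw [xx_coe]
  ext i j
  fin_cases i <;> fin_cases j <;> simp

theorem yy_sq {a b : F} (h : a * a + b * b = -1) : yy h * yy h = negOne F := by
  apply Subtype.ext
  show (yy h : Matrix (Fin 2) (Fin 2) F) * (yy h : Matrix (Fin 2) (Fin 2) F) = -1
  rw [yy_coe]
  ext i j
  fin_cases i <;> fin_cases j <;> simp <;> first | linear_combination h | ring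

theorem xx_yy {a b : F} (h : a * a + b * b = -1) : xx F * yy h = (yy h) * (xx F)⁻¹ := by
  have h1 : (xx F)⁻¹ = negOne F * xx F := by
    rw [inv_eq_iff_mul_eq_one, ← mul_assoc, ]
    have h2 : xx F * negOne F = negOne F * xx F := by
      apply Subtype.ext
      simp
    rw [h2, mul_assoc, xx_sq, negOne_mul]
  rw [h1]
  apply Subtype.ext
  show (xx F : Matrix (Fin 2) (Fin 2) F) * (yy h : Matrix (Fin 2) (Fin 2) F) =
    (yy h : Matrix (Fin 2) (Fin 2) F) * (-1 * (xx F : Matrix (Fin 2) (Fin 2) F))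
  rw [xx_coe, yy_coe]
  ext i j
  fin_cases i <;> fin_cases j <;> simp

/-- The centralizer of `Q₈` in `SL₂`. -/
theorem cases_of_comm (h2 : (2 : F) ≠ 0) {a b : F} (h : a * a + b * b = -1) {A : SL} (h1 : A * xx F = xx F * A)
    (h3 : A * yy h = yy h * A) : A = 1 ∨ A = negOne F := by
  have e1 : (A : Matrix (Fin 2) (Fin 2) F) * !![0, 1; -1, 0] = !![0, 1; -1, 0] * (A : Matrix (Fin 2) (Fin 2) F) :=
    congrArg Subtype.val h1
  have e3 : (A : Matrix (Fin 2) (Fin 2) F) * !![a, b; b, -a] = !![a, b; b, -a] * (A : Matrix (Fin 2) (Fin 2) F) :=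
    congrArg Subtype.val h3
  have d := A.det_coe
  rw [det_fin_two] at d
  have e100 := congrFun (congrFun e1 0) 0
  have e101 := congrFun (congrFun e1 0) 1
  have e300 := congrFun (congrFun e3 0) 0
  have e301 := congrFun (congrFun e3 0) 1
  simp [Matrix.mul_apply, Fin.sum_univ_two] at e100 e101
  simp [Matrix.mul_apply, Fin.sum_univ_two] at e300 e301
  set p := (A : Matrix (Fin 2) (Fin 2) F) 0 0
  set q := (A : Matrix (Fin 2) (Fin 2) F) 0 1
  set r := (A : Matrix (Fin 2) (Fin 2) F) 1 0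
  set s := (A : Matrix (Fin 2) (Fin 2) F) 1 1
  have hq : q = 0 := by
    have hb : 2 * (q * b) = 0 := by linear_combination e300 - b * e100
    have ha : 2 * (q * a) = 0 := by linear_combination -e301 + b * e101
    have hb' := (mul_eq_zero.1 hb).resolve_left h2
    have ha' := (mul_eq_zero.1 ha).resolve_left h2
    linear_combination q * h - a * ha' - b * hb'
  have hr : r = 0 := by linear_combination -e100 - hq
  have hs : s = p := by linear_combination -e101
  rw [hq, hs, zero_mul, sub_zero] at d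
  rcases mul_self_eq_one_iff.1 d with hp | hp
  · left
    apply Subtype.ext
    ext i j
    fin_cases i <;> fin_cases j
    · exact hp
    · exact hq
    · exact hr
    · exact hs.trans hp
  · right
    apply Subtype.ext
    ext i j
    fin_cases i <;> fin_cases j
    · simpa using hp
    · simpa using hq
    · simpa using hr
    · simpa using hs.trans hp

/-- **The centralizer of `Q₈ × Q₈`.** -/
theorem eq_of_comm (h2 : (2 : F) ≠ 0) {a b : F} (h : a * a + b * b = -1) {z : PSp 2 F} (hz : z ≠ 1)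
    (hx : ∀ i, z * π F (e i (xx F)) = π F (e i (xx F)) * z) (hy : ∀ i, z * π F (e i (yy h)) = π F (e i (yy h)) * z) :
    z = z₀ F := by
  obtain ⟨g, rfl⟩ := π_surj z
  obtain ⟨A, rfl⟩ := mem_bd h2 (lift_comm xx_sq (hx 0))
  have h3 : ∀ i, A i = 1 ∨ A i = negOne F := fun i =>
    cases_of_comm h2 h (comm_of_π h2 (hx i)) (comm_of_π h2 (hy i))
  rcases h3 0 with h4 | h4 <;> rcases h3 1 with h5 | h5
  · exact absurd (by rw [bd_eq, h4, h5, map_one, map_one, one_mul, map_one]) hz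
  · have h6 : bd 2 F A = neg 2 F * e 0 (negOne F) := by
      rw [OddHalf.NI.FrameSp.neg, bd_eq, bd_eq, h4, h5, map_one, one_mul]
      have h7 : e 0 (negOne F) * e 1 (negOne F) = e 1 (negOne F) * (e 0 (negOne F) : Sp) :=
        (blocks h2 le_rfl).comm 0 1 (by decide) _ _
      calc e 1 (negOne F) = e 1 (negOne F) * (e 0 (negOne F * negOne F) : Sp) := by
            rw [negOne_mul, map_one, mul_one]
        _ = (e 1 (negOne F) * e 0 (negOne F)) * e 0 (negOne F) := by rw [map_mul, mul_assoc]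
        _ = _ := by rw [← h7]
    rw [h6, map_mul, π_neg, one_mul]
    rfl
  · rw [bd_eq, h4, h5, map_one, mul_one]
    rfl
  · refine absurd ?_ hz
    have h6 : bd 2 F A = neg 2 F := by
      rw [OddHalf.NI.FrameSp.neg, bd_eq, bd_eq, h4, h5]
    rw [h6, π_neg]

end Cfsg.Agent.Omega.ML.PspFourK

end

section


/-!
# `PSp₄(q)`, `q > 3` odd: the sheet of `z₀` (helper297)

`D` is the image of `SL₂(q) × SL₂(q)`, `z₀` the image of `(-1, 1)`.

* `exists_syl` : `⟨z₀⟩` is the centre of a Sylow 2-subgroup;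
* `D_cen`, `D_perf`, `D_der` : `D = C(z₀)'` is perfect;
* `central` : solvable normal subgroups of `D` are central.
-/

set_option autoImplicit false
set_option linter.unusedSectionVars false

namespace Cfsg.Agent.Omega.ML.PspFourL

open Matrix Subgroup Cfsg
open Cfsg.Agent.OddHalf.NI.Blocks (negOne coe_negOne negOne_mul negOne_ne_one two_ne_zero_of_odd)
open Cfsg.Agent.OddHalf.NI.FrameSp hiding neg
open Cfsg.Agent.Omega.ML.PspFourK

variable {F : Type} [Field F]

local notation "SL" => Matrix.SpecialLinearGroup (Fin 2) F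
local notation "Sp" => Matrix.symplecticGroup (Fin 2) F

/-! ### the Sylow 2-subgroup -/

theorem isPGroup_zpowers {G : Type*} [Group G] {x : G} (h : x ^ 4 = 1) : IsPGroup 2 (zpowers x) := by
  rintro ⟨_, k, rfl⟩
  refine ⟨2, Subtype.ext ?_⟩
  show (x ^ k) ^ (2 ^ 2) = 1
  have h1 : (x ^ k) ^ (2 ^ 2) = (x ^ 4) ^ k := by
    rw [← zpow_natCast, ← zpow_natCast, ← _root_.zpow_mul, ← _root_.zpow_mul]
    congr 1
    push_cast
    ring
  rw [h1, h, _root_.one_zpow]

/-- `Q₈` -/
def Q8 {a b : F} (h : a * a + b * b = -1) : Subgroup (Matrix.SpecialLinearGroup (Fin 2) F) :=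
  zpowers (xx F) ⊔ zpowers (yy h)

theorem pow_four {x : SL} (h : x * x = negOne F) : x ^ 4 = 1 := by
  have h1 : x ^ 4 = (x * x) * (x * x) := by rw [← pow_two, ← pow_two, ← pow_mul]
  rw [h1, h, negOne_mul]

theorem isPGroup_Q8 {a b : F} (h : a * a + b * b = -1) : IsPGroup 2 (Q8 h) := by
  have h1 : yy h * xx F * (yy h)⁻¹ = (xx F)⁻¹ := by
    have h2 := xx_yy h
    have h3 : (yy h)⁻¹ * xx F * yy h = (xx F)⁻¹ := by
      rw [mul_assoc, h2]
      group
    have h4 : (xx F) = yy h * (xx F)⁻¹ * (yy h)⁻¹ := by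
      rw [← h3]
      group
    calc yy h * xx F * (yy h)⁻¹ = (yy h * (xx F)⁻¹ * (yy h)⁻¹)⁻¹ := by group
      _ = _ := by rw [← h4]
  rw [Q8, sup_comm]
  refine (isPGroup_zpowers (pow_four (yy_sq h))).to_sup_of_normal_right' (isPGroup_zpowers (pow_four xx_sq)) ?_
  rw [zpowers_le, mem_normalizer_iff]
  have h5 : (zpowers (xx F)).map (MulAut.conj (yy h)).toMonoidHom = zpowers (xx F) := by
    rw [MonoidHom.map_zpowers]
    show zpowers (yy h * xx F * (yy h)⁻¹) = _
    rw [h1, zpowers_inv]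
  intro y
  constructor
  · intro hy
    have h6 := mem_map_of_mem (MulAut.conj (yy h)).toMonoidHom hy
    rw [h5] at h6
    exact h6
  · intro hy
    rw [← h5] at hy
    obtain ⟨w, hw, hwy⟩ := hy
    have h6 : w = y := (MulAut.conj (yy h)).injective hwy
    exact h6 ▸ hw

theorem z₀_ne_one (h2 : (2 : F) ≠ 0) : z₀ F ≠ 1 := by
  intro h
  exact negOne_ne_one h2 (one h2 0 (π_eq_one.1 h))

theorem z₀_mul : z₀ F * z₀ F = 1 := by
  rw [z₀, ← map_mul, ← map_mul, negOne_mul, map_one, map_one]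

theorem z₀_comm_bd (A : Fin 2 → SL) : π F (bd 2 F A) * z₀ F = z₀ F * π F (bd 2 F A) := by
  rw [z₀, ← map_mul, ← map_mul, e_apply, ← map_mul, ← map_mul]
  congr 2
  funext k
  rw [Pi.mul_apply, Pi.mul_apply]
  by_cases hk : k = 0
  · subst hk
    rw [Pi.mulSingle_eq_same]
    apply Subtype.ext
    simp
  · rw [Pi.mulSingle_eq_of_ne hk, mul_one, one_mul]

/-- **`⟨z₀⟩` is the centre of a Sylow 2-subgroup.** -/
theorem exists_syl [Fintype F] (hodd : Odd (Fintype.card F)) :
    ∃ S₀ : Sylow 2 (PSp 2 F), z₀ F ∈ S₀ ∧ (∀ x ∈ S₀, x * z₀ F = z₀ F * x) ∧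
      ∀ y ∈ S₀, (∀ x ∈ S₀, x * y = y * x) → y = 1 ∨ y = z₀ F := by
  have hp : Fact (Nat.Prime 2) := ⟨Nat.prime_two⟩
  have h2 : (2 : F) ≠ 0 := two_ne_zero_of_odd hodd
  have hfin : Finite (PSp 2 F) := inferInstanceAs (Finite (Sp ⧸ center Sp))
  obtain ⟨a, b, h⟩ : ∃ a b : F, a * a + b * b = -1 := by
    obtain ⟨a, b, hab⟩ := FiniteField.exists_root_sum_quadratic (R := F) (f := Polynomial.X ^ 2)
      (g := Polynomial.X ^ 2 + Polynomial.C 1) (by simp) (by compute_degree!) (Nat.odd_iff.1 hodd)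
    exact ⟨a, b, by simp at hab; linear_combination hab⟩
  let D₂ : Subgroup (PSp 2 F) := (Q8 h).map ((π F).comp (e 0)) ⊔ (Q8 h).map ((π F).comp (e 1))
  have hD₂ : IsPGroup 2 D₂ := by
    refine ((isPGroup_Q8 h).map _).to_sup_of_normal_right' ((isPGroup_Q8 h).map _) ?_
    rintro _ ⟨x, hx, rfl⟩
    have hc : ∀ y : SL, π F (e 0 x) * π F (e 1 y) * (π F (e 0 x))⁻¹ = π F (e 1 y) := by
      intro y
      have h7 : e 0 x * e 1 y = e 1 y * (e 0 x : Sp) := (blocks h2 le_rfl).comm 0 1 (by decide) _ _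
      rw [← map_mul, h7, map_mul, mul_inv_cancel_right]
    rw [mem_normalizer_iff]
    intro y
    constructor
    · rintro ⟨w, hw, rfl⟩
      exact ⟨w, hw, (hc w).symm⟩
    · rintro ⟨w, hw, hwy⟩
      refine ⟨w, hw, ?_⟩
      have h8 := hc w
      change π F (e 1 w) = π F (e 0 x) * y * (π F (e 0 x))⁻¹ at hwy
      show π F (e 1 w) = y
      calc π F (e 1 w) = (π F (e 0 x))⁻¹ * (π F (e 0 x) * π F (e 1 w) * (π F (e 0 x))⁻¹) * π F (e 0 x) := by group
        _ = (π F (e 0 x))⁻¹ * π F (e 1 w) * π F (e 0 x) := by rw [h8]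
        _ = _ := by rw [hwy]; group
  have hmem : ∀ (i : Fin 2) (w : SL), w ∈ Q8 h → π F (e i w) ∈ D₂ := by
    intro i w hw
    fin_cases i
    · exact (le_sup_left : _ ≤ D₂) ⟨w, hw, rfl⟩
    · exact (le_sup_right : _ ≤ D₂) ⟨w, hw, rfl⟩
  have hxx : xx F ∈ Q8 h := (le_sup_left : _ ≤ Q8 h) (mem_zpowers _)
  have hyy : yy h ∈ Q8 h := (le_sup_right : _ ≤ Q8 h) (mem_zpowers _)
  obtain ⟨S₀, hS₀⟩ := hD₂.exists_le_sylow
  have hcen : ∀ y ∈ S₀, (∀ x ∈ S₀, x * y = y * x) → y = 1 ∨ y = z₀ F := by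
    intro y _ hy
    by_cases hy1 : y = 1
    · exact Or.inl hy1
    · exact Or.inr (eq_of_comm h2 h hy1 (fun i => (hy _ (hS₀ (hmem i _ hxx))).symm)
        (fun i => (hy _ (hS₀ (hmem i _ hyy))).symm))
  have hz : z₀ F ∈ S₀ := by
    apply hS₀
    have h3 : z₀ F = π F (e 0 (xx F * xx F)) := by rw [xx_sq]; rfl
    rw [h3]
    exact hmem 0 _ (mul_mem hxx hxx)
  have hne : (⊤ : Subgroup S₀) ≠ ⊥ := by
    intro h3
    have h4 : (⟨z₀ F, hz⟩ : S₀) ∈ (⊥ : Subgroup S₀) := h3 ▸ mem_top _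
    exact z₀_ne_one h2 (congrArg Subtype.val (mem_bot.1 h4))
  obtain ⟨y, -, hyc, hyo⟩ := Cfsg.Agent.Involutions.NormalFour.exists_mem_center_of_normal S₀.2 ⊤ hne
  have hy : ∀ x ∈ S₀, x * (y : PSp 2 F) = y * x := fun x hx =>
    congrArg Subtype.val (mem_center_iff.1 hyc ⟨x, hx⟩)
  have hyz : (y : PSp 2 F) = z₀ F := by
    rcases hcen y y.2 hy with h3 | h3
    · exfalso
      have h4 : y = 1 := Subtype.ext h3
      rw [h4, orderOf_one] at hyo
      omega
    · exact h3
  exact ⟨S₀, hz, hyz ▸ hy, hcen⟩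

/-! ### `D` -/

/-- the image of `SL₂ × SL₂` -/
def D (F : Type) [Field F] : Subgroup (PSp 2 F) := ((π F).comp (bd 2 F)).range

theorem e_mem_D (i : Fin 2) (a : SL) : π F (e i a) ∈ D F := ⟨Pi.mulSingle i a, rfl⟩

theorem D_cen : ∀ x ∈ D F, x * z₀ F = z₀ F * x := by
  rintro _ ⟨A, rfl⟩
  exact z₀_comm_bd A

theorem D_le {K : Subgroup (PSp 2 F)} (h : ∀ i a, π F (e i a) ∈ K) : D F ≤ K := by
  rintro _ ⟨A, rfl⟩
  show π F (bd 2 F A) ∈ K
  rw [bd_eq, map_mul]
  exact mul_mem (h _ _) (h _ _)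

theorem qs (h4 : 4 ≤ Nat.card F) : IsQuasisimple SL :=
  Cfsg.Agent.SignalizersComponents.SLQuasisimple.isQuasisimple_two h4

theorem D_perf (h4 : 4 ≤ Nat.card F) : ⁅D F, D F⁆ = D F := by
  apply le_antisymm
  · rw [commutator_le]
    intro x hx y hy
    rw [commutatorElement_def]
    exact mul_mem (mul_mem (mul_mem hx hy) (inv_mem hx)) (inv_mem hy)
  · apply D_le
    intro i a
    have h1 : a ∈ ⁅(⊤ : Subgroup SL), (⊤ : Subgroup SL)⁆ := by
      have h5 := (qs h4).1.commutator_eq_top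
      rw [_root_.commutator_def] at h5
      rw [h5]
      exact mem_top a
    have h3 : ((⊤ : Subgroup SL).map ((π F).comp (e i))) ≤ D F := by
      rintro _ ⟨b, -, rfl⟩
      exact e_mem_D i b
    have h6 : π F (e i a) ∈ ⁅(⊤ : Subgroup SL), (⊤ : Subgroup SL)⁆.map ((π F).comp (e i)) := ⟨a, h1, rfl⟩
    rw [map_commutator] at h6
    exact commutator_mono h3 h3 h6

/-- Elements of `C(z₀)` act on `(-1, 1)` with a sign. -/
theorem sign {g : Sp} (h : π F g * z₀ F = z₀ F * π F g) :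
    g * e 0 (negOne F) * g⁻¹ = e 0 (negOne F) ∨
      g * e 0 (negOne F) * g⁻¹ = Cfsg.Agent.OddHalf.NI.FrameSp.neg 2 F * e 0 (negOne F) := by
  have h1 : g * e 0 (negOne F) * g⁻¹ * (e 0 (negOne F))⁻¹ ∈ center Sp := by
    rw [← π_eq_one, map_mul, map_mul, map_mul, map_inv, map_inv]
    change π F g * z₀ F * (π F g)⁻¹ * (z₀ F)⁻¹ = 1
    rw [h]
    group
  rcases center_cases (by norm_num) h1 with h4 | h4
  · left
    calc g * e 0 (negOne F) * g⁻¹ = (g * e 0 (negOne F) * g⁻¹ * (e 0 (negOne F))⁻¹) * e 0 (negOne F) := by group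
      _ = _ := by rw [h4, one_mul]
  · right
    calc g * e 0 (negOne F) * g⁻¹ = (g * e 0 (negOne F) * g⁻¹ * (e 0 (negOne F))⁻¹) * e 0 (negOne F) := by group
      _ = _ := by rw [h4]

theorem comm_of_sign {G : Type*} [Group G] {a b s u v : G} (hu : ∀ x, x * u = u * x) (hv : ∀ x, x * v = v * x)
    (ha : a * s * a⁻¹ = u * s) (hb : b * s * b⁻¹ = v * s) :
    (a * b * a⁻¹ * b⁻¹) * s = s * (a * b * a⁻¹ * b⁻¹) := by
  have key : ∀ {a u : G}, (∀ x, x * u = u * x) → a * s * a⁻¹ = u * s → a⁻¹ * s * a = u⁻¹ * s := by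
    intro a u hu ha
    have h1 : s = u⁻¹ * (a * s * a⁻¹) := by rw [ha]; group
    have h2 : a⁻¹ * u⁻¹ = u⁻¹ * a⁻¹ := by
      rw [← _root_.mul_inv_rev, ← _root_.mul_inv_rev, hu]
    calc a⁻¹ * s * a = a⁻¹ * (u⁻¹ * (a * s * a⁻¹)) * a := by rw [← h1]
      _ = (a⁻¹ * u⁻¹) * a * s := by group
      _ = u⁻¹ * s := by rw [h2]; group
  have ha' := key hu ha
  have hb' := key hv hb
  have hu' : ∀ x, x * u⁻¹ = u⁻¹ * x := fun x => by
    rw [mul_inv_eq_iff_eq_mul, mul_assoc, hu, inv_mul_cancel_left]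
  have hv' : ∀ x, x * v⁻¹ = v⁻¹ * x := fun x => by
    rw [mul_inv_eq_iff_eq_mul, mul_assoc, hv, inv_mul_cancel_left]
  have h1 : (a * b * a⁻¹ * b⁻¹) * s * (a * b * a⁻¹ * b⁻¹)⁻¹ = s := by
    calc (a * b * a⁻¹ * b⁻¹) * s * (a * b * a⁻¹ * b⁻¹)⁻¹ = (a * b * a⁻¹) * (b⁻¹ * s * b) * (a * b⁻¹ * a⁻¹) := by group
      _ = ((a * b * a⁻¹) * v⁻¹) * s * (a * b⁻¹ * a⁻¹) := by rw [hb']; group
      _ = v⁻¹ * (a * b) * (a⁻¹ * s * a) * (b⁻¹ * a⁻¹) := by rw [hv']; group
      _ = v⁻¹ * ((a * b) * u⁻¹) * s * (b⁻¹ * a⁻¹) := by rw [ha']; group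
      _ = v⁻¹ * u⁻¹ * a * (b * s * b⁻¹) * a⁻¹ := by rw [hu']; group
      _ = v⁻¹ * u⁻¹ * (a * v) * s * a⁻¹ := by rw [hb]; group
      _ = v⁻¹ * (u⁻¹ * v) * (a * s * a⁻¹) := by rw [hv]; group
      _ = s := by rw [ha, hv]; group
  rw [mul_inv_eq_iff_eq_mul] at h1
  exact h1

/-- `C(z₀)' ≤ D`. -/
theorem D_der (h2 : (2 : F) ≠ 0) :
    ⁅centralizer ({z₀ F} : Set (PSp 2 F)), centralizer ({z₀ F} : Set (PSp 2 F))⁆ ≤ D F := by
  rw [commutator_le]
  intro x hx y hy
  rw [mem_centralizer_singleton_iff] at hx hy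
  obtain ⟨g, rfl⟩ := π_surj x
  obtain ⟨h, rfl⟩ := π_surj y
  have hc : ∀ {g : Sp}, π F g * z₀ F = z₀ F * π F g →
      ∃ u : Sp, (∀ x, x * u = u * x) ∧ g * e 0 (negOne F) * g⁻¹ = u * e 0 (negOne F) := by
    intro g hg
    rcases sign hg with h1 | h1
    · exact ⟨1, fun x => by rw [mul_one, one_mul], by rw [h1, one_mul]⟩
    · exact ⟨_, neg_comm, h1⟩
  obtain ⟨u, hu, hu'⟩ := hc hx
  obtain ⟨v, hv, hv'⟩ := hc hy
  obtain ⟨A, hA⟩ := mem_bd h2 (comm_of_sign hu hv hu' hv')
  refine ⟨A, ?_⟩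
  show π F (bd 2 F A) = _
  rw [← hA, commutatorElement_def, map_mul, map_mul, map_mul, map_inv, map_inv]

/-- **Solvable normal subgroups of `D` are central.** -/
theorem central (h2 : (2 : F) ≠ 0) (h4 : 4 ≤ Nat.card F) {N : Subgroup (PSp 2 F)} (hN : N ≤ D F)
    (hs : Group.IsSolvable N) (hn : ∀ x ∈ D F, ∀ y ∈ N, x * y * x⁻¹ ∈ N) :
    ∀ x ∈ D F, ∀ y ∈ N, x * y = y * x := by
  have hinj : ∀ i : Fin 2, Function.Injective ((π F).comp (e i)) := by
    intro i
    rw [injective_iff_map_eq_one]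
    intro a ha
    exact one h2 i (π_eq_one.1 ha)
  have hc : ∀ (i : Fin 2) (a : SL), π F (e i a) ∈ N → a ∈ center SL := by
    intro i a ha
    have hn' : (N.comap ((π F).comp (e i))).Normal := by
      refine ⟨fun b hb g => ?_⟩
      show π F (e i (g * b * g⁻¹)) ∈ N
      rw [map_mul, map_mul, map_inv, map_mul, map_mul, map_inv]
      exact hn _ (e_mem_D i g) _ hb
    have hs' : Group.IsSolvable (N.comap ((π F).comp (e i))) :=
      Group.isSolvable_of_isSolvable_injective (f := ((π F).comp (e i)).subgroupComap N) fun a b hab =>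
        Subtype.ext (hinj i (congrArg Subtype.val hab))
    exact Cfsg.Agent.Lib.ComponentSolvable.quasisimple_solvable_normal_le_center (qs h4) hn' hs' ha
  intro x hx y hy
  obtain ⟨A, rfl⟩ := hN hy
  change π F (bd 2 F A) ∈ N at hy
  show x * π F (bd 2 F A) = π F (bd 2 F A) * x
  have hA : ∀ i, A i ∈ center SL := by
    intro i
    apply Cfsg.Agent.SignalizersComponents.EvenComponent.mem_center_of_map_mem_center
      (QuotientGroup.mk' (center SL)) (qs h4).1 (by rw [QuotientGroup.ker_mk'])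
    intro a
    show ((A i * a : SL) : SL ⧸ center SL) = ((a * A i : SL) : SL ⧸ center SL)
    rw [QuotientGroup.eq]
    have h3 : e i (A i * a * (A i)⁻¹ * a⁻¹) = (bd 2 F A * e i a * (bd 2 F A)⁻¹ * (e i a)⁻¹ : Sp) :=
      (comm_bd A i a).symm
    have h5 : π F (e i (A i * a * (A i)⁻¹ * a⁻¹)) ∈ N := by
      rw [h3]
      have h6 : π F (bd 2 F A * e i a * (bd 2 F A)⁻¹ * (e i a)⁻¹) =
          π F (bd 2 F A) * (π F (e i a) * (π F (bd 2 F A))⁻¹ * (π F (e i a))⁻¹) := by
        rw [map_mul, map_mul, map_mul, map_inv, map_inv]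
        group
      rw [h6]
      exact mul_mem hy (hn _ (e_mem_D i a) _ (inv_mem hy))
    have h6 := hc i _ h5
    have h7 : (A i * a)⁻¹ * (a * A i) = (a * A i)⁻¹ * (A i * a * (A i)⁻¹ * a⁻¹)⁻¹ * (a * A i) := by group
    rw [h7]
    have h8 : (center SL).Normal := inferInstance
    have h9 := h8.conj_mem _ (inv_mem h6) (a * A i)⁻¹
    rwa [inv_inv] at h9
  have h3 : ∀ (i : Fin 2) (a : SL), π F (e i a) * π F (bd 2 F A) = π F (bd 2 F A) * π F (e i a) := by
    intro i a
    have h5 : bd 2 F A * e i a * (bd 2 F A)⁻¹ * (e i a)⁻¹ = 1 := by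
      rw [comm_bd]
      have h6 : A i * a = a * A i := (mem_center_iff.1 (hA i) a).symm
      rw [h6, mul_inv_cancel_right, mul_inv_cancel, map_one]
    rw [← map_mul, ← map_mul]
    congr 1
    calc e i a * bd 2 F A = (bd 2 F A * e i a * (bd 2 F A)⁻¹ * (e i a)⁻¹) * (e i a * bd 2 F A) := by
          rw [h5, one_mul]
      _ = _ := by group
  have h5 : D F ≤ centralizer ({π F (bd 2 F A)} : Set (PSp 2 F)) :=
    D_le fun i a => mem_centralizer_singleton_iff.2 (h3 i a)
  exact mem_centralizer_singleton_iff.1 (h5 hx)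

end Cfsg.Agent.Omega.ML.PspFourL

end

section


/-!
# `PSp₄(q)`, `q > 3` odd: automorphisms centralising `D` (helper297)

* `aut` : an automorphism centralizing the image `D` of `SL₂(q) × SL₂(q)` is `1` or conjugation by `z₀`.
-/

set_option autoImplicit false
set_option linter.unusedSectionVars false

namespace Cfsg.Agent.Omega.ML.PspFourAut

open Matrix Subgroup Cfsg
open scoped commutatorElement
open Cfsg.Agent.OddHalf.NI.Blocks (negOne coe_negOne negOne_mul negOne_ne_one two_ne_zero_of_odd)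
open Cfsg.Agent.OddHalf.NI.FrameSp hiding neg
open Cfsg.Agent.ClassicalGeometry.SympBasic
open Cfsg.Agent.ClassicalGeometry.SympAutSemi
open Cfsg.Agent.ClassicalGeometry.SympGamma (scal scal_apply Psi_scal)
open Cfsg.Agent.Omega.ML.PspFourK Cfsg.Agent.Omega.ML.PspFourL

variable {F : Type} [Field F]

local notation "SL" => Matrix.SpecialLinearGroup (Fin 2) F
local notation "Sp" => Matrix.symplecticGroup (Fin 2) F
local notation "V" => (Fin 2 ⊕ Fin 2 → F)

/-- the basis vectors -/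
def E (p : Fin 2 ⊕ Fin 2) : Fin 2 ⊕ Fin 2 → F := Pi.single p 1

theorem E_apply (p q : Fin 2 ⊕ Fin 2) : (E p : V) q = if q = p then 1 else 0 := by
  rw [E, Pi.single_apply]

theorem rho_e (i : Fin 2) (a : SL) (u : V) (p : Fin 2 ⊕ Fin 2) :
    rho 2 F (e i a) u p = if ix p = i then
      (a : Matrix (Fin 2) (Fin 2) F) (sd p) 0 * u (Sum.inl i) + (a : Matrix (Fin 2) (Fin 2) F) (sd p) 1 * u (Sum.inr i)
      else u p := by
  rw [rho_apply, mulVec, dotProduct, Fintype.sum_sum_type, Fin.sum_univ_two, Fin.sum_univ_two]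
  simp only [e_coe]
  fin_cases i <;> rcases p with p | p <;> fin_cases p <;> simp [ix, sd, Matrix.one_apply]

/-- upper unitriangular -/
def uu (F : Type) [Field F] : Matrix.SpecialLinearGroup (Fin 2) F := ⟨!![1, 1; 0, 1], by simp [det_fin_two]⟩

/-- diagonal -/
def dd {t : F} (ht : t ≠ 0) : Matrix.SpecialLinearGroup (Fin 2) F := ⟨!![t, 0; 0, t⁻¹], by simp [det_fin_two, ht]⟩

theorem sum_E (u : V) : u = u (Sum.inl 0) • E (Sum.inl 0) + u (Sum.inl 1) • E (Sum.inl 1) +
    (u (Sum.inr 0) • E (Sum.inr 0) + u (Sum.inr 1) • E (Sum.inr 1)) := by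
  funext p
  simp only [Pi.add_apply, Pi.smul_apply, E_apply, smul_eq_mul]
  rcases p with p | p <;> fin_cases p <;> simp

/-- Semisimilitudes which commute with the blocks. -/
theorem semi (h2 : (2 : F) ≠ 0) {g : Equiv.Perm V} {φ : F ≃+* F} {l : F} (hg : IsSemi g φ l)
    (hc : ∀ (i : Fin 2) (a : SL) (u : V), g (rho 2 F (e i a) u) = rho 2 F (e i a) (g u)) :
    ∃ c : Fin 2 → F, (∀ i, c i ≠ 0 ∧ c i * c i = l) ∧ ∀ u p, g u p = c (ix p) * u p := by
  have hg0 : g 0 = 0 := by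
    have h1 := hg.2.1 0 0
    rwa [zero_smul, map_zero φ, zero_smul] at h1
  -- `g` fixes the lines of the basis
  have h1 : ∀ i : Fin 2, ∃ c : F, c ≠ 0 ∧ g (E (Sum.inl i)) = c • E (Sum.inl i) := by
    intro i
    have h3 : ∀ p, ix p ≠ i → g (E (Sum.inl i)) p = 0 := by
      intro p hp
      have h4 : rho 2 F (e (ix p) (negOne F)) (E (Sum.inl i)) = E (Sum.inl i) := by
        funext q
        rw [rho_e]
        by_cases hq : ix q = ix p
        · rw [if_pos hq, E_apply, E_apply, E_apply, if_neg, if_neg, if_neg]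
          · ring
          · rintro rfl
            exact hp hq.symm
          · simp
          · intro h5
            exact hp (Sum.inl_injective h5)
        · rw [if_neg hq]
      have h5 := congrFun (hc (ix p) (negOne F) (E (Sum.inl i))) p
      rw [h4, rho_e, if_pos rfl] at h5
      have h6 : g (E (Sum.inl i)) p = - g (E (Sum.inl i)) p := by
        rcases p with p | p
        · simpa [ix, sd] using h5
        · simpa [ix, sd] using h5
      have h7 : 2 * g (E (Sum.inl i)) p = 0 := by linear_combination h6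
      exact (mul_eq_zero.1 h7).resolve_left h2
    have h4 : g (E (Sum.inl i)) (Sum.inr i) = 0 := by
      have h5 : rho 2 F (e i (uu F)) (E (Sum.inl i)) = E (Sum.inl i) := by
        funext q
        rw [rho_e]
        by_cases hq : ix q = i
        · rw [if_pos hq]
          rcases q with q | q
          · have hq' : q = i := hq
            subst hq'
            simp [E_apply, uu, sd]
          · simp [E_apply, uu, sd]
        · rw [if_neg hq]
      have h6 := congrFun (hc i (uu F) (E (Sum.inl i))) (Sum.inl i)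
      rw [h5, rho_e, if_pos (show ix (Sum.inl i) = i from rfl)] at h6
      have h7 : g (E (Sum.inl i)) (Sum.inl i) = g (E (Sum.inl i)) (Sum.inl i) + g (E (Sum.inl i)) (Sum.inr i) := by
        simpa [uu, sd] using h6
      linear_combination -h7
    have h5 : g (E (Sum.inl i)) = g (E (Sum.inl i)) (Sum.inl i) • E (Sum.inl i) := by
      funext p
      rw [Pi.smul_apply, smul_eq_mul, E_apply]
      by_cases hp : ix p = i
      · rcases p with p | p
        · have hp' : p = i := hp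
          subst hp'
          simp
        · have hp' : p = i := hp
          subst hp'
          rw [h4, if_neg (by simp), mul_zero]
      · rw [h3 p hp, if_neg, mul_zero]
        rintro rfl
        exact hp rfl
    refine ⟨_, fun h6 => ?_, h5⟩
    rw [h6, zero_smul, ← hg0] at h5
    have h7 := congrFun (g.injective h5) (Sum.inl i)
    rw [E_apply, if_pos rfl] at h7
    exact one_ne_zero h7
  choose c hc0 hcl using h1
  have hcr : ∀ i, g (E (Sum.inr i)) = c i • E (Sum.inr i) := by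
    intro i
    have h3 : ∀ b : F, rho 2 F (e i (xx F)) (b • E (Sum.inl i)) = (-b) • E (Sum.inr i) := by
      intro b
      funext p
      rw [rho_e]
      fin_cases i <;> rcases p with p | p <;> fin_cases p <;> simp [ix, sd, E_apply, xx_coe]
    have h4 := hc i (xx F) ((-1 : F) • E (Sum.inl i))
    rw [h3, neg_neg, one_smul, hg.2.1, hcl, smul_smul, h3, map_neg, map_one] at h4
    rw [h4]
    congr 1
    ring
  have hφ : ∀ t : F, φ t = t := by
    intro t
    by_cases ht : t = 0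
    · rw [ht, map_zero]
    have h3 : ∀ b : F, rho 2 F (e 0 (dd ht)) (b • E (Sum.inl 0)) = (t * b) • E (Sum.inl 0) := by
      intro b
      funext p
      rw [rho_e]
      rcases p with p | p <;> fin_cases p <;> simp [ix, sd, E_apply, dd]
    have h4 := hc 0 (dd ht) ((1 : F) • E (Sum.inl 0))
    rw [h3, mul_one, one_smul, hg.2.1, hcl, smul_smul, h3] at h4
    have h5 := congrFun h4 (Sum.inl 0)
    rw [Pi.smul_apply, Pi.smul_apply, E_apply, if_pos rfl, smul_eq_mul, smul_eq_mul, mul_one, mul_one] at h5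
    exact mul_right_cancel₀ (hc0 0) h5
  have hu : ∀ u p, g u p = c (ix p) * u p := by
    intro u p
    have h3 : g u = (c 0 * u (Sum.inl 0)) • E (Sum.inl 0) + (c 1 * u (Sum.inl 1)) • E (Sum.inl 1) +
        ((c 0 * u (Sum.inr 0)) • E (Sum.inr 0) + (c 1 * u (Sum.inr 1)) • E (Sum.inr 1)) := by
      conv_lhs => rw [sum_E u]
      rw [hg.1, hg.1, hg.1, hg.2.1, hg.2.1, hg.2.1, hg.2.1, hcl, hcl, hcr, hcr, hφ, hφ, hφ, hφ, smul_smul, smul_smul,
        smul_smul, smul_smul]
      congr 1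
      · congr 1 <;> congr 1 <;> ring
      · congr 1 <;> congr 1 <;> ring
    rw [h3]
    simp only [Pi.add_apply, Pi.smul_apply, E_apply, smul_eq_mul]
    rcases p with p | p <;> fin_cases p <;> simp [ix]
  refine ⟨c, fun i => ⟨hc0 i, ?_⟩, hu⟩
  have h3 : sympForm 2 F (E (Sum.inl i)) (E (Sum.inr i)) = -1 := by
    rw [sympForm_eq_sum]
    fin_cases i <;> simp [E_apply]
  have h4 := hg.2.2 (E (Sum.inl i)) (E (Sum.inr i))
  rw [hcl, hcr, sympForm_smul_left, sympForm_smul_right, h3, map_neg, map_one] at h4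
  linear_combination -h4

/-- An automorphism which is trivial on the blocks modulo the centre is trivial on the blocks. -/
theorem conj_eq (h4 : 4 ≤ Nat.card F) (θ : MulAut Sp) (i : Fin 2)
    (h : ∀ a : SL, π F (θ (e i a)) = π F (e i a)) (a : SL) : θ (e i a) = e i a := by
  have h1 : ∀ a : SL, ∃ u : Sp, (∀ x, x * u = u * x) ∧ θ (e i a) = u * e i a := by
    intro a
    refine ⟨θ (e i a) * (e i a)⁻¹, ?_, by group⟩
    apply mem_center_iff.1
    rw [← π_eq_one, map_mul, h, map_inv, mul_inv_cancel]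
  have h3 : (θ.toMonoidHom.comp (e i)).eqLocus (e i) = ⊤ := by
    rw [eq_top_iff]
    have h5 := (qs h4).1.commutator_eq_top
    rw [_root_.commutator_def] at h5
    rw [← h5, commutator_le]
    intro a _ b _
    show θ (e i ⁅a, b⁆) = e i ⁅a, b⁆
    obtain ⟨u, hu, hu'⟩ := h1 a
    obtain ⟨v, hv, hv'⟩ := h1 b
    rw [commutatorElement_def, map_mul, map_mul, map_mul, map_inv, map_inv, map_mul, map_mul, map_mul, map_inv, map_inv,
      hu', hv']
    have hui : ∀ x, x * u⁻¹ = u⁻¹ * x := fun x => by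
      rw [mul_inv_eq_iff_eq_mul, mul_assoc, hu, inv_mul_cancel_left]
    have hvi : ∀ x, x * v⁻¹ = v⁻¹ * x := fun x => by
      rw [mul_inv_eq_iff_eq_mul, mul_assoc, hv, inv_mul_cancel_left]
    set A : Sp := e i a
    set B : Sp := e i b
    calc u * A * (v * B) * (u * A)⁻¹ * (v * B)⁻¹ = u * (A * v) * B * (A⁻¹ * u⁻¹) * (B⁻¹ * v⁻¹) := by group
      _ = u * (v * A) * B * (u⁻¹ * A⁻¹) * (v⁻¹ * B⁻¹) := by rw [hv, hui, hvi]
      _ = u * v * ((A * B) * u⁻¹) * (A⁻¹ * v⁻¹) * B⁻¹ := by group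
      _ = u * v * (u⁻¹ * (A * B)) * (v⁻¹ * A⁻¹) * B⁻¹ := by rw [hui, hvi]
      _ = (u * v) * u⁻¹ * ((A * B) * v⁻¹) * A⁻¹ * B⁻¹ := by group
      _ = (u * v) * u⁻¹ * (v⁻¹ * (A * B)) * A⁻¹ * B⁻¹ := by rw [hvi]
      _ = (v * u) * u⁻¹ * (v⁻¹ * (A * B)) * A⁻¹ * B⁻¹ := by rw [hv]
      _ = A * B * A⁻¹ * B⁻¹ := by group
  have h6 : a ∈ (θ.toMonoidHom.comp (e i)).eqLocus (e i) := h3 ▸ mem_top a
  exact h6

/-- **Automorphisms centralising `D`.** -/
theorem aut [Finite F] (h2 : (2 : F) ≠ 0) (h4 : 4 ≤ Nat.card F) (α : MulAut (PSp 2 F))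
    (hα : ∀ x ∈ D F, α x = x) : α = 1 ∨ α = MulAut.conj (z₀ F) := by
  obtain ⟨g, rfl⟩ := Cfsg.Agent.ClassicalGeometry.SympAutExists.exists_semi le_rfl α
    (Cfsg.Agent.ClassicalGeometry.SympAutRecog.recog_odd le_rfl h2 α)
  have h1 : ∀ i a, conjHom 2 F g (e i a) = e i a := by
    intro i a
    exact conj_eq h4 (conjHom 2 F g) i (fun b => hα _ (e_mem_D i b)) a
  obtain ⟨φ, l, hl, hs⟩ := g.2
  obtain ⟨c, hc, hu⟩ := semi h2 hs (by
    intro i a u
    have h3 := rho_conjHom g (e i a)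
    rw [h1, eq_mul_inv_iff_mul_eq] at h3
    exact (DFunLike.congr_fun h3 u).symm)
  have h5 : c 0 = c 1 ∨ c 0 = - c 1 := by
    rw [← sq_eq_sq_iff_eq_or_eq_neg, pow_two, pow_two, (hc 0).2, (hc 1).2]
  rcases h5 with h5 | h5
  · left
    have h6 : ∀ i, c i = c 1 := by
      intro i
      fin_cases i
      · exact h5
      · rfl
    have h7 : g.1 = scal 2 F (Units.mk0 (c 1) (hc 1).1) := by
      ext1 u
      funext p
      rw [hu, scal_apply, h6]
      rfl
    obtain ⟨g, hgm⟩ := g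
    change g = _ at h7
    subst h7
    exact Psi_scal _ _
  · right
    have h6 : ∀ u, g.1 u = c 1 • rho 2 F (e 0 (negOne F)) u := by
      intro u
      funext p
      rw [hu, rho_apply, e_negOne, Pi.smul_apply, mulVec_diagonal, smul_eq_mul]
      by_cases hp : ix p = 0
      · rw [if_pos hp, hp, h5]
        ring
      · have hp' : ix p = 1 := by
          have h4 : ∀ i : Fin 2, i ≠ 0 → i = 1 := by decide
          exact h4 _ hp
        rw [if_neg hp, hp', one_mul]
    ext x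
    induction x using QuotientGroup.induction_on with
    | H A =>
      rw [Psi_mk, MulAut.conj_apply]
      show π F (conjHom 2 F g A) = π F (e 0 (negOne F)) * π F A * (π F (e 0 (negOne F)))⁻¹
      rw [← map_mul, ← map_inv, ← map_mul]
      congr 1
      apply rho_injective
      rw [rho_conjHom, mul_inv_eq_iff_eq_mul]
      ext1 u
      rw [Equiv.Perm.mul_apply, Equiv.Perm.mul_apply, h6, h6, (isSemi_rho _).2.1, RingEquiv.refl_apply,
        ← Equiv.Perm.mul_apply, ← Equiv.Perm.mul_apply, ← map_mul, ← map_mul]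
      congr 3
      group

end Cfsg.Agent.Omega.ML.PspFourAut

end
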