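import Cfsg.Agent.Mrg.Omega.ML.LocM24
import Cfsg.Agent.Mrg.Omega.ML.RowPspFin
import Cfsg.Agent.OddHalf.D8.Sheet

section


/-!
# (ML), the K-list end: the row `PSp₄(q)`, `q > 3` odd (helper297)

`z` the image of `(-1, 1)`, `D` the image of `SL₂(q) × SL₂(q)`: `O₂(C_X(z))` centralises `D = C_S(z)'`, so it is
contained in `⟨z⟩`.  This covers the exceptions `PSp₄(7)`, `PSp₄(9)` of `RowPsp`.
-/

set_option autoImplicit false

namespace Cfsg.Agent.Omega.ML.RowPspFour

open Subgroup Cfsg Cfsg.Agent.ZN Cfsg.Agent.Omega.TwoF Cfsg.Agent.Omega.ML.Rows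
open Cfsg.Agent.OddHalf Cfsg.Agent.OddHalf.D8.Sheet
open Cfsg.Agent.Omega.ML.PspFourK Cfsg.Agent.Omega.ML.PspFourL Cfsg.Agent.Omega.ML.PspFourAut
open Cfsg.Agent.MinSimple.VModule (o2_isPGroup o2_le le_o2 le_normalizer_o2)

universe u v w

variable {X : Type u} [Group X] {S T A : Subgroup X}

/-- A normal 2-subgroup of `C_X(z)` centralises `P = C_S(z)^∞`, if the normal 2-subgroups of `P` are central. -/
theorem cent_P [Finite X] (hS : S.Normal) {z : S} {P : Subgroup S} (hcen : ∀ x ∈ P, x * z = z * x)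
    (hperf : ⁅P, P⁆ = P) (hder : ∃ m, TR.dser m (centralizer ({z} : Set S)) ≤ P)
    (hq : ∀ N : Subgroup S, N ≤ P → IsPGroup 2 N → (∀ x ∈ P, ∀ y ∈ N, x * y * x⁻¹ ∈ N) →
      ∀ x ∈ P, ∀ y ∈ N, x * y = y * x) :
    ∀ d ∈ o2 (centralizer ({(z : X)} : Set X)), ∀ x ∈ P, d * x * d⁻¹ = x := by
  have hp : Fact (Nat.Prime 2) := ⟨Nat.prime_two⟩
  set D := o2 (centralizer ({(z : X)} : Set X)) with hD
  have hD2 : IsPGroup 2 D := o2_isPGroup _
  have hDz : ∀ d ∈ D, d * (z : X) = z * d := fun d hd => mem_centralizer_singleton_iff.1 (o2_le _ hd)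
  -- `P` normalises `D`
  have hPn : ∀ x ∈ P, ∀ d ∈ D, (x : X) * d * (x : X)⁻¹ ∈ D := by
    intro x hx d hd
    have h1 : (x : X) ∈ centralizer ({(z : X)} : Set X) :=
      mem_centralizer_singleton_iff.2 (congrArg Subtype.val (hcen x hx))
    exact (mem_normalizer_iff.1 (le_normalizer_o2 _ h1) d).1 hd
  -- `D` normalises `P`
  have hDn : ∀ d ∈ D, ∀ x ∈ P, (MulAut.conjNormal d : MulAut S) x ∈ P := by
    intro d hd x hx
    refine map_P hperf hcen hder _ (Subtype.ext ?_) hx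
    rw [MulAut.conjNormal_apply, hDz d hd, mul_inv_cancel_right]
  -- `P ∩ D` is central in `P`
  have hZ : ∀ y ∈ P, (y : X) ∈ D → ∀ x ∈ P, x * y = y * x := by
    intro y hy hyD x hx
    refine hq (P ⊓ D.comap S.subtype) inf_le_left ?_ ?_ x hx y ⟨hy, hyD⟩
    · exact (hD2.comap_of_injective S.subtype S.subtype_injective).to_le inf_le_right
    · intro a ha b hb
      exact ⟨P.mul_mem (P.mul_mem ha hb.1) (P.inv_mem ha), hPn a ha _ hb.2⟩
  -- three subgroups
  set P' : Subgroup X := P.map S.subtype with hP'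
  have h1 : ⁅P', D⁆ ≤ P' ⊓ D := by
    rw [commutator_le]
    rintro _ ⟨x, hx, rfl⟩ d hd
    rw [commutatorElement_def]
    refine ⟨?_, ?_⟩
    · have h2 : (x : X) * d * (x : X)⁻¹ * d⁻¹ = ((x * MulAut.conjNormal d x⁻¹ : S) : X) := by
        rw [Subgroup.coe_mul, MulAut.conjNormal_apply, Subgroup.coe_inv]
        group
      show (x : X) * d * (x : X)⁻¹ * d⁻¹ ∈ P'
      rw [h2]
      exact mem_map_of_mem S.subtype (mul_mem hx (hDn d hd _ (inv_mem hx)))
    · exact D.mul_mem (hPn x hx d hd) (D.inv_mem hd)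
  have h2 : ⁅⁅P', D⁆, P'⁆ = ⊥ := by
    rw [eq_bot_iff]
    refine (commutator_mono h1 le_rfl).trans ?_
    rw [commutator_le]
    rintro _ ⟨⟨y, hy, rfl⟩, hyD⟩ _ ⟨x, hx, rfl⟩
    rw [mem_bot, commutatorElement_eq_one_iff_mul_comm]
    exact (congrArg Subtype.val (hZ y hy hyD x hx)).symm
  have h3 : ⁅⁅D, P'⁆, P'⁆ = ⊥ := by rwa [commutator_comm D P']
  have h4 : ⁅⁅P', P'⁆, D⁆ = ⊥ := commutator_commutator_eq_bot_of_rotate h2 h3
  have h5 : ⁅P', P'⁆ = P' := by rw [hP', ← map_commutator, hperf]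
  rw [h5, commutator_eq_bot_iff_le_centralizer] at h4
  intro d hd x hx
  have h6 := mem_centralizer_iff.1 (h4 (mem_map_of_mem S.subtype hx)) d hd
  change d * (x : X) = (x : X) * d at h6
  rw [h6, mul_inv_cancel_right]

/-- **The sheet of `PSp₄(q)`** -/
theorem o2_le_zpowers [Finite X] (h : AS S T A) {F : Type} [Field F] [Fintype F] (hodd : Odd (Fintype.card F))
    (h3 : 3 < Fintype.card F) (ε : S ≃* PSp 2 F) :
    o2 (centralizer ({(ε.symm (z₀ F) : X)} : Set X)) ≤ zpowers (ε.symm (z₀ F) : X) := by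
  have hn := h.norm
  have h2 : (2 : F) ≠ 0 := Cfsg.Agent.OddHalf.NI.Blocks.two_ne_zero_of_odd hodd
  have h4 : 4 ≤ Nat.card F := by rw [Nat.card_eq_fintype_card]; omega
  intro d hd
  have hfix := cent_P hn (z := ε.symm (z₀ F)) (P := (D F).comap ε.toMonoidHom)
    (by
      intro x hx
      apply ε.injective
      rw [map_mul, map_mul, ε.apply_symm_apply]
      exact D_cen _ hx)
    (by
      have h5 : (D F).comap ε.toMonoidHom = (D F).map ε.symm.toMonoidHom :=
        comap_equiv_eq_map_symm' ε (D F)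
      rw [h5, ← map_commutator, D_perf h4])
    ⟨1, by
      show ⁅centralizer ({ε.symm (z₀ F)} : Set S), centralizer ({ε.symm (z₀ F)} : Set S)⁆ ≤ _
      rw [← map_le_iff_le_comap, map_commutator]
      have h5 : (centralizer ({ε.symm (z₀ F)} : Set S)).map ε.toMonoidHom ≤ centralizer ({z₀ F} : Set (PSp 2 F)) := by
        rintro _ ⟨x, hx, rfl⟩
        have h6 := congrArg ε (mem_centralizer_singleton_iff.1 hx)
        rw [map_mul, map_mul, ε.apply_symm_apply] at h6
        exact mem_centralizer_singleton_iff.2 h6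
      exact (commutator_mono h5 h5).trans (D_der h2)⟩
    (by
      intro N hN hN2 hNn x hx y hy
      have hp : Fact (Nat.Prime 2) := ⟨Nat.prime_two⟩
      have h5 : IsPGroup 2 (N.map ε.toMonoidHom) := hN2.map _
      have h6 : Group.IsSolvable (N.map ε.toMonoidHom) := by
        have hfin : Finite (PSp 2 F) := Finite.of_equiv S ε.toEquiv
        have := h5.isNilpotent
        infer_instance
      apply ε.injective
      rw [map_mul, map_mul]
      refine central h2 h4 (N := N.map ε.toMonoidHom) ?_ h6 ?_ _ hx _ ⟨y, hy, rfl⟩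
      · rw [map_le_iff_le_comap]
        exact hN
      · rintro a ha _ ⟨b, hb, rfl⟩
        refine ⟨ε.symm a * b * (ε.symm a)⁻¹, hNn _ ?_ b hb, ?_⟩
        · show ε (ε.symm a) ∈ D F
          rwa [ε.apply_symm_apply]
        · show ε (ε.symm a * b * (ε.symm a)⁻¹) = a * ε b * a⁻¹
          rw [map_mul, map_mul, map_inv, ε.apply_symm_apply]) d hd
  have hα : (MulAut.congr ε) (MulAut.conjNormal d) = 1 ∨ (MulAut.congr ε) (MulAut.conjNormal d) = MulAut.conj (z₀ F) := by
    apply aut h2 h4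
    intro x hx
    show ε ((MulAut.conjNormal d) (ε.symm x)) = x
    have h5 : (MulAut.conjNormal d : MulAut S) (ε.symm x) = ε.symm x := by
      apply Subtype.ext
      rw [MulAut.conjNormal_apply]
      apply hfix
      show ε (ε.symm x) ∈ D F
      rwa [ε.apply_symm_apply]
    rw [h5, ε.apply_symm_apply]
  rcases hα with hα | hα
  · have h5 : d = 1 := by
      apply h.conj_inj
      rw [map_one]
      exact (MulAut.congr ε).injective (hα.trans (map_one _).symm)
    rw [h5]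
    exact one_mem _
  · have h5 : d = (ε.symm (z₀ F) : X) := by
      apply h.conj_inj
      apply (MulAut.congr ε).injective
      rw [hα]
      ext x
      show z₀ F * x * (z₀ F)⁻¹ = ε ((MulAut.conjNormal (ε.symm (z₀ F) : X)) (ε.symm x))
      have h6 : (MulAut.conjNormal (ε.symm (z₀ F) : X) : MulAut S) (ε.symm x) =
          ε.symm (z₀ F) * ε.symm x * (ε.symm (z₀ F))⁻¹ := by
        apply Subtype.ext
        rw [MulAut.conjNormal_apply]
        rfl
      rw [h6, map_mul, map_mul, map_inv, ε.apply_symm_apply, ε.apply_symm_apply]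
    rw [h5]
    exact mem_zpowers _

/-- transport of the Sylow condition -/
theorem syl {K L : Type*} [Group K] [Group L] [Finite K] (ε : K ≃* L) {z : K}
    (hz : ∃ S₀ : Sylow 2 K, z ∈ S₀ ∧ (∀ x ∈ S₀, x * z = z * x) ∧
      ∀ y ∈ S₀, (∀ x ∈ S₀, x * y = y * x) → y = 1 ∨ y = z) :
    ∃ S₀ : Sylow 2 L, ε z ∈ S₀ ∧ (∀ x ∈ S₀, x * ε z = ε z * x) ∧
      ∀ y ∈ S₀, (∀ x ∈ S₀, x * y = y * x) → y = 1 ∨ y = ε z := by
  have hp : Fact (Nat.Prime 2) := ⟨Nat.prime_two⟩
  obtain ⟨S₀, h1, h2, h3⟩ := hz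
  refine ⟨S₀.mapSurjective (f := ε.toMonoidHom) ε.surjective, ⟨z, h1, rfl⟩, ?_, ?_⟩
  · rintro _ ⟨x, hx, rfl⟩
    show ε x * ε z = ε z * ε x
    rw [← map_mul, h2 x hx, map_mul]
  · rintro _ ⟨y, hy, rfl⟩ hy'
    have h4 := h3 y hy fun x hx => by
      apply ε.injective
      rw [map_mul, map_mul]
      exact hy' (ε x) ⟨x, hx, rfl⟩
    rcases h4 with rfl | rfl
    · exact Or.inl (map_one ε)
    · exact Or.inr rfl

/-- the class `PSp₄(q)`, `q > 3` odd -/
def Cls (S : Type u) [Group S] : Prop :=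
  ∃ (F : Type) (_ : Field F) (_ : Fintype F), Odd (Fintype.card F) ∧ 3 < Fintype.card F ∧ Nonempty (S ≃* PSp 2 F)

/-- **The row `PSp₄(q)`, `q > 3` odd.** -/
theorem deadG : DeadG.{u} @Cls.{u} := by
  intro X _ _ S T A h hS
  obtain ⟨F, _, _, hodd, h3, ⟨ε⟩⟩ := hS
  have hfin : Finite (PSp 2 F) := Finite.of_equiv S ε.toEquiv
  have h2 : (2 : F) ≠ 0 := Cfsg.Agent.OddHalf.NI.Blocks.two_ne_zero_of_odd hodd
  refine h.card_le_of_syl (z := ε.symm (z₀ F)) ?_ (syl ε.symm (exists_syl hodd)) fun B hB _ => ?_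
  · intro h1
    exact z₀_ne_one h2 (by rw [← ε.apply_symm_apply (z₀ F), h1, map_one])
  · refine (card_le_of_le (hB.trans (o2_le_zpowers h hodd h3 ε))).trans ?_
    have h1 : (ε.symm (z₀ F) : X) ^ 2 = 1 := by
      have h4 : ε.symm (z₀ F) * ε.symm (z₀ F) = 1 := by rw [← map_mul, z₀_mul, map_one]
      rw [pow_two]
      exact congrArg Subtype.val h4
    rw [Nat.card_zpowers]
    exact (Nat.le_of_dvd (by norm_num) (orderOf_dvd_of_pow_eq_one h1)).trans (by norm_num)

theorem isoClosed : IsoClosed.{u} @Cls.{u} := by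
  rintro S S' _ _ e ⟨F, _, _, hodd, h3, ⟨f⟩⟩
  exact ⟨F, _, _, hodd, h3, ⟨e.symm.trans f⟩⟩

theorem dead : Dead.{u, v} @Cls.{u} := deadG.dead isoClosed

end Cfsg.Agent.Omega.ML.RowPspFour

end

section


/-!
# (ML), the K-list end: `PSp₄(7)`, `PSp₄(9)` in the form of `RowPspFin` (helper297)
-/

set_option autoImplicit false

namespace Cfsg.Agent.Omega.ML.RowPspFour

open Cfsg Cfsg.Agent.Omega.ML.Rows Cfsg.Agent.Omega.ML.LocRow

universe u v w

theorem deadZ : DeadZ.{u, v} @Cls.{u} := Dead.deadZ dead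

/-- **The rows `PSp₄(7)`, `PSp₄(9)`.** -/
theorem four : DeadZ.{u, v} @RowPsp.IsPSpFour.{u} := by
  intro H _ _ M _ _ _ K T Q A z hI hS
  obtain ⟨F, iF, jF, h, e⟩ := hS
  have h1 : Odd (Fintype.card F) := by
    rcases h with h | h <;> rw [h] <;> decide
  have h2 : 3 < Fintype.card F := by
    rcases h with h | h <;> rw [h] <;> norm_num
  exact deadZ H M K T Q A z hI ⟨F, iF, jF, h1, h2, e⟩

end Cfsg.Agent.Omega.ML.RowPspFour

end
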