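import Cfsg.Agent.Mrg.Omega.ML.LocM24
import Cfsg.Agent.Mrg.Omega.TwoF.RowPSp
import Cfsg.Agent.Omega.TwoF.ExtraRank
import Cfsg.Agent.KFacts.HS.Sheet2
import Cfsg.Agent.Mrg.Omega.Lie.HeisF

section


/-!
# (ML), the K-list end: the row `HS` (helper926)

`X` with socle `S = HS`: `A ≤ O₂(C_X(z))^g`, `O₂(C_X(z))` acts on `S` as a subgroup of the extraspecial group
`O₂(C_{Aut(HS)}(z)) = 2^{1+6}`, so `|A| ≤ 16`; the elements of `A ∩ S` are conjugate to `z`, which inverts an element
of order 5 of a Frobenius group of order 55, so `dim [M, x] ≥ 4` (helper763, helper226).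
-/

set_option autoImplicit false

namespace Cfsg.Agent.Omega.ML.RowHS

open Subgroup Cfsg Cfsg.Agent.ZN Cfsg.Agent.Omega.ML.Rows Cfsg.Agent.Omega.ML.ShE Cfsg.Agent.Omega.ML.InvChain
open Cfsg.Agent.HN Cfsg.Agent.HN.Pres Cfsg.Agent.HN.HS100 Cfsg.Agent.HN.H0Basic
open Cfsg.Agent.HN.XMat Cfsg.Agent.HN.WMask Cfsg.Agent.KFacts.HS.Cent
open Cfsg.Agent.KFacts.HS (exists_mod index_inn)
open Cfsg.Agent.HN.P1408 (hw hw_append hw_nil eqw okw)
open Cfsg.Agent.MinSimple.VModule (o2_isPGroup o2_le le_o2 le_normalizer_o2)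

universe u v

/-! ### The words -/

/-- an element of order 5 inverted by `b` -/
def ww : List ℕ := [3, 3, 0, 4, 3, 4, 3, 0, 4, 3, 3, 4, 2, 1, 3, 0, 0]
/-- an element of order 11 normalised by it -/
def uw : List ℕ := [2, 2, 0, 2, 2, 0, 3, 3, 0, 4, 3, 3, 4, 1, 3, 1, 2]

theorem ww_mem : hw ww ∈ K := mem_K_of_par (by decide) (by decide)
theorem uw_mem : hw uw ∈ K := mem_K_of_par (by decide) (by decide)

theorem w_one : hw ww ^ 5 = 1 := by
  have h : hw (ww ++ ww ++ ww ++ ww ++ ww) = 1 := by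
    rw [← hw_nil]; exact hw_eq (by decide +kernel)
  rw [hw_append, hw_append, hw_append, hw_append] at h
  rw [← h, pow_succ, pow_succ, pow_succ, pow_succ, pow_one]

theorem u_one : hw uw ^ 11 = 1 := by
  have h : hw (uw ++ uw ++ uw ++ uw ++ uw ++ uw ++ uw ++ uw ++ uw ++ uw ++ uw) = 1 := by
    rw [← hw_nil]; exact hw_eq (by decide +kernel)
  rw [hw_append, hw_append, hw_append, hw_append, hw_append, hw_append, hw_append, hw_append, hw_append, hw_append] at h
  rw [← h, pow_succ, pow_succ, pow_succ, pow_succ, pow_succ, pow_succ, pow_succ, pow_succ, pow_succ, pow_succ, pow_one]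

theorem wu : hw ww * hw uw = hw uw * hw uw * hw uw * hw ww := by
  rw [← hw_append, ← hw_append, ← hw_append, ← hw_append]
  exact hw_eq (by decide +kernel)

theorem bw : b * hw ww * b * hw ww = 1 := by
  rw [b, ← hw_append, ← hw_append, ← hw_append, ← hw_nil]
  exact hw_eq (by decide +kernel)

theorem w_ne : eqw ww [] = false ∧ eqw ww [0, 0] = false := by decide +kernel
theorem u_ne : eqw uw [] = false ∧ eqw uw [0, 0] = false := by decide +kernel

variable {L : Type*} [Group L] (D : KFacts.HS.Mod L)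

theorem π_ne_one {a : List ℕ} (ha : hw a ∈ K) (hok : okw a = true)
    (h : eqw a [] = false ∧ eqw a [0, 0] = false) : D.π ⟨hw a, ha⟩ ≠ 1 := by
  rw [Ne, KFacts.HS.Mod.π_eq_one]
  rintro (h1 | h1)
  · rw [← hw_nil] at h1
    exact Bool.noConfusion ((eqw_of_hw_eq hok (by decide) h1).symm.trans h.1)
  · rw [← hw_τ] at h1
    exact Bool.noConfusion ((eqw_of_hw_eq hok (by decide) h1).symm.trans h.2)

/-- the class of `z` -/
theorem invAt_z : InvAt D.z 4 := by
  set w : L := D.π ⟨hw ww, ww_mem⟩ with hwdef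
  set u : L := D.π ⟨hw uw, uw_mem⟩ with hudef
  have hw5 : w ^ 5 = 1 := by
    rw [hwdef, ← map_pow, KFacts.HS.Mod.π_eq_one]
    exact Or.inl w_one
  have hu11 : u ^ 11 = 1 := by
    rw [hudef, ← map_pow, KFacts.HS.Mod.π_eq_one]
    exact Or.inl u_one
  have how : orderOf w = 5 := by
    have : Fact (Nat.Prime 5) := ⟨by norm_num⟩
    exact orderOf_eq_prime hw5 (π_ne_one D ww_mem (by decide) w_ne)
  have hou : orderOf u = 11 := by
    have : Fact (Nat.Prime 11) := ⟨by norm_num⟩
    exact orderOf_eq_prime hu11 (π_ne_one D uw_mem (by decide) u_ne)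
  have hwu : w * u * w⁻¹ = u ^ 3 := by
    rw [mul_inv_eq_iff_eq_mul]
    have h1 : w * u = u * u * u * w := by
      rw [hwdef, hudef, ← map_mul, ← map_mul, ← map_mul, ← map_mul]
      exact congrArg D.π (Subtype.ext wu)
    rw [h1, pow_succ, pow_succ, pow_one]
  have hzw : D.z * w * D.z⁻¹ = w⁻¹ := by
    have h1 : D.z * w * D.z * w = 1 := by
      rw [hwdef]
      unfold KFacts.HS.Mod.z
      rw [← map_mul, ← map_mul, ← map_mul]
      exact (congrArg D.π (Subtype.ext bw)).trans (map_one D.π)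
    have h2 : D.z⁻¹ = D.z := inv_eq_of_mul_eq_one_left D.zz
    rw [h2, eq_inv_iff_mul_eq_one]
    exact h1
  refine ⟨w, 8, Chain.step u w 10 8 3 (Chain.base u 10 ?_ ?_ ?_) ?_ ?_ hwu ?_ ?_, hzw, by norm_num⟩
  · rw [hou]; norm_num
  · rw [hou]; norm_num
  · rw [hou]
    intro j hj1 hj2
    interval_cases j <;> norm_num
  · rw [how]; norm_num
  · rw [how]; norm_num
  · intro h1
    have h2 : u = u ^ 3 := by rw [← hwu, h1, mul_inv_cancel_right]
    have h3 : u ^ 2 = 1 := by
      have h4 : u * u ^ 2 = u * 1 := by rw [mul_one, ← pow_succ']; exact h2.symm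
      exact mul_left_cancel h4
    have h4 := orderOf_dvd_of_pow_eq_one h3
    rw [hou] at h4
    norm_num at h4
  · rw [how]; norm_num

/-- the involutions of `R` are conjugate to `z` -/
theorem conj_of_R {r : L} (hr : r ∈ D.R) (h2 : r * r = 1) (h1 : r ≠ 1) : ∃ c : L, r = c * D.z * c⁻¹ := by
  rcases D.inv2 r h2 h1 with h | ⟨c, hc⟩
  · exact h
  exfalso
  obtain ⟨⟨k, hk⟩, hkc⟩ := D.surj c
  obtain ⟨h, hhK, hhR, hh⟩ := (D.mem_im).1 hr
  obtain ⟨m, hm, e, hme⟩ := Rt_le_Wt hhR
  -- `h² ∈ {1, b}`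
  have h3 : ∃ e' : Bool, h * h = sg e' := by
    obtain ⟨e1, he1⟩ := R_sq m
    refine ⟨e1, ?_⟩
    rw [hme]
    calc R m * sg e * (R m * sg e) = R m * (sg e * R m) * sg e := by group
      _ = (R m * R m) * (sg e * sg e) := by rw [R_sg]; group
      _ = sg e1 := by rw [he1, sg_mul, Bool.xor_self]; exact mul_one _
  obtain ⟨e', he'⟩ := h3
  -- `h² = τ`
  rw [D.wu_eq, ← hkc, D.π_conj, ← hh, D.π_eq] at hc
  have h4 : (k * (w0 * KFacts.HS.Cent.U) * k⁻¹) * (k * (w0 * KFacts.HS.Cent.U) * k⁻¹) = τ := by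
    calc (k * (w0 * KFacts.HS.Cent.U) * k⁻¹) * (k * (w0 * KFacts.HS.Cent.U) * k⁻¹) = k * (w0 * KFacts.HS.Cent.U * (w0 * KFacts.HS.Cent.U)) * k⁻¹ := by group
      _ = k * τ * k⁻¹ := by rw [KFacts.HS.Mod.w0U_sq]
      _ = τ := by rw [τ_comm, mul_inv_cancel_right]
  have h5 : h * h = τ := by
    rcases hc with hc | hc
    · rw [hc, h4]
    · rw [hc]
      calc k * (w0 * KFacts.HS.Cent.U) * k⁻¹ * τ * (k * (w0 * KFacts.HS.Cent.U) * k⁻¹ * τ)
          = k * (w0 * KFacts.HS.Cent.U) * k⁻¹ * (τ * (k * (w0 * KFacts.HS.Cent.U) * k⁻¹)) * τ := by group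
        _ = (k * (w0 * KFacts.HS.Cent.U) * k⁻¹) * (k * (w0 * KFacts.HS.Cent.U) * k⁻¹) * (τ * τ) := by rw [← τ_comm]; group
        _ = τ := by rw [h4, τ_mul_τ, mul_one]
  exact sg_ne_τ e' (he'.symm.trans h5)

/-! ### The rank of `2^{1+6}` -/

theorem card_Wt_le : Nat.card Wt ≤ 256 := by
  have h := Nat.card_le_card_of_surjective
    (fun p : Fin 128 × Bool => (⟨R p.1 * sg p.2, p.1, p.1.2, p.2, rfl⟩ : Wt)) (by
      rintro ⟨_, m, hm, e, rfl⟩
      exact ⟨(⟨m, hm⟩, e), rfl⟩)
  have h2 : Nat.card (Fin 128 × Bool) = 256 := by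
    rw [Nat.card_eq_fintype_card, Fintype.card_prod, Fintype.card_fin, Fintype.card_bool]
  rwa [h2] at h

theorem τ_mem_Wt : τ ∈ Wt := Rt_le_Wt τ_mem_Rt

theorem card_map_le : Nat.card (Wt.map D.au) ≤ 128 := by
  have hfW : Finite Wt := by
    have := finite_H0
    infer_instance
  let f : Wt →* MulAut L := D.au.comp Wt.subtype
  have h1 : f.range = Wt.map D.au := by rw [MonoidHom.range_comp, range_subtype]
  have h2 : Nat.card f.ker * Nat.card f.range = Nat.card Wt := by
    rw [mul_comm, ← Nat.card_congr (QuotientGroup.quotientKerEquivRange f).toEquiv]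
    exact (card_eq_card_quotient_mul_card_subgroup f.ker).symm
  have h3 : 2 ≤ Nat.card f.ker := by
    have h4 : (⟨τ, τ_mem_Wt⟩ : Wt) ∈ f.ker := by
      rw [MonoidHom.mem_ker]
      exact (D.au_ker τ).2 (Or.inr rfl)
    have h5 : Nontrivial f.ker := ⟨⟨1, ⟨_, h4⟩, fun h => τ_ne_one (congrArg (fun x : f.ker => ((x : Wt) : H0)) h).symm⟩⟩
    have h6 := Finite.one_lt_card_iff_nontrivial.2 h5
    omega
  have h4 := card_Wt_le
  rw [← h1]
  nlinarith

theorem Wt_comm {g h : H0} (hg : g ∈ Wt) (hh : h ∈ Wt) : g * h = h * g ∨ g * h = b * (h * g) := by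
  obtain ⟨m, hm, e, rfl⟩ := hg
  obtain ⟨m', hm', e', rfl⟩ := hh
  obtain ⟨e1, h1⟩ := R_mul m m'
  obtain ⟨e2, h2⟩ := R_mul m' m
  rw [Nat.xor_comm] at h2
  have k1 : R m * sg e * (R m' * sg e') = R (m ^^^ m') * sg ((e1 ^^ e) ^^ e') := by
    calc R m * sg e * (R m' * sg e') = R m * (sg e * R m') * sg e' := by group
      _ = (R m * R m') * sg e * sg e' := by rw [R_sg]; group
      _ = R (m ^^^ m') * (sg e1 * sg e * sg e') := by rw [h1]; group
      _ = _ := by rw [sg_mul, sg_mul]
  have k2 : R m' * sg e' * (R m * sg e) = R (m ^^^ m') * sg ((e2 ^^ e') ^^ e) := by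
    calc R m' * sg e' * (R m * sg e) = R m' * (sg e' * R m) * sg e := by group
      _ = (R m' * R m) * sg e' * sg e := by rw [R_sg]; group
      _ = R (m ^^^ m') * (sg e2 * sg e' * sg e) := by rw [h2]; group
      _ = _ := by rw [sg_mul, sg_mul]
  rw [k1, k2]
  have hb : b = sg true := rfl
  rw [hb, ← mul_assoc, R_sg, mul_assoc, sg_mul]
  cases e1 <;> cases e2 <;> cases e <;> cases e' <;> first | (left; rfl) | (right; rfl)

/-- commutative subgroups of `O₂(C(z))` have order at most 16 -/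
theorem card_le_sixteen (B : Subgroup (MulAut L)) (hB : B ≤ Wt.map D.au) (hBB : ∀ a ∈ B, ∀ c ∈ B, a * c = c * a) :
    Nat.card B ≤ 16 := by
  have hfin := D.finite
  have hfin' : Finite (MulAut L) := Finite.of_injective (fun φ => (φ : L → L)) DFunLike.coe_injective
  have hbb : b * b = 1 := b_sq
  have h1 : Nat.card B * Nat.card B ≤ 2 * Nat.card (Wt.map D.au) := by
    refine TwoF.ExtraRank.card_mul_self_le (z := D.au b) ?_ ?_ ?_ ?_ ?_ hB hBB
    · rintro _ ⟨g, hg, rfl⟩ _ ⟨h, hh, rfl⟩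
      rw [← map_mul, ← map_mul, ← map_mul]
      rcases Wt_comm hg hh with h2 | h2
      · exact Or.inl (congrArg D.au h2)
      · exact Or.inr (congrArg D.au h2)
    · rintro _ ⟨g, hg, rfl⟩
      rw [← map_mul, ← map_mul, Wt_b hg]
    · rw [← map_mul, hbb, map_one]
    · rw [Ne, D.au_ker]
      rintro (h2 | h2)
      · exact D.z1 (by
          unfold KFacts.HS.Mod.z
          rw [KFacts.HS.Mod.π_eq_one]
          exact Or.inl h2)
      · exact sg_ne_τ true h2
    · rintro _ ⟨g, hg, rfl⟩ hc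
      -- `g` commutes with `Wt`
      have h2 : ∀ h ∈ Wt, g * h = h * g := by
        intro h hh
        rcases Wt_comm hg hh with h3 | h3
        · exact h3
        · exfalso
          have h4 := hc _ ⟨h, hh, rfl⟩
          rw [← map_mul, ← map_mul, D.au_eq_iff, h3] at h4
          rcases h4 with h4 | h4
          · exact D.z1 (by
              unfold KFacts.HS.Mod.z
              rw [KFacts.HS.Mod.π_eq_one]
              exact Or.inl (mul_eq_right.1 h4))
          · rw [τ_comm] at h4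
            exact sg_ne_τ true (mul_right_cancel h4)
      have hb := Wt_b hg
      obtain ⟨e, h3⟩ := fixR hb (fun r hr => Or.inl (by rw [h2 r (Rt_le_Wt hr), mul_inv_cancel_right]))
      -- `U` is excluded by an outer element
      have h4 : R 4 ∈ Wt := ⟨4, by norm_num, false, (mul_one _).symm⟩
      have h4K : R 4 ∉ K := by
        rw [R_mem_K_iff (by norm_num)]
        decide +kernel
      have h5 : ∀ g' : H0, (g' = KFacts.HS.Cent.U * sg e ∨ g' = KFacts.HS.Cent.U * τ * sg e) → g' * R 4 = R 4 * g' → False := by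
        intro g' hg' h6
        have h7 := Wt_inv h4 h4K
        have h8 : KFacts.HS.Cent.U * R 4 = R 4 * KFacts.HS.Cent.U := by
          rcases hg' with rfl | rfl
          · have h9 : KFacts.HS.Cent.U * R 4 * sg e = R 4 * KFacts.HS.Cent.U * sg e := by
              rw [mul_assoc, ← R_sg, ← mul_assoc, h6, mul_assoc]
            exact mul_right_cancel h9
          · have h9 : KFacts.HS.Cent.U * R 4 * (τ * sg e) = R 4 * KFacts.HS.Cent.U * (τ * sg e) := by
              calc KFacts.HS.Cent.U * R 4 * (τ * sg e) = KFacts.HS.Cent.U * (R 4 * τ) * sg e := by group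
                _ = KFacts.HS.Cent.U * τ * (R 4 * sg e) := by rw [τ_comm]; group
                _ = KFacts.HS.Cent.U * τ * sg e * R 4 := by rw [← R_sg]; group
                _ = R 4 * (KFacts.HS.Cent.U * τ * sg e) := h6
                _ = _ := by group
            exact mul_right_cancel h9
        rw [h8, ← mul_assoc] at h7
        exact D.z1 (by
          unfold KFacts.HS.Mod.z
          rw [KFacts.HS.Mod.π_eq_one]
          exact Or.inl (mul_eq_left.1 h7.symm))
      rcases h3 with h3 | h3 | h3 | h3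
      · cases e
        · left; rw [h3]; exact map_one D.au
        · right; rw [h3]; rfl
      · have h6 : D.au g = D.au (sg e) := by
          rw [D.au_eq_iff]; right; rw [h3, τ_comm]
        cases e
        · left; rw [h6]; exact map_one D.au
        · right; rw [h6]; rfl
      · exact absurd (h2 _ h4) (fun h6 => h5 g (Or.inl h3) h6)
      · exact absurd (h2 _ h4) (fun h6 => h5 g (Or.inr h3) h6)
  have h2 := card_map_le D
  by_contra hcon
  push Not at hcon
  nlinarith

/-! ### The group-theoretic part -/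

section

variable {X : Type u} [Group X] {S T A : Subgroup X}

theorem key [Finite X] (h : AS S T A) (D : KFacts.HS.Mod S) :
    Nat.card A ≤ 2 ^ 4 ∧ ∀ x : S, (x : X) ∈ A → x ≠ 1 → InvAt x 4 := by
  have hS := h.norm
  obtain ⟨g, hg⟩ := le_o2_conj h D.z1 D.syl
  set Dz := o2 (centralizer ({(D.z : X)} : Set X)) with hDz
  have hD2 : IsPGroup 2 Dz := o2_isPGroup _
  have hDzz : ∀ d ∈ Dz, d * (D.z : X) = D.z * d := fun d hd => mem_centralizer_singleton_iff.1 (o2_le _ hd)
  -- `P` normalises `Dz`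
  have hPn : ∀ x ∈ D.P, ∀ d ∈ Dz, (x : X) * d * (x : X)⁻¹ ∈ Dz := by
    intro x hx d hd
    have h1 : (x : X) ∈ centralizer ({(D.z : X)} : Set X) :=
      mem_centralizer_singleton_iff.2 (congrArg Subtype.val (D.Pcomm hx))
    exact (mem_normalizer_iff.1 (le_normalizer_o2 _ h1) d).1 hd
  have hB : Dz.comap S.subtype ≤ D.R := by
    apply D.core
    · intro x hx
      rw [mem_centralizer_singleton_iff]
      exact Subtype.ext (hDzz _ hx)
    · exact hD2.comap_of_injective S.subtype S.subtype_injective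
    · intro x hx c hc
      exact hPn x hx _ hc
  have hact : ∀ d ∈ Dz, (MulAut.conjNormal d : MulAut S) ∈ Wt.map D.au := by
    intro d hd
    obtain ⟨h0, hh0⟩ := D.au_surj (MulAut.conjNormal d : MulAut S)
    have hαx : ∀ x : S, (((MulAut.conjNormal d : MulAut S) x : S) : X) = d * x * d⁻¹ := fun x => MulAut.conjNormal_apply d x
    have hz : D.au h0 D.z = D.z := by
      rw [hh0]
      exact Subtype.ext (by rw [hαx, hDzz d hd, mul_inv_cancel_right])
    refine ⟨h0, D.mem_Wt_of (D.au_z hz) (fun x hx => ?_), hh0⟩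
    apply hB
    rw [hh0]
    show ((x⁻¹ * (MulAut.conjNormal d : MulAut S) x : S) : X) ∈ Dz
    rw [Subgroup.coe_mul, Subgroup.coe_inv, hαx]
    have h1 : (x : X)⁻¹ * (d * x * d⁻¹) = ((x : X)⁻¹ * d * x) * d⁻¹ := by group
    rw [h1]
    refine Dz.mul_mem ?_ (Dz.inv_mem hd)
    have h2 := hPn x⁻¹ (D.P.inv_mem hx) d hd
    rwa [Subgroup.coe_inv, inv_inv] at h2
  have hcomm : ∀ a ∈ A, ∀ c ∈ A, a * c = c * a := by
    intro a ha c hc
    have h1 := h.el _ (A.mul_mem ha hc)
    have h2 : a = a⁻¹ := eq_inv_of_mul_eq_one_left (h.el a ha)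
    have h3 : c = c⁻¹ := eq_inv_of_mul_eq_one_left (h.el c hc)
    have h4 : a * c = (a * c)⁻¹ := eq_inv_of_mul_eq_one_left h1
    rw [mul_inv_rev, ← h2, ← h3] at h4
    exact h4
  constructor
  · let f : A →* MulAut S := (MulAut.conjNormal : X →* MulAut S).comp ((MulAut.conj (g : X)⁻¹).toMonoidHom.comp A.subtype)
    have hfx : ∀ a : A, f a = (MulAut.conjNormal ((g : X)⁻¹ * a * g) : MulAut S) := by
      intro a
      show (MulAut.conjNormal ((g : X)⁻¹ * (a : X) * ((g : X)⁻¹)⁻¹) : MulAut S) = _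
      rw [inv_inv]
    have hinj : Function.Injective f := by
      rw [injective_iff_map_eq_one]
      intro a ha
      rw [hfx] at ha
      have h1 : (g : X)⁻¹ * a * g ∈ centralizer (S : Set X) := by
        rw [mem_centralizer_iff]
        intro y hy
        have h2 := congrArg (fun β : MulAut S => ((β ⟨y, hy⟩ : S) : X)) ha
        simp only [MulAut.conjNormal_apply, MulAut.one_apply] at h2
        have h3 : ((g : X)⁻¹ * a * g) * y * ((g : X)⁻¹ * a * g)⁻¹ = y := h2
        rw [mul_inv_eq_iff_eq_mul] at h3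
        exact h3.symm
      rw [h.cen, mem_bot] at h1
      apply Subtype.ext
      have h2 : (a : X) = g * ((g : X)⁻¹ * a * g) * (g : X)⁻¹ := by group
      rw [h2, h1]
      show (g : X) * 1 * (g : X)⁻¹ = 1
      group
    have h1 : Nat.card A = Nat.card f.range := Nat.card_congr (MonoidHom.ofInjective hinj).toEquiv
    rw [h1]
    refine card_le_sixteen D f.range ?_ ?_
    · rintro _ ⟨a, rfl⟩
      rw [hfx]
      exact hact _ (hg a a.2)
    · rintro _ ⟨a, rfl⟩ _ ⟨c, rfl⟩
      rw [← map_mul, ← map_mul]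
      exact congrArg f (Subtype.ext (hcomm a a.2 c c.2))
  · intro x hxA hx1
    have h1 : g⁻¹ * x * g ∈ D.R := hB (hg x hxA)
    obtain ⟨c, hc⟩ := conj_of_R D h1 (by
      have h2 : x * x = 1 := Subtype.ext (h.el _ hxA)
      calc g⁻¹ * x * g * (g⁻¹ * x * g) = g⁻¹ * (x * x) * g := by group
        _ = 1 := by rw [h2]; group) (by
      intro h2
      apply hx1
      have h3 : x = g * (g⁻¹ * x * g) * g⁻¹ := by group
      rw [h3, h2]; group)
    have h2 : x = (g * c) * D.z * (g * c)⁻¹ := by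
      have h3 : x = g * (g⁻¹ * x * g) * g⁻¹ := by group
      rw [h3, hc]; group
    rw [h2]
    exact (invAt_z D).conj _

end

theorem equivZ_mk {H : Type u} [Group H] {M : Type v} [Group M] [MulDistribMulAction H M] {K' T A : Subgroup H}
    (h : In H M K' T A) (hZ : (centralizer (K' : Set H)).Normal) (x : K') :
    ((equivZ (K := K') hZ (x : K' ⧸ center K') :
      (K'.map (QuotientGroup.mk' (centralizer (K' : Set H))) : Subgroup _)) : H ⧸ centralizer (K' : Set H)) =
      QuotientGroup.mk' (centralizer (K' : Set H)) (x : H) := rfl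

/-- **The row `HS`.** -/
theorem dead_HS : Dead.{u, v} (fun S _ => Spor.IsoHS S) := by
  intro H _ _ M _ _ _ K' T A h hS
  have hN := h.norm
  have hZ := h.normalZ
  obtain ⟨D⟩ := exists_mod hS
  let e := equivZ (K := K') hZ
  obtain ⟨h1, h2⟩ := key (h.as hZ) (D.map e)
  rw [h.card_map hZ] at h1
  obtain ⟨x, hxA, hxK, hx1⟩ := InvRow.exists_mem h (by rw [index_inn hS]; norm_num)
  refine InvRow.false_of_inv h h1 (x := ⟨x, hxK⟩) hxA ?_
  have hex : ((e ((⟨x, hxK⟩ : K') : K' ⧸ center K') : (K'.map (QuotientGroup.mk' (centralizer (K' : Set H))) : Subgroup _)) :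
      H ⧸ centralizer (K' : Set H)) = QuotientGroup.mk' (centralizer (K' : Set H)) x := equivZ_mk h hZ ⟨x, hxK⟩
  have h3 : InvAt (e ((⟨x, hxK⟩ : K') : K' ⧸ center K')) 4 := by
    apply h2
    · rw [hex]
      exact mem_map_of_mem _ hxA
    · intro h4
      apply hx1
      have h5 : ((⟨x, hxK⟩ : K') : K' ⧸ center K') = 1 := e.injective (h4.trans (map_one e).symm)
      have h6 : (⟨x, hxK⟩ : K') ∈ center K' := (QuotientGroup.eq_one_iff _).1 h5
      refine InvRow.eq_one h (mem_centralizer_iff.2 fun y hy => ?_) (h.el x hxA)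
      exact congrArg Subtype.val (mem_center_iff.1 h6 ⟨y, hy⟩)
  have h4 := h3.map e.symm.toMonoidHom e.symm.injective
  have h5 : e.symm.toMonoidHom (e ((⟨x, hxK⟩ : K') : K' ⧸ center K')) = ((⟨x, hxK⟩ : K') : K' ⧸ center K') :=
    e.symm_apply_apply _
  rwa [h5] at h4

end Cfsg.Agent.Omega.ML.RowHS

end

section


/-!
# The doubled Heisenberg bound for the prime 7 (helper728)

`z, x, y` a Heisenberg configuration for `7` and `s` inverts `z`: on a faithful `F_2`-module both factors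
`t³ + t + 1`, `t³ + t² + 1` of the cyclotomic polynomial occur, `|V| ≥ 2 ^ (2 * 3 * 7)`.

* `two_pow_double` : additive form, `n` pairs;
* `LC.of_two` : `d` centralises `g` and `g' ^ d = g' ^ 2`: all lifts of `g`, `g'` commute;
* `LB.seven` : `LB K 42`.
-/

set_option autoImplicit false

namespace Cfsg.Agent.Omega.ML.HeisSeven

open Cfsg.Agent.Omega.Lie.Heis Cfsg.Agent.Omega.Lie.HeisF

universe u v w

section add

variable {E A : Type*} [Group E] [AddCommGroup A] [DistribMulAction E A]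

/-- the kernel of `z³ + z + 1` -/
def kf (z : E) : AddSubgroup A where
  carrier := {v | z • z • z • v + z • v + v = 0}
  zero_mem' := by simp
  add_mem' := by
    intro v w hv hw
    show z • z • z • (v + w) + z • (v + w) + (v + w) = 0
    have hv' : z • z • z • v + z • v + v = 0 := hv
    have hw' : z • z • z • w + z • w + w = 0 := hw
    have : z • z • z • (v + w) + z • (v + w) + (v + w) = (z • z • z • v + z • v + v) + (z • z • z • w + z • w + w) := by
      simp only [smul_add]; abel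
    rw [this, hv', hw', add_zero]
  neg_mem' := by
    intro v hv
    show z • z • z • (-v) + z • (-v) + (-v) = 0
    have hv' : z • z • z • v + z • v + v = 0 := hv
    have : z • z • z • (-v) + z • (-v) + (-v) = -(z • z • z • v + z • v + v) := by
      simp only [smul_neg]; abel
    rw [this, hv', neg_zero]

/-- the kernel of `z³ + z² + 1` -/
def kg (z : E) : AddSubgroup A where
  carrier := {v | z • z • z • v + z • z • v + v = 0}
  zero_mem' := by simp
  add_mem' := by
    intro v w hv hw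
    show z • z • z • (v + w) + z • z • (v + w) + (v + w) = 0
    have hv' : z • z • z • v + z • z • v + v = 0 := hv
    have hw' : z • z • z • w + z • z • w + w = 0 := hw
    have : z • z • z • (v + w) + z • z • (v + w) + (v + w) =
        (z • z • z • v + z • z • v + v) + (z • z • z • w + z • z • w + w) := by
      simp only [smul_add]; abel
    rw [this, hv', hw', add_zero]
  neg_mem' := by
    intro v hv
    show z • z • z • (-v) + z • z • (-v) + (-v) = 0
    have hv' : z • z • z • v + z • z • v + v = 0 := hv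
    have : z • z • z • (-v) + z • z • (-v) + (-v) = -(z • z • z • v + z • z • v + v) := by
      simp only [smul_neg]; abel
    rw [this, hv', neg_zero]

theorem mem_kf {z : E} {v : A} : v ∈ kf z ↔ z • z • z • v + z • v + v = 0 := Iff.rfl

theorem mem_kg {z : E} {v : A} : v ∈ kg z ↔ z • z • z • v + z • z • v + v = 0 := Iff.rfl

theorem eq_of_add {v w : A} (h2 : ∀ v : A, v + v = 0) (h : v + w = 0) : v = w := by
  have h1 : v + w = w + w := by rw [h, h2]
  exact add_right_cancel h1

theorem kf_comm {z g : E} (hg : z * g = g * z) {v : A} (hv : v ∈ kf z) : g • v ∈ kf z := by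
  rw [mem_kf] at hv ⊢
  have h1 : ∀ w : A, z • g • w = g • z • w := fun w => by rw [smul_smul, hg, mul_smul]
  rw [h1, h1, h1, ← smul_add, ← smul_add, hv, smul_zero]

theorem kg_comm {z g : E} (hg : z * g = g * z) {v : A} (hv : v ∈ kg z) : g • v ∈ kg z := by
  rw [mem_kg] at hv ⊢
  have h1 : ∀ w : A, z • g • w = g • z • w := fun w => by rw [smul_smul, hg, mul_smul]
  rw [h1, h1, h1, ← smul_add, ← smul_add, hv, smul_zero]

/-- an element inverting `z` interchanges the two kernels -/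
theorem swap {z s : E} (sz : s * z * s⁻¹ = z⁻¹) {v : A} (hv : v ∈ kf z) : s • v ∈ kg z := by
  rw [mem_kf] at hv
  rw [mem_kg]
  have h0 : z * s = s * z⁻¹ := by
    have : s * z = z⁻¹ * s := by rw [← sz]; group
    calc z * s = z * (z⁻¹ * s) * z⁻¹ * (z * s⁻¹ * z * s) := by group
      _ = z * (z⁻¹ * s) * z⁻¹ * (z * (s⁻¹ * z * s)) := by group
      _ = s * z⁻¹ := by
          have h1 : s⁻¹ * z * s = z⁻¹ := by
            have h2 : z⁻¹ * s * z⁻¹ = s := by rw [← this]; group
            calc s⁻¹ * z * s = s⁻¹ * z * (z⁻¹ * s * z⁻¹) := by rw [h2]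
              _ = z⁻¹ := by group
          rw [h1]; group
  have h1 : ∀ w : A, z • s • w = s • z⁻¹ • w := fun w => by rw [smul_smul, h0, mul_smul]
  rw [h1, h1, h1, ← smul_add, ← smul_add]
  have h3 : z⁻¹ • z⁻¹ • z⁻¹ • v + z⁻¹ • z⁻¹ • v + v = z⁻¹ • z⁻¹ • z⁻¹ • (z • z • z • v + z • v + v) := by
    simp only [smul_add, inv_smul_smul]
    abel
  rw [h3, hv, smul_zero, smul_zero, smul_zero, smul_zero]

theorem swap' {z s : E} (sz : s * z * s⁻¹ = z⁻¹) {v : A} (hv : v ∈ kg z) : s • v ∈ kf z := by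
  rw [mem_kg] at hv
  rw [mem_kf]
  have h0 : z * s = s * z⁻¹ := by
    have : s * z = z⁻¹ * s := by rw [← sz]; group
    have h2 : z⁻¹ * s * z⁻¹ = s := by rw [← this]; group
    calc z * s = z * (z⁻¹ * s * z⁻¹) := by rw [h2]
      _ = s * z⁻¹ := by group
  have h1 : ∀ w : A, z • s • w = s • z⁻¹ • w := fun w => by rw [smul_smul, h0, mul_smul]
  rw [h1, h1, h1, ← smul_add, ← smul_add]
  have h3 : z⁻¹ • z⁻¹ • z⁻¹ • v + z⁻¹ • v + v = z⁻¹ • z⁻¹ • z⁻¹ • (z • z • z • v + z • z • v + v) := by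
    simp only [smul_add, inv_smul_smul]
    abel
  rw [h3, hv, smul_zero, smul_zero, smul_zero, smul_zero]

theorem three (h2 : ∀ v : A, v + v = 0) (v : A) : v + v + v = v := by rw [h2, zero_add]

theorem kf_free (h2 : ∀ v : A, v + v = 0) {z : E} {v : A} (hv : v ∈ kf z) (hz : z • v = v) : v = 0 := by
  rw [mem_kf, hz, hz, hz, three h2] at hv
  exact hv

theorem kg_free (h2 : ∀ v : A, v + v = 0) {z : E} {v : A} (hv : v ∈ kg z) (hz : z • v = v) : v = 0 := by
  rw [mem_kg, hz, hz, hz, three h2] at hv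
  exact hv

theorem inter (h2 : ∀ v : A, v + v = 0) {z : E} {v : A} (hf : v ∈ kf z) (hg : v ∈ kg z) : v = 0 := by
  have h1 : z • v = z • z • v := by
    rw [mem_kf] at hf
    rw [mem_kg] at hg
    have h3 : z • z • z • v + z • v + v = z • z • z • v + z • z • v + v := hf.trans hg.symm
    exact add_left_cancel (add_right_cancel h3)
  exact kf_free h2 hf (smul_left_cancel z h1).symm

/-- one of the kernels is not trivial -/
theorem exists_ne (h2 : ∀ v : A, v + v = 0) {z : E} (hz : z ^ 7 = 1) (hf : ∃ v : A, z • v ≠ v) :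
    (kf z : AddSubgroup A) ≠ ⊥ ∨ (kg z : AddSubgroup A) ≠ ⊥ := by
  obtain ⟨v, hv⟩ := hf
  set w : A := z • v - v with hw
  have hw0 : w ≠ 0 := fun h => hv (sub_eq_zero.1 h)
  have hz7 : z • z • z • z • z • z • z • v = v := by
    have h1 : z ^ 7 • v = v := by rw [hz, one_smul]
    simp only [pow_succ, pow_zero, one_mul, mul_smul] at h1
    exact h1
  by_cases hg : w ∈ kg z
  · right
    intro h
    rw [h] at hg
    exact hw0 hg
  · left
    intro h
    apply hg
    rw [mem_kg]
    have h3 : z • z • z • w + z • z • w + w ∈ (kf z : AddSubgroup A) := by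
      rw [mem_kf]
      have e : z • z • z • (z • z • z • w + z • z • w + w) + z • (z • z • z • w + z • z • w + w) +
          (z • z • z • w + z • z • w + w) =
          (z • z • z • z • z • z • w + z • z • z • z • z • w + z • z • z • z • w + z • z • z • w + z • z • w +
            z • w + w) + (z • z • z • w + z • z • z • w) := by
        simp only [smul_add]
        abel
      rw [e, h2, add_zero, hw]
      simp only [smul_sub]
      rw [hz7]
      abel
    rw [h] at h3
    exact h3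

/-- `|B| ≥ 2 ^ (3 * 7 ^ n)` for a nontrivial subgroup `B` invariant under `C(z)` on which `z` acts freely -/
theorem card_ge [Finite A] (h2 : ∀ v : A, v + v = 0) {n : ℕ} {z : E} {x y : Fin n → E} (h : Heis 7 n z x y)
    {B : AddSubgroup A} (hB0 : B ≠ ⊥) (hB : ∀ g : E, z * g = g * z → ∀ v ∈ B, g • v ∈ B)
    (hf : ∀ v ∈ B, z • v = v → v = 0) : 2 ^ (3 * 7 ^ n) ≤ Nat.card B := by
  obtain ⟨C, hC, hCi, hle⟩ := h.exists_sub hB0 hB (fun v _ hv => by
    have h3 : 7 • v = v := by
      have : (7 : ℕ) • v = (v + v) + (v + v) + (v + v) + v := by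
        simp only [succ_nsmul, zero_nsmul, zero_add]
        abel
      rw [this, h2, zero_add, h2, zero_add]
    rw [← h3, hv]) hf
  have h6 := modEq_one h.prime h.zr (B := C)
    (fun v hv => (hCi _).2 ⟨hB z rfl _ ((hCi v).1 hv).1, fun i => by
      rw [smul_smul, ← h.zx i, mul_smul, ((hCi v).1 hv).2 i]⟩)
    (fun v hv => hf v ((hCi v).1 hv).1)
  have hp : IsPGroup 2 (Multiplicative A) := fun g => ⟨1, by
    rw [pow_one, pow_two]
    exact congrArg Multiplicative.ofAdd (h2 (Multiplicative.toAdd g))⟩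
  have : Fact (Nat.Prime 2) := ⟨Nat.prime_two⟩
  obtain ⟨m, hm⟩ := IsPGroup.iff_card.1 hp
  have hm' : Nat.card A = 2 ^ m := hm
  obtain ⟨k, -, hk⟩ := (Nat.dvd_prime_pow Nat.prime_two).1 (hm' ▸ AddSubgroup.card_addSubgroup_dvd_card C)
  have h7 : 3 ≤ k := by
    by_contra hcon
    push Not at hcon
    rw [hk] at h6
    interval_cases k
    · exact hC (AddSubgroup.card_eq_one.1 (by rw [hk]; rfl))
    · exact absurd h6 (by decide)
    · exact absurd h6 (by decide)
  calc 2 ^ (3 * 7 ^ n) ≤ 2 ^ (k * 7 ^ n) := Nat.pow_le_pow_right (by norm_num) (Nat.mul_le_mul_right _ h7)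
    _ = Nat.card C ^ 7 ^ n := by rw [hk, pow_mul]
    _ ≤ Nat.card B := hle

/-- **The doubled Heisenberg bound.** -/
theorem two_pow_double [Finite A] (h2 : ∀ v : A, v + v = 0) {n : ℕ} {z s : E} {x y : Fin n → E}
    (h : Heis 7 n z x y) (sz : s * z * s⁻¹ = z⁻¹) (hf : ∃ v : A, z • v ≠ v) :
    2 ^ (2 * (3 * 7 ^ n)) ≤ Nat.card A := by
  have hne : (kf z : AddSubgroup A) ≠ ⊥ ∧ (kg z : AddSubgroup A) ≠ ⊥ := by
    have key1 : (kf z : AddSubgroup A) ≠ ⊥ → (kg z : AddSubgroup A) ≠ ⊥ := by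
      intro h1 h3
      apply h1
      rw [AddSubgroup.eq_bot_iff_forall] at h3 ⊢
      intro v hv
      have := h3 _ (swap sz hv)
      rwa [smul_eq_zero_iff_eq] at this
    have key2 : (kg z : AddSubgroup A) ≠ ⊥ → (kf z : AddSubgroup A) ≠ ⊥ := by
      intro h1 h3
      apply h1
      rw [AddSubgroup.eq_bot_iff_forall] at h3 ⊢
      intro v hv
      have := h3 _ (swap' sz hv)
      rwa [smul_eq_zero_iff_eq] at this
    rcases exists_ne h2 h.zr hf with h1 | h1
    · exact ⟨h1, key1 h1⟩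
    · exact ⟨key2 h1, h1⟩
  have h3 := card_ge h2 h hne.1 (fun g hg v hv => kf_comm hg hv) (fun v hv => kf_free h2 hv)
  have h4 := card_ge h2 h hne.2 (fun g hg v hv => kg_comm hg hv) (fun v hv => kg_free h2 hv)
  have hinj : Function.Injective (fun p : Prod (kf z : AddSubgroup A) (kg z : AddSubgroup A) => (p.1 : A) + p.2) := by
    rintro ⟨a, b⟩ ⟨a', b'⟩ hab
    have hab' : (a : A) + b = a' + b' := hab
    have h5 : (a : A) - a' = b' - b := by
      rw [sub_eq_sub_iff_add_eq_add, hab', add_comm]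
    have h6 : (a : A) - a' ∈ (kf z : AddSubgroup A) := AddSubgroup.sub_mem _ a.2 a'.2
    have h7 : (a : A) - a' ∈ (kg z : AddSubgroup A) := by rw [h5]; exact AddSubgroup.sub_mem _ b'.2 b.2
    have h8 := inter h2 h6 h7
    have h9 : a = a' := Subtype.ext (sub_eq_zero.1 h8)
    rw [h8] at h5
    have h10 : b = b' := Subtype.ext (sub_eq_zero.1 h5.symm).symm
    rw [h9, h10]
  have h5 := Nat.card_le_card_of_injective _ hinj
  rw [Nat.card_prod] at h5
  calc 2 ^ (2 * (3 * 7 ^ n)) = 2 ^ (3 * 7 ^ n) * 2 ^ (3 * 7 ^ n) := by rw [two_mul, pow_add]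
    _ ≤ _ := (Nat.mul_le_mul h3 h4).trans h5

end add

/-- Group form. -/
theorem two_pow_double_mulAut {E : Type u} [Group E] {n : ℕ} {z s : E} {x y : Fin n → E} {V : Type v} [CommGroup V]
    [Finite V] (φ : E →* MulAut V) (h : Heis 7 n z x y) (sz : s * z * s⁻¹ = z⁻¹) (h2 : ∀ v : V, v * v = 1)
    (hz : φ z ≠ 1) : 2 ^ (2 * (3 * 7 ^ n)) ≤ Nat.card V := by
  letI : DistribMulAction E (Additive V) :=
    { smul := fun g v => Additive.ofMul (φ g v.toMul)
      one_smul := fun v => by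
        show Additive.ofMul (φ 1 v.toMul) = v
        rw [map_one]; rfl
      mul_smul := fun g k v => by
        show Additive.ofMul (φ (g * k) v.toMul) = Additive.ofMul (φ g (φ k v.toMul))
        rw [map_mul]; rfl
      smul_zero := fun g => by
        show Additive.ofMul (φ g 1) = 0
        rw [map_one]; rfl
      smul_add := fun g v w => by
        show Additive.ofMul (φ g (v.toMul * w.toMul)) = _
        rw [map_mul]; rfl }
  have : Finite (Additive V) := inferInstanceAs (Finite V)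
  have h3 : ∃ v : Additive V, z • v ≠ v := by
    by_contra hcon
    push Not at hcon
    apply hz
    ext v
    exact congrArg Additive.toMul (hcon (Additive.ofMul v))
  exact two_pow_double (A := Additive V) (fun v => h2 v.toMul) h sz h3

/-- **Lifts commute, odd form.** -/
theorem LC.of_two {K : Type u} [Group K] {g g' d : K} (hc : g * g' = g' * g) (h1 : d * g * d⁻¹ = g)
    (h2 : d * g' * d⁻¹ = g' * g') : LC.{u, v} g g' := by
  intro L _ π hπ a b ha hb
  obtain ⟨δ, hδ⟩ := hπ.surj d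
  set c := a * b * a⁻¹ * b⁻¹ with hcd
  have hc1 : π c = 1 := by
    rw [hcd, map_mul, map_mul, map_mul, map_inv, map_inv, ha, hb, hc]; group
  have hz : π (a⁻¹ * (δ * a * δ⁻¹)) = 1 := by
    rw [map_mul, map_mul, map_mul, map_inv, map_inv, ha, hδ, h1, inv_mul_cancel]
  have hw : π ((b * b)⁻¹ * (δ * b * δ⁻¹)) = 1 := by
    rw [map_mul, map_mul, map_mul, map_inv, map_inv, map_mul, hb, hδ, h2, inv_mul_cancel]
  set z := a⁻¹ * (δ * a * δ⁻¹) with hzd
  set w := (b * b)⁻¹ * (δ * b * δ⁻¹) with hwd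
  have h3 : δ * a * δ⁻¹ = a * z := by rw [hzd]; group
  have h4 : δ * b * δ⁻¹ = b * b * w := by rw [hwd]; group
  have h5 : δ * c * δ⁻¹ = c := by
    rw [hπ.comm hc1, mul_inv_cancel_right]
  have h6 : δ * c * δ⁻¹ = (a * z) * (b * b * w) * (a * z)⁻¹ * (b * b * w)⁻¹ := by
    rw [← h3, ← h4, hcd]; group
  have h7 : (a * z) * (b * b * w) * (a * z)⁻¹ * (b * b * w)⁻¹ = a * b * b * a⁻¹ * b⁻¹ * b⁻¹ := by
    calc (a * z) * (b * b * w) * (a * z)⁻¹ * (b * b * w)⁻¹
        = a * (z * (b * b * w)) * z⁻¹ * a⁻¹ * (b * b * w)⁻¹ := by group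
      _ = a * ((b * b * w) * z) * z⁻¹ * a⁻¹ * (b * b * w)⁻¹ := by rw [← hπ.comm hz]
      _ = a * b * b * (w * a⁻¹) * w⁻¹ * b⁻¹ * b⁻¹ := by group
      _ = a * b * b * (a⁻¹ * w) * w⁻¹ * b⁻¹ * b⁻¹ := by rw [← hπ.comm hw]
      _ = a * b * b * a⁻¹ * b⁻¹ * b⁻¹ := by group
  have h8 : a * b * b * a⁻¹ * b⁻¹ * b⁻¹ = c * c := by
    calc a * b * b * a⁻¹ * b⁻¹ * b⁻¹ = c * (b * c) * b⁻¹ := by rw [hcd]; group
      _ = c * (c * b) * b⁻¹ := by rw [hπ.comm hc1 b]
      _ = c * c := by group
  have h9 : c * c = c := by rw [← h8, ← h7, ← h6, h5]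
  have h10 : c = 1 := mul_eq_left.1 h9
  have h11 : a * b = c * (b * a) := by rw [hcd]; group
  rw [h11, h10, one_mul]

/-- all lifts of powers of one element commute -/
theorem LC.self {K : Type u} [Group K] (g : K) : LC.{u, v} g g := by
  intro L _ π hπ a b ha hb
  have h1 : π (a⁻¹ * b) = 1 := by rw [map_mul, map_inv, ha, hb, inv_mul_cancel]
  calc a * b = a * (a * (a⁻¹ * b)) := by group
    _ = a * ((a⁻¹ * b) * a) := by rw [← hπ.comm h1 a]
    _ = b * a := by group

/-- **`LB K 42`.** -/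
theorem LB.seven {K : Type u} [Group K] [IsSimpleGroup K] {z x y s : K} (hz : z ≠ 1) (z7 : z ^ 7 = 1)
    (x7 : x ^ 7 = 1) (zy : z * y = y * z) (conj : y * x * y⁻¹ = x * z) (sz : s * z * s⁻¹ = z⁻¹)
    (sx : s * x * s⁻¹ = x⁻¹) (sy : s * y * s⁻¹ = y) (hlc : LC.{u, v} z x) : LB.{u, v, w} K 42 := by
  apply LB.of_irr
  intro L _ _ π hπ hc ho hL V _ _ h2 φ hφ hirr
  have hcov : Cov π := ⟨hπ, hc, ho⟩
  obtain ⟨σ, hσ⟩ := hπ s
  obtain ⟨z', hz', hsz⟩ := hcov.exists_inv_lift (σ := σ) (g := z) (by rw [hσ, sz])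
  obtain ⟨x', hx', hsx⟩ := hcov.exists_inv_lift (σ := σ) (g := x) (by rw [hσ, sx])
  obtain ⟨y', hy'⟩ := hπ y
  have czx : z' * x' = x' * z' := hlc L π hcov _ _ hz' hx'
  have czy : z' * y' = y' * z' := LC.of_inv zy sz sy L π hcov _ _ hz' hy'
  have pow_lift : ∀ (a : L) (g : K), π a = g → g ^ 7 = 1 → σ * a * σ⁻¹ = a⁻¹ → a ^ 7 = 1 := by
    intro a g ha hg hs
    have h1 : π (a ^ 7) = 1 := by rw [map_pow, ha, hg]
    apply hcov.eq_one h1
    have h3 : σ * a ^ 7 * σ⁻¹ = (a ^ 7)⁻¹ := by rw [← conj_pow, hs, inv_pow]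
    rw [hcov.comm h1, mul_inv_cancel_right] at h3
    rw [eq_inv_iff_mul_eq_one] at h3
    exact h3
  have hconj : y' * x' * y'⁻¹ = x' * z' := by
    set w := y' * x' * y'⁻¹ * x'⁻¹ with hw
    have hπw : π w = z := by
      rw [hw, map_mul, map_mul, map_mul, map_inv, map_inv, hy', hx', conj]
      have hzx : z * x = x * z := by rw [← hz', ← hx', ← map_mul, czx, map_mul]
      rw [← hzx]; group
    have hwx : w * x' = x' * w := hlc L π hcov _ _ hπw hx'
    have hyx : y' * x' * y'⁻¹ = w * x' := by rw [hw]; group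
    have hζ : π (y'⁻¹ * (σ * y' * σ⁻¹)) = 1 := by
      rw [map_mul, map_mul, map_mul, map_inv, map_inv, hy', hσ, sy, inv_mul_cancel]
    set ζ := y'⁻¹ * (σ * y' * σ⁻¹) with hζd
    have h1 : σ * y' * σ⁻¹ = y' * ζ := by rw [hζd]; group
    have h3 : σ * w * σ⁻¹ = w⁻¹ := by
      have h4 : σ * w * σ⁻¹ = (σ * y' * σ⁻¹) * (σ * x' * σ⁻¹) * (σ * y' * σ⁻¹)⁻¹ * (σ * x' * σ⁻¹)⁻¹ := by
        rw [hw]; group
      rw [h4, h1, hsx]
      calc y' * ζ * x'⁻¹ * (y' * ζ)⁻¹ * (x'⁻¹)⁻¹
          = y' * (ζ * x'⁻¹) * (ζ⁻¹ * y'⁻¹) * x' := by group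
        _ = y' * (x'⁻¹ * ζ) * (ζ⁻¹ * y'⁻¹) * x' := by rw [hcov.comm hζ]
        _ = (y' * x' * y'⁻¹)⁻¹ * x' := by group
        _ = (w * x')⁻¹ * x' := by rw [hyx]
        _ = (x' * w)⁻¹ * x' := by rw [hwx]
        _ = w⁻¹ := by group
    have h4 : w = z' := hcov.inv_lift_unique (by rw [hπw, hz']) h3 hsz
    rw [hyx, h4, czx]
  have hH : Heis 7 1 z' (fun _ => x') (fun _ => y') :=
    { prime := by norm_num
      zr := pow_lift z' z hz' z7 hsz
      xr := fun _ => pow_lift x' x hx' x7 hsx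
      zx := fun _ => czx
      zy := fun _ => czy
      xx := fun _ _ => rfl
      yx := fun i j h => absurd (Subsingleton.elim i j) h
      conj := fun _ => hconj }
  have hz1 : φ z' ≠ 1 := by
    intro h
    have h3 : z' = 1 := hφ (h.trans (map_one φ).symm)
    apply hz
    rw [← hz', h3, map_one]
  -- `V` is elementary abelian
  have hV : ∀ v : V, v * v = 1 := by
    let U : Subgroup V :=
      { carrier := {v | v * v = 1}
        one_mem' := mul_one 1
        mul_mem' := fun {a b} ha hb => by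
          show a * b * (a * b) = 1
          rw [mul_mul_mul_comm, show a * a = 1 from ha, show b * b = 1 from hb, mul_one]
        inv_mem' := fun {a} ha => by
          show a⁻¹ * a⁻¹ = 1
          rw [← mul_inv_rev, show a * a = 1 from ha, inv_one] }
    have hU : ∀ g, ∀ x ∈ U, φ g x ∈ U := by
      intro g x hx
      show φ g x * φ g x = 1
      rw [← map_mul, show x * x = 1 from hx, map_one]
    rcases hirr U hU with h | h
    · exfalso
      have hnt : Nontrivial V := by
        by_contra hcon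
        rw [not_nontrivial_iff_subsingleton] at hcon
        exact hz1 (MulEquiv.ext fun v => Subsingleton.elim _ _)
      obtain ⟨v, hv1, hv⟩ : ∃ v : V, v ≠ 1 ∧ v * v = 1 := by
        obtain ⟨v, hv⟩ := _root_.exists_ne (1 : V)
        obtain ⟨k, hk⟩ := h2 v
        classical
        have hex : ∃ k : ℕ, v ^ 2 ^ k = 1 := ⟨k, hk⟩
        set m := Nat.find hex with hm
        have hm1 : v ^ 2 ^ m = 1 := Nat.find_spec hex
        have hm0 : m ≠ 0 := by
          intro h0
          rw [h0, pow_zero, pow_one] at hm1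
          exact hv hm1
        obtain ⟨l, hl⟩ := Nat.exists_eq_succ_of_ne_zero hm0
        refine ⟨v ^ 2 ^ l, Nat.find_min hex (by omega), ?_⟩
        rw [← pow_add, ← two_mul, ← pow_succ']
        rw [hl] at hm1
        exact hm1
      have : v ∈ U := hv
      rw [h] at this
      exact hv1 (Subgroup.mem_bot.1 this)
    · intro v
      have : v ∈ U := h ▸ Subgroup.mem_top v
      exact this
  have := two_pow_double_mulAut φ hH hsz hV hz1
  simpa using this

end Cfsg.Agent.Omega.ML.HeisSeven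

end
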