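import Cfsg.Agent.Mrg.Omega.ML.RowHS
import Cfsg.Agent.Mrg.Omega.ML.InOf
import Cfsg.Agent.Omega.TwoF.RowHe


/-!
# (ML), the K-list end: the row `He` (helper728)

`LB 42` : the centre of `7^{1+2}` is inverted by an involution `s = H ^ 4`; `OutB 1`; `RK 9` (TABLE 2F).
-/

set_option autoImplicit false
set_option Elab.async false

namespace Cfsg.Agent.Omega.ML.RowHe

open Cfsg.Agent.Omega.Lie.Heis Cfsg.Agent.Omega.Lie.HeisF Cfsg.Agent.FixBN.HeCent Cfsg.Agent.FixBN.HeData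
open Cfsg.Agent.SporadicB.HePerm Cfsg.Agent.FixBN.HeStab Cfsg.Agent.Omega.ML.HeisSeven

universe u v w

/-- the involution -/
def s : Cfsg.Spor.He := H ^ 4
/-- an element of order 3 centralising `Z` -/
def g : Cfsg.Spor.He := N * H ^ 7
/-- an eigenvector of `g` -/
def X₁ : Cfsg.Spor.He := P₁ * P₂ * Z
/-- the other eigenvector -/
def Y₂ : Cfsg.Spor.He := s * X₁ * s

theorem ss : s * s = 1 := by
  have h := eq_of_chkB (v := powWord hW 4 ++ powWord hW 4) (w := []) (by decide +kernel)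
  rwa [wd_append, wd_powWord, wd_nil] at h

theorem s_inv : s⁻¹ = s := inv_eq_of_mul_eq_one_right ss

theorem s_Z : s * Z = Z ^ 6 * s := by
  have h := eq_of_chkB (v := powWord hW 4 ++ zW) (w := powWord zW 6 ++ powWord hW 4) (by decide +kernel)
  rwa [wd_append, wd_append, wd_powWord, wd_powWord] at h

theorem s_P₂ : s * P₂ = P₂ ^ 6 * s := by
  have h := eq_of_chkB (v := powWord hW 4 ++ p2W) (w := powWord p2W 6 ++ powWord hW 4) (by decide +kernel)
  rwa [wd_append, wd_append, wd_powWord, wd_powWord] at h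

theorem s_u : s * (P₁ * (P₂ ^ 5 * Z ^ 2)) = P₁ * (P₂ ^ 5 * Z ^ 2) * s := by
  have h := eq_of_chkB (v := powWord hW 4 ++ (p1W ++ (powWord p2W 5 ++ powWord zW 2)))
    (w := p1W ++ (powWord p2W 5 ++ powWord zW 2) ++ powWord hW 4) (by decide +kernel)
  simp only [wd_append, wd_powWord] at h
  exact h

theorem g_Z : g * Z = Z * g := by
  have h := eq_of_chkB (v := nW ++ powWord hW 7 ++ zW) (w := zW ++ (nW ++ powWord hW 7)) (by decide +kernel)
  simp only [wd_append, wd_powWord] at h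
  exact h

theorem g_X₁ : g * X₁ = X₁ * X₁ * g := by
  have h := eq_of_chkB (v := nW ++ powWord hW 7 ++ (p1W ++ p2W ++ zW))
    (w := (p1W ++ p2W ++ zW) ++ (p1W ++ p2W ++ zW) ++ (nW ++ powWord hW 7)) (by decide +kernel)
  simp only [wd_append, wd_powWord] at h
  exact h

theorem Y₂_g : Y₂ * g = g * (Y₂ * Y₂) := by
  have h := eq_of_chkB (v := (powWord hW 4 ++ (p1W ++ p2W ++ zW) ++ powWord hW 4) ++ (nW ++ powWord hW 7))
    (w := (nW ++ powWord hW 7) ++ ((powWord hW 4 ++ (p1W ++ p2W ++ zW) ++ powWord hW 4) ++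
      (powWord hW 4 ++ (p1W ++ p2W ++ zW) ++ powWord hW 4))) (by decide +kernel)
  simp only [wd_append, wd_powWord] at h
  exact h

theorem Y₂_eq : Y₂ = P₂ * Z * X₁ := by
  have h := eq_of_chkB (v := powWord hW 4 ++ (p1W ++ p2W ++ zW) ++ powWord hW 4)
    (w := p2W ++ zW ++ (p1W ++ p2W ++ zW)) (by decide +kernel)
  simp only [wd_append, wd_powWord] at h
  exact h

theorem Z_inv : Z⁻¹ = Z ^ 6 := inv_eq_of_mul_eq_one_right (by rw [← pow_succ', Z_pow])

theorem P₂_inv : P₂⁻¹ = P₂ ^ 6 := inv_eq_of_mul_eq_one_right (by rw [← pow_succ', P₂_pow])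

theorem Z_X₁ : Z * X₁ = X₁ * Z := by
  unfold X₁
  calc Z * (P₁ * P₂ * Z) = (Z * P₁) * P₂ * Z := by group
    _ = P₁ * (Z * P₂) * Z := by rw [← comm_P₁_Z]; group
    _ = P₁ * P₂ * Z * Z := by rw [← comm_P₂_Z]; group

theorem sz : s * Z * s⁻¹ = Z⁻¹ := by rw [s_Z, mul_inv_cancel_right, Z_inv]

theorem Z_Y₂ : Z * Y₂ = Y₂ * Z := by
  rw [Y₂_eq]
  calc Z * (P₂ * Z * X₁) = (Z * P₂) * (Z * X₁) := by group
    _ = (P₂ * Z) * (X₁ * Z) := by rw [← comm_P₂_Z, Z_X₁]
    _ = _ := by group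

theorem lc_X₁ : LC.{0, v} Z X₁ :=
  HeisSeven.LC.of_two (d := g) Z_X₁ (by rw [g_Z, mul_inv_cancel_right]) (by rw [g_X₁, mul_inv_cancel_right])

theorem lc_Y₂ : LC.{0, v} Z Y₂ :=
  HeisSeven.LC.of_two (d := g⁻¹) Z_Y₂ (by
    rw [inv_inv, mul_assoc, ← g_Z]; group) (by
    rw [inv_inv, mul_assoc, Y₂_g]; group)

theorem lc : LC.{0, v} Z P₂ := by
  have h1 : X₁ ∈ cenLC.{0, v} Z := mem_cenLC.2 lc_X₁.symm
  have h2 : Y₂ ∈ cenLC.{0, v} Z := mem_cenLC.2 lc_Y₂.symm
  have h3 : Z ∈ cenLC.{0, v} Z := mem_cenLC.2 (HeisSeven.LC.self Z)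
  have h4 : P₂ = Y₂ * X₁⁻¹ * Z⁻¹ := by rw [Y₂_eq]; group
  have h5 : P₂ ∈ cenLC.{0, v} Z := by
    rw [h4]
    exact mul_mem (mul_mem h2 (inv_mem h1)) (inv_mem h3)
  exact (mem_cenLC.1 h5).symm

theorem lb_he : LB.{0, v, w} Cfsg.Spor.He 42 := by
  have := KFacts.He.Cent.simpleHe
  refine HeisSeven.LB.seven (z := Z) (x := P₂) (y := (P₁ * (P₂ ^ 5 * Z ^ 2))⁻¹) (s := s) TwoF.RowHe.Z_ne Z_pow P₂_pow
    ?_ ?_ sz ?_ ?_ lc
  · have h1 : Commute Z (P₁ * (P₂ ^ 5 * Z ^ 2)) :=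
      Commute.mul_right comm_P₁_Z.symm (Commute.mul_right (Commute.pow_right comm_P₂_Z.symm 5)
        (Commute.pow_right (Commute.refl Z) 2))
    exact h1.inv_right.eq
  · have h1 : P₁⁻¹ * P₂ * P₁ = P₂ * Z := by rw [mul_assoc, P₂_P₁]; group
    have h2 : Commute (P₂ ^ 5 * Z ^ 2) (P₂ * Z) := by
      have a : Commute P₂ Z := comm_P₂_Z
      exact Commute.mul_left ((((Commute.refl P₂).mul_right a)).pow_left 5) ((a.symm.mul_right (Commute.refl Z)).pow_left 2)
    calc (P₁ * (P₂ ^ 5 * Z ^ 2))⁻¹ * P₂ * ((P₁ * (P₂ ^ 5 * Z ^ 2))⁻¹)⁻¹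
        = (P₂ ^ 5 * Z ^ 2)⁻¹ * (P₁⁻¹ * P₂ * P₁) * (P₂ ^ 5 * Z ^ 2) := by group
      _ = (P₂ ^ 5 * Z ^ 2)⁻¹ * ((P₂ ^ 5 * Z ^ 2) * (P₂ * Z)) := by rw [h1, mul_assoc, h2.eq]
      _ = P₂ * Z := by group
  · rw [s_P₂, mul_inv_cancel_right, P₂_inv]
  · have h1 : s * (P₁ * (P₂ ^ 5 * Z ^ 2)) * s⁻¹ = P₁ * (P₂ ^ 5 * Z ^ 2) := by rw [s_u, mul_inv_cancel_right]
    calc s * (P₁ * (P₂ ^ 5 * Z ^ 2))⁻¹ * s⁻¹ = (s * (P₁ * (P₂ ^ 5 * Z ^ 2)) * s⁻¹)⁻¹ := by group
      _ = _ := by rw [h1]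

/-- **`LB 42`** -/
theorem lb {K : Type u} [Group K] (h : Cfsg.Spor.IsoHe K) : LB.{u, v, w} K 42 := by
  obtain ⟨i⟩ := h
  exact lb_he.congr i.symm

/-- `|Out| ≤ 2` -/
theorem index_le {K : Type u} [Group K] (h : Cfsg.Spor.IsoHe K) :
    (MulAut.conj : K →* MulAut K).range.index ≤ 2 := by
  obtain ⟨hs, hc⟩ := TwoF.RowHe.card_of h
  obtain ⟨i⟩ := h
  let e : Cfsg.Spor.He ≃* K := i.symm
  have hfin : Finite K := Nat.finite_of_card_ne_zero (by rw [hc]; norm_num)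
  have hyp' : SporadicRecognition.HeldModel.Hyp (e KFacts.He.Bound.z) (e.toMonoidHom.comp KFacts.He.Hyp.iota) := by
    have h := KFacts.He.Hyp.hyp
    exact {
      inj := e.injective.comp h.inj
      map_zz := by
        show e (KFacts.He.Hyp.iota SporadicRecognition.HeldModel.zC) = _
        rw [h.map_zz]
      range := by
        rw [MonoidHom.range_comp, h.range]
        ext x
        rw [Subgroup.mem_map]
        constructor
        · rintro ⟨y, hy, rfl⟩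
          rw [Subgroup.mem_centralizer_singleton_iff] at hy ⊢
          show e y * e _ = e _ * e y
          rw [← map_mul, hy, map_mul]
        · intro hx
          rw [Subgroup.mem_centralizer_singleton_iff] at hx
          refine ⟨e.symm x, ?_, e.apply_symm_apply x⟩
          rw [Subgroup.mem_centralizer_singleton_iff]
          apply e.injective
          rw [map_mul, map_mul, e.apply_symm_apply, hx] }
  rcases OddHalf.UT5.KBasic.index_le_two hyp' with h | h <;> rw [h] <;> norm_num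

/-- `|X : N| ≤ |Out N|` -/
theorem index_le_out {X : Type u} [Group X] [Finite X] (N : Subgroup X) [N.Normal]
    (hc : Subgroup.centralizer (N : Set X) = ⊥) : N.index ≤ (MulAut.conj : N →* MulAut N).range.index := by
  have : Finite (MulAut N) := Finite.of_injective (fun f : MulAut N => (f : N → N)) fun a b hab =>
    MulEquiv.ext fun x => congrFun hab x
  set R := (MulAut.conj : N →* MulAut N).range with hR
  have h1 : R.comap (MulAut.conjNormal : X →* MulAut N) ≤ N := by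
    rintro x ⟨n, hn⟩
    have h2 : (n : X)⁻¹ * x ∈ Subgroup.centralizer (N : Set X) := by
      rw [Subgroup.mem_centralizer_iff]
      intro y hy
      have h3 := congrArg (fun f : MulAut N => ((f ⟨y, hy⟩ : N) : X)) hn
      have h4 : (n : X) * y * (n : X)⁻¹ = x * y * x⁻¹ := h3
      calc y * ((n : X)⁻¹ * x) = (n : X)⁻¹ * (n * y * (n : X)⁻¹) * x := by group
        _ = (n : X)⁻¹ * (x * y * x⁻¹) * x := by rw [h4]
        _ = (n : X)⁻¹ * x * y := by group
    rw [hc, Subgroup.mem_bot, inv_mul_eq_one] at h2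
    rw [← h2]
    exact n.2
  calc N.index ≤ (R.comap (MulAut.conjNormal : X →* MulAut N)).index :=
        Nat.le_of_dvd (Nat.pos_of_ne_zero Subgroup.index_ne_zero_of_finite) (Subgroup.index_dvd_of_le h1)
    _ = R.relIndex (MulAut.conjNormal : X →* MulAut N).range := by rw [Subgroup.index_comap]
    _ ≤ R.relIndex ⊤ := Subgroup.relIndex_le_of_le_right le_top (by
        rw [Subgroup.relIndex_top_right]; exact Subgroup.index_ne_zero_of_finite)
    _ = R.index := Subgroup.relIndex_top_right R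

theorem outB {S : Type w} [Group S] (h : Cfsg.Spor.IsoHe S) : Num.OutB.{u} S 1 := by
  intro X _ _ N _ hN hc A hA hX
  refine (index_le_out N hc).trans ?_
  obtain ⟨e⟩ := hN
  obtain ⟨i⟩ := h
  exact (index_le (K := N) ⟨e.trans i⟩).trans (by norm_num)

/-- **The row `He`.** -/
theorem numML {S : Type u} [Group S] (h : Cfsg.Spor.IsoHe S) : Num.NumML.{u, v} S := by
  refine Num.NumML.of_card_out (n := 42) (a := 9) (b := 1) (N := 32) (lb h) (TwoF.RowHe.rk h) (outB h) ?_ (by norm_num)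
  rw [(TwoF.RowHe.card_of h).2]
  norm_num

/-- **The row `He`.** -/
theorem dead : Rows.Dead.{u, v} fun S _ => Cfsg.Spor.IsoHe S := by
  intro H _ _ M _ _ _ K T A h hS
  exact Num.dead H M K T A h (numML hS)

end Cfsg.Agent.Omega.ML.RowHe
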