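import Cfsg.Agent.Mrg.Omega.ML.ExInst
import Cfsg.Agent.Mrg.Omega.ML.RowFi22


/-!
# (ML), the K-list end: the rows `M`, `B`, `Th` by THEOREM EX (helper552)

* `dead_of_has` : a class of groups with the instance data `ExInst.Has` of THEOREM EX is dead;
* **`monster`**, **`baby`**, **`thompson`**.
-/

set_option autoImplicit false

namespace Cfsg.Agent.Omega.ML.RowBM

open Subgroup Cfsg Cfsg.Agent.Omega.ML.Rows Cfsg.Agent.Omega.ML.ExCore Cfsg.Agent.Omega.ML.ExRec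
open Cfsg.Agent.OddHalf.D8.JTwo.Sheet
open Cfsg.Agent.Omega.Lie.Heis (LB)

universe u v

/-- the last field of the record: `C = P` -/
theorem trivC {S : Type u} [Group S] [Finite S] {z : S} {P R : Subgroup S} (h : SheetX z P R)
    (hP : P = centralizer ({z} : Set S)) {L : Type} [Group L] (π : P →* L) (hs : Function.Surjective π)
    (hk : ∀ c, π c = 1 ↔ (c : S) ∈ R) {n : ℕ} (hlb : LB.{0, u, v} L (n + 1)) :
    TrivC.{u, v, u} (centralizer ({z} : Set S)) P n := by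
  refine ExTriv.trivC_of_lb hP.le h.R2 h.Rn h.perf π hs (fun x hx => (hk x).2 hx) ?_ ?_ hlb
  · intro x hx y
    have h1 : (x : S) ∈ R := (hk x).1 hx
    have h2 : (y : S) * (x : S)⁻¹ * (y : S)⁻¹ ∈ R := h.Rn _ y.2 _ (R.inv_mem h1)
    have h3 := R.mul_mem h1 h2
    have h4 : (x : S) * ((y : S) * (x : S)⁻¹ * (y : S)⁻¹) = x * y * (x : S)⁻¹ * (y : S)⁻¹ := by group
    rwa [h4] at h3
  · have h1 : π.ker = R.subgroupOf P := by
      ext c
      rw [MonoidHom.mem_ker, hk, mem_subgroupOf]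
    rw [h1, relIndex_self]
    exact odd_one

/-- **a class of groups with the instance data of THEOREM EX is dead** -/
theorem dead_of_has {𝒮 : ∀ (S : Type u) [Group S], Prop} (h𝒮 : IsoClosed.{u} 𝒮) {w : ℕ}
    (hS : ∀ (S : Type u) [Group S], 𝒮 S → ExInst.Has.{u, v} S w) : Dead.{u, v} 𝒮 := by
  refine ExRow.dead_of_sheet h𝒮 fun S _ _ hK => ?_
  obtain ⟨z, P, R, L, _, _, π, hsh, hP, hR, hs, hk, hlb⟩ := ExInst.exists_sheet (hS S hK)
  exact ⟨z, P, R, w, hsh, hR, trivC hsh hP π hs hk hlb⟩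

/-- **the row `M`** -/
theorem monster : Dead.{u, v} @Spor.IsoM :=
  dead_of_has (fun _ _ _ _ e ⟨f⟩ => ⟨e.symm.trans f⟩) fun S _ h => ExInst.monster S h

/-- **the row `B`** -/
theorem baby : Dead.{u, v} @Spor.IsoB :=
  dead_of_has (fun _ _ _ _ e ⟨f⟩ => ⟨e.symm.trans f⟩) fun S _ h => ExInst.baby S h

/-- **the row `Th`** -/
theorem thompson : Dead.{u, v} @Spor.IsoTh :=
  dead_of_has (fun _ _ _ _ e ⟨f⟩ => ⟨e.symm.trans f⟩) fun S _ h => ExInst.thompson S h

end Cfsg.Agent.Omega.ML.RowBM
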