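import Cfsg.Agent.Mrg.Omega.ML.AltRow
import Cfsg.Agent.Mrg.Omega.TwoF.RowPSp
import Cfsg.Agent.Mrg.Omega.ML.RowLTwoOdd
import Cfsg.Agent.Mrg.Omega.ML.OddPsl
import Cfsg.Agent.Mrg.Omega.ML.RowL33
import Cfsg.Agent.Mrg.Omega.ML.RowPspFin
import Cfsg.Agent.Mrg.Omega.ML.RowPspFour
import Cfsg.Agent.Mrg.Omega.ML.RowPspSix
import Cfsg.Agent.Mrg.Omega.ML.RowGTwoThree
import Cfsg.Agent.Mrg.Omega.ML.OddExc
import Cfsg.Agent.Mrg.Omega.ML.RowU33
import Cfsg.Agent.Mrg.Omega.ML.UFour.Perm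
import Cfsg.Agent.Mrg.Omega.TwoF.RowRee
import Cfsg.Agent.S0254


/-!
# (ML), the K-list end: the field `odd` of `Known.RowsML` (helper393)

`odd_of` : the rows `PSp₄(7)`, `PSp₄(9)`, `PSp₆(3)`, `G₂(3)`, `G₂(5)` are arguments, every other group of Lie type in odd
characteristic is treated; `odd` : the field.
-/

set_option autoImplicit false

namespace Cfsg.Agent.Omega.ML.OddLie

open Cfsg Cfsg.Agent.Omega.KFacts Cfsg.Agent.Omega.ML.Rows Cfsg.Agent.Omega.ML.LocRow Cfsg.Agent.Omega.ML.Num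
  Cfsg.Agent.Omega.ML.Known

universe u v

/-- rows of `NumML` -/
theorem num : DeadZ.{u, v} fun S _ => NumML.{u, v} S := DeadZ.of_dead Num.dead

/-- `A₆` -/
theorem a6 : DeadZ.{u, v} fun S _ => Nonempty (S ≃* alternatingGroup (Fin 6)) :=
  DeadZ.of_deadG (fun _ _ _ _ e ⟨f⟩ => ⟨e.symm.trans f⟩) AltSix.deadG_six

/-- `PSL₂(q)`, `q` odd -/
theorem lTwo : DeadZ.{u, v} fun S _ => ∃ (F : Type) (_ : Field F) (_ : Fintype F), Odd (Fintype.card F) ∧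
    3 < Fintype.card F ∧ Nonempty (S ≃* Matrix.ProjectiveSpecialLinearGroup (Fin 2) F) := by
  have h1 : DeadZ.{u, v} fun S _ => ∃ (F : Type) (_ : Field F) (_ : Fintype F), Odd (Fintype.card F) ∧
      3 < Fintype.card F ∧ Fintype.card F ≠ 9 ∧ Nonempty (S ≃* Matrix.ProjectiveSpecialLinearGroup (Fin 2) F) :=
    DeadZ.of_deadG (fun _ _ _ _ e ⟨F, i, j, h1, h2, h3, ⟨f⟩⟩ => ⟨F, i, j, h1, h2, h3, ⟨e.symm.trans f⟩⟩)
      RowLTwoOdd.deadG
  intro H _ _ M _ _ _ K T Q A z hI hS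
  obtain ⟨F, i, j, h2, h3, ⟨e⟩⟩ := hS
  by_cases h9 : Fintype.card F = 9
  · obtain ⟨f⟩ := S0254.result h9
    exact a6 H M K T Q A z hI ⟨e.trans f⟩
  · exact h1 H M K T Q A z hI ⟨F, i, j, h2, h3, h9, ⟨e⟩⟩

/-- `PSL_n(q)`, `q` odd -/
theorem psl : DeadZ.{u, v} fun S _ => OddChar @IsPSLChar S := by
  intro H _ _ M _ _ _ K T Q A z hI hS
  rcases OddPsl.psl.{u, v} hS with h | h | h
  · exact lTwo H M K T Q A z hI h
  · exact DeadZ.of_deadG RowL33.isoClosed RowL33.deadG H M K T Q A z hI h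
  · exact num H M K T Q A z hI h

/-- `PSU_n(q)`, `q` odd -/
theorem psu : DeadZ.{u, v} fun S _ => OddChar @IsPSUChar S := by
  intro H _ _ M _ _ _ K T Q A z hI hS
  by_cases h33 : PsuNum.IsU 3 3 (K ⧸ Subgroup.center K)
  · obtain ⟨F, _, _, hF, ⟨e⟩⟩ := h33
    exact DeadZ.of_dead RowU33.dead H M K T Q A z hI ⟨F, inferInstance, inferInstance, by rw [hF]; norm_num, ⟨e⟩⟩
  by_cases h43 : IsUFourThree (K ⧸ Subgroup.center K)
  · exact DeadZ.of_dead RowUFour.row H M K T Q A z hI h43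
  · exact num H M K T Q A z hI (UThreeNine.psu _ hS h33 h43)

/-- the exceptional Chevalley groups, `q` odd -/
theorem chev_of (h3 : DeadZ.{u, v} @RowGTwoThree.IsGTwoThree) (h5 : DeadZ.{u, v} @RowGTwoFive.IsGTwoFive) :
    DeadZ.{u, v} fun S _ => OddChar @IsExceptionalChevChar S := by
  intro H _ _ M _ _ _ K T Q A z hI hS
  rcases OddExc.exceptional.{u, v} hS with ⟨p, hp, hp2, F, _, _, _, hq, ⟨e⟩⟩ | h
  · have : Fact p.Prime := ⟨hp⟩
    obtain ⟨k, hk⟩ := RowPsp.odd_card (F := F) (p := p) hp2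
    by_cases h3' : Fintype.card F = 3
    · exact h3 H M K T Q A z hI ⟨F, inferInstance, inferInstance, h3', ⟨e⟩⟩
    by_cases h5' : Fintype.card F = 5
    · exact h5 H M K T Q A z hI ⟨F, inferInstance, inferInstance, h5', ⟨e⟩⟩
    · exact num H M K T Q A z hI (GTwoTorus.numML hp2 (by omega) e)
  · exact num H M K T Q A z hI h

/-- **The field `odd` of `Known.RowsML`.** -/
theorem odd_of (h4 : DeadZ.{u, v} @RowPsp.IsPSpFour) (h6 : DeadZ.{u, v} @RowPsp.IsPSpSixThree)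
    (hg3 : DeadZ.{u, v} @RowGTwoThree.IsGTwoThree) (hg5 : DeadZ.{u, v} @RowGTwoFive.IsGTwoFive) :
    DeadZ.{u, v} fun S _ => OddLie S ∧ ¬ IsLieTypeChar 2 S := by
  rintro H _ _ M _ _ _ K T Q A z hI ⟨⟨p, hp, hp2, h⟩, hn⟩
  rcases h with h | h | h | h | h | h | h | h | h | h | h
  · exact psl H M K T Q A z hI ⟨p, hp, hp2, h⟩
  · exact RowPsp.psp_of h4 h6 H M K T Q A z hI ⟨⟨p, hp, hp2, h⟩, hn⟩
  · exact psu H M K T Q A z hI ⟨p, hp, hp2, h⟩
  · exact num H M K T Q A z hI (RowOm.omOdd _ ⟨p, hp, hp2, h⟩)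
  · exact num H M K T Q A z hI (RowOm.omPlus _ ⟨p, hp, hp2, h⟩)
  · exact num H M K T Q A z hI (RowOm.omMinus _ ⟨p, hp, hp2, h⟩)
  · exact chev_of hg3 hg5 H M K T Q A z hI ⟨p, hp, hp2, h⟩
  · exact num H M K T Q A z hI (OddExc.twisted ⟨p, hp, hp2, h⟩)
  · exact absurd h.1 hp2
  · exact absurd h.1 hp2
  · exact DeadZ.of_dead RowRee.dead H M K T Q A z hI h.2

/-- **The field `odd` of `Known.RowsML`.** -/
theorem odd : DeadZ.{u, v} fun S _ => OddLie S ∧ ¬ IsLieTypeChar 2 S :=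
  odd_of RowPspFour.four (DeadZ.of_dead RowPspSix.dead) (DeadZ.of_dead RowGTwoThree.dead) RowGTwoFive.deadZ

end Cfsg.Agent.Omega.ML.OddLie
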