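import Cfsg.Agent.Mrg.Omega.ML.InOf
import Cfsg.Agent.Mrg.Omega.ML.MinFrame
import Cfsg.Agent.Mrg.Omega.ML.LocM24
import Cfsg.Agent.TitsK.RankRK
import Cfsg.Agent.Mrg.Omega.TwoF.Tits


/-!
# (ML), the K-list end: the row of the Tits group, by numbers (helper369)

`LB 24`, `RK 5`, `|X : N| ≤ 2`, `17971200 ^ 4 * 2 ^ 20 < 2 ^ 120`.
-/

set_option autoImplicit false

namespace Cfsg.Agent.Omega.ML.RowTitsNum

open Cfsg.Agent.Omega.TwoF

universe u v

theorem numML {K : Type u} [Group K] (h : Cfsg.Lie.IsoTits K) : Num.NumML.{u, v} K := by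
  refine ⟨24, 5, 1, LBConv.heis_of_twoF (RowTits.lb h), TitsK.rk_five h, ?_, ?_⟩
  · intro X _ _ N _ hN hc A _ _
    exact TitsK.index_le h N hN hc
  · rw [TitsAut.card_iso h]
    norm_num

/-- **the row of the Tits group** -/
theorem dead : Rows.Dead.{u, v} @Cfsg.Lie.IsoTits := by
  intro H _ _ M _ _ _ K T A hI h
  exact Num.dead H M K T A hI (numML h)

theorem deadZ : LocRow.DeadZ.{u, v} @Cfsg.Lie.IsoTits := LocRow.Dead.deadZ dead

end Cfsg.Agent.Omega.ML.RowTitsNum
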