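import Cfsg.Agent.Mrg.Omega.ML.AltDead
import Cfsg.Agent.Mrg.Omega.TwoF.RowMcL
import Cfsg.Agent.Mrg.Omega.TwoF.RowLy


/-!
# (ML), the K-list end: the rows McL and Ly (helper809)

`S` with one class of involutions and `C_S(z) = 2.A_n` (`n = 8, 11`): `O₂(C_S(z)) = ⟨z⟩`, so `|A| ≤ 2 |Aut(S) : Inn(S)| ≤ 4`.
-/

set_option autoImplicit false

namespace Cfsg.Agent.Omega.ML.RowMT

open Subgroup Cfsg Cfsg.Agent.ZN Cfsg.Agent.Omega.TwoF Cfsg.Agent.Omega.ML.Rows
open Cfsg.Agent.TypeM.Two (MT)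
open Cfsg.Agent.MinSimple.VModule (o2_isPGroup o2_le le_o2 le_normalizer_o2)

universe u v

/-- `O₂(2.A_n) = ⟨z⟩`. -/
theorem card_le_two {S : Type u} [Group S] [Finite S] {n : ℕ} (hn : 5 ≤ n) (L : MT n S) (Q : Subgroup S)
    (hQ : Q ≤ centralizer ({L.t} : Set S)) (hQ2 : IsPGroup 2 Q)
    (hN : centralizer ({L.t} : Set S) ≤ normalizer (Q : Set S)) : Nat.card Q ≤ 2 := by
  have hp : Fact (Nat.Prime 2) := ⟨Nat.prime_two⟩
  set C := centralizer ({L.t} : Set S) with hC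
  let π : C →* alternatingGroup (Fin n) := L.K.π.codRestrict _ L.K.mem_alternating
  have hπ : Function.Surjective π := by
    rintro ⟨y, hy⟩
    rw [← L.K.range_eq] at hy
    obtain ⟨x, hx⟩ := hy
    exact ⟨x, Subtype.ext hx⟩
  have hQn : (Q.subgroupOf C).Normal := by
    refine ⟨fun q hq g => ?_⟩
    exact (mem_normalizer_iff.1 (hN g.2) q).1 hq
  have hQ' : IsPGroup 2 (Q.subgroupOf C) := hQ2.comap_subtype
  have hM : ((Q.subgroupOf C).map π).Normal := hQn.map π hπ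
  have hs : IsSimpleGroup (alternatingGroup (Fin n)) := alternatingGroup.isSimpleGroup (by simpa using hn)
  have hbot : (Q.subgroupOf C).map π = ⊥ := by
    rcases hs.eq_bot_or_eq_top_of_normal _ hM with h | h
    · exact h
    · exfalso
      have h1 : IsPGroup 2 ((Q.subgroupOf C).map π) := hQ'.map π
      rw [h] at h1
      have hne : ∀ (a b : ℕ) (ha : a < n) (hb : b < n), a ≠ b → (⟨a, ha⟩ : Fin n) ≠ ⟨b, hb⟩ := by
        intro a b ha hb hab h2
        exact hab (congrArg Fin.val h2)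
      let c : alternatingGroup (Fin n) := ⟨Equiv.swap ⟨0, by omega⟩ ⟨1, by omega⟩ * Equiv.swap ⟨0, by omega⟩ ⟨2, by omega⟩,
        (Equiv.Perm.isThreeCycle_swap_mul_swap_same (hne _ _ _ _ (by norm_num)) (hne _ _ _ _ (by norm_num))
          (hne _ _ _ _ (by norm_num))).mem_alternatingGroup⟩
      have hc : orderOf c = 3 := by
        rw [← orderOf_coe]
        exact (Equiv.Perm.isThreeCycle_swap_mul_swap_same (hne _ _ _ _ (by norm_num)) (hne _ _ _ _ (by norm_num))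
          (hne _ _ _ _ (by norm_num))).orderOf
      obtain ⟨k, hk⟩ := (IsPGroup.iff_orderOf.1 h1) ⟨c, mem_top c⟩
      rw [orderOf_mk, hc] at hk
      have h3 : (3 : ℕ) ∣ 2 ^ k := ⟨1, by rw [mul_one]; exact hk.symm⟩
      have h4 := Nat.Prime.dvd_of_dvd_pow Nat.prime_three h3
      omega
  have hle : Q ≤ zpowers L.t := by
    intro q hq
    have h1 : π ⟨q, hQ hq⟩ = 1 := by
      rw [← mem_bot, ← hbot]
      exact mem_map_of_mem π hq
    have h2 : L.K.π ⟨q, hQ hq⟩ = 1 := congrArg Subtype.val h1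
    rcases (L.K.ker _).1 h2 with h3 | h3
    · have h4 : q = 1 := congrArg Subtype.val h3
      rw [h4]
      exact one_mem _
    · have h4 : q = L.t := (congrArg Subtype.val h3).trans L.hz
      rw [h4]
      exact mem_zpowers _
  refine (card_le_of_le hle).trans ?_
  rw [Nat.card_zpowers, L.orderOf_t]

theorem card_le {X : Type u} [Group X] [Finite X] {S T A : Subgroup X} (h : AS S T A) {n : ℕ} (hn : 5 ≤ n) (L : MT n S)
    (h2 : 2 ∣ Nat.card S) (hk : (MulAut.conj : S →* MulAut S).range.index ≤ 2) : Nat.card A ≤ 4 := by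
  refine h.card_le_of_inv h2 (n := 2) (k := 2) (fun z hz hz1 Q hQ hQ2 hN => ?_) hk
  obtain ⟨L', hL'⟩ := L.exists_rebase hz hz1
  rw [← hL'] at hQ hN
  exact card_le_two hn L' Q hQ hQ2 hN

/-! ### McL -/

/-- **The row `McL`** (with `McL:2` and `3.McL`). -/
theorem McL.deadG : DeadG.{u} (fun S _ => Spor.IsoMcL S) := by
  intro X _ _ S T A h hS
  obtain ⟨hfin, hs, hc, ⟨L⟩⟩ := Cfsg.Agent.TypeM.FactsMcL.facts hS
  refine card_le h (by norm_num) L (by rw [hc]; norm_num) ?_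
  rcases RowMcL.index_cases L hc with h1 | h1 <;> rw [h1]
  norm_num

theorem McL.dead : Dead.{u, v} (fun S _ => Spor.IsoMcL S) :=
  McL.deadG.dead fun _ _ _ _ e ⟨f⟩ => ⟨e.symm.trans f⟩

/-! ### Ly -/

/-- **The row `Ly`.** -/
theorem Ly.deadG : DeadG.{u} (fun S _ => Spor.IsoLy S) := by
  intro X _ _ S T A h hS
  obtain ⟨hfin, hs, hc, ⟨L⟩⟩ := Cfsg.Agent.TypeM.FactsLy.facts hS
  refine card_le h (by norm_num) L (by rw [hc]; norm_num) ?_
  have h1 : (MulAut.conj : S →* MulAut S).range = ⊤ := by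
    rw [eq_top_iff]
    exact fun φ _ => Cfsg.Agent.TypeM.OutLyFin.inner hS φ
  rw [h1, index_top]
  norm_num

theorem Ly.dead : Dead.{u, v} (fun S _ => Spor.IsoLy S) :=
  Ly.deadG.dead fun _ _ _ _ e ⟨f⟩ => ⟨e.symm.trans f⟩

end Cfsg.Agent.Omega.ML.RowMT
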