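import Cfsg.Agent.Mrg.Omega.ML.RowTits
import Cfsg.Agent.Mrg.Omega.NOThree.NoOver
import Cfsg.Agent.KFacts.TwF4.OutTwo
import Cfsg.Agent.KFacts.TwF4.Full
import Cfsg.Agent.Mrg.Omega.ML.MinIrr
import Cfsg.Agent.ZN.ChoiceBase
import Cfsg.Agent.MinSimple.Basic
import Cfsg.Agent.Mrg.Omega.NO3b.Bang
import Cfsg.Agent.Mrg.Omega.VP

section


/-!
# (ML), the K-list end: the row `²F₄(q)`, `q ≥ 8` (helper335)

`X` almost simple with socle `S = ²F₄(q)`, `X = SA`, `A ≤ O₂(R)` for all `T ≤ R < X`, `T` a Sylow 2-subgroup.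

* `AS.eq_top` : `X = S`, because all automorphisms of 2-power order of `²F₄(q)` are inner;
* `AS.exists_opp` : **there is a Sylow 2-subgroup `T'` of `X` with `A ⊓ R' = ⊥` for all `T' ≤ R' < X`** (the opposite
  one: `A` lies in the unipotent radicals of both maximal parabolic subgroups over `T`);
* `exists_opp` : the same for one element `x` of all `O₂(R)`, `T ≤ R < X` (the literal form of helper116).
-/

set_option autoImplicit false
set_option linter.unusedSectionVars false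

namespace Cfsg.Agent.Omega.ML.LieTwF4

open Subgroup Cfsg Cfsg.Lie Cfsg.Agent.ZN
open Cfsg.Agent.SplitTwo Cfsg.Agent.SplitTwo.ZS Cfsg.Agent.TitsThree.RankTwoZ Cfsg.Agent.SplitTwo.RootSysZ
open Cfsg.Agent.KFacts.TwF4 Cfsg.Agent.KFacts.TwF4.Arc Cfsg.Agent.KFacts.TwF4.Inv Cfsg.Agent.KFacts.TwF4.SylU
open Cfsg.Agent.Omega.ML.TwF4Opp
open Cfsg.Agent.MinSimple.VModule (o2_isPGroup o2_le le_o2 le_normalizer_o2)
open Cfsg.Agent.Omega.ML.Rows (AS)

universe u v

section coord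

variable {F : Type*} [Field F] [Finite F] {σ : F →+* F} {G : Type*} [Group G] [Finite G] [IsSimpleGroup G]
  (S : Full σ G) {X : Type*} [Group X] [Finite X]

/-- the image of a normal 2-subgroup of `R` under an isomorphism -/
theorem norm_comap (f : G ≃* X) (R : Subgroup G) :
    R ≤ normalizer (((o2 (R.map f.toMonoidHom)).comap f.toMonoidHom : Subgroup G) : Set G) := by
  intro r hr
  have h1 := le_normalizer_o2 (R.map f.toMonoidHom) (mem_map_of_mem f.toMonoidHom hr)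
  rw [mem_normalizer_iff] at h1 ⊢
  intro x
  have h2 := h1 (f x)
  show f x ∈ o2 (R.map f.toMonoidHom) ↔ f (r * x * r⁻¹) ∈ o2 (R.map f.toMonoidHom)
  rw [map_mul, map_mul, map_inv]
  exact h2

theorem map_ne_top (f : G ≃* X) {R : Subgroup G} (hR : R ≠ ⊤) : R.map f.toMonoidHom ≠ ⊤ := by
  intro h
  apply hR
  rw [eq_top_iff]
  intro x _
  have h1 : f x ∈ R.map f.toMonoidHom := by rw [h]; exact mem_top _
  obtain ⟨y, hy, e⟩ := h1
  have e1 : y = x := f.injective e
  rwa [← e1]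

/-- one element -/
theorem core (hF : ∃ c : Fˣ, c ≠ 1) (hR : S.R.p = 2) (f : G ≃* X) {x : X}
    (low : ∀ R : Subgroup X, (J S.XZ 1 8).map f.toMonoidHom ≤ R → R ≠ ⊤ → x ∈ o2 R) {R : Subgroup X}
    (h1 : (J S.XZ 9 16).map f.toMonoidHom ≤ R) (h2 : R ≠ ⊤) (hx : x ∈ R) : x = 1 := by
  have Z := S.zsys8
  obtain ⟨y, rfl⟩ := f.surjective x
  have hU1 : J S.XZ 1 8 ≤ normalizer (J S.XZ 2 8 : Set G) := by
    refine J_le fun k h1 h2 => ?_
    exact (X_le_J (by omega) (by omega)).trans (Z.le_normalizer (a := 2) (b := 8) (by norm_num))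
  have hU2 : J S.XZ 1 8 ≤ normalizer (J S.XZ 1 7 : Set G) := by
    refine J_le fun k h1 h2 => ?_
    exact (X_le_J (by omega) (by omega)).trans (Z.le_normalizer (a := 1) (b := 7) (by norm_num))
  have key : ∀ N : Subgroup G, J S.XZ 1 8 ≤ N → N ≠ ⊤ →
      y ∈ (o2 (N.map f.toMonoidHom)).comap f.toMonoidHom := fun N hN hN1 =>
    low (N.map f.toMonoidHom) (Subgroup.map_mono hN) (map_ne_top f hN1)
  have htwo : ∀ N : Subgroup G, IsPGroup 2 ↥((o2 (N.map f.toMonoidHom)).comap f.toMonoidHom) := fun N =>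
    (o2_isPGroup _).comap_of_injective f.toMonoidHom f.injective
  have h3 : y ∈ J S.XZ 2 8 := two_le_one S hF hR (htwo _) (norm_comap f _)
    (key _ hU1 (norm_ne_top S (by norm_num) (by norm_num)))
  have h4 : y ∈ J S.XZ 1 7 := two_le_two S hF hR (htwo _) (norm_comap f _)
    (key _ hU2 (norm_ne_top S (by norm_num) (by norm_num)))
  have h5 : R.comap f.toMonoidHom ≠ ⊤ := by
    intro h
    apply h2
    rw [eq_top_iff]
    intro z _
    obtain ⟨w, rfl⟩ := f.surjective z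
    have : w ∈ R.comap f.toMonoidHom := by rw [h]; exact mem_top _
    exact this
  have h6 := opp S hF hR (R := R.comap f.toMonoidHom) (Subgroup.map_le_iff_le_comap.1 h1) h5 h3 h4 hx
  rw [h6, map_one]

/-- an isomorphism carrying `U` to a given Sylow 2-subgroup -/
theorem exists_iso (hF : ∃ c : Fˣ, c ≠ 1) (hR : S.R.p = 2) (e : G ≃* X) {T : Subgroup X} (hT : IsPGroup 2 T)
    (hs : ¬ 2 ∣ T.index) : ∃ f : G ≃* X, (J S.XZ 1 8).map f.toMonoidHom = T := by
  have hfact : Fact (Nat.Prime 2) := ⟨Nat.prime_two⟩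
  obtain ⟨P, hP⟩ := exists_sylow S hF hR
  have hT2 : IsPGroup 2 ↥(T.comap e.toMonoidHom) := hT.comap_of_injective e.toMonoidHom e.injective
  have hi : ¬ 2 ∣ (T.comap e.toMonoidHom).index := by
    rw [index_comap_of_surjective T e.surjective]
    exact hs
  obtain ⟨g, hg⟩ := MulAction.exists_smul_eq G P (hT2.toSylow hi)
  have h1 : ∀ y, y ∈ J S.XZ 1 8 ↔ e (g * y * g⁻¹) ∈ T := by
    intro y
    have h2 : g * y * g⁻¹ ∈ ((g • P : Sylow 2 G) : Subgroup G) ↔ y ∈ (P : Subgroup G) := by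
      rw [Sylow.coe_subgroup_smul]
      have h3 := Subgroup.smul_mem_pointwise_smul_iff (a := MulAut.conj g) (S := (P : Subgroup G)) (x := y)
      exact h3
    rw [← hP, ← h2, hg]
    rfl
  refine ⟨(MulAut.conj g).trans e, ?_⟩
  ext x
  constructor
  · rintro ⟨y, hy, rfl⟩
    exact (h1 y).1 hy
  · intro hx
    obtain ⟨z, rfl⟩ := e.surjective x
    refine ⟨g⁻¹ * z * g, (h1 _).2 ?_, ?_⟩
    · rwa [show g * (g⁻¹ * z * g) * g⁻¹ = z by group]
    · show e (g * (g⁻¹ * z * g) * g⁻¹) = e z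
      rw [show g * (g⁻¹ * z * g) * g⁻¹ = z by group]

/-- **the opposite Sylow 2-subgroup** -/
theorem exists_opp_full (hF : ∃ c : Fˣ, c ≠ 1) (hR : S.R.p = 2) (e : G ≃* X) {T : Subgroup X} (hT : IsPGroup 2 T)
    (hs : ¬ 2 ∣ T.index) : ∃ T' : Subgroup X, IsPGroup 2 T' ∧ ¬ 2 ∣ T'.index ∧
      ∀ x : X, (∀ R : Subgroup X, T ≤ R → R ≠ ⊤ → x ∈ o2 R) →
        ∀ R' : Subgroup X, T' ≤ R' → R' ≠ ⊤ → x ∈ R' → x = 1 := by
  obtain ⟨f, hf⟩ := exists_iso S hF hR e hT hs
  have h2 : IsPGroup 2 ↥(J S.XZ 9 16) := two_arc S.zsys8 (two_X S hR) (by norm_num)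
  refine ⟨(J S.XZ 9 16).map f.toMonoidHom, h2.map _, ?_, ?_⟩
  · have h3 : Nat.card ↥((J S.XZ 9 16).map f.toMonoidHom) = Nat.card T := by
      rw [← hf, card_map_of_injective f.injective, card_map_of_injective f.injective]
      have h4 : (J S.XZ 9 16).map (S.ck (-4)).toMonoidHom = J S.XZ 1 8 := by
        have := S.map_J (k := -4) (a := 9) (b := 16)
        norm_num at this
        exact this
      rw [← h4, card_map_of_injective (S.ck (-4)).injective]
    have h4 : ((J S.XZ 9 16).map f.toMonoidHom).index = T.index := by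
      have h5 := ((J S.XZ 9 16).map f.toMonoidHom).index_mul_card
      have h6 := T.index_mul_card
      rw [h3] at h5
      exact Nat.eq_of_mul_eq_mul_right Nat.card_pos (h5.trans h6.symm)
    rwa [h4]
  · intro x low R' hR' hne hx
    refine core S hF hR f (fun R h3 h4 => low R ?_ h4) hR' hne hx
    rwa [hf] at h3

end coord

/-- the parameters of `²F₄(q)`, `q ≥ 8` -/
theorem exists_full {K : Type v} [Group K] [Finite K] (h : Iso2F4 K) :
    ∃ (F : Type) (_ : Field F) (_ : Finite F) (σ : F →+* F) (m : ℕ) (G : Type) (_ : Group G) (_ : Finite G)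
      (S : Full σ G), Nat.card F = 2 ^ (2 * m + 1) ∧ (∃ c : Fˣ, c ≠ 1) ∧ S.R.p = 2 ∧ Nonempty (G ≃* K) := by
  obtain ⟨F, _, _, m, hm, hK, ⟨e⟩⟩ := h
  obtain ⟨φ, hφ⟩ := Cfsg.Agent.ChevalleyStructure.TwF4.TwistedFix.exists_rln hK
  have := Cfsg.Agent.ChevalleyStructure.TwF4.Twisted.charP_two hK
  have hfin : Finite ↥(twistedF4 F (2 ^ m)) := inferInstance
  have hF : ∃ c : Fˣ, c ≠ 1 := by
    have h1 : 1 < Nat.card Fˣ := by
      rw [Nat.card_units, Nat.card_eq_fintype_card, hK]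
      have : 2 ^ 3 ≤ 2 ^ (2 * m + 1) := Nat.pow_le_pow_right (by norm_num) (by omega)
      omega
    have h2 : Nontrivial Fˣ := Finite.one_lt_card_iff_nontrivial.1 h1
    exact exists_ne 1
  exact ⟨F, inferInstance, inferInstance, φ, m, ↥(twistedF4 F (2 ^ m)), inferInstance, hfin,
    Cfsg.Agent.KFacts.TwF4.Inst.full hK hφ, by rw [Nat.card_eq_fintype_card, hK], hF, rfl, ⟨e.symm⟩⟩

/-- `helper116`'s literal form, for `X` itself of type `²F₄(q)` -/
theorem exists_opp {X : Type u} [Group X] [Finite X] [IsSimpleGroup X] (hX : Iso2F4 X) {T : Subgroup X}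
    (hT : IsPGroup 2 T) (hs : ¬ 2 ∣ T.index) : ∃ T' : Subgroup X, IsPGroup 2 T' ∧ ¬ 2 ∣ T'.index ∧
      ∀ x : X, (∀ R : Subgroup X, T ≤ R → R ≠ ⊤ → x ∈ o2 R) →
        ∀ R' : Subgroup X, T' ≤ R' → R' ≠ ⊤ → x ∈ R' → x = 1 := by
  obtain ⟨F, _, _, σ, m, G, _, _, S, hcard, hF, hR, ⟨e⟩⟩ := exists_full hX
  have : IsSimpleGroup G := e.isSimpleGroup
  exact exists_opp_full S hF hR e hT hs

section rows

variable {X : Type u} [Group X] [Finite X] {S T A : Subgroup X}

/-- `X = S`: the elements of `A` are inner on `S` -/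
theorem AS.eq_top (h : AS S T A) (hS : Iso2F4 S) : S = ⊤ := by
  have hn := h.norm
  obtain ⟨F, _, _, σ, m, G, _, _, SS, hcard, hF, hR, ⟨e⟩⟩ := exists_full hS
  have hA : A ≤ S := by
    intro a ha
    obtain ⟨α, hα⟩ : ∃ α : MulAut S, α = MulAut.conjNormal a := ⟨_, rfl⟩
    have h1 : α ^ 2 ^ 1 = 1 := by
      rw [hα, ← map_pow, pow_one, pow_two, h.el a ha, map_one]
    obtain ⟨β, hβ⟩ : ∃ β : MulAut G, β = MulAut.congr e.symm α := ⟨_, rfl⟩
    have h2 : β ^ 2 ^ 1 = 1 := by rw [hβ, ← map_pow, h1, map_one]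
    obtain ⟨x, hx⟩ := Cfsg.Agent.KFacts.TwF4.OutTwo.inner SS hcard hF hR h2
    have h3 : ∀ s : S, (α s : S) = e x * s * (e x)⁻¹ := by
      intro s
      have h4 : β (e.symm s) = x * e.symm s * x⁻¹ := by rw [hx, MulAut.conj_apply]
      have h5 : β (e.symm s) = e.symm (α s) := by
        rw [hβ]
        show e.symm (α (e.symm.symm (e.symm s))) = _
        rw [MulEquiv.symm_symm, MulEquiv.apply_symm_apply]
      rw [h5] at h4
      have h6 := congrArg e h4
      rwa [MulEquiv.apply_symm_apply, map_mul, map_mul, map_inv, MulEquiv.apply_symm_apply] at h6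
    have h4 : ((e x : S) : X)⁻¹ * a ∈ centralizer (S : Set X) := by
      rw [mem_centralizer_iff]
      intro s hs
      have h5 := congrArg Subtype.val (h3 ⟨s, hs⟩)
      rw [hα, MulAut.conjNormal_apply] at h5
      have h6 : a * s * a⁻¹ = (e x : S) * s * ((e x : S) : X)⁻¹ := h5
      have h7 : s = ((e x : S) : X)⁻¹ * (a * s * a⁻¹) * (e x : S) := by rw [h6]; group
      calc s * (((e x : S) : X)⁻¹ * a)
          = ((e x : S) : X)⁻¹ * (a * s * a⁻¹) * (e x : S) * (((e x : S) : X)⁻¹ * a) := by rw [← h7]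
        _ = ((e x : S) : X)⁻¹ * a * s := by group
    rw [h.cen, mem_bot] at h4
    rw [← inv_mul_eq_one.1 h4]
    exact (e x).2
  rw [← h.gen]
  exact (sup_eq_left.2 hA).symm

/-- **The row `²F₄(q)`, `q ≥ 8`.** -/
theorem AS.exists_opp (h : AS S T A) (hS : Iso2F4 S) : ∃ T' : Subgroup X, IsPGroup 2 T' ∧ ¬ 2 ∣ T'.index ∧
    ∀ R' : Subgroup X, T' ≤ R' → R' ≠ ⊤ → A ⊓ R' = ⊥ := by
  have h1 := AS.eq_top h hS
  have hsim := h.simple
  have e : S ≃* X := (MulEquiv.subgroupCongr h1).trans topEquiv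
  obtain ⟨F, _, _, σ, m, G, _, _, SS, hcard, hF, hR, ⟨e'⟩⟩ := exists_full hS
  have : IsSimpleGroup G := e'.isSimpleGroup
  obtain ⟨T', h2, h3, h4⟩ := exists_opp_full SS hF hR (e'.trans e) h.two h.syl
  refine ⟨T', h2, h3, fun R' h5 h6 => ?_⟩
  rw [eq_bot_iff]
  intro x hx
  exact mem_bot.2 (h4 x (fun R h7 h8 => h.low R h7 h8 hx.1) R' h5 h6 hx.2)

end rows

end Cfsg.Agent.Omega.ML.LieTwF4

end

section


/-!
# LEMMA GML: (ML) for a group `Z` of vectors (helper567)

`L` acts on the elementary abelian 2-group `V = ⟨Z^L⟩`, `T` is a Sylow 2-subgroup of `L` which centralises `Z`,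
`A ≤ O₂(C_L(Z))` with `[V, a²] = 1` for `a ∈ A`.  Then `|A : C_A(V)| ≤ |V : C_V(A)|`.

* `ZD L V Z T A` : the hypotheses;
* **`ZD.gml`** : the conclusion, from `MLK` (vectors only).

No condition on `C_L(z)`, `z ∈ Z`: the induction goes through `C_L(z)` acting on `⟨Z^{C_L(z)}⟩` and through
`C_L(⟨z^L⟩)` acting on `V`.
-/

set_option autoImplicit false

namespace Cfsg.Agent.Omega.ML.GMod

open Subgroup Cfsg Cfsg.Agent.ZN Cfsg.Agent.ZN.ChoiceBase Cfsg.Agent.Omega.ML.Final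
open Cfsg.Agent.MinSimple.VModule (o2_isPGroup o2_le le_o2 le_normalizer_o2 o2_le_of_sylow)

universe u

variable {G : Type u} [Group G]

/-! ### Tools -/

/-- `⟨Z^L⟩` -/
def hul (Z L : Subgroup G) : Subgroup G := ⨆ g : L, cj (g : G) Z

theorem cj_le_hul {Z L : Subgroup G} {g : G} (hg : g ∈ L) : cj g Z ≤ hul Z L :=
  le_iSup (fun g : L => cj (g : G) Z) ⟨g, hg⟩

theorem le_hul (Z L : Subgroup G) : Z ≤ hul Z L := by
  have h1 := cj_le_hul (Z := Z) (L.one_mem)
  rwa [cj_one] at h1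

theorem hul_le {Z L A : Subgroup G} (h : ∀ g ∈ L, cj g Z ≤ A) : hul Z L ≤ A := iSup_le fun g => h g g.2

theorem hul_le_of {Z L A : Subgroup G} (hZ : Z ≤ A) (hL : L ≤ normalizer (A : Set G)) : hul Z L ≤ A :=
  hul_le fun g hg => (cj_mono g hZ).trans (cj_eq_of_mem_normalizer (hL hg)).le

theorem cj_hul {Z L : Subgroup G} {g : G} (hg : g ∈ L) : cj g (hul Z L) = hul Z L := by
  have key : ∀ g ∈ L, cj g (hul Z L) ≤ hul Z L := by
    intro g hg
    unfold hul
    rw [cj, Subgroup.map_iSup]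
    refine iSup_le fun q => ?_
    have h1 : cj g (cj (q : G) Z) ≤ hul Z L := by
      rw [cj_cj]
      exact cj_le_hul (L.mul_mem hg q.2)
    exact h1
  apply le_antisymm (key g hg)
  have h1 := cj_mono g (key g⁻¹ (L.inv_mem hg))
  rwa [cj_cj_inv] at h1

theorem le_normalizer_hul (Z L : Subgroup G) : L ≤ normalizer (hul Z L : Set G) := fun _ hg =>
  mem_normalizer_iff_cj.2 (cj_hul hg)

theorem nc (H : Subgroup G) : normalizer (H : Set G) ≤ normalizer (centralizer (H : Set G) : Set G) := by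
  intro g hg
  rw [mem_normalizer_iff_cj, cj_centralizer, mem_normalizer_iff_cj.1 hg]

/-- The Frattini argument, elementwise. -/
theorem exists_frattini [Finite G] {X L T : Subgroup G} (hTX : T ≤ X) (hT : IsPGroup 2 T)
    (hTs : ¬ 2 ∣ T.relIndex X) (hL : X ≤ normalizer (L : Set G)) {x : G} (hx : x ∈ X) :
    ∃ l ∈ L, ∃ n ∈ X ⊓ normalizer ((T ⊓ L : Subgroup G) : Set G), x = l * n := by
  have h1 := Cfsg.Agent.MinSimple.Basic.frattini hTX hT hTs hL hx
  have h2 : x ∈ ((L ⊔ (X ⊓ normalizer ((T ⊓ L : Subgroup G) : Set G)) : Subgroup G) : Set G) := h1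
  rw [coe_mul_of_right_le_normalizer_left _ _ (inf_le_left.trans hL)] at h2
  obtain ⟨a, ha, b, hb, hab⟩ := h2
  exact ⟨a, ha, b, hb, hab.symm⟩

theorem normalizer_le_normalizer_o2 (L : Subgroup G) :
    normalizer (L : Set G) ≤ normalizer (o2 L : Set G) := by
  intro g hg
  have key : ∀ g ∈ normalizer (L : Set G), cj g (o2 L) ≤ o2 L := by
    intro g hg
    refine le_o2 ?_ (isPGroup_cj g (o2_isPGroup L)) ?_
    · exact (cj_mono g (o2_le L)).trans (cj_eq_of_mem_normalizer hg).le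
    · rw [← cj_normalizer]
      exact (cj_eq_of_mem_normalizer hg).ge.trans (cj_mono g (le_normalizer_o2 L))
  rw [mem_normalizer_iff_cj]
  refine le_antisymm (key g hg) ?_
  have h1 := cj_mono g (key g⁻¹ (inv_mem hg))
  rwa [cj_cj_inv] at h1

theorem not_dvd_of_le {X T N : Subgroup G} (hTs : ¬ 2 ∣ T.relIndex X) (hTN : T ≤ N)
    (hNX : N ≤ X) : ¬ 2 ∣ T.relIndex N :=
  fun h => hTs (h.trans (Dvd.intro _ (relIndex_mul_relIndex T N X hTN hNX)))

theorem not_dvd_inf [Finite G] {H T N : Subgroup G} (hTH : T ≤ H) (hTS : ¬ 2 ∣ T.relIndex H)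
    (hNH : N ≤ H) (hN : H ≤ normalizer (N : Set G)) : ¬ 2 ∣ (N ⊓ T).relIndex N := by
  have hn : (N.subgroupOf H).Normal := normal_subgroupOf_of_le_normalizer hN
  have h1 : N.relIndex (N ⊔ T) = N.relIndex T := by
    have h := Subgroup.relIndex_sup_left (K := N.subgroupOf H) (H := T.subgroupOf H)
    rw [← Subgroup.subgroupOf_sup hNH hTH, Subgroup.relIndex_subgroupOf (sup_le hNH hTH),
      Subgroup.relIndex_subgroupOf hTH] at h
    exact h
  have h2 := Subgroup.relIndex_mul_relIndex (N ⊓ T) N (N ⊔ T) inf_le_left le_sup_left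
  have h3 := Subgroup.relIndex_mul_relIndex (N ⊓ T) T (N ⊔ T) inf_le_right le_sup_right
  have h4 : (N ⊓ T).relIndex T = N.relIndex T := Subgroup.inf_relIndex_right N T
  rw [h1] at h2
  rw [h4, ← h2, mul_comm] at h3
  have h5 : T.relIndex (N ⊔ T) = (N ⊓ T).relIndex N :=
    Nat.eq_of_mul_eq_mul_right (Nat.pos_of_ne_zero (Subgroup.index_ne_zero_of_finite
      (H := N.subgroupOf T))) h3
  intro h
  have h6 := Subgroup.relIndex_mul_relIndex T (N ⊔ T) H le_sup_right (sup_le hNH hTH)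
  exact hTS (h6 ▸ (h5 ▸ h : 2 ∣ T.relIndex (N ⊔ T)).mul_right _)

theorem ri_ne [Finite G] (A B : Subgroup G) : A.relIndex B ≠ 0 :=
  Subgroup.index_ne_zero_of_finite (H := A.subgroupOf B)

theorem ri_mono [Finite G] (K : Subgroup G) {U W : Subgroup G} (h : U ≤ W) : K.relIndex U ≤ K.relIndex W :=
  relIndex_le_of_le_right h (ri_ne _ _)

/-- two steps: `|A : C_A(V)| ≤ |V : C_V(A)|` from the same for `A₀ = C_A(U)` on `V` and for `A` on `U ≤ V` -/
theorem step [Finite G] {V U A : Subgroup G} (hUV : U ≤ V)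
    (h1 : (centralizer (U : Set G)).relIndex A ≤ (centralizer (A : Set G)).relIndex U)
    (h2 : (centralizer (V : Set G)).relIndex (A ⊓ centralizer (U : Set G) : Subgroup G) ≤
      (centralizer ((A ⊓ centralizer (U : Set G) : Subgroup G) : Set G)).relIndex V) :
    (centralizer (V : Set G)).relIndex A ≤ (centralizer (A : Set G)).relIndex V := by
  set A₀ : Subgroup G := A ⊓ centralizer (U : Set G) with hA₀
  have hA₀A : A₀ ≤ A := inf_le_left
  have e1 : (centralizer (V : Set G)).relIndex A = (centralizer (V : Set G)).relIndex A₀ * A₀.relIndex A := by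
    have h3 : A ⊓ centralizer (V : Set G) ≤ A₀ := inf_le_inf_left _ (centralizer_le hUV)
    have h4 := relIndex_mul_relIndex (A ⊓ centralizer (V : Set G)) A₀ A h3 hA₀A
    rw [inf_relIndex_left A (centralizer (V : Set G))] at h4
    rw [← h4]
    congr 1
    have h5 : A₀ ⊓ (A ⊓ centralizer (V : Set G)) = A₀ ⊓ centralizer (V : Set G) := by
      rw [← inf_assoc, inf_eq_left.2 hA₀A]
    rw [← inf_relIndex_left A₀ (A ⊓ centralizer (V : Set G)), h5, inf_relIndex_left]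
  have e2 : A₀.relIndex A = (centralizer (U : Set G)).relIndex A := inf_relIndex_left _ _
  set D : Subgroup G := V ⊓ centralizer (A₀ : Set G) with hD
  have hUD : U ≤ D := by
    refine le_inf hUV ?_
    rw [← le_centralizer_iff]
    exact inf_le_right
  have e3 : (centralizer (A : Set G)).relIndex V =
      (centralizer (A : Set G)).relIndex D * (centralizer (A₀ : Set G)).relIndex V := by
    have h3 : V ⊓ centralizer (A : Set G) ≤ D := inf_le_inf_left _ (centralizer_le hA₀A)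
    have h4 := relIndex_mul_relIndex (V ⊓ centralizer (A : Set G)) D V h3 inf_le_left
    rw [inf_relIndex_left V (centralizer (A : Set G))] at h4
    rw [← h4]
    congr 1
    · have h5 : D ⊓ (V ⊓ centralizer (A : Set G)) = D ⊓ centralizer (A : Set G) := by
        rw [← inf_assoc, inf_eq_left.2 (inf_le_left : D ≤ V)]
      rw [← inf_relIndex_left D (V ⊓ centralizer (A : Set G)), h5, inf_relIndex_left]
    · rw [hD, inf_relIndex_left]
  rw [e1, e2, e3, mul_comm]
  exact Nat.mul_le_mul (h1.trans (ri_mono _ hUD)) h2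

theorem kg_le [Finite G] {H L : Subgroup G} (hK : IsKGroup L) (h : H ≤ L) : IsKGroup H :=
  kgroup_of_surj hK (H.subgroupOf L) (subgroupOfEquivOfLe h).toMonoidHom (subgroupOfEquivOfLe h).surjective

/-! ### The lemma -/

/-- The hypotheses of LEMMA GML. -/
structure ZD (L V Z T A : Subgroup G) : Prop where
  nV : L ≤ normalizer (V : Set G)
  sq : ∀ v ∈ V, v * v = 1
  ZV : Z ≤ V
  /-- `V = ⟨Z^L⟩` -/
  gen : ∀ U : Subgroup G, Z ≤ U → L ≤ normalizer (U : Set G) → V ≤ U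
  TL : T ≤ L
  two : IsPGroup 2 T
  odd : ¬ 2 ∣ T.relIndex L
  TZ : T ≤ centralizer (Z : Set G)
  AO : A ≤ o2 (L ⊓ centralizer (Z : Set G))
  Asq : ∀ a ∈ A, a * a ∈ centralizer (V : Set G)

theorem ZD.gml_aux [Finite G] (h : MLK.{u, u}) : ∀ n : ℕ, ∀ L V Z T A : Subgroup G, Nat.card L = n → IsKGroup L →
    ZD L V Z T A → (centralizer (V : Set G)).relIndex A ≤ (centralizer (A : Set G)).relIndex V := by
  intro n
  induction n using Nat.strong_induction_on with
  | _ n ih =>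
    intro L V Z T A hn hK D
    have hAC : A ≤ centralizer (Z : Set G) := D.AO.trans ((o2_le _).trans inf_le_right)
    have hAL : A ≤ L := D.AO.trans ((o2_le _).trans inf_le_left)
    by_cases hc : L ≤ centralizer (Z : Set G)
    · -- `L` centralises `Z`
      have hV : V ≤ Z := by
        refine D.gen Z le_rfl fun g hg => ?_
        rw [mem_normalizer_iff_cj]
        ext x
        rw [mem_cj]
        have key : ∀ g ∈ L, ∀ x ∈ Z, g⁻¹ * x * g = x := by
          intro g hg x hx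
          rw [mul_assoc, mem_centralizer_iff.1 (hc hg) x hx]
          group
        constructor
        · intro hx
          have h1 := key g⁻¹ (L.inv_mem hg) _ hx
          have h2 : g⁻¹⁻¹ * (g⁻¹ * x * g) * g⁻¹ = x := by group
          rw [h2] at h1
          rw [h1]
          exact hx
        · intro hx
          rw [key g hg x hx]
          exact hx
      have h1 : A ≤ centralizer (V : Set G) := hAC.trans (centralizer_le hV)
      rw [relIndex_eq_one.2 h1]
      exact Nat.one_le_iff_ne_zero.2 (ri_ne _ _)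
    · obtain ⟨z, hz, hzL⟩ : ∃ z ∈ Z, ¬ L ≤ centralizer ({z} : Set G) := by
        by_contra hcon
        push Not at hcon
        refine hc fun g hg => mem_centralizer_iff.2 fun z hz => ?_
        exact mem_centralizer_iff.1 (hcon z hz hg) z (Set.mem_singleton z)
      set H : Subgroup G := L ⊓ centralizer ({z} : Set G) with hH
      have hHL : H ≤ L := inf_le_left
      have hne : H ≠ L := fun he => hzL (he ▸ inf_le_right)
      have hlt : ∀ {R : Subgroup G}, R ≤ H → Nat.card R < n := by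
        intro R hR
        rw [← hn]
        refine lt_of_le_of_lt (card_le_of_le hR) (lt_of_le_of_ne (card_le_of_le hHL) fun he => hne ?_)
        exact eq_of_le_of_card_ge hHL he.ge
      have hCz : centralizer (Z : Set G) ≤ centralizer ({z} : Set G) :=
        centralizer_le (Set.singleton_subset_iff.2 hz)
      have hTH : T ≤ H := le_inf D.TL (D.TZ.trans hCz)
      have hHC : H ⊓ centralizer (Z : Set G) = L ⊓ centralizer (Z : Set G) := by
        rw [hH, inf_assoc, inf_eq_right.2 hCz]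
      -- (a)
      set Vz : Subgroup G := hul Z H with hVz
      have hVzV : Vz ≤ V := hul_le_of D.ZV (hHL.trans D.nV)
      have D1 : ZD H Vz Z T A :=
        { nV := le_normalizer_hul Z H
          sq := fun v hv => D.sq v (hVzV hv)
          ZV := le_hul Z H
          gen := fun U hZ hU => hul_le_of hZ hU
          TL := hTH
          two := D.two
          odd := not_dvd_of_le D.odd hTH hHL
          TZ := D.TZ
          AO := hHC ▸ D.AO
          Asq := fun a ha => centralizer_le hVzV (D.Asq a ha) }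
      have h1 := ih _ (hlt le_rfl) H Vz Z T A rfl (kg_le hK hHL) D1
      refine step hVzV h1 ?_
      set A₀ : Subgroup G := A ⊓ centralizer (Vz : Set G) with hA₀
      -- (b)
      have hA₀H : A₀ ≤ o2 H := by
        have h2 : o2 (L ⊓ centralizer (Z : Set G)) ⊓ centralizer (Vz : Set G) ≤ o2 (H ⊓ centralizer (Vz : Set G)) := by
          refine le_o2 (le_inf ?_ inf_le_right) ((o2_isPGroup _).to_le inf_le_left) ?_
          · rw [← hHC]
            exact inf_le_left.trans ((o2_le _).trans inf_le_left)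
          · refine le_trans (le_inf ?_ ?_) inf_normalizer_le_normalizer_inf
            · refine le_trans ?_ (le_normalizer_o2 _)
              exact le_inf (inf_le_left.trans hHL) (inf_le_right.trans (centralizer_le (le_hul Z H)))
            · exact inf_le_right.trans Subgroup.le_normalizer
        have h3 : H ≤ normalizer ((H ⊓ centralizer (Vz : Set G) : Subgroup G) : Set G) :=
          le_trans (le_inf Subgroup.le_normalizer ((le_normalizer_hul Z H).trans (nc _)))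
            inf_normalizer_le_normalizer_inf
        have h4 : o2 (H ⊓ centralizer (Vz : Set G)) ≤ o2 H :=
          le_o2 ((o2_le _).trans inf_le_left) (o2_isPGroup _) (h3.trans (normalizer_le_normalizer_o2 _))
        exact (inf_le_inf_right _ D.AO).trans (h2.trans h4)
      set U : Subgroup G := hul (zpowers z) L with hU
      have hzU : z ∈ U := le_hul _ _ (mem_zpowers z)
      have hUV : U ≤ V := hul_le_of (by rw [zpowers_le]; exact D.ZV hz) D.nV
      have hLU : L ≤ normalizer (U : Set G) := le_normalizer_hul _ _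
      have D2 : GDat L U ⊥ T (o2 H) A₀ z :=
        { nW := hLU
          nY := by rw [normalizer_eq_top]; exact le_top
          YW := bot_le
          WY := by rw [normalizer_eq_top]; exact le_top
          sq := fun x hx => mem_bot.2 (D.sq x (hUV hx))
          mem := hzU
          gen := fun U' hz' _ hU' => hul_le_of (by rw [zpowers_le]; exact hz') hU'
          TC := D.TL
          two := D.two
          odd := D.odd
          fixT := by
            intro t ht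
            rw [mem_bot, mul_inv_eq_one, ← mem_centralizer_iff.1 (D.TZ ht) z hz]
            group
          QC := (o2_le H).trans hHL
          Q2 := o2_isPGroup H
          fixQ := by
            intro q hq
            have h5 : q ∈ centralizer ({z} : Set G) := ((o2_le H).trans inf_le_right) hq
            rw [mem_bot, mul_inv_eq_one, ← mem_centralizer_iff.1 h5 z (Set.mem_singleton z)]
            group
          nrmQ := by
            intro g hg hgz q hq
            have h5 : g ∈ H := by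
              refine ⟨hg, mem_centralizer_iff.2 fun y hy => ?_⟩
              rw [Set.mem_singleton_iff.1 hy]
              have h6 : g * z * g⁻¹ = z := by rwa [mem_bot, mul_inv_eq_one] at hgz
              exact (mul_inv_eq_iff_eq_mul.1 h6).symm
            exact (mem_normalizer_iff.1 (le_normalizer_o2 H h5) q).1 hq
          AQ := hA₀H
          Asq := by
            intro a ha x hx
            have h5 := mem_centralizer_iff.1 (D.Asq a ha.1) x (hUV hx)
            have h6 : a * (a * x * a⁻¹) * a⁻¹ * x⁻¹ = (a * a) * x * (a * a)⁻¹ * x⁻¹ := by group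
            rw [h6, mem_bot, ← h5]
            group }
      have h2 : (A₀ ⊓ centralizer (U : Set G)).relIndex A₀ ≤ (U ⊓ centralizer (A₀ : Set G)).relIndex U := by
        refine h.grp hK D2 (fun a => ?_) fun x => ?_
        · rw [mem_inf, mem_centralizer_iff]
          refine and_congr_right fun _ => forall₂_congr fun x _ => ?_
          rw [mem_bot, mul_inv_eq_one, mul_inv_eq_iff_eq_mul]
          exact eq_comm
        · rw [mem_inf, mem_centralizer_iff]
          refine and_congr_right fun _ => forall₂_congr fun a _ => ?_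
          rw [mem_bot, mul_inv_eq_one, mul_inv_eq_iff_eq_mul]
      rw [inf_relIndex_left, inf_relIndex_left] at h2
      refine step hUV h2 ?_
      set A₁ : Subgroup G := A₀ ⊓ centralizer (U : Set G) with hA₁
      -- (c)
      set H₁ : Subgroup G := L ⊓ centralizer (U : Set G) with hH₁
      have hH₁H : H₁ ≤ H := inf_le_inf_left _ (centralizer_le (Set.singleton_subset_iff.2 hzU))
      have hH₁L : H₁ ≤ L := inf_le_left
      have hLH₁ : L ≤ normalizer (H₁ : Set G) :=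
        le_trans (le_inf Subgroup.le_normalizer (hLU.trans (nc _))) inf_normalizer_le_normalizer_inf
      set T₁ : Subgroup G := T ⊓ H₁ with hT₁
      set N : Subgroup G := L ⊓ normalizer (T₁ : Set G) with hN
      set Z₁ : Subgroup G := hul Z N with hZ₁
      have hZ₁V : Z₁ ≤ V := hul_le_of D.ZV (inf_le_left.trans D.nV)
      have hT₁Z : T₁ ≤ centralizer (Z₁ : Set G) := by
        rw [le_centralizer_iff]
        refine hul_le fun g hg => ?_
        rw [← le_centralizer_iff, ← cj_centralizer, ← cj_eq_of_mem_normalizer hg.2]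
        exact cj_mono g (inf_le_left.trans D.TZ)
      have hA₁A : A₁ ≤ A := inf_le_left.trans inf_le_left
      have hA₁T : A₁ ≤ T₁ := by
        refine le_inf (hA₁A.trans (D.AO.trans ?_)) (le_inf (hA₁A.trans hAL) inf_le_right)
        exact o2_le_of_sylow D.two (not_dvd_of_le D.odd (le_inf D.TL D.TZ) inf_le_left)
      have D3 : ZD H₁ V Z₁ T₁ A₁ :=
        { nV := hH₁L.trans D.nV
          sq := D.sq
          ZV := hZ₁V
          gen := by
            intro U' hZU hU'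
            refine (D.gen (hul Z L) (le_hul Z L) (le_normalizer_hul Z L)).trans (hul_le fun g hg => ?_)
            obtain ⟨l, hl, m, hm, rfl⟩ := exists_frattini D.TL D.two D.odd hLH₁ hg
            rw [← cj_cj]
            refine (cj_mono l ((cj_le_hul hm).trans hZU)).trans ?_
            exact (cj_eq_of_mem_normalizer (hU' hl)).le
          TL := inf_le_right
          two := D.two.to_le inf_le_left
          odd := by
            rw [hT₁, inf_comm]
            exact not_dvd_inf D.TL D.odd hH₁L hLH₁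
          TZ := hT₁Z
          AO := by
            have h5 : H₁ ⊓ centralizer (Z₁ : Set G) ≤ L ⊓ centralizer (Z : Set G) :=
              inf_le_inf hH₁L (centralizer_le (le_hul Z N))
            have h6 : o2 (L ⊓ centralizer (Z : Set G)) ⊓ (H₁ ⊓ centralizer (Z₁ : Set G)) ≤
                o2 (H₁ ⊓ centralizer (Z₁ : Set G)) := by
              refine le_o2 inf_le_right ((o2_isPGroup _).to_le inf_le_left) ?_
              exact le_trans (le_inf (h5.trans (le_normalizer_o2 _)) Subgroup.le_normalizer)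
                inf_normalizer_le_normalizer_inf
            refine le_trans (le_inf (hA₁A.trans D.AO) (le_inf (hA₁T.trans inf_le_right) ?_)) h6
            exact hA₁T.trans hT₁Z
          Asq := fun a ha => D.Asq a (hA₁A ha) }
      exact ih _ (hlt hH₁H) H₁ V Z₁ T₁ A₁ rfl (kg_le hK hH₁L) D3

/-- **LEMMA GML.** -/
theorem ZD.gml [Finite G] {L V Z T A : Subgroup G} (D : ZD L V Z T A) (h : MLK.{u, u}) (hK : IsKGroup L) :
    (centralizer (V : Set G)).relIndex A ≤ (centralizer (A : Set G)).relIndex V :=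
  ZD.gml_aux h _ L V Z T A rfl hK D

end Cfsg.Agent.Omega.ML.GMod

end

section


/-!
# LEMMA GML, corollaries for `NN(S)` (helper567; helper133 bb OMEGA #23967 (5))

* `le_o2_of_gml` : `V ≤ S` without offender in `S`, `V ≤ O₂(C_G(Z))`, `C_G(Z) ≤ L ∈ L(S)` ⟹ `V ≤ O₂(L)`;
* **`NN.le_o2`** : the same for `V ∈ NN(S)`;  `NN.cent_zl` : `V` centralises `⟨Z^L⟩`;
* `NN.hul_le_o2`, `NN.hul_comm` : `⟨V^L⟩ ≤ O₂(L)`, and `⟨Z^L⟩` centralises `⟨V^L⟩`.
-/

set_option autoImplicit false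

namespace Cfsg.Agent.Omega.ML.GNN

open Subgroup Cfsg Cfsg.Agent.ZN Cfsg.Agent.ZN.ChoiceBase Cfsg.Agent.Omega.ML.Final
open Cfsg.Agent.Omega.MinPar Cfsg.Agent.Omega.Frame Cfsg.Agent.Omega.FrameNOFF Cfsg.Agent.Omega.FFThm
open Cfsg.Agent.Omega.NO3b.Bang Cfsg.Agent.Omega.ML.GMod
open Cfsg.Agent.MinSimple.VModule hiding mem_zc
open Cfsg.Agent.MinSimple.Basic (not_dvd_relIndex)

universe u

variable {G : Type u} [Group G]

/-- the hypotheses of LEMMA GML for `⟨Z^L⟩` and an elementary abelian `A ≤ O₂(C_G(Z))`, `C_G(Z) ≤ L` -/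
theorem zd_of [Finite G] {S : Sylow 2 G} (hG : IsCharacteristicTwoType G) {L A : Subgroup G}
    (hL : IsLoc (S : Subgroup G) L) (hC : CZ (S : Subgroup G) ≤ L) (hA : A ≤ o2 (CZ (S : Subgroup G)))
    (hsq : ∀ a ∈ A, a ^ 2 = 1) :
    ZD L (zl (S : Subgroup G) L) (zc (S : Subgroup G)) (S : Subgroup G) A where
  nV := le_normalizer_zl _ _
  sq := fun v hv => by
    have := zc_sq _ _ (hL.zl_le S hG hv)
    rwa [sq] at this
  ZV := zc_le_zl _ _
  gen := fun U hZ hLU => zl_le hZ hLU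
  TL := hL.le
  two := S.isPGroup'
  odd := not_dvd_relIndex S hL.le
  TZ := le_centralizer_zc _
  AO := by
    rwa [inf_eq_right.2 hC]
  Asq := fun a ha => by
    have := hsq a ha
    rw [← sq, this]
    exact one_mem _

theorem card_mul {A B : Subgroup G} (h : A ≤ B) : Nat.card A * A.relIndex B = Nat.card B := by
  have := relIndex_mul_relIndex (⊥ : Subgroup G) A B bot_le h
  rwa [relIndex_bot_left, relIndex_bot_left] at this

/-- `V` centralises `⟨Z^L⟩` -/
theorem cent_zl_of [Finite G] (h : MLK.{u, u}) {S : Sylow 2 G} (hG : Ctx G) {L V : Subgroup G}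
    (hL : IsLoc (S : Subgroup G) L) (hK : IsKGroup L) (hC : CZ (S : Subgroup G) ≤ L)
    (hVQ : V ≤ o2 (CZ (S : Subgroup G))) (hsq : ∀ v ∈ V, v ^ 2 = 1)
    (hn : zl (S : Subgroup G) L ≤ normalizer (V : Set G))
    (hnff : ∀ A : Subgroup G, A ≤ (S : Subgroup G) → ¬ OffM V A) :
    V ≤ centralizer (zl (S : Subgroup G) L : Set G) := by
  by_contra hne
  set U : Subgroup G := zl (S : Subgroup G) L with hU
  have hU2 : U ≤ zc (o2 L) := hL.zl_le S hG.char2
  have hUS : U ≤ (S : Subgroup G) := (hU2.trans (zc_le _)).trans (hL.o2_le S)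
  have h1 := (zd_of hG.char2 hL hC hVQ hsq).gml h hK
  rw [← hU] at h1
  refine hnff U hUS ⟨⟨?_, ?_⟩, fun hc => hne (cent_symm hc), ?_⟩
  · intro a ha
    rw [zc_sq _ _ (hU2 ha)]
    exact one_mem _
  · intro a ha b hb
    rw [zc_comm _ _ (hU2 ha) _ (hU2 hb), mul_inv_cancel_right, mul_inv_cancel]
    exact one_mem _
  · have e1 : Nat.card ↥(V ⊓ centralizer (U : Set G)) * (centralizer (U : Set G)).relIndex V = Nat.card V := by
      rw [← inf_relIndex_left]
      exact card_mul inf_le_left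
    have e2 : Nat.card ↥(U ⊓ centralizer (V : Set G)) * (centralizer (V : Set G)).relIndex U = Nat.card U := by
      rw [← inf_relIndex_left]
      exact card_mul inf_le_left
    rw [← e1, ← e2]
    calc Nat.card ↥(V ⊓ centralizer (U : Set G)) * (centralizer (U : Set G)).relIndex V *
          Nat.card ↥(U ⊓ centralizer (V : Set G))
        ≤ Nat.card ↥(V ⊓ centralizer (U : Set G)) * (centralizer (V : Set G)).relIndex U *
          Nat.card ↥(U ⊓ centralizer (V : Set G)) := by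
          exact Nat.mul_le_mul_right _ (Nat.mul_le_mul_left _ h1)
      _ = _ := by ring

/-- **`V ≤ S` without offender, `V ≤ O₂(C_G(Z))` implies `V ≤ O₂(L)` for every local `L ≥ C_G(Z)`.** -/
theorem le_o2_of_gml [Finite G] (h : MLK.{u, u}) {S : Sylow 2 G} (hG : Ctx G) {L V : Subgroup G}
    (hL : IsLoc (S : Subgroup G) L) (hK : IsKGroup L) (hC : CZ (S : Subgroup G) ≤ L)
    (hVQ : V ≤ o2 (CZ (S : Subgroup G))) (hsq : ∀ v ∈ V, v ^ 2 = 1)
    (hn : zl (S : Subgroup G) L ≤ normalizer (V : Set G))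
    (hnff : ∀ A : Subgroup G, A ≤ (S : Subgroup G) → ¬ OffM V A) : V ≤ o2 L := by
  have h1 := cent_zl_of h hG hL hK hC hVQ hsq hn hnff
  set U : Subgroup G := zl (S : Subgroup G) L with hU
  have hC1 : L ⊓ centralizer (U : Set G) ≤ CZ (S : Subgroup G) :=
    inf_le_right.trans (centralizer_le (zc_le_zl _ _))
  have hnC : L ≤ normalizer ((L ⊓ centralizer (U : Set G) : Subgroup G) : Set G) :=
    le_trans (le_inf Subgroup.le_normalizer ((le_normalizer_zl _ _).trans (nc U)))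
      inf_normalizer_le_normalizer_inf
  -- `O₂(C) ∩ C_L(U)` is a normal 2-subgroup of `C_L(U)`
  have h2 : o2 (CZ (S : Subgroup G)) ⊓ (L ⊓ centralizer (U : Set G)) ≤ o2 (L ⊓ centralizer (U : Set G)) := by
    refine le_o2 inf_le_right ((o2_isPGroup _).to_le inf_le_left) ?_
    exact le_trans (le_inf (hC1.trans (le_normalizer_o2 _)) Subgroup.le_normalizer)
      inf_normalizer_le_normalizer_inf
  have h3 : o2 (L ⊓ centralizer (U : Set G)) ≤ o2 L :=
    le_o2 ((o2_le _).trans inf_le_left) (o2_isPGroup _)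
      (hnC.trans (normalizer_le_normalizer_o2 _))
  have hQL : o2 (CZ (S : Subgroup G)) ≤ L := (o2_le _).trans hC
  exact (le_inf hVQ (le_inf (hVQ.trans hQL) h1)).trans (h2.trans h3)

section NN

variable [Finite G] {S : Sylow 2 G} {L V : Subgroup G}

/-- `V ∈ NN(S)`, `V ≤ O₂(C_G(Z))` centralises `⟨Z^L⟩` for every local `L ≥ C_G(Z)`. -/
theorem NN.cent_zl (hV : NN (S : Subgroup G) V) (h : MLK.{u, u}) (hG : Ctx G) (hL : IsLoc (S : Subgroup G) L)
    (hK : IsKGroup L) (hC : CZ (S : Subgroup G) ≤ L) (hVQ : V ≤ o2 (CZ (S : Subgroup G))) :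
    V ≤ centralizer (zl (S : Subgroup G) L : Set G) :=
  cent_zl_of h hG hL hK hC hVQ hV.sq
    ((((hL.zl_le S hG.char2).trans (zc_le _)).trans (hL.o2_le S)).trans hV.norm) hV.nff

/-- **`V ∈ NN(S)`, `V ≤ O₂(C_G(Z))` implies `V ≤ O₂(L)` for every local `L ≥ C_G(Z)`.** -/
theorem NN.le_o2 (hV : NN (S : Subgroup G) V) (h : MLK.{u, u}) (hG : Ctx G) (hL : IsLoc (S : Subgroup G) L)
    (hK : IsKGroup L) (hC : CZ (S : Subgroup G) ≤ L) (hVQ : V ≤ o2 (CZ (S : Subgroup G))) : V ≤ o2 L :=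
  le_o2_of_gml h hG hL hK hC hVQ hV.sq
    ((((hL.zl_le S hG.char2).trans (zc_le _)).trans (hL.o2_le S)).trans hV.norm) hV.nff

/-- `⟨V^L⟩ ≤ O₂(L)` -/
theorem NN.hul_le_o2 (hV : NN (S : Subgroup G) V) (h : MLK.{u, u}) (hG : Ctx G) (hL : IsLoc (S : Subgroup G) L)
    (hK : IsKGroup L) (hC : CZ (S : Subgroup G) ≤ L) (hVQ : V ≤ o2 (CZ (S : Subgroup G))) : hul V L ≤ o2 L :=
  hul_le_of (NN.le_o2 hV h hG hL hK hC hVQ) (le_normalizer_o2 _)

end NN

/-- a local subgroup is a `K`-group -/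
theorem kgroup_of_isLoc [Finite G] {S : Sylow 2 G} (hG : Ctx G) (h2 : ¬ IsPGroup 2 G) {L : Subgroup G}
    (hL : IsLoc (S : Subgroup G) L) : IsKGroup L :=
  haveI := hG.simple
  hG.kproper L (hL.ne_top S h2)

end Cfsg.Agent.Omega.ML.GNN

end

section


/-!
# (ML), K-side, groups with a root group datum: opposite subgroups (OMEGA; helper949)

`Y` a finite group with a root group datum of characteristic `p` and trivial centre, generated by the root groups,
`Inn Y ≤ 𝔾 ≤ Aut Y`, `D` a `p`-subgroup with `𝔾 = Inn(Y) D` and `Inn(U) ≤ D`; `A ≤ D` lies in a normal `p`-subgroup of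
every proper overgroup of `D` in `𝔾`.

* `kopp` : either the proper overgroups of `D` are in one proper subgroup, or there is a `p`-subgroup `D'` of `𝔾` such
  that `A ⊓ R' = ⊥` for all proper overgroups `R'` of `D'` in `𝔾`.
-/

set_option autoImplicit false
set_option linter.unusedSectionVars false

namespace Cfsg.Agent.Omega.ML.LieRgd

open Subgroup CoxeterSystem Cfsg.Agent.ChevalleyStructure.CoxeterGeom Cfsg.Agent.Tits.Roots Cfsg.Agent.Tits.Core
  Cfsg.Agent.Tits.Exchange Cfsg.Agent.Nodes.Reps Cfsg.Agent.Nodes.BNOf Cfsg.Agent.Nodes.StabComb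
  Cfsg.Agent.Nodes.Bruhat Cfsg.Agent.Nodes.OppDec Cfsg.Agent.Nodes.LeviDec Cfsg.Agent.Nodes.NormalForm
  Cfsg.Agent.KFacts.RgdOpp Cfsg.Agent.KFacts.RgdAut Cfsg.Agent.KFacts.RgdDiag Cfsg.Agent.KFacts.RgdRigid
  Cfsg.Agent.KFacts.RgdVJ Cfsg.Agent.KFacts.RgdSyl

variable {I W Y : Type*} [Fintype I] [DecidableEq I] [Group W] [Group Y] {M : CoxeterMatrix I}
  {cs : CoxeterSystem M W} {A : I → I → ℤ} {h : IsCartan M A} {p : ℕ} {T : Subgroup Y} {n : I → Y}
  {X : (I → ℤ) → Subgroup Y}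

set_option maxHeartbeats 400000

theorem conj_apply_conj (d : MulAut Y) (y : Y) : d * MulAut.conj y * d⁻¹ = MulAut.conj (d y) := by
  ext x
  simp [MulAut.mul_apply, MulAut.conj_apply]

theorem conj_injective (hZ : center Y = ⊥) : Function.Injective (MulAut.conj : Y →* MulAut Y) := by
  rw [injective_iff_map_eq_one]
  intro y hy
  rw [← mem_bot, ← hZ, mem_center_iff]
  intro g
  have h1 := congrArg (fun f : MulAut Y => f g) hy
  simp only [MulAut.conj_apply, MulAut.one_apply] at h1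
  exact (mul_inv_eq_iff_eq_mul.1 h1).symm

/-- the automorphisms of `D` fixing `U` and `U⁻` -/
def Phi (cs : CoxeterSystem M W) (h : IsCartan M A) (X : (I → ℤ) → Subgroup Y) (D : Subgroup (MulAut Y)) :
    Subgroup (MulAut Y) := D ⊓ Frame cs h X

/-- `J` is invariant under `Phi` -/
def Inv (cs : CoxeterSystem M W) (h : IsCartan M A) (T : Subgroup Y) (X : (I → ℤ) → Subgroup Y)
    (D : Subgroup (MulAut Y)) (J : Set I) : Prop := ∀ φ ∈ Phi cs h X D, Fix φ (PJ cs h T X J)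

/-- `P_J D` -/
def RJ (cs : CoxeterSystem M W) (h : IsCartan M A) (T : Subgroup Y) (X : (I → ℤ) → Subgroup Y)
    (D : Subgroup (MulAut Y)) (J : Set I) : Subgroup (MulAut Y) := (PJ cs h T X J).map MulAut.conj ⊔ D

section main

variable [Finite Y] [hp : Fact p.Prime] [Finite W] (R : RGD cs h p T n X)
  (hG1 : RGD.Sup X {x | IsRoot cs h x} = ⊤) (hZ : center Y = ⊥) {D : Subgroup (MulAut Y)} (hD : IsPGroup p D)
  (hU : ∀ u ∈ RGD.Sup X (RGD.Pos cs h), MulAut.conj u ∈ D)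

include R hG1 hZ hD hU hp

theorem mem_U_of_conj {y : Y} (hy : MulAut.conj y ∈ D) : y ∈ RGD.Sup X (RGD.Pos cs h) :=
  le_U_of_isPGroup R (GG_eq_top hG1) (Q := D.comap MulAut.conj)
    (hD.comap_of_injective MulAut.conj (conj_injective hZ)) hU hy

theorem fix_U {d : MulAut Y} (hd : d ∈ D) : Fix d (RGD.Sup X (RGD.Pos cs h)) := by
  have key : ∀ d ∈ D, ∀ u ∈ RGD.Sup X (RGD.Pos cs h), d u ∈ RGD.Sup X (RGD.Pos cs h) := by
    intro d hd u hu
    apply mem_U_of_conj R hG1 hZ hD hU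
    rw [← conj_apply_conj]
    exact mul_mem (mul_mem hd (hU u hu)) (inv_mem hd)
  intro u
  refine ⟨fun hu => ?_, key d hd u⟩
  have := key d⁻¹ (inv_mem hd) _ hu
  rwa [MulAut.inv_apply_self] at this

theorem exists_phi {d : MulAut Y} (hd : d ∈ D) :
    ∃ s ∈ RGD.Sup X (RGD.Pos cs h), ∃ φ ∈ Phi cs h X D, d = MulAut.conj s * φ := by
  obtain ⟨u, hu, h1, -, h2, -, -⟩ := exists_frame R (GG_eq_top hG1) (fix_U R hG1 hZ hD hU hd)
  refine ⟨u⁻¹, inv_mem hu, MulAut.conj u * d, ⟨mul_mem (hU u hu) hd, h1, h2⟩, ?_⟩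
  rw [map_inv, inv_mul_cancel_left]

omit hD hU hZ hp in
theorem Phi.exists_diag {φ : MulAut Y} (hφ : φ ∈ Phi cs h X D) : ∃ σ : Equiv.Perm I, Diag T X φ σ :=
  Cfsg.Agent.KFacts.RgdDiag.exists_diag R (GG_eq_top hG1) hφ.2.1 hφ.2.2

omit hD hU hZ hp in
theorem Phi.fix_B {φ : MulAut Y} (hφ : φ ∈ Phi cs h X D) : Fix φ (RGD.B cs h T X) :=
  Cfsg.Agent.KFacts.RgdAut.fix_B R (GG_eq_top hG1) hφ.2.1

/-- a set of nodes invariant under all diagram symmetries of `Phi` -/
theorem inv_of_diag {J : Set I}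
    (hJ : ∀ φ ∈ Phi cs h X D, ∀ σ : Equiv.Perm I, Diag T X φ σ → ∀ i, σ i ∈ J ↔ i ∈ J) : Inv cs h T X D J := by
  intro φ hφ
  obtain ⟨σ, hσ⟩ := Phi.exists_diag R hG1 hφ
  exact fix_PJ R (Phi.fix_B R hG1 hφ) hσ (hJ φ hφ σ hσ)

theorem fix_PJ_of_inv {J : Set I} (hJ : Inv cs h T X D J) {d : MulAut Y} (hd : d ∈ D) : Fix d (PJ cs h T X J) := by
  obtain ⟨s, hs, φ, hφ, rfl⟩ := exists_phi R hG1 hZ hD hU hd
  refine Fix.mul ?_ (hJ φ hφ)
  intro x
  have hs' : s ∈ PJ cs h T X J := B_le_PJ (RGD.U_le_B hs)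
  rw [MulAut.conj_apply]
  exact (mem_normalizer_iff.1 (le_normalizer hs') x).symm

theorem mem_RJ {J : Set I} (hJ : Inv cs h T X D J) {g : MulAut Y} :
    g ∈ RJ cs h T X D J ↔ ∃ y ∈ PJ cs h T X J, ∃ d ∈ D, g = MulAut.conj y * d := by
  constructor
  · intro hg
    have hn : D ≤ normalizer (((PJ cs h T X J).map MulAut.conj : Subgroup (MulAut Y)) : Set (MulAut Y)) := by
      have key : ∀ d ∈ D, ∀ x ∈ (PJ cs h T X J).map MulAut.conj, d * x * d⁻¹ ∈ (PJ cs h T X J).map MulAut.conj := by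
        rintro d hd _ ⟨y, hy, rfl⟩
        exact ⟨d y, (fix_PJ_of_inv R hG1 hZ hD hU hJ hd y).2 hy, (conj_apply_conj d y).symm⟩
      intro d hd
      rw [mem_normalizer_iff]
      intro x
      refine ⟨key d hd x, fun hx => ?_⟩
      have := key d⁻¹ (inv_mem hd) _ hx
      rwa [show d⁻¹ * (d * x * d⁻¹) * d⁻¹⁻¹ = x by group] at this
    have h1 : g ∈ (((PJ cs h T X J).map MulAut.conj ⊔ D : Subgroup (MulAut Y)) : Set (MulAut Y)) := hg
    rw [coe_mul_of_right_le_normalizer_left _ _ hn, Set.mem_mul] at h1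
    obtain ⟨_, ⟨y, hy, rfl⟩, d, hd, e⟩ := h1
    exact ⟨y, hy, d, hd, e.symm⟩
  · rintro ⟨y, hy, d, hd, rfl⟩
    exact mul_mem (mem_sup_left ⟨y, hy, rfl⟩) (mem_sup_right hd)

theorem mem_PJ_of_conj {J : Set I} (hJ : Inv cs h T X D J) {y : Y} (hy : MulAut.conj y ∈ RJ cs h T X D J) :
    y ∈ PJ cs h T X J := by
  obtain ⟨z, hz, d, hd, e⟩ := (mem_RJ R hG1 hZ hD hU hJ).1 hy
  have h1 : MulAut.conj (z⁻¹ * y) ∈ D := by
    rw [map_mul, map_inv, e, inv_mul_cancel_left]
    exact hd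
  have h2 : y = z * (z⁻¹ * y) := by group
  rw [h2]
  exact mul_mem hz (B_le_PJ (RGD.U_le_B (mem_U_of_conj R hG1 hZ hD hU h1)))

theorem comap_le_VJ {J : Set I} {N : Subgroup (MulAut Y)} (hN : IsPGroup p N)
    (hn : ∀ g ∈ RJ cs h T X D J, ∀ x ∈ N, g * x * g⁻¹ ∈ N) {y : Y} (hy : MulAut.conj y ∈ N) : y ∈ VJ cs h X J := by
  refine le_VJ R (GG_eq_top hG1) (N := N.comap MulAut.conj)
    (hN.comap_of_injective MulAut.conj (conj_injective hZ)) (fun g hg x hx => ?_) hy
  rw [mem_comap, map_mul, map_mul, map_inv]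
  exact hn _ (mem_sup_left ⟨g, hg, rfl⟩) _ hx

/-- (3): `φ` is trivial on `L_J` -/
theorem phi_LJ {J : Set I} {N : Subgroup (MulAut Y)} (hN : IsPGroup p N)
    (hn : ∀ g ∈ RJ cs h T X D J, ∀ x ∈ N, g * x * g⁻¹ ∈ N) (hJ : Inv cs h T X D J) {s : Y} {φ : MulAut Y}
    (hs : s ∈ RGD.Sup X (RGD.Pos cs h)) (hφ : φ ∈ Phi cs h X D) (ha : MulAut.conj s * φ ∈ N)
    (hJ' : Fix φ (LJ cs h T X J)) : ∀ g ∈ LJ cs h T X J, φ g = g := by
  obtain ⟨s₁, hs₁, v₁, hv₁, rfl⟩ := (mem_U_iff R (J := J)).1 hs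
  have hs₁L : s₁ ∈ LJ cs h T X J := (RGD.Sup_le fun _ hx => X_le_LJ (PosJ_subset J hx) :
    UJ cs h X J ≤ LJ cs h T X J) hs₁
  have hVn : ∀ {g v : Y}, g ∈ LJ cs h T X J → v ∈ VJ cs h X J → g * v * g⁻¹ ∈ VJ cs h X J := fun hg hv =>
    (mem_normalizer_iff.1 (LJ_le_normalizer_VJ R J hg) _).1 hv
  -- `s₁ φ(g) s₁⁻¹ = g`
  have key : ∀ g ∈ LJ cs h T X J, s₁ * φ g * s₁⁻¹ = g := by
    intro g hg
    have h1 : MulAut.conj ((MulAut.conj (s₁ * v₁) * φ) g * g⁻¹) ∈ N := by
      have h2 : MulAut.conj ((MulAut.conj (s₁ * v₁) * φ) g * g⁻¹) =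
          (MulAut.conj (s₁ * v₁) * φ) * (MulAut.conj g * (MulAut.conj (s₁ * v₁) * φ)⁻¹ * (MulAut.conj g)⁻¹) := by
        rw [map_mul, map_inv, ← conj_apply_conj]
        group
      rw [h2]
      exact mul_mem ha (hn _ (mem_sup_left ⟨g, LJ_le_PJ hg, rfl⟩) _ (inv_mem ha))
    have h3 := comap_le_VJ R hG1 hZ hD hU hN hn h1
    have hφg : φ g ∈ LJ cs h T X J := (hJ' g).2 hg
    have h4 : v₁ * (φ g * v₁⁻¹ * (φ g)⁻¹) ∈ VJ cs h X J := mul_mem hv₁ (hVn hφg (inv_mem hv₁))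
    have h5 : s₁ * (v₁ * (φ g * v₁⁻¹ * (φ g)⁻¹)) * s₁⁻¹ ∈ VJ cs h X J := hVn hs₁L h4
    have h6 : s₁ * φ g * s₁⁻¹ * g⁻¹ ∈ VJ cs h X J := by
      have h7 : s₁ * φ g * s₁⁻¹ * g⁻¹ =
          (s₁ * (v₁ * (φ g * v₁⁻¹ * (φ g)⁻¹)) * s₁⁻¹)⁻¹ * ((MulAut.conj (s₁ * v₁) * φ) g * g⁻¹) := by
        rw [MulAut.mul_apply, MulAut.conj_apply]
        group
      rw [h7]
      exact mul_mem (inv_mem h5) h3
    have h8 : s₁ * φ g * s₁⁻¹ * g⁻¹ ∈ LJ cs h T X J :=
      mul_mem (mul_mem (mul_mem hs₁L hφg) (inv_mem hs₁L)) (inv_mem hg)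
    exact mul_inv_eq_one.1 (eq_one_of_mem_LJ_of_mem_VJ R h8 h6)
  -- `s₁` normalises `U⁻`
  have h1 : s₁ ∈ normalizer (UN cs h X : Set Y) := by
    have hUNJ : ∀ x ∈ UN cs h X, ∃ a ∈ UN cs h X, ∃ v ∈ VNJ cs h X J, a ∈ LJ cs h T X J ∧ x = a * v :=
      fun x hx => exists_UN R hx
    have hVN : ∀ {g v : Y}, g ∈ LJ cs h T X J → v ∈ VNJ cs h X J → g * v * g⁻¹ ∈ VNJ cs h X J := fun hg hv =>
      (mem_normalizer_iff.1 (LJ_le_normalizer_VNJ R J hg) _).1 hv
    have hpos : ∀ x ∈ UN cs h X, s₁ * x * s₁⁻¹ ∈ UN cs h X := by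
      intro x hx
      obtain ⟨a, ha, v, hv, haL, rfl⟩ := hUNJ x hx
      have h2 : s₁ * a * s₁⁻¹ ∈ UN cs h X := by
        have h3 := key (φ⁻¹ a) ((hJ'.inv a).2 haL)
        rw [MulAut.apply_inv_self] at h3
        rw [h3]
        exact (hφ.2.2.inv a).2 ha
      have h3 : s₁ * (a * v) * s₁⁻¹ = (s₁ * a * s₁⁻¹) * (s₁ * v * s₁⁻¹) := by group
      rw [h3]
      exact mul_mem h2 (VNJ_le_UN J (hVN hs₁L hv))
    have hneg : ∀ x ∈ UN cs h X, s₁⁻¹ * x * s₁ ∈ UN cs h X := by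
      intro x hx
      obtain ⟨a, ha, v, hv, haL, rfl⟩ := hUNJ x hx
      have h2 : s₁⁻¹ * a * s₁ ∈ UN cs h X := by
        have h3 := key a haL
        have h4 : s₁⁻¹ * a * s₁ = φ a := by
          nth_rewrite 1 [← h3]
          group
        rw [h4]
        exact (hφ.2.2 a).2 ha
      have h3 : s₁⁻¹ * (a * v) * s₁ = (s₁⁻¹ * a * s₁) * (s₁⁻¹ * v * s₁⁻¹⁻¹) := by group
      rw [h3]
      exact mul_mem h2 (VNJ_le_UN J (hVN (inv_mem hs₁L) hv))
    rw [mem_normalizer_iff]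
    intro x
    refine ⟨hpos x, fun hx => ?_⟩
    have := hneg _ hx
    rwa [show s₁⁻¹ * (s₁ * x * s₁⁻¹) * s₁ = x by group] at this
  have h2 := eq_one_of_mem_U_of_norm R (GG_eq_top hG1) (UJ_le_U J hs₁) h1
  intro g hg
  have h3 := key g hg
  rwa [h2, one_mul, inv_one, mul_one] at h3

end main

end Cfsg.Agent.Omega.ML.LieRgd

end

section


/-!
# (ML), K-side, groups with a root group datum: the theorem (OMEGA; #17392 of helper949, refereed #17534)

* `kopp` : either the proper overgroups of `D` are in one proper subgroup, or there is a `p`-subgroup `D'` of `𝔾` such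
  that `A ⊓ R' = ⊥` for all proper overgroups `R'` of `D'` in `𝔾`.
-/

set_option autoImplicit false
set_option linter.unusedSectionVars false
set_option linter.unusedVariables false

namespace Cfsg.Agent.Omega.ML.LieRgd

open Subgroup CoxeterSystem Cfsg.Agent.ChevalleyStructure.CoxeterGeom Cfsg.Agent.Tits.Roots Cfsg.Agent.Tits.Core
  Cfsg.Agent.Tits.Exchange Cfsg.Agent.Nodes.Reps Cfsg.Agent.Nodes.BNOf Cfsg.Agent.Nodes.StabComb
  Cfsg.Agent.Nodes.Bruhat Cfsg.Agent.Nodes.OppDec Cfsg.Agent.Nodes.LeviDec Cfsg.Agent.Nodes.NormalForm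
  Cfsg.Agent.KFacts.RgdOpp Cfsg.Agent.KFacts.RgdAut Cfsg.Agent.KFacts.RgdDiag Cfsg.Agent.KFacts.RgdRigid
  Cfsg.Agent.KFacts.RgdVJ Cfsg.Agent.KFacts.RgdSyl

set_option maxHeartbeats 400000

variable {I W Y : Type*} [Fintype I] [DecidableEq I] [Group W] [Group Y] {M : CoxeterMatrix I}
  {cs : CoxeterSystem M W} {A : I → I → ℤ} {h : IsCartan M A} {p : ℕ} {T : Subgroup Y} {n : I → Y}
  {X : (I → ℤ) → Subgroup Y}

/-- `A` lies in a normal `p`-subgroup of `R` -/
def InCore {G : Type*} [Group G] (p : ℕ) (A R : Subgroup G) : Prop :=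
  ∃ N : Subgroup G, IsPGroup p N ∧ N ≤ R ∧ (∀ g ∈ R, ∀ x ∈ N, g * x * g⁻¹ ∈ N) ∧ A ≤ N

/-- the automorphisms fixing `H` -/
def FixS (H : Subgroup Y) : Subgroup (MulAut Y) where
  carrier := {g | Fix g H}
  mul_mem' ha hb := Fix.mul ha hb
  one_mem' := fun _ => Iff.rfl
  inv_mem' ha := Fix.inv ha

section main

variable [Finite Y] [hp : Fact p.Prime] [Finite W] (R : RGD cs h p T n X)
  (hG1 : RGD.Sup X {x | IsRoot cs h x} = ⊤) (hZ : center Y = ⊥) {D : Subgroup (MulAut Y)} (hD : IsPGroup p D)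
  (hU : ∀ u ∈ RGD.Sup X (RGD.Pos cs h), MulAut.conj u ∈ D)

include R hG1 hZ hD hU hp

omit hD hU hZ in
/-- the nodes of a `Phi`-invariant subgroup -/
theorem nodes_inv {P : Subgroup Y} {φ : MulAut Y} (hφP : Fix φ P) {σ : Equiv.Perm I} (hσ : Diag T X φ σ) (i : I) :
    σ i ∈ {i | X (-sr i) ≤ P} ↔ i ∈ {i | X (-sr i) ≤ P} := by
  simp only [Set.mem_ofPred_eq]
  constructor
  · intro h1 x hx
    exact (hφP x).1 (h1 ((hσ.neg i x).2 hx))
  · intro h1 x hx
    obtain ⟨y, rfl⟩ := φ.surjective x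
    exact (hφP y).2 (h1 ((hσ.neg i y).1 hx))

omit hD hU hZ in
theorem nodes_inv' {P : Subgroup Y} {φ : MulAut Y} (hφP : Fix φ P) {σ : Equiv.Perm I} (hσ : Diag T X φ σ) (i : I) :
    σ i ∈ {i | X (sr i) ≤ P} ↔ i ∈ {i | X (sr i) ≤ P} := by
  simp only [Set.mem_ofPred_eq]
  constructor
  · intro h1 x hx
    exact (hφP x).1 (h1 ((hσ.pos i x).2 hx))
  · intro h1 x hx
    obtain ⟨y, rfl⟩ := φ.surjective x
    exact (hφP y).2 (h1 ((hσ.pos i y).1 hx))

omit R hG1 hD hU hp in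
theorem fix_comap {Q : Subgroup (MulAut Y)} {φ : MulAut Y} (hφ : φ ∈ Q) :
    Fix φ (Q.comap (MulAut.conj : Y →* MulAut Y)) := by
  have key : ∀ φ ∈ Q, ∀ x ∈ Q.comap (MulAut.conj : Y →* MulAut Y), φ x ∈ Q.comap (MulAut.conj : Y →* MulAut Y) := by
    intro φ hφ x hx
    rw [mem_comap, ← conj_apply_conj]
    exact mul_mem (mul_mem hφ hx) (inv_mem hφ)
  intro x
  refine ⟨fun hx => ?_, key φ hφ x⟩
  have := key φ⁻¹ (inv_mem hφ) _ hx
  rwa [MulAut.inv_apply_self] at this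

theorem RJ_ne {𝔾 : Subgroup (MulAut Y)} (hInn : ∀ y : Y, MulAut.conj y ∈ 𝔾) {J : Set I} (hJ : Inv cs h T X D J)
    (hJ1 : J ≠ Set.univ) : RJ cs h T X D J ≠ 𝔾 := by
  intro h1
  apply PJ_ne_top R hJ1
  rw [eq_top_iff]
  intro y _
  exact mem_PJ_of_conj R hG1 hZ hD hU hJ (by rw [h1]; exact hInn y)

omit R hG1 hZ hD hU hp in
theorem RJ_le {𝔾 : Subgroup (MulAut Y)} (hInn : ∀ y : Y, MulAut.conj y ∈ 𝔾) (hDG : D ≤ 𝔾) (J : Set I) :
    RJ cs h T X D J ≤ 𝔾 := by
  refine sup_le ?_ hDG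
  rintro _ ⟨y, -, rfl⟩
  exact hInn y

/-- **(2), (3)**: if every node is in a proper invariant set then `B = U` up to `Inn`, and `B ≤ V_J`. -/
theorem exists_U {𝔾 : Subgroup (MulAut Y)} (hInn : ∀ y : Y, MulAut.conj y ∈ 𝔾) (hDG : D ≤ 𝔾)
    {B : Subgroup (MulAut Y)} (hBD : B ≤ D) (hB : ∀ Q : Subgroup (MulAut Y), D ≤ Q → Q ≤ 𝔾 → Q ≠ 𝔾 → InCore p B Q)
    (hnode : ∀ i : I, ∃ J : Set I, J ≠ Set.univ ∧ i ∈ J ∧ Inv cs h T X D J ∧
      ∀ φ ∈ Phi cs h X D, Fix φ (LJ cs h T X J)) {a : MulAut Y} (ha : a ∈ B) :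
    ∃ s ∈ RGD.Sup X (RGD.Pos cs h), a = MulAut.conj s ∧
      ∀ J : Set I, J ≠ Set.univ → Inv cs h T X D J → s ∈ VJ cs h X J := by
  obtain ⟨s, hs, φ, hφ, rfl⟩ := exists_phi R hG1 hZ hD hU (hBD ha)
  have hφ1 : φ = 1 := by
    refine eq_one_of_fix R hG1 hφ.2.1 hφ.2.2 fun i x hx => ?_
    obtain ⟨J, hJ1, hi, hJ, hJL⟩ := hnode i
    obtain ⟨N, hN, hNQ, hn, hBN⟩ := hB (RJ cs h T X D J) le_sup_right (RJ_le hInn hDG J)
      (RJ_ne R hG1 hZ hD hU hInn hJ hJ1)
    exact phi_LJ R hG1 hZ hD hU hN hn hJ hs hφ (hBN ha) (hJL φ hφ) x (X_le_LJ (PosJ_subset J (sr_mem_PosJ hi)) hx)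
  subst hφ1
  refine ⟨s, hs, mul_one _, fun J hJ1 hJ => ?_⟩
  obtain ⟨N, hN, hNQ, hn, hBN⟩ := hB (RJ cs h T X D J) le_sup_right (RJ_le hInn hDG J)
    (RJ_ne R hG1 hZ hD hU hInn hJ hJ1)
  refine comap_le_VJ R hG1 hZ hD hU hN hn ?_
  have := hBN ha
  rwa [mul_one] at this

/-- invariant sets of nodes from the diagram symmetries -/
theorem fix_LJ_of_diag {J : Set I}
    (hJ : ∀ φ ∈ Phi cs h X D, ∀ σ : Equiv.Perm I, Diag T X φ σ → ∀ i, σ i ∈ J ↔ i ∈ J) :
    ∀ φ ∈ Phi cs h X D, Fix φ (LJ cs h T X J) := by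
  intro φ hφ
  obtain ⟨σ, hσ⟩ := Phi.exists_diag R hG1 hφ
  have h1 := fix_PJ R (Phi.fix_B R hG1 hφ) hσ (hJ φ hφ σ hσ)
  have hBN : Fix φ (BN cs h T X) := by
    have := Cfsg.Agent.KFacts.RgdAut.fix_B (opp R) (by rw [GG_opp]; exact GG_eq_top hG1) (α := φ)
      (by rw [U_opp]; exact hφ.2.2)
    rwa [B_opp] at this
  have h2 := fix_PJ (opp R) (J := J) (by rw [B_opp]; exact hBN) hσ.opp (hJ φ hφ σ hσ)
  rw [PJ_opp] at h2
  rw [← PJ_inf_PNJ R]
  exact h1.inf h2

/-- **THEOREM KOPP**, `Inn(U) ≤ D` -/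
theorem kopp {𝔾 : Subgroup (MulAut Y)} (hInn : ∀ y : Y, MulAut.conj y ∈ 𝔾) (hDG : D ≤ 𝔾)
    (hgen : ∀ g ∈ 𝔾, ∃ y : Y, ∃ d ∈ D, g = MulAut.conj y * d) {B : Subgroup (MulAut Y)} (hBD : B ≤ D)
    (hB : ∀ Q : Subgroup (MulAut Y), D ≤ Q → Q ≤ 𝔾 → Q ≠ 𝔾 → InCore p B Q) :
    (∃ Q₀ : Subgroup (MulAut Y), Q₀ ≤ 𝔾 ∧ Q₀ ≠ 𝔾 ∧ ∀ Q, D ≤ Q → Q ≤ 𝔾 → Q ≠ 𝔾 → Q ≤ Q₀) ∨
      ∃ D' : Subgroup (MulAut Y), D' ≤ 𝔾 ∧ IsPGroup p D' ∧
        ∀ Q, D' ≤ Q → Q ≤ 𝔾 → Q ≠ 𝔾 → B ⊓ Q = ⊥ := by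
  -- the invariant sets of nodes
  set S : Set (Set I) := {J | ∀ φ ∈ Phi cs h X D, ∀ σ : Equiv.Perm I, Diag T X φ σ → ∀ i, σ i ∈ J ↔ i ∈ J} with hS
  have hcompl : ∀ J ∈ S, Jᶜ ∈ S := fun J hJ φ hφ σ hσ i => not_congr (hJ φ hφ σ hσ i)
  -- an overgroup of `D` containing `Inn` contains `𝔾`
  have hall : ∀ Q : Subgroup (MulAut Y), D ≤ Q → Q ≤ 𝔾 → Q.comap MulAut.conj = ⊤ → Q = 𝔾 := by
    intro Q hDQ hQ h1
    refine le_antisymm hQ fun g hg => ?_
    obtain ⟨y, d, hd, rfl⟩ := hgen g hg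
    refine mul_mem ?_ (hDQ hd)
    have : y ∈ Q.comap MulAut.conj := by rw [h1]; exact mem_top y
    exact this
  by_cases hcase : ∀ i : I, ∃ J ∈ S, J ≠ Set.univ ∧ i ∈ J
  · -- opposite subgroups
    right
    have hnode : ∀ i : I, ∃ J : Set I, J ≠ Set.univ ∧ i ∈ J ∧ Inv cs h T X D J ∧
        ∀ φ ∈ Phi cs h X D, Fix φ (LJ cs h T X J) := by
      intro i
      obtain ⟨J, hJ, h1, h2⟩ := hcase i
      exact ⟨J, h1, h2, inv_of_diag R hG1 hZ hD hU hJ, fix_LJ_of_diag R hG1 hZ hD hU hJ⟩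
    have hn : Phi cs h X D ≤ normalizer (((UN cs h X).map MulAut.conj : Subgroup (MulAut Y)) : Set (MulAut Y)) := by
      have key : ∀ φ ∈ Phi cs h X D, ∀ x ∈ (UN cs h X).map MulAut.conj, φ * x * φ⁻¹ ∈ (UN cs h X).map MulAut.conj := by
        rintro φ hφ _ ⟨y, hy, rfl⟩
        exact ⟨φ y, (hφ.2.2 y).2 hy, (conj_apply_conj φ y).symm⟩
      intro φ hφ
      rw [mem_normalizer_iff]
      intro x
      refine ⟨key φ hφ x, fun hx => ?_⟩
      have := key φ⁻¹ (inv_mem hφ) _ hx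
      rwa [show φ⁻¹ * (φ * x * φ⁻¹) * φ⁻¹⁻¹ = x by group] at this
    refine ⟨Phi cs h X D ⊔ (UN cs h X).map MulAut.conj, ?_, ?_, ?_⟩
    · refine sup_le (le_trans inf_le_left hDG) ?_
      rintro _ ⟨y, -, rfl⟩
      exact hInn y
    · exact (hD.to_le inf_le_left).to_sup_of_normal_right' ((isPGroup_UN R).map _) hn
    · intro Q hQ hQG hQne
      rw [eq_bot_iff]
      rintro a ⟨haB, haQ⟩
      have hPQ : Phi cs h X D ≤ Q := le_trans le_sup_left hQ
      have hUQ : UN cs h X ≤ Q.comap MulAut.conj := fun y hy => hQ (mem_sup_right ⟨y, hy, rfl⟩)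
      set J : Set I := {i | X (sr i) ≤ Q.comap MulAut.conj} with hJ
      have hJS : J ∈ S := fun φ hφ σ hσ i => nodes_inv' R hG1 (fix_comap hZ (hPQ hφ)) hσ i
      have hJ1 : J ≠ Set.univ := by
        intro h1
        have h2 : Q.comap MulAut.conj = ⊤ := eq_top_of_UN R hG1 hUQ fun i => by
          have : i ∈ J := by rw [h1]; exact Set.mem_univ i
          exact this
        apply hQne
        refine le_antisymm hQG fun g hg => ?_
        obtain ⟨y, d, hd, rfl⟩ := hgen g hg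
        obtain ⟨s, hs, φ, hφ, rfl⟩ := exists_phi R hG1 hZ hD hU hd
        have key : ∀ y : Y, MulAut.conj y ∈ Q := fun y => by
          have : y ∈ Q.comap MulAut.conj := by rw [h2]; exact mem_top y
          exact this
        exact mul_mem (key y) (mul_mem (key s) (hPQ hφ))
      obtain ⟨s, hs, rfl, hsV⟩ := exists_U R hG1 hZ hD hU hInn hDG hBD hB hnode haB
      have h1 := hsV J hJ1 (inv_of_diag R hG1 hZ hD hU hJS)
      have h2 : s ∈ PNJ cs h T X J := le_PNJ_of_UN R (GG_eq_top hG1) hUQ haQ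
      rw [eq_one_of_mem_VJ_of_mem_PNJ R h1 h2, map_one]
      exact one_mem _
  · -- one orbit of nodes
    left
    push Not at hcase
    obtain ⟨i₀, hi₀⟩ := hcase
    refine ⟨𝔾 ⊓ FixS (RGD.Sup X (RGD.Pos cs h)), inf_le_left, ?_, ?_⟩
    · intro h1
      have h2 : ∀ y : Y, y ∈ RGD.B cs h T X := by
        intro y
        rw [← normalizer_U' R (GG_eq_top hG1), mem_normalizer_iff]
        intro x
        have h3 : MulAut.conj y ∈ 𝔾 ⊓ FixS (RGD.Sup X (RGD.Pos cs h)) := by rw [h1]; exact hInn y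
        exact (h3.2 x).symm
      exact simple_ne_one i₀ (R.eq_one_of_mem_B (rp_simple cs R.nsys i₀) (h2 (n i₀)))
    · intro Q hDQ hQ hQne
      refine le_inf hQ ?_
      have hUQ : RGD.Sup X (RGD.Pos cs h) ≤ Q.comap MulAut.conj := fun u hu => hDQ (hU u hu)
      set J : Set I := {i | X (-sr i) ≤ Q.comap MulAut.conj} with hJ
      have hJS : J ∈ S := fun φ hφ σ hσ i => nodes_inv R hG1 (fix_comap hZ (hDQ hφ.1)) hσ i
      have hJ1 : J ≠ Set.univ := by
        intro h1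
        refine hQne (hall Q hDQ hQ (eq_top_of_U R hG1 hUQ fun i => ?_))
        have : i ∈ J := by rw [h1]; exact Set.mem_univ i
        exact this
      have hJ0 : J = ∅ := by
        have h1 : Jᶜ = Set.univ := by
          by_contra h1
          exact hi₀ Jᶜ (hcompl J hJS) h1 (hi₀ J hJS hJ1)
        rwa [Set.compl_univ_iff] at h1
      have hPB : Q.comap MulAut.conj ≤ RGD.B cs h T X := by
        have h1 := le_PJ_of_U R (GG_eq_top hG1) hUQ
        rw [← hJ, hJ0, PJ_empty R] at h1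
        exact h1
      intro g hg
      obtain ⟨y, d, hd, rfl⟩ := hgen g (hQ hg)
      refine Fix.mul ?_ (fix_U R hG1 hZ hD hU hd)
      have hy : y ∈ Q.comap MulAut.conj := by
        have h1 := mul_mem hg (inv_mem (hDQ hd))
        rwa [mul_inv_cancel_right] at h1
      have hyN := R.B_le_normalizer_U (hPB hy)
      intro x
      rw [MulAut.conj_apply]
      exact (mem_normalizer_iff.1 hyN x).symm

end main

end Cfsg.Agent.Omega.ML.LieRgd

end
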