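import Cfsg.Agent.Mrg.Omega.TwoF.RowM
import Cfsg.Agent.Mrg.Omega.TwoF.RowB
import Cfsg.Agent.Mrg.Omega.TwoF.RowTh
import Cfsg.Agent.Mrg.Omega.TwoF.WeightCover
import Cfsg.Agent.Omega.Lie.HeisCover
import Cfsg.Agent.Mrg.Omega.Lie.ExoComp
import Cfsg.Agent.OddHalf.D8.SheetMap
import Cfsg.Agent.OddHalf.D8.JTwo.Sheet


/-!
# (ML), the K-list end: instances of THEOREM EX: `M`, `B`, `Th` (helper552)

* `lb_of_card` : `c ∣ |K|`, `c ∤ |GL_k(2)|` for `k < m` ⟹ `LB K m`;
* `Has S w` : `S` is isomorphic to a group with helper756's `LargeSheet.Data Q z L π`, `|Q| = 2 ^ (2w+1)`, `LB L (w+1)`;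
* `monster`, `baby`, `thompson`.
-/

set_option autoImplicit false

namespace Cfsg.Agent.Omega.ML.ExInst

open Subgroup Cfsg Cfsg.Agent.KFacts
open Cfsg.Agent.Omega.Lie.Heis (LB Irr)
open Cfsg.Agent.Omega.Lie.PairOrd

universe u v w

/-- A lower bound by the order of the group. -/
theorem lb_of_card {K : Type u} [Group K] [Finite K] [IsSimpleGroup K] {m c : ℕ} (hc : c ∣ Nat.card K)
    (h : ∀ k < m, ¬ c ∣ glc k) : LB.{u, v, w} K m := by
  apply LB.of_irr
  intro L _ _ π hπ _ _ _ V _ _ h2 φ hφ hirr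
  -- `V` is elementary abelian
  have hV : Nontrivial V := by
    by_contra hn
    rw [not_nontrivial_iff_subsingleton] at hn
    obtain ⟨x, hx⟩ := exists_ne (1 : K)
    obtain ⟨g, rfl⟩ := hπ x
    apply hx
    have h3 : g = 1 := hφ (by
      rw [map_one]
      ext v
      exact Subsingleton.elim _ _)
    rw [h3, map_one]
  let U : Subgroup V :=
    { carrier := {x | x ^ 2 = 1}
      one_mem' := one_pow 2
      mul_mem' := fun {a b} ha hb => by
        show (a * b) ^ 2 = 1
        rw [mul_pow, show a ^ 2 = 1 from ha, show b ^ 2 = 1 from hb, one_mul]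
      inv_mem' := fun {a} ha => by
        show a⁻¹ ^ 2 = 1
        rw [inv_pow, show a ^ 2 = 1 from ha, inv_one] }
  have hU : U = ⊤ := by
    refine (hirr U fun g x hx => ?_).resolve_left fun h3 => ?_
    · show (φ g x) ^ 2 = 1
      rw [← map_pow, show x ^ 2 = 1 from hx, map_one]
    · have : Fact (Nat.Prime 2) := ⟨Nat.prime_two⟩
      obtain ⟨n, hn⟩ := IsPGroup.iff_card.1 h2
      have h4 : 2 ∣ Nat.card V := by
        rw [hn]
        refine dvd_pow_self 2 ?_
        rintro rfl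
        rw [pow_zero] at hn
        have := Finite.one_lt_card (α := V)
        omega
      obtain ⟨x, hx⟩ := exists_prime_orderOf_dvd_card' 2 h4
      have h5 : x ∈ U := by
        show x ^ 2 = 1
        rw [← hx]
        exact pow_orderOf_eq_one x
      rw [h3, mem_bot] at h5
      rw [h5, orderOf_one] at hx
      omega
  have hel : ∀ x : V, x ^ 2 = 1 := fun x => by
    have h3 : x ∈ U := by rw [hU]; exact mem_top x
    exact h3
  by_contra hlt
  push Not at hlt
  obtain ⟨k, hk, hk'⟩ := exists_card hel hlt.le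
  have hkm : k < m := by
    rw [hk'] at hlt
    exact (Nat.pow_lt_pow_iff_right (by norm_num)).1 hlt
  apply h k hkm
  rw [← card_mulAut hel hk']
  refine hc.trans ((Subgroup.card_dvd_of_surjective π hπ).trans ?_)
  rw [Nat.card_congr (MonoidHom.ofInjective hφ).toEquiv]
  exact Subgroup.card_subgroup_dvd_card φ.range

/-- `S` is isomorphic to a group with `LargeSheet.Data`, `|Q| = 2 ^ (2w+1)`, `LB L (w+1)`. -/
def Has (S : Type u) [Group S] (w : ℕ) : Prop :=
  ∃ (G : Type) (_ : Group G) (_ : Finite G) (Q : Subgroup G) (z : G) (L : Type) (_ : Group L) (_ : IsSimpleGroup L)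
    (π : centralizer ({z} : Set G) →* L), LargeSheet.Data Q z L π ∧ Nat.card Q = 2 ^ (2 * w + 1) ∧
      LB.{0, u, v} L (w + 1) ∧ Nonempty (S ≃* G)

/-- helper756's data from the data of the second sheet -/
theorem data_of_inner {K : Type*} [Group K] [Finite K] {Q : Subgroup K} {z : K} {L : Type*} [Group L]
    (D : SheetInner.Data Q z L) : ∃ π, LargeSheet.Data Q z L π := by
  obtain ⟨π, hs, hk⟩ := D.quot
  refine ⟨π, ⟨D.large, D.nonab, hs, hk, D.irr, D.ne, D.odd, fun β => ?_, D.gen, D.out⟩⟩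
  obtain ⟨p, rfl⟩ := D.innerCent β
  refine ⟨p, fun q _ => Or.inl ?_⟩
  rw [MulAut.conj_apply]
  rfl

/-- the sheet on `S` -/
theorem exists_sheet {S : Type u} [Group S] {w : ℕ} (h : Has.{u, v} S w) :
    ∃ (z : S) (P R : Subgroup S) (L : Type) (_ : Group L) (_ : IsSimpleGroup L) (π : P →* L),
      Cfsg.Agent.OddHalf.D8.JTwo.Sheet.SheetX z P R ∧ P = centralizer ({z} : Set S) ∧
      Nat.card R = 2 ^ (2 * w + 1) ∧ Function.Surjective π ∧ (∀ c, π c = 1 ↔ (c : S) ∈ R) ∧ LB.{0, u, v} L (w + 1) := by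
  obtain ⟨G, _, _, Q, z, L, _, hL, π, D, hQ, hlb, ⟨e⟩⟩ := h
  have hs := Cfsg.Agent.OddHalf.D8.SheetMap.sheetE_map e.symm D.sheet
  let f : (centralizer ({z} : Set G)) ≃* ((centralizer ({z} : Set G)).map (e.symm : G →* S)) :=
    (centralizer ({z} : Set G)).equivMapOfInjective _ e.symm.injective
  have hf : ∀ c, (f c : S) = e.symm c := fun c => rfl
  refine ⟨_, _, _, L, _, hL, π.comp f.symm.toMonoidHom, Cfsg.Agent.OddHalf.D8.JTwo.Sheet.of_sheetE hs, ?_, ?_,
    D.surj.comp f.symm.surjective, fun c => ?_, hlb⟩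
  · ext x
    constructor
    · rintro ⟨c, hc, rfl⟩
      rw [mem_centralizer_singleton_iff]
      have h1 := mem_centralizer_singleton_iff.1 hc
      show e.symm c * e.symm z = e.symm z * e.symm c
      rw [← map_mul, h1, map_mul]
    · intro hx
      refine ⟨e x, ?_, e.symm_apply_apply x⟩
      have h1 : x * e.symm z = e.symm z * x := mem_centralizer_singleton_iff.1 hx
      refine mem_centralizer_singleton_iff.2 ?_
      have h2 := congrArg e h1
      rwa [map_mul, map_mul, e.apply_symm_apply] at h2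
  · rw [← hQ]
    exact (Nat.card_congr (Q.equivMapOfInjective _ e.symm.injective).toEquiv).symm
  · obtain ⟨c, rfl⟩ := f.surjective c
    show π (f.symm (f c)) = 1 ↔ _
    rw [f.symm_apply_apply, D.ker, hf]
    constructor
    · intro h1
      exact ⟨c, h1, rfl⟩
    · rintro ⟨q, hq, h1⟩
      rwa [← e.symm.injective h1]

section monster

open Cfsg.Agent.MonsterX.Model Cfsg.Agent.MonsterX.MainSimple Cfsg.Agent.MonsterX.MainBasic

theorem monster (S : Type u) [Group S] (h : Spor.IsoM S) : Has.{u, v} S 12 := by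
  obtain ⟨e⟩ := h
  obtain ⟨f⟩ := Cfsg.Agent.MonsterP.Equiv.equiv
  have hG := Cfsg.Agent.MonsterX.Instance.mGroup
  have hfin := G_finite Cfsg.Agent.MonsterX.InstanceFinal.mOrbit
  have hco := Cfsg.Agent.KFacts.MonsterE.simple_Co1
  obtain ⟨π, D⟩ := Cfsg.Agent.KFacts.MonsterE.data_model hG Cfsg.Agent.MonsterX.Instance.mRep
    Cfsg.Agent.MonsterX.Instance.mLat Cfsg.Agent.MonsterX.InstanceFinal.mOrbit
    Cfsg.Agent.MonsterX.Instance.mTrans
  refine ⟨_, _, hfin, _, _, _, _, hco, π, D, ?_, Omega.TwoF.RowCo1LB.lb.mono (by norm_num), ⟨e.trans f⟩⟩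
  rw [show 2 ^ (2 * 12 + 1) = 2 ^ 25 by norm_num, ← hG.Q_card]
  exact Nat.card_congr (subgroupOfEquivOfLe (hG.Q_le.trans C_le)).toEquiv

end monster

section baby

open Cfsg.Agent.BabyM Cfsg.Agent.BabyM.Model Cfsg.Agent.BabyU.ClosModel Cfsg.Agent.BabyU.ClosLane
open Cfsg.Agent.KFacts.Baby

theorem lb_K₀ [IsSimpleGroup GroupInst.K₀] : LB.{0, v, w} GroupInst.K₀ 12 := by
  have hc : Nat.card GroupInst.K₀ = 42305421312000 := A.grp.card
  have : Finite GroupInst.K₀ := Nat.finite_of_card_ne_zero (by rw [hc]; norm_num)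
  refine lb_of_card (c := 125) (by rw [hc]; norm_num) ?_
  decide +kernel

theorem baby (S : Type u) [Group S] (h : Spor.IsoB S) : Has.{u, v} S 11 := by
  obtain ⟨e⟩ := h
  obtain ⟨f⟩ := Omega.TwoF.RowB.iso_model
  have hfin := A.finite_G
  have D := KFacts.Baby.Sheet.data KFacts.CoTwo.InnerB.inner KFacts.Baby.Row.fix
  have hs := D.simple
  obtain ⟨π, D'⟩ := data_of_inner D
  refine ⟨_, _, hfin, _, _, _, _, hs, π, D', ?_, lb_K₀, ⟨e.trans f.symm⟩⟩
  rw [KFacts.Baby.CaseM.card_PP]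

end baby

section thompson

open Cfsg.Agent.Th.Base Cfsg.Agent.KFacts.Th.Main Cfsg.Agent.KFacts.Th.Struct

theorem lb_A9 : LB.{0, v, w} (alternatingGroup (Fin 9)) 5 := by
  have hs : IsSimpleGroup (alternatingGroup (Fin 9)) := alternatingGroup.isSimpleGroup (by simp)
  have hc : Nat.card (alternatingGroup (Fin 9)) = 181440 := by
    rw [nat_card_alternatingGroup, Nat.card_eq_fintype_card, Fintype.card_fin]
    rfl
  refine lb_of_card (c := 81) (by rw [hc]; norm_num) ?_
  decide +kernel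

theorem thompson (S : Type u) [Group S] (h : Spor.IsoTh S) : Has.{u, v} S 4 := by
  obtain ⟨e⟩ := h
  have hfin := Cfsg.Agent.KFacts.Th.Main.finite
  have hs : IsSimpleGroup (alternatingGroup (Fin 9)) := alternatingGroup.isSimpleGroup (by simp)
  obtain ⟨π, D⟩ := exists_data ctx
  refine ⟨_, _, hfin, _, _, _, _, hs, π, D, ?_, lb_A9, ⟨e⟩⟩
  rw [ctx.cardQ]
  norm_num

end thompson

end Cfsg.Agent.Omega.ML.ExInst
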