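import Cfsg.Agent.Mrg.Omega.ML.RowM12
import Cfsg.Agent.Mrg.Omega.CoTwoK.Gen


/-!
# (ML), THEOREM LOC: the K-fact of `Co2`: `2¹⁰:M22:2`, an element of order 11 (helper907)
-/

set_option autoImplicit false

namespace Cfsg.Agent.Omega.ML.LocCo2

open Subgroup Cfsg
open Cfsg.Agent.SporadicA.GolayBase Cfsg.Agent.SporadicA.GolayPerm
open Cfsg.Agent.SporadicStructure.M24El
open Cfsg.Agent.Co2Type.Mono Cfsg.Agent.Co2Type.TGroup Cfsg.Agent.Co2Type.TData Cfsg.Agent.Co2Type.FactsD
open Cfsg.Agent.Omega.CoTwoK.Normal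
open Cfsg.Agent.Omega.ML.LocK

/-- `i ↦ 2 i` -/
def P11 : ℕ := 0xbd6717b56939461b52507314831040

theorem chk : (okP P11 && Nat.blt P11 (2 ^ 120) && !(Nat.beq P11 idP)) = true := by decide +kernel

theorem okP11 : okP P11 = true := by
  have h := chk
  rw [Bool.and_eq_true, Bool.and_eq_true] at h
  exact h.1.1

theorem P11_lt : P11 < 2 ^ 120 := by
  have h := chk
  rw [Bool.and_eq_true, Bool.and_eq_true, Nat.blt_eq] at h
  exact h.1.2

theorem P11_ne : P11 ≠ idP := by decide +kernel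

/-- the powers -/
def pw : ℕ → ℕ
  | 0 => idP
  | n + 1 => pcomp (pw n) P11

theorem pw11 : pw 11 = idP := by decide +kernel

theorem okP_pw (n : ℕ) : okP (pw n) = true := by
  induction n with
  | zero => exact okP_idP
  | succ n ih => exact okP_pcomp ih okP11

theorem pow_eq (n : ℕ) : (mo2 0 P11) ^ n = mo2 0 (pw n) := by
  induction n with
  | zero => rw [pow_zero]; exact mo2_one.symm
  | succ n ih =>
    rw [pow_succ, ih, mo2_mul inE_zero inE_zero (okP_pw n) okP11, pimg_zero (isPerm_of_ok (ok_of_okP (okP_pw n))),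
      Nat.xor_zero]
    rfl

theorem orderOf_x : orderOf (mo2 0 P11) = 11 := by
  have : Fact (Nat.Prime 11) := ⟨by norm_num⟩
  apply orderOf_eq_prime
  · rw [pow_eq, pw11, mo2_one]
  · intro h
    rw [← mo2_one] at h
    exact P11_ne (mo2_inj inE_zero inE_zero okP11 okP_idP P11_lt idP_lt h).2

theorem E_comm (a : Spor.Co2) (ha : a ∈ E) (b : Spor.Co2) (hb : b ∈ E) : a * b = b * a := by
  obtain ⟨m, hm, rfl⟩ := ha
  obtain ⟨n, hn, rfl⟩ := hb
  rw [E_mul hm hn, E_mul hn hm, Nat.xor_comm]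

theorem E_sq (a : Spor.Co2) (ha : a ∈ E) : a * a = 1 := by
  obtain ⟨m, hm, rfl⟩ := ha
  exact ge_sq hm

theorem cent (g : Spor.Co2) (hg : ∀ a ∈ E, g * a = a * g) : g ∈ E := by
  refine Cfsg.Agent.Omega.CoTwoK.Main.coFacts.pi_cen (mem_inf.2 ⟨?_, ?_⟩)
  · refine mem_normalizer_of (fun a ha => ?_) fun a ha => ?_
    · rw [hg a ha, mul_inv_cancel_right]; exact ha
    · rw [mul_assoc, ← hg a ha, inv_mul_cancel_left]; exact ha
  · rw [mem_centralizer_iff]
    intro a ha
    exact (hg a (Xi_le ha)).symm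

theorem odd_index : ¬ 2 ∣ (normalizer (E : Set Spor.Co2)).index := by
  intro h
  have h1 : T ≤ normalizer (E : Set Spor.Co2) := by
    intro t ht
    refine mem_normalizer_of (fun a ha => E_normal t ht a ha) fun a ha => ?_
    have h2 := E_normal t⁻¹ (T.inv_mem ht) a ha
    rwa [inv_inv] at h2
  have h2 := h.trans (index_dvd_of_le h1)
  have h3 := T.card_mul_index
  rw [Cfsg.Agent.Co2Type.TCard.card_T, Cfsg.Agent.Co2Type.CardCo2.card_co2] at h3
  omega

/-- **The K-fact of `Co2`.** -/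
theorem loc : Loc Spor.Co2 E (mo2 0 P11) 11 10 where
  comm := E_comm
  sq := E_sq
  card := Cfsg.Agent.Co2Type.TCard.card_E
  odd := odd_index
  cent := cent
  prime := by norm_num
  p2 := by norm_num
  ord := orderOf_x
  nd := by
    intro k h0 h1
    interval_cases k <;> omega
  norm := fun a ha => (mem_normalizer_iff.1 (mo2_mem_N inE_zero okP11 P11_lt) a).1 ha
  ne := by
    by_contra hcon
    push Not at hcon
    have h1 := cent _ hcon
    have h2 := E_sq _ h1
    have h3 := orderOf_dvd_of_pow_eq_one (show (mo2 0 P11) ^ 2 = 1 by rw [pow_two, h2])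
    rw [orderOf_x] at h3
    omega

theorem hasLoc {K : Type*} [Group K] (h : Spor.IsoCo2 K) : HasLoc K := by
  obtain ⟨e⟩ := h
  exact HasLoc.congr e.symm ⟨_, _, _, _, loc⟩

end Cfsg.Agent.Omega.ML.LocCo2
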