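import Cfsg.Agent.Mrg.Omega.ML.RowM12
import Cfsg.Agent.Mrg.Omega.ML.RowJ23
import Cfsg.Agent.Mrg.Omega.TwoF.RowJ4


set_option autoImplicit false

namespace Cfsg.Agent.Omega.ML.RowLocJ4

open Subgroup Cfsg Cfsg.Agent.J4Type Cfsg.Agent.KFacts.J4
open Cfsg.Agent.Omega.ML.LocK Cfsg.Agent.Omega.ML.Rows Cfsg.Agent.Omega.ML.LocRow

universe u v

theorem hasLoc {K : Type u} [Group K] (h : Spor.IsoJ4 K) : HasLoc K := by
  obtain ⟨hfin, hs, ⟨F⟩⟩ := Base.exists_full h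
  obtain ⟨x, hx⟩ := LocJ4.exists_loc F.C.toFrame (TwoF.RowJ4.card_eq h)
  exact ⟨_, _, _, _, hx⟩

/-- **The row `J4`.** -/
theorem dead_j4 : Dead.{u, v} (fun S _ => Spor.IsoJ4 S) := by
  refine dead_of_loc fun S _ _ hS => ?_
  obtain ⟨hfin, hs, ⟨F⟩⟩ := Base.exists_full hS
  obtain ⟨x, hx⟩ := LocJ4.exists_loc F.C.toFrame (TwoF.RowJ4.card_eq hS)
  refine ⟨⟨_, _, _, _, hx, ?_⟩, fun α => ?_⟩
  · rw [TwoF.RowJ4.card_eq hS]
    norm_num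
  · exact SheetJ4.inner F α

end Cfsg.Agent.Omega.ML.RowLocJ4
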